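import Cfsg.Agent.Lib.Fus.Goldschmidt.Basic
import Cfsg.Agent.Lib.Invol.CentInt.Cover
import Cfsg.Agent.Lib.Invol.BenderCover.CommuteLifts
import Cfsg.Agent.Lib.Invol.CentRank.Cyclic.Main
import Cfsg.Agent.Lib.Invol.StronglyEmbeddedCount
import Cfsg.Agent.Lib.Invol.SPEmbedded
import Cfsg.Agent.Lib.Local.CoreConsumers.SimpleBorel
import Cfsg.Agent.Lib.Lie.Sz.SylowLie
import Cfsg.Agent.S0205
import Cfsg.Agent.S2112
import Cfsg.Agent.S2126
import Cfsg.Agent.S2798

/-!
# Facts about the groups of Bender's theorem for the component analysis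
-/

set_option autoImplicit false
set_option linter.style.haveILetI false

namespace Cfsg.Agent.Fus.Gold

open Subgroup
open scoped Pointwise commutatorElement

universe u

/-- A simple group with a strongly embedded subgroup is a Bender group with maximal Sylow normalisers. -/
theorem bender_of_se {G : Type u} [Group G] [Finite G] [IsSimpleGroup G] (hG : ¬ IsMulCommutative G)
    {H : Subgroup G} (hH : Cfsg.IsStronglyEmbedded H) :
    Invol.CentInt.IsBenderGrp G ∧ CoreConsumers.BorelMax G := by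
  classical
  haveI : Fact (Nat.Prime 2) := ⟨Nat.prime_two⟩
  obtain ⟨hne, hev, hodd⟩ := hH
  have hsp : Cfsg.IsStronglyPEmbedded 2 H := Invol.isStronglyPEmbedded_iff.2
    ⟨even_iff_two_dvd.1 hev, hne, fun g hg hd => (Nat.not_even_iff_odd.2 (hodd g hg)) (even_iff_two_dvd.2 hd)⟩
  obtain ⟨h1, h2, -⟩ := CoreConsumers.simple_borel hG
    ((even_iff_two_dvd.1 hev).trans (card_subgroup_dvd_card H)) (S2798.result H hsp)
  refine ⟨?_, h2⟩
  rcases h1 with ⟨F, i, j, n, hn, hF, ⟨e⟩⟩ | h | ⟨F, i, j, n, hn, hF, ⟨e⟩⟩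
  · obtain ⟨p, hp⟩ := CharP.exists F
    haveI : Fact p.Prime := ⟨CharP.char_is_prime F p⟩
    obtain rfl : p = 2 := Dickson.p_eq_two p (by rw [hF]; exact Nat.even_pow.2 ⟨even_two, by omega⟩)
    exact Or.inl ⟨F, i, j, hp, hF ▸ (Nat.pow_le_pow_right two_pos hn : 2 ^ 2 ≤ 2 ^ n),
      ⟨e.trans (Invol.GW.SLTwoEquivPSL (F := F)).symm⟩⟩
  · exact Or.inr (Or.inr h)
  · exact Or.inr (Or.inl ⟨F, i, j, 2 ^ n, Nat.even_pow.2 ⟨even_two, by omega⟩,
      (Nat.pow_le_pow_right two_pos hn : 2 ^ 2 ≤ 2 ^ n), hF, ⟨e⟩⟩)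

/-- The involutions of a Sylow 2-subgroup form with `1` a central subgroup, conjugate in the normaliser. -/
theorem exists_omega {G : Type u} [Group G] [Finite G] (hG : Invol.CentInt.IsBenderGrp G) (S : Sylow 2 G) :
    ∃ W : Subgroup G, W ≤ S ∧ (∀ w ∈ W, w * w = 1) ∧ (∀ s ∈ (S : Subgroup G), s * s = 1 → s ∈ W) ∧
      (∀ w ∈ W, ∀ s ∈ (S : Subgroup G), s * w = w * s) ∧
      ∀ a ∈ W, ∀ b ∈ W, a ≠ 1 → b ≠ 1 →
        ∃ g ∈ normalizer ((S : Subgroup G) : Set G), g * a * g⁻¹ = b := by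
  haveI : Fact (Nat.Prime 2) := ⟨Nat.prime_two⟩
  obtain ⟨Pb, W, hp, hi, hWP, hW2, hWc, hinv, -, -, htr, -⟩ := Invol.BenderCover.torusSylow_bender hG
  obtain ⟨g, hg⟩ := MulAction.exists_smul_eq G (hp.toSylow hi) S
  have hS : (S : Subgroup G) = Pb.map (MulAut.conj g).toMonoidHom := by
    rw [← hg, Sylow.coe_subgroup_smul]
    rfl
  have hcen : ∀ w ∈ W.map (MulAut.conj g).toMonoidHom, ∀ s ∈ (S : Subgroup G), s * w = w * s := by
    rintro _ ⟨w, hw, rfl⟩ s hs
    rw [hS] at hs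
    obtain ⟨x, hx, rfl⟩ := hs
    rw [← map_mul, ← map_mul, hWc w hw x hx]
  refine ⟨W.map (MulAut.conj g).toMonoidHom, hS ▸ map_mono hWP, ?_, ?_, hcen, ?_⟩
  · rintro _ ⟨w, hw, rfl⟩
    rw [← map_mul, hW2 w hw, map_one]
  · intro s hs hss
    rw [hS] at hs
    obtain ⟨x, hx, rfl⟩ := hs
    exact ⟨x, hinv x hx ((MulAut.conj g).injective (by rw [map_mul, map_one]; exact hss)), rfl⟩
  · intro a ha b hb ha1 hb1
    have hac := hcen a ha
    have hbc := hcen b hb
    obtain ⟨a', ha', rfl⟩ := ha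
    obtain ⟨b', hb', rfl⟩ := hb
    obtain ⟨k, hk⟩ := htr a' ha' b' hb' (fun e => ha1 (by rw [e, map_one]))
      (fun e => hb1 (by rw [e, map_one]))
    have hy : g * k * g⁻¹ * (MulAut.conj g).toMonoidHom a' * (g * k * g⁻¹)⁻¹ =
        (MulAut.conj g).toMonoidHom b' := by
      show g * k * g⁻¹ * (g * a' * g⁻¹) * (g * k * g⁻¹)⁻¹ = g * b' * g⁻¹
      rw [← hk]; group
    obtain ⟨n, hn, hne⟩ := Sylow.conj_eq_normalizer_conj_of_mem_centralizer S
      ((MulAut.conj g).toMonoidHom a') (g * k * g⁻¹)⁻¹ (mem_centralizer_iff.2 hac)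
      (mem_centralizer_iff.2 (by rw [inv_inv, hy]; exact hbc))
    rw [inv_inv, hy] at hne
    exact ⟨n⁻¹, inv_mem hn, by rw [inv_inv, ← hne]⟩

/-- The conclusion of the induction when there is a strongly embedded subgroup. -/
theorem conclusion_of_se {G : Type u} [Group G] [Finite G] [IsSimpleGroup G] (hG : ¬ IsMulCommutative G)
    (S : Sylow 2 G) (A : Subgroup G) (hne : A ≠ ⊥) (hA : Cfsg.IsElementaryAbelian 2 A)
    (hsc : Cfsg.IsStronglyClosed A (S : Subgroup G)) {H : Subgroup G} (hH : Cfsg.IsStronglyEmbedded H) :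
    (∀ s ∈ (S : Subgroup G), s * s = 1 → s ∈ A) ∧ (S : Subgroup G) ≤ centralizer (A : Set G) ∧
      ∀ a ∈ A, ∀ b ∈ A, a ≠ 1 → b ≠ 1 → ∃ g ∈ normalizer (A : Set G), g * a * g⁻¹ = b := by
  obtain ⟨W, hWS, hW2, hWmem, hWc, htr⟩ := exists_omega (bender_of_se hG hH).1 S
  have hAW : A ≤ W := fun a ha => hWmem a (hsc.1 ha) (by rw [← pow_two]; exact hA.2 a ha)
  have hWA : W ≤ A := by
    intro w hw
    by_cases hw1 : w = 1
    · rw [hw1]; exact one_mem A
    obtain ⟨⟨a, ha⟩, ha1⟩ := A.ne_bot_iff_exists_ne_one.1 hne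
    obtain ⟨g, -, hg⟩ := htr a (hAW ha) w hw (fun e => ha1 (Subtype.ext e)) hw1
    exact hg ▸ hsc.2 a ha g (by rw [hg]; exact hWS hw)
  obtain rfl : A = W := le_antisymm hAW hWA
  refine ⟨hWmem, fun s hs => mem_centralizer_iff.2 fun w hw => (hWc w hw s hs).symm,
    fun a ha b hb ha1 hb1 => ?_⟩
  obtain ⟨g, hg, hgab⟩ := htr a ha b hb ha1 hb1
  refine ⟨g, mem_normalizer_fintype fun x hx => ?_, hgab⟩
  exact hsc.2 x hx g ((mem_normalizer_iff.1 hg x).1 (hsc.1 hx))

theorem centralizer_le_of_se {L : Type u} [Group L] [Finite L] {H : Subgroup L}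
    (hH : Cfsg.IsStronglyEmbedded H) {t : L} (ht : orderOf t = 2) (htH : t ∈ H) :
    centralizer ({t} : Set L) ≤ H := by
  intro c hc
  by_contra hcH
  refine (Nat.not_even_iff_odd.2 (hH.2.2 c hcH)) (even_iff_two_dvd.2 ?_)
  have hm : t ∈ H ⊓ H.map (MulAut.conj c).toMonoidHom := ⟨htH, t, htH, by
    show c * t * c⁻¹ = t
    rw [mem_centralizer_singleton_iff.1 hc, mul_inv_cancel_right]⟩
  exact ht ▸ Subgroup.orderOf_dvd_natCard _ hm

/-- Centralisers of involutions of a Bender group lie in Sylow normalisers. -/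
theorem centralizer_involution_le {L : Type u} [Group L] [Finite L] [IsSimpleGroup L]
    (hL : ¬ IsMulCommutative L) {H : Subgroup L} (hH : Cfsg.IsStronglyEmbedded H) {w : L}
    (hw : orderOf w = 2) (P : Sylow 2 L) (hwP : w ∈ (P : Subgroup L)) :
    centralizer ({w} : Set L) ≤ normalizer ((P : Subgroup L) : Set L) := by
  haveI : Fact (Nat.Prime 2) := ⟨Nat.prime_two⟩
  obtain ⟨hB, hmax⟩ := bender_of_se hL hH
  obtain ⟨t, ht⟩ := exists_prime_orderOf_dvd_card' (G := ↥H) 2 (even_iff_two_dvd.1 hH.2.1)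
  rw [← orderOf_coe] at ht
  obtain ⟨g, hg⟩ := _root_.isConj_iff.1 (Invol.isConj_involutions hH ht hw)
  set H' := H.map (MulAut.conj g).toMonoidHom with hH'
  have hwH : w ∈ H' := ⟨t, t.2, hg⟩
  have hC : centralizer ({w} : Set L) ≤ H' := by
    intro c hc
    have h1 : g⁻¹ * c * g ∈ centralizer ({(t : L)} : Set L) := mem_centralizer_singleton_iff.2 (by
      calc g⁻¹ * c * g * t = g⁻¹ * (c * (g * t * g⁻¹)) * g := by group
        _ = g⁻¹ * ((g * t * g⁻¹) * c) * g := by rw [hg, mem_centralizer_singleton_iff.1 hc]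
        _ = t * (g⁻¹ * c * g) := by group)
    exact ⟨_, centralizer_le_of_se hH ht t.2 h1, show g * (g⁻¹ * c * g) * g⁻¹ = c by group⟩
  obtain ⟨W, hWP, -, hWmem, hWc, -⟩ := exists_omega hB P
  have hwW := hWmem w hwP (by rw [← pow_two, ← hw, pow_orderOf_eq_one])
  have hP : (P : Subgroup L) ≤ H' := fun s hs =>
    hC (mem_centralizer_singleton_iff.2 (hWc w hwW s hs))
  have hN : normalizer ((P : Subgroup L) : Set L) ≤ H' := by
    intro n hn
    by_contra hnH
    have hnc : g⁻¹ * n * g ∉ H := fun h => hnH ⟨_, h, show g * (g⁻¹ * n * g) * g⁻¹ = n by group⟩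
    refine (Nat.not_even_iff_odd.2 (hH.2.2 _ hnc)) (even_iff_two_dvd.2 ?_)
    obtain ⟨x, hx, hxe⟩ := hP ((mem_normalizer_iff.1 (inv_mem hn) w).1 hwP)
    have hx' : g * x * g⁻¹ = n⁻¹ * w * n⁻¹⁻¹ := hxe
    have hm : (t : L) ∈ H ⊓ H.map (MulAut.conj (g⁻¹ * n * g)).toMonoidHom := ⟨t.2, x, hx, by
      show g⁻¹ * n * g * x * (g⁻¹ * n * g)⁻¹ = t
      calc g⁻¹ * n * g * x * (g⁻¹ * n * g)⁻¹ = g⁻¹ * (n * (g * x * g⁻¹) * n⁻¹) * g := by group
        _ = g⁻¹ * (g * t * g⁻¹) * g := by rw [hx', hg]; group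
        _ = t := by group⟩
    exact ht ▸ Subgroup.orderOf_dvd_natCard _ hm
  have hne : H' ≠ ⊤ := fun h => hH.1 (map_injective (f := (MulAut.conj g).toMonoidHom) (MulAut.conj g).injective
    (h.trans (map_top_of_surjective _ (MulAut.conj g).surjective).symm))
  exact hC.trans (hmax P H' hne hN).le

theorem centralizer_involution_solvable {L : Type u} [Group L] [Finite L] [IsSimpleGroup L]
    (hL : ¬ IsMulCommutative L) {H : Subgroup L} (hH : Cfsg.IsStronglyEmbedded H) {w : L}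
    (hw : orderOf w = 2) : Group.IsSolvable ↥(centralizer ({w} : Set L)) := by
  haveI : Fact (Nat.Prime 2) := ⟨Nat.prime_two⟩
  have h2 : IsPGroup 2 (zpowers w) := IsPGroup.of_card (n := 1) (by rw [Nat.card_zpowers, hw, pow_one])
  obtain ⟨P, hP⟩ := h2.exists_le_sylow
  have hle := centralizer_involution_le hL hH hw P (hP (mem_zpowers w))
  set N := normalizer ((P : Subgroup L) : Set L)
  set T := (P : Subgroup L).subgroupOf N with hT
  haveI : T.Normal := normal_in_normalizer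
  haveI : Group.IsNilpotent ↥T := (P.isPGroup'.comap_subtype (K := N)).isNilpotent
  haveI : Group.IsSolvable (↥N ⧸ T) := S0205.result (Nat.not_even_iff_odd.1 fun h => by
    rw [← index_eq_card] at h
    exact P.not_dvd_index ((even_iff_two_dvd.1 h).trans (relIndex_dvd_index_of_le le_normalizer)))
  haveI : Group.IsSolvable ↥N := (Group.isSolvable_iff_subgroup_quotient T).2 ⟨inferInstance, inferInstance⟩
  exact Group.isSolvable_of_isSolvable_injective (inclusion_injective hle)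

/-- No equivariant twist for `Sz(q)`. -/
theorem noTwist_sz {F : Type} [Field F] [Fintype F] {m : ℕ} (hS : Suz.SzField F m)
    (f : ↥(Suz.unip hS) →* ↥(Suz.unip hS)) (hW : ∀ t, f t * f t = 1) (hker : ∀ t, t * t = 1 → f t = 1)
    (heq : ∀ g : ↥(Cfsg.Sz F m), ∀ t t' : ↥(Suz.unip hS),
      g ∈ normalizer (Suz.unip hS : Set ↥(Cfsg.Sz F m)) →
      (t' : ↥(Cfsg.Sz F m)) = g * t * g⁻¹ → (f t' : ↥(Cfsg.Sz F m)) = g * f t * g⁻¹) :
    ∀ t, f t = 1 := by
  haveI := Suz.charP hS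
  let u : F → F → ↥(Suz.unip hS) := fun a b =>
    ⟨Suz.uS hS a b, (Suz.mem_unip hS).2 ⟨a, b, rfl⟩⟩
  have hfix : ∀ b, f (u 0 b) = 1 := fun b => hker _ (Subtype.ext (by
    show Suz.uS hS 0 b * Suz.uS hS 0 b = 1
    rw [Suz.uS_mul, Suz.th_zero, zero_mul, add_zero, add_zero, CharTwo.add_self_eq_zero, Suz.uS_zero]))
  have hval : ∀ a, ∃ β, f (u a 0) = u 0 β := by
    intro a
    obtain ⟨x, y, hxy⟩ := (Suz.mem_unip hS).1 (f (u a 0)).2
    have h1 := congrArg Subtype.val (hW (u a 0))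
    rw [Subgroup.coe_mul, hxy, ← pow_two, Suz.uS_sq, Subgroup.coe_one, ← Suz.uS_zero hS] at h1
    have h2 := (Suz.uS_injective hS h1).2
    have hx : x = 0 := (mul_eq_zero.1 h2).elim (fun h => Suz.th_eq_zero.1 h) id
    exact ⟨y, Subtype.ext (by rw [hxy, hx])⟩
  choose β hβ using hval
  have hinj : ∀ {b b'}, u 0 b = u 0 b' → b = b' := fun h => (Suz.uS_injective hS (congrArg Subtype.val h)).2
  have hadd : ∀ a a', β (a + a') = β a + β a' := by
    intro a a'
    refine hinj ?_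
    have h1 : u a 0 * u a' 0 = u (a + a') 0 * u 0 (Suz.th m a * a') := Subtype.ext (by
      show Suz.uS hS a 0 * Suz.uS hS a' 0 = Suz.uS hS (a + a') 0 * Suz.uS hS 0 (Suz.th m a * a')
      rw [Suz.uS_mul, Suz.uS_mul]
      simp)
    have h2 := congrArg f h1
    rw [map_mul, map_mul, hfix, mul_one, hβ, hβ, hβ] at h2
    rw [← h2]
    exact Subtype.ext (by
      show Suz.uS hS 0 (β a) * Suz.uS hS 0 (β a') = Suz.uS hS 0 (β a + β a')
      rw [Suz.uS_mul]; simp [Suz.th_zero])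
  have hequiv : ∀ c : F, c ≠ 0 → ∀ a, β (c * a) = Suz.th m c * c * β a := by
    intro c hc a
    obtain ⟨z, hz⟩ := Suz.exists_par hS (Units.mk0 c hc)
    rw [Units.val_mk0] at hz
    have h1 := heq (Suz.hTor hS z) (u a 0) (u (c * a) 0)
      (Suz.borel_le_normalizer hS (Suz.hTor_mem_borel hS z))
      (by
        show Suz.uS hS (c * a) 0 = Suz.hTor hS z * Suz.uS hS a 0 * (Suz.hTor hS z)⁻¹
        rw [Suz.hTor_conj, hz, mul_zero])
    rw [hβ, hβ] at h1
    change Suz.uS hS 0 (β (c * a)) = Suz.hTor hS z * Suz.uS hS 0 (β a) * (Suz.hTor hS z)⁻¹ at h1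
    rw [Suz.hTor_conj, ← Suz.th_par hS z, hz, mul_zero] at h1
    exact (Suz.uS_injective hS h1).2
  have hzero : ∀ a, β a = 0 := by
    intro a
    obtain ⟨c, hc0, hc1⟩ := Suz.exists_ne_zero_one hS
    by_contra hne
    have hc' : c + 1 ≠ 0 := fun h => hc1 (by linear_combination h - Suz.two hS)
    have h1 := hequiv (c + 1) hc' a
    rw [add_mul, one_mul, hadd, hequiv c hc0 a, Suz.th_add hS, Suz.th_one] at h1
    have h2 : Suz.th m c + c = 0 := by
      have h3 : (Suz.th m c + c) * β a = 0 := by linear_combination -h1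
      exact (mul_eq_zero.1 h3).resolve_right hne
    rcases Suz.th_fixed hS (x := c) (by linear_combination h2 - c * Suz.two hS) with h | h
    · exact hc0 h
    · exact hc1 h
  rintro ⟨t, ht⟩
  obtain ⟨a, b, rfl⟩ := (Suz.mem_unip hS).1 ht
  have h1 : u a b = u a 0 * u 0 b := Subtype.ext (by
    show Suz.uS hS a b = Suz.uS hS a 0 * Suz.uS hS 0 b
    rw [Suz.uS_mul]; simp)
  show f (u a b) = 1
  rw [h1, map_mul, hfix, mul_one, hβ, hzero]
  exact Subtype.ext (Suz.uS_zero hS)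

/-- No equivariant twist from torus data. -/
theorem noTwist_torus {L : Type u} [Group L] (T : Subgroup L) (hd : Invol.CentRank.Cyc.TorusData T)
    (φ : ↥T →* ↥T) (hW : ∀ t, φ t * φ t = 1) (hker : ∀ t, t * t = 1 → φ t = 1)
    (heq : ∀ g : L, ∀ t t' : ↥T, (∀ x ∈ T, g * x * g⁻¹ ∈ T) →
      (t' : L) = g * t * g⁻¹ → (φ t' : L) = g * φ t * g⁻¹) : ∀ t, φ t = 1 := by
  obtain ⟨W, h, hWT, hW2, -, hinv, hn, -, -, -, m, hm, hsur⟩ := hd
  have hmem : ∀ k : ℕ, ∀ x ∈ T, h ^ k * x * (h ^ k)⁻¹ ∈ T := by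
    intro k
    induction k with
    | zero => intro x hx; simpa using hx
    | succ k ih =>
      intro x hx
      rw [show h ^ (k + 1) * x * (h ^ (k + 1))⁻¹ = h * (h ^ k * x * (h ^ k)⁻¹) * h⁻¹ by rw [pow_succ']; group]
      exact hn _ (ih x hx)
  rintro ⟨y, hy⟩
  obtain ⟨x, hx, hxy⟩ := hsur y hy
  set w := y⁻¹ * (x⁻¹ * (h ^ m * x * (h ^ m)⁻¹)) with hw
  let tw : ↥T := ⟨w, hWT hxy⟩
  let tx : ↥T := ⟨x, hx⟩
  let tc : ↥T := ⟨h ^ m * x * (h ^ m)⁻¹, hmem m x hx⟩
  have h1 : φ tw = 1 := hker _ (Subtype.ext (hW2 w hxy))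
  have h2 : φ tc = φ tx := by
    refine Subtype.ext ((heq (h ^ m) tx tc (hmem m) rfl).trans ?_)
    exact hm _ (hinv _ (φ tx).2 (congrArg Subtype.val (hW tx)))
  have h3 : (⟨y, hy⟩ : ↥T) = tx⁻¹ * tc * tw⁻¹ := Subtype.ext (by
    show y = x⁻¹ * (h ^ m * x * (h ^ m)⁻¹) * w⁻¹
    rw [hw]; group)
  rw [h3, map_mul, map_mul, map_inv, map_inv, h1, h2]
  group

/-- Transport of the twist statement along an isomorphism. -/
theorem noTwist_transport {A B : Type*} [Group A] [Group B] [Finite A] [Finite B] (ψ : A ≃* B) {P : Subgroup A}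
    {Q : Subgroup B} (hPQ : P.map ψ.toMonoidHom = Q)
    (hA : ∀ f : ↥P →* ↥P, (∀ t, f t * f t = 1) → (∀ t, t * t = 1 → f t = 1) →
      (∀ g : A, ∀ t t' : ↥P, g ∈ normalizer (P : Set A) →
        (t' : A) = g * t * g⁻¹ → (f t' : A) = g * f t * g⁻¹) → ∀ t, f t = 1)
    (φ : ↥Q →* ↥Q) (hW : ∀ t, φ t * φ t = 1) (hker : ∀ t, t * t = 1 → φ t = 1)
    (heq : ∀ g : B, ∀ t t' : ↥Q, g ∈ normalizer (Q : Set B) →
      (t' : B) = g * t * g⁻¹ → (φ t' : B) = g * φ t * g⁻¹) : ∀ t, φ t = 1 := by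
  let e : ↥P ≃* ↥Q :=
    (equivMapOfInjective P ψ.toMonoidHom ψ.injective).trans (MulEquiv.subgroupCongr hPQ)
  have he : ∀ t, (e t : B) = ψ t := fun _ => rfl
  have h0 := hA ((e.symm.toMonoidHom.comp φ).comp e.toMonoidHom)
    (fun t => by
      show e.symm (φ (e t)) * e.symm (φ (e t)) = 1
      rw [← map_mul, hW, map_one])
    (fun t ht => by
      show e.symm (φ (e t)) = 1
      rw [hker (e t) (by rw [← map_mul, ht, map_one]), map_one])
    (fun g t t' hg ht => by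
      show ((e.symm (φ (e t')) : ↥P) : A) = g * (e.symm (φ (e t)) : ↥P) * g⁻¹
      apply ψ.injective
      rw [map_mul, map_mul, map_inv, ← he, ← he, e.apply_symm_apply, e.apply_symm_apply]
      refine heq (ψ g) (e t) (e t') ?_ (by rw [he, he, ht, map_mul, map_mul, map_inv])
      rw [← hPQ]
      refine mem_normalizer_fintype ?_
      rintro _ ⟨x, hx, rfl⟩
      exact ⟨g * x * g⁻¹, (mem_normalizer_iff.1 hg x).1 hx, by simp⟩)
  intro t
  obtain ⟨t, rfl⟩ := e.surjective t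
  have h1 : e.symm (φ (e t)) = 1 := h0 t
  rw [← e.apply_symm_apply (φ (e t)), h1, map_one]

theorem noTwist {L : Type u} [Group L] [Finite L] (h : Invol.CentInt.IsBenderGrp L) (T : Sylow 2 L)
    (φ : ↥(T : Subgroup L) →* ↥(T : Subgroup L)) (hW : ∀ t, φ t * φ t = 1) (hker : ∀ t, t * t = 1 → φ t = 1)
    (heq : ∀ g : L, ∀ t t' : ↥(T : Subgroup L), g ∈ normalizer ((T : Subgroup L) : Set L) →
      (t' : L) = g * t * g⁻¹ → (φ t' : L) = g * φ t * g⁻¹) : ∀ t, φ t = 1 := by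
  haveI : Fact (Nat.Prime 2) := ⟨Nat.prime_two⟩
  have htor : Invol.CentRank.Cyc.TorusData (T : Subgroup L) → ∀ t, φ t = 1 := fun hd =>
    noTwist_torus _ hd φ hW hker fun g t t' hg => heq g t t' (mem_normalizer_fintype hg)
  rcases h with ⟨F, i, j, hc, h4, ⟨e⟩⟩ | ⟨F, i, j, q, hq, h4, hF, ⟨e⟩⟩ | ⟨F, i, j, m, hm, hF, ⟨e⟩⟩
  · haveI := hc
    obtain ⟨P, hd⟩ := Invol.CentRank.Cyc.torus_sl (F := F) h4
    obtain ⟨ψ, hψ⟩ := Invol.CentRank.exists_iso_sylow e.symm P T
    exact htor (hψ ▸ hd.map ψ)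
  · obtain ⟨P, hd⟩ := Invol.CentRank.Cyc.torus_psu hF hq h4
    obtain ⟨ψ, hψ⟩ := Invol.CentRank.exists_iso_sylow e.symm P T
    exact htor (hψ ▸ hd.map ψ)
  · have hS : Suz.SzField F m := ⟨hm, hF⟩
    obtain ⟨ψ, hψ⟩ := Invol.CentRank.exists_iso_sylow ((Suz.szEquiv hS).trans e.symm)
      ((Suz.isPGroup_unip hS).toSylow (Suz.not_two_dvd_index_unip hS)) T
    exact noTwist_transport ψ hψ (noTwist_sz hS) φ hW hker heq

theorem center_map_mulEquiv {A B : Type*} [Group A] [Group B] (e : A ≃* B) :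
    (center A).map e.toMonoidHom = center B := by
  refine le_antisymm ?_ fun b hb => ⟨e.symm b, mem_center_iff.2 fun a => e.injective ?_, e.apply_symm_apply b⟩
  · rintro _ ⟨a, ha, rfl⟩
    refine mem_center_iff.2 fun b => ?_
    obtain ⟨c, rfl⟩ := e.surjective b
    show e c * e a = e a * e c
    rw [← map_mul, mem_center_iff.1 ha c, map_mul]
  · rw [map_mul, map_mul, e.apply_symm_apply]
    exact mem_center_iff.1 hb (e a)

/-- A cover with even centre and a non-central involution is a cover of `Sz(8)`. -/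
theorem sz_eight_of_even_center {K : Type u} [Group K] [Finite K] (hK : Cfsg.IsQuasisimple K)
    (hb : Invol.CentInt.IsBenderGrp (K ⧸ center K))
    (hS : ∀ S : Sylow 2 K, ¬ IsMulCommutative ↥(S : Subgroup K))
    (hx : ∃ x : K, x * x = 1 ∧ x ∉ center K) (h2 : 2 ∣ Nat.card (center K)) :
    (∃ (F : Type) (_ : Field F) (_ : Fintype F), Fintype.card F = 8 ∧
        Nonempty (K ⧸ center K ≃* ↥(Cfsg.Lie.Sz F 4))) ∧
      Nat.card (center K) ≤ 4 ∧ Odd (Nat.card (Cfsg.Out (K ⧸ center K))) := by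
  haveI : Fact (Nat.Prime 2) := ⟨Nat.prime_two⟩
  have hperf := hK.1.commutator_eq_top
  have hgen : Cfsg.pElementClosure 2 (⊤ : Subgroup K) = ⊤ := by
    obtain ⟨x, hx2, hxc⟩ := hx
    set N := Cfsg.pElementClosure 2 (⊤ : Subgroup K) with hN
    haveI hNn : N.Normal := ⟨fun a ha g => by
      refine closure_induction (p := fun y _ => g * y * g⁻¹ ∈ N) ?_ ?_ ?_ ?_ ha
      · rintro y ⟨-, k, hk⟩
        refine Subgroup.subset_closure ⟨mem_top _, k, ?_⟩
        rw [← hk]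
        exact orderOf_injective (MulAut.conj g).toMonoidHom (MulAut.conj g).injective y
      · simp
      · intro y z _ _ hy hz
        simpa [mul_assoc] using mul_mem hy hz
      · intro y _ hy
        simpa [mul_assoc] using inv_mem hy⟩
    haveI := hK.2
    have hxN : x ∈ N := Subgroup.subset_closure ⟨mem_top x, 1, by
      rw [pow_one]
      exact orderOf_eq_prime (by rw [pow_two]; exact hx2) fun e => hxc (e ▸ one_mem _)⟩
    rcases (Subgroup.Normal.map hNn (QuotientGroup.mk' (center K)) (QuotientGroup.mk'_surjective _)).eq_bot_or_eq_top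
      with e | e
    · exact absurd ((QuotientGroup.eq_one_iff x).1 (mem_bot.1 (e ▸ mem_map_of_mem _ hxN))) hxc
    · refine eq_top_iff.2 ?_
      rw [← hperf, _root_.commutator_def, commutator_le]
      intro a _ b _
      obtain ⟨a', ha', hae⟩ := (e ▸ mem_top (QuotientGroup.mk' (center K) a) :
        QuotientGroup.mk' (center K) a ∈ N.map (QuotientGroup.mk' (center K)))
      have hz : a'⁻¹ * a ∈ center K := QuotientGroup.eq.1 hae
      have hab : ⁅a, b⁆ = ⁅a', b⁆ := by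
        set z := a'⁻¹ * a with hzdef
        have hc : Commute z b := (mem_center_iff.1 hz b).symm
        rw [show a = a' * z by rw [hzdef, mul_inv_cancel_left]]
        simp only [commutatorElement_def, mul_inv_rev]
        calc a' * z * b * (z⁻¹ * a'⁻¹) * b⁻¹ = a' * (z * b) * z⁻¹ * a'⁻¹ * b⁻¹ := by group
          _ = a' * b * a'⁻¹ * b⁻¹ := by rw [hc.eq]; group
      rw [hab, commutatorElement_def]
      have h1 : b * a'⁻¹ * b⁻¹ ∈ N := hNn.conj_mem _ (inv_mem ha') b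
      simpa [mul_assoc] using mul_mem ha' h1
  obtain ⟨A, L, hAc, hA2, hLp, hsup, hcase⟩ := Invol.CentInt.cover (center K) le_rfl hgen hS hb
  have hLtop : L = ⊤ := by
    refine eq_top_iff.2 ?_
    rw [← hperf, _root_.commutator_def, commutator_le]
    intro a _ b _
    have hdec : ∀ k : K, ∃ z ∈ center K, ∃ l ∈ L, k = z * l := fun k => by
      have hn : A ≤ normalizer (L : Set K) := fun z hz => mem_normalizer_iff.2 fun l => by
        rw [← mem_center_iff.1 (hAc hz) l, mul_inv_cancel_right]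
      have hk : k ∈ ((A ⊔ L : Subgroup K) : Set K) := hsup ▸ mem_top k
      rw [coe_mul_of_left_le_normalizer_right _ _ hn] at hk
      obtain ⟨z, hz, l, hl, rfl⟩ := Set.mem_mul.1 hk
      exact ⟨z, hAc hz, l, hl, rfl⟩
    obtain ⟨z, hz, l, hl, rfl⟩ := hdec a
    obtain ⟨w, hw, r, hr, rfl⟩ := hdec b
    rw [Invol.BenderCover.comm_eq_of_central (fun x => (mem_center_iff.1 hz x).symm)
      (fun x => (mem_center_iff.1 hw x).symm)]
    rw [commutatorElement_def]
    exact mul_mem (mul_mem (mul_mem hl hr) (inv_mem hl)) (inv_mem hr)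
  subst hLtop
  obtain ⟨x, hx2, hxc⟩ := hx
  have hcen : Nat.card (center ↥(⊤ : Subgroup K)) = Nat.card (center K) :=
    by rw [← center_map_mulEquiv (topEquiv (G := K)), card_map_of_injective (f := (topEquiv (G := K)).toMonoidHom) topEquiv.injective]
  rcases hcase with ⟨⟨e⟩, -⟩ | ⟨-, ⟨-, hodd, -⟩ | ⟨-, F, i, j, hF, ⟨e⟩⟩⟩
  · exfalso
    refine hxc (mem_center_iff.2 fun k => ?_)
    set e' : K ≃* Matrix.SpecialLinearGroup (Fin 2) (ZMod 5) := topEquiv.symm.trans e
    set X := e' x with hX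
    have hXX : X * X = 1 := by rw [hX, ← map_mul, hx2, map_one]
    have hinv : X = X⁻¹ := eq_inv_of_mul_eq_one_left hXX
    have hm := congrArg (fun g : Matrix.SpecialLinearGroup (Fin 2) (ZMod 5) => (g : Matrix (Fin 2) (Fin 2) (ZMod 5))) hinv
    simp only [Matrix.SpecialLinearGroup.coe_inv, Matrix.adjugate_fin_two] at hm
    have h00 := congrFun (congrFun hm 0) 0
    have h01 := congrFun (congrFun hm 0) 1
    have h10 := congrFun (congrFun hm 1) 0
    simp at h00 h01 h10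
    have hneg : ∀ a : ZMod 5, a = -a → a = 0 := by decide
    have h01' := hneg _ h01
    have h10' := hneg _ h10
    refine e'.injective (Subtype.ext ?_)
    rw [map_mul, map_mul, ← hX]
    simp only [Matrix.SpecialLinearGroup.coe_mul]
    ext a b
    fin_cases a <;> fin_cases b <;> simp [Matrix.mul_apply, Fin.sum_univ_two, h00, h01', h10'] <;> ring
  · exact absurd h2 (fun h => Nat.not_even_iff_odd.2 hodd (even_iff_two_dvd.2 (hcen ▸ h)))
  · let eK : K ⧸ center K ≃* ↥(Cfsg.Lie.Sz F 4) := (QuotientGroup.congr (center ↥(⊤ : Subgroup K)) (center K)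
      topEquiv (center_map_mulEquiv topEquiv)).symm.trans e
    refine ⟨⟨F, i, j, hF, ⟨eK⟩⟩, ?_, ?_⟩
    · haveI : Small.{0} K := inferInstance
      refine Nat.le_of_dvd four_pos ((Block.CpQuot.card_center_dvd (S2112.result hF) hK eK).trans ?_)
      simp
    · have h1 : Nat.card (Cfsg.Out ↥(Cfsg.Lie.Sz F 4)) = 3 :=
        S2126.result (F := F) (m := 1) le_rfl (by rw [hF]; rfl)
      have h2 : Nat.card (Cfsg.Out (K ⧸ center K)) = Nat.card (Cfsg.Out ↥(Cfsg.Lie.Sz F 4)) := by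
        refine Nat.card_congr (QuotientGroup.congr _ _ (MulAut.congr eK) ?_).toEquiv
        ext y
        constructor
        · rintro ⟨_, ⟨g, rfl⟩, rfl⟩
          exact ⟨eK g, MulEquiv.ext fun z => by simp⟩
        · rintro ⟨g, rfl⟩
          refine ⟨MulAut.conj (eK.symm g), ⟨_, rfl⟩, MulEquiv.ext fun z => ?_⟩
          simp
      rw [h2, h1]
      decide

end Cfsg.Agent.Fus.Gold
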