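import Cfsg.Agent.Lib.Fus.Goldschmidt.Basic

/-!
# A central strongly closed subgroup with a complement in the Sylow 2-subgroup

If `A` is central in `S`, avoids the subgroup generated by the squares of `S` and `N(A)/C(A)` has odd order,
then `S = A`: the transfer `C(A) → A`, averaged over `N(A)/C(A)`, is equivariant and the identity on `A`, so
its kernel meets `S` in a strongly closed subgroup commuting with the involutions of `A`.
-/

set_option autoImplicit false
set_option linter.style.haveILetI false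

namespace Cfsg.Agent.Fus.Gold

open Subgroup
open scoped Pointwise

universe u

/-- A complement in a `2`-subgroup of a subgroup avoiding all squares. -/
theorem exists_complement_of_squares {G : Type u} [Group G] [Finite G] {A S : Subgroup G} (hAS : A ≤ S)
    (hsq : A ⊓ Subgroup.closure ((fun x => x * x) '' (S : Set G)) = ⊥) :
    ∃ D : Subgroup G, D ≤ S ∧ A ⊓ D = ⊥ ∧ A ⊔ D = S := by
  classical
  have hPS : Subgroup.closure ((fun x => x * x) '' (S : Set G)) ≤ S := by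
    rw [Subgroup.closure_le]
    rintro _ ⟨x, hx, rfl⟩
    exact mul_mem hx hx
  obtain ⟨D, -, ⟨hPD, hDS, hAD⟩, hmax⟩ := (Set.toFinite {D : Subgroup G |
    Subgroup.closure ((fun x => x * x) '' (S : Set G)) ≤ D ∧ D ≤ S ∧ A ⊓ D = ⊥}).exists_le_maximal
      (a := Subgroup.closure ((fun x => x * x) '' (S : Set G))) ⟨le_rfl, hPS, hsq⟩
  have sq : ∀ x ∈ S, x * x ∈ D := fun x hx => hPD (Subgroup.subset_closure ⟨x, hx, rfl⟩)
  -- squares generate the commutators: the quotient by `D` is abelian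
  have comm : ∀ x ∈ S, ∀ y ∈ S, x * y * x⁻¹ * y⁻¹ ∈ D := fun x hx y hy => by
    have h1 := mul_mem (mul_mem (sq (x * y) (mul_mem hx hy)) (inv_mem (sq y hy)))
      (mul_mem (sq y hy) (inv_mem (sq y hy)))
    have h2 : (x * x) * (x⁻¹ * y) * (x⁻¹ * y) * (y * y)⁻¹ ∈ D := by
      have := mul_mem (mul_mem (sq x hx) (sq (x⁻¹ * y) (mul_mem (inv_mem hx) hy))) (inv_mem (sq y hy))
      simpa only [mul_assoc] using this
    rw [show x * y * x⁻¹ * y⁻¹ = (x * x) * (x⁻¹ * y) * (x⁻¹ * y) * (y * y)⁻¹ by group]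
    exact h2
  refine ⟨D, hDS, hAD, le_antisymm (sup_le hAS hDS) fun x hx => ?_⟩
  by_contra hxAD
  -- `D ⊔ ⟨x⟩` is `D ∪ D x`
  let D' : Subgroup G :=
    { carrier := {y | y ∈ D ∨ y * x ∈ D}
      one_mem' := Or.inl D.one_mem
      mul_mem' := by
        rintro u v (hu | hu) (hv | hv)
        · exact Or.inl (mul_mem hu hv)
        · exact Or.inr (by rw [mul_assoc]; exact mul_mem hu hv)
        · have hvS := hDS hv
          refine Or.inr ?_
          rw [show u * v * x = u * x * (x⁻¹ * v * (x⁻¹)⁻¹ * v⁻¹) * v by group]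
          exact mul_mem (mul_mem hu (comm _ (inv_mem hx) v hvS)) hv
        · have hvS : v ∈ S := by simpa using mul_mem (hDS hv) (inv_mem hx)
          refine Or.inl ?_
          rw [show u * v = u * x * (x⁻¹ * (v * x) * (x⁻¹)⁻¹ * (v * x)⁻¹) * (v * x) * (x * x)⁻¹ by group]
          exact mul_mem (mul_mem (mul_mem hu (comm _ (inv_mem hx) _ (mul_mem hvS hx))) hv)
            (inv_mem (sq x hx))
      inv_mem' := by
        rintro u (hu | hu)
        · exact Or.inl (inv_mem hu)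
        · refine Or.inr ?_
          rw [show u⁻¹ * x = x * ((u * x)⁻¹) * x⁻¹ * ((u * x)⁻¹)⁻¹ * (u * x)⁻¹ * (x * x) by group]
          exact mul_mem (mul_mem (comm _ hx _ (inv_mem (hDS hu))) (inv_mem hu)) (sq x hx) }
  have hle : D ≤ D' := fun y hy => Or.inl hy
  have hD'S : D' ≤ S := by
    rintro y (hy | hy)
    · exact hDS hy
    · simpa using mul_mem (hDS hy) (inv_mem hx)
  have hA' : A ⊓ D' = ⊥ := by
    rw [eq_bot_iff]
    rintro a ⟨ha, hy | hy⟩
    · exact hAD.le ⟨ha, hy⟩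
    · exfalso
      apply hxAD
      rw [show x = a⁻¹ * (a * x) by group]
      exact mul_mem (mem_sup_left (inv_mem ha)) (mem_sup_right hy)
  exact hxAD (mem_sup_right (hmax ⟨hPD.trans hle, hD'S, hA'⟩ hle (Or.inr (sq x hx))))

variable {G : Type u} [Group G] [Finite G] (s : Setup G)

include s

/-- A central `A` with a complement in `S` is all of `S`, if `N(A)/C(A)` has odd order. -/
theorem eq_of_complement (hcen : (s.S : Subgroup G) ≤ centralizer (s.A : Set G))
    (hodd : ∀ g ∈ normalizer (s.A : Set G), (∀ x ∈ s.A, g * g * x * (g * g)⁻¹ = x) →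
      ∀ x ∈ s.A, g * x * g⁻¹ = x)
    {D : Subgroup G} (hD : D ≤ (s.S : Subgroup G)) (hAD : s.A ⊓ D = ⊥) (hsup : s.A ⊔ D = (s.S : Subgroup G)) :
    (s.S : Subgroup G) = s.A := by
  classical
  haveI : Fact (Nat.Prime 2) := ⟨Nat.prime_two⟩
  haveI := s.simple
  letI : CommGroup ↥s.A := { (inferInstance : Group ↥s.A) with
    mul_comm := fun a b => Subtype.ext (s.comm a.2 b.2) }
  have cA : ∀ {c : G}, c ∈ centralizer (s.A : Set G) → ∀ a ∈ s.A, a * c = c * a := fun hc a ha =>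
    mem_centralizer_iff.1 hc a ha
  -- the retraction `S → A`
  have hcomm : ∀ a ∈ s.A, ∀ d ∈ D, a * d = d * a := fun a ha d hd => cA (hcen (hD hd)) a ha
  have hdec : ∀ x ∈ (s.S : Subgroup G), ∃ a : ↥s.A, (a : G)⁻¹ * x ∈ D := by
    intro x hx
    rw [← hsup] at hx
    have hset : (↑(s.A ⊔ D) : Set G) = (s.A : Set G) * (D : Set G) :=
      coe_mul_of_right_le_normalizer_left _ _ (fun d hd => mem_normalizer_fintype fun a ha => by
        rwa [← hcomm a ha d hd, mul_inv_cancel_right])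
    obtain ⟨a, ha, d, hd, rfl⟩ := Set.mem_mul.1 (hset ▸ hx : x ∈ (s.A : Set G) * (D : Set G))
    exact ⟨⟨a, ha⟩, by rw [inv_mul_cancel_left]; exact hd⟩
  have huniq : ∀ (x : G) (a b : ↥s.A), (a : G)⁻¹ * x ∈ D → (b : G)⁻¹ * x ∈ D → a = b := by
    intro x a b ha hb
    have h1 : (b : G)⁻¹ * a ∈ s.A ⊓ D := ⟨s.A.mul_mem (s.A.inv_mem b.2) a.2, by
      have h2 := D.mul_mem hb (D.inv_mem ha)
      rwa [show (b : G)⁻¹ * x * ((a : G)⁻¹ * x)⁻¹ = (b : G)⁻¹ * a by group] at h2⟩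
    rw [hAD, mem_bot, inv_mul_eq_one] at h1
    exact Subtype.ext h1.symm
  choose π₀ hπ₀ using hdec
  have hSC : (s.S : Subgroup G) ≤ centralizer (s.A : Set G) := hcen
  let C : Subgroup G := centralizer (s.A : Set G)
  let H : Subgroup C := (s.S : Subgroup G).subgroupOf C
  let π : H →* ↥s.A := MonoidHom.mk' (fun h => π₀ ((h : C) : G) (mem_subgroupOf.1 h.2)) fun u v => by
    refine huniq (((u * v : H) : C) : G) _ _ (hπ₀ _ _) ?_
    have hu := hπ₀ _ (mem_subgroupOf.1 u.2)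
    have hv := hπ₀ _ (mem_subgroupOf.1 v.2)
    set a := (π₀ ((u : C) : G) (mem_subgroupOf.1 u.2) : G)
    set b := (π₀ ((v : C) : G) (mem_subgroupOf.1 v.2) : G)
    have hb : b⁻¹ ∈ s.A := inv_mem (SetLike.coe_mem _)
    push_cast
    rw [show (a * b)⁻¹ * (((u : C) : G) * ((v : C) : G)) = (b⁻¹ * (a⁻¹ * ((u : C) : G))) * ((v : C) : G) by group,
      cA (mul_mem (hcen (s.closed.1 (inv_mem (SetLike.coe_mem _)))) (hcen (mem_subgroupOf.1 u.2))) b⁻¹ hb, mul_assoc]
    exact mul_mem hu hv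
  have πA : ∀ (h : H), ((h : C) : G) ∈ s.A → ((π h : ↥s.A) : G) = ((h : C) : G) := fun h hh => by
    have := huniq _ (π h) ⟨_, hh⟩ (hπ₀ _ (mem_subgroupOf.1 h.2)) (by
      rw [inv_mul_cancel]; exact D.one_mem)
    rw [this]
  have hidx : Odd H.index := by
    rw [Nat.odd_iff, ← Nat.two_dvd_ne_zero]
    intro h2
    refine s.S.not_dvd_index ((Dvd.dvd.trans h2 ?_))
    exact Dvd.intro _ (relIndex_mul_index hSC)
  -- the transfer is the identity on `A`
  let τ : C →* ↥s.A := MonoidHom.transfer π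
  have τA : ∀ (c : C), (c : G) ∈ s.A → ((τ c : ↥s.A) : G) = c := by
    intro c hc
    have key : ∀ (k : ℕ) (g₀ : C), g₀⁻¹ * c ^ k * g₀ = c ^ k := fun k g₀ => Subtype.ext (by
      push_cast
      rw [mul_assoc, cA g₀.2 _ (pow_mem hc k), inv_mul_cancel_left])
    show ((MonoidHom.transfer π c : ↥s.A) : G) = c
    rw [MonoidHom.transfer_eq_pow π c fun k g₀ _ => key k g₀, πA _ (by push_cast; exact pow_mem hc _)]
    obtain ⟨m, hm⟩ := hidx
    push_cast
    rw [hm, pow_succ, pow_mul, s.pow_two_eq hc, one_pow, one_mul]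
  -- averaging over `N(A)/C(A)`
  let N : Subgroup G := normalizer (s.A : Set G)
  have hCN : C ≤ N := fun c hc => mem_normalizer_fintype fun a ha => by
    rwa [← cA hc a ha, mul_inv_cancel_right]
  have hNA : ∀ g ∈ N, ∀ a ∈ s.A, g * a * g⁻¹ ∈ s.A := fun g hg a ha => (mem_normalizer_iff.1 hg a).1 ha
  have hNC : ∀ g ∈ N, ∀ c ∈ C, g * c * g⁻¹ ∈ C := fun g hg c hc => mem_centralizer_iff.2 fun a ha => by
    have h1 := cA hc _ (hNA _ (inv_mem hg) a ha)
    rw [inv_inv] at h1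
    calc a * (g * c * g⁻¹) = g * (g⁻¹ * a * g * c) * g⁻¹ := by group
      _ = g * (c * (g⁻¹ * a * g)) * g⁻¹ := by rw [h1]
      _ = _ := by group
  haveI hn : (C.subgroupOf N).Normal := ⟨fun c hc g => mem_subgroupOf.2 (hNC _ g.2 _ (mem_subgroupOf.1 hc))⟩
  let cj : N → C →* C := fun g => MonoidHom.mk' (fun c => ⟨(g : G) * c * (g : G)⁻¹, hNC _ g.2 _ c.2⟩)
    fun u v => Subtype.ext (by push_cast; group)
  let ca : N → ↥s.A →* ↥s.A := fun g => MonoidHom.mk'
    (fun a => ⟨(g : G)⁻¹ * a * (g : G), by simpa using hNA _ (inv_mem g.2) _ a.2⟩)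
    fun u v => Subtype.ext (by push_cast; group)
  let τ' : N → C →* ↥s.A := fun g => (ca g).comp (τ.comp (cj g))
  have hwd : ∀ g k : N, (k : G) ∈ C → τ' (g * k) = τ' g := by
    intro g k hk
    ext c
    have h1 : τ (cj (g * k) c) = τ (cj g c) := by
      have e : cj (g * k) c = ⟨(g : G) * k * (g : G)⁻¹, hNC _ g.2 _ hk⟩ * cj g c *
          (⟨(g : G) * k * (g : G)⁻¹, hNC _ g.2 _ hk⟩ : C)⁻¹ := Subtype.ext (by
        show ((g * k : N) : G) * (c : G) * ((g * k : N) : G)⁻¹ =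
          (g : G) * k * (g : G)⁻¹ * ((g : G) * c * (g : G)⁻¹) * ((g : G) * k * (g : G)⁻¹)⁻¹
        push_cast
        group)
      rw [e, map_mul, map_mul, map_inv, mul_inv_cancel_comm]
    show (((g * k : N) : G))⁻¹ * ((τ (cj (g * k) c) : ↥s.A) : G) * ((g * k : N) : G) = _
    rw [h1]
    push_cast
    have hmem : (g : G)⁻¹ * ((τ (cj g c) : ↥s.A) : G) * g ∈ s.A := (ca g (τ (cj g c))).2
    rw [show ((g : G) * k)⁻¹ * ((τ (cj g c) : ↥s.A) : G) * ((g : G) * k) =
      (k : G)⁻¹ * (((g : G)⁻¹ * ((τ (cj g c) : ↥s.A) : G) * g) * k) by group,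
      cA hk _ hmem, inv_mul_cancel_left]
    rfl
  let f : N ⧸ C.subgroupOf N → C →* ↥s.A := fun q => τ' q.out
  have hf : ∀ g : N, f (g : N ⧸ C.subgroupOf N) = τ' g := fun g => by
    obtain ⟨k, hk⟩ := QuotientGroup.mk_out_eq_mul (C.subgroupOf N) g
    show τ' (Quotient.out _) = τ' g
    rw [hk, hwd g k (mem_subgroupOf.1 k.2)]
  letI : Fintype (N ⧸ C.subgroupOf N) := Fintype.ofFinite _
  let P : C →* ↥s.A := ∏ q, f q
  have hcard : Odd (Fintype.card (N ⧸ C.subgroupOf N)) := by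
    rw [← Nat.card_eq_fintype_card, Nat.odd_iff, ← Nat.two_dvd_ne_zero]
    intro h2
    obtain ⟨q, hq⟩ := exists_prime_orderOf_dvd_card' 2 h2
    obtain ⟨g, rfl⟩ := QuotientGroup.mk_surjective q
    have hg2 : g * g ∈ C.subgroupOf N := by
      rw [← QuotientGroup.eq_one_iff, QuotientGroup.mk_mul, ← pow_two]
      exact hq ▸ pow_orderOf_eq_one _
    have hg : (g : G) ∈ C := mem_centralizer_iff.2 fun a ha => by
      have h1 := hodd g g.2 (fun x hx => by
        have h2 : x * ((g : G) * g) = (g : G) * g * x := cA (mem_subgroupOf.1 hg2) x hx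
        rw [← h2, mul_inv_cancel_right]) a ha
      exact (mul_inv_eq_iff_eq_mul.1 h1).symm
    rw [(QuotientGroup.eq_one_iff g).2 (mem_subgroupOf.2 hg), orderOf_one] at hq
    exact absurd hq (by norm_num)
  have Pd : ∀ c : C, P c = ∏ q, f q c := fun c => MonoidHom.finsetProd_apply f _ c
  have PA : ∀ (c : C) (hc : (c : G) ∈ s.A), P c = ⟨c, hc⟩ := by
    intro c hc
    have hterm : ∀ q, f q c = ⟨c, hc⟩ := fun q => Subtype.ext (by
      show ((Quotient.out q : N) : G)⁻¹ * ((τ (cj (Quotient.out q) c) : ↥s.A) : G) * ((Quotient.out q : N) : G) = c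
      rw [τA (cj (Quotient.out q) c) (hNA _ (Quotient.out q).2 _ hc)]
      show ((Quotient.out q : N) : G)⁻¹ * (((Quotient.out q : N) : G) * c * ((Quotient.out q : N) : G)⁻¹) *
        ((Quotient.out q : N) : G) = c
      group)
    rw [Pd, Finset.prod_congr rfl (fun q _ => hterm q), Finset.prod_const, Finset.card_univ]
    obtain ⟨m, hm⟩ := hcard
    refine Subtype.ext ?_
    push_cast
    rw [hm, pow_succ, pow_mul, s.pow_two_eq hc, one_pow, one_mul]
  have Pn : ∀ (n : N) (c : C), P c = 1 → P (cj n c) = 1 := by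
    intro n c hc
    have hterm : ∀ q : N ⧸ C.subgroupOf N,
        f q (cj n c) = ca n⁻¹ (f (q * (n : N ⧸ C.subgroupOf N)) c) := by
      intro q
      obtain ⟨g, rfl⟩ := QuotientGroup.mk_surjective q
      rw [← QuotientGroup.mk_mul, hf, hf]
      have e : cj g (cj n c) = cj (g * n) c := Subtype.ext (by
        show (g : G) * ((n : G) * c * (n : G)⁻¹) * (g : G)⁻¹ = ((g * n : N) : G) * c * ((g * n : N) : G)⁻¹
        push_cast
        group)
      refine Subtype.ext ?_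
      show (g : G)⁻¹ * ((τ (cj g (cj n c)) : ↥s.A) : G) * g = ((n⁻¹ : N) : G)⁻¹ *
        (((g * n : N) : G)⁻¹ * ((τ (cj (g * n) c) : ↥s.A) : G) * ((g * n : N) : G)) * ((n⁻¹ : N) : G)
      rw [e]
      push_cast
      group
    rw [Pd, Finset.prod_congr rfl (fun q _ => hterm q), ← map_prod]
    rw [show ∏ q, f (q * (n : N ⧸ C.subgroupOf N)) c = ∏ q, f q c from
      Equiv.prod_comp (Equiv.mulRight (n : N ⧸ C.subgroupOf N)) (fun q => f q c), ← Pd, hc, map_one]
  -- the kernel is strongly closed and commutes with `A`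
  have hsub : P.ker.map C.subtype ≤ C := map_subtype_le _
  let R : Subgroup G := (s.S : Subgroup G) ⊓ P.ker.map C.subtype
  have hRsc : Cfsg.IsStronglyClosed R (s.S : Subgroup G) := by
    refine ⟨inf_le_left, ?_⟩
    rintro x ⟨hxS, c, hc, rfl⟩ g hg
    obtain ⟨n, hn, hnx⟩ := s.control (X := {(c : G)}) (by simpa using hxS) (by simpa using hg)
    refine ⟨hg, cj ⟨n, hn⟩ c, Pn _ c hc, ?_⟩
    exact hnx _ rfl
  obtain ⟨⟨a₀, ha₀⟩, ha₀1⟩ := s.A.ne_bot_iff_exists_ne_one.1 s.ne_bot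
  have hR : R = ⊥ := Transfer.CentralFour.eq_bot_of_pair s.nonab s.core_eq_bot s.S R hRsc
    {y | y ∈ s.A ∧ y ≠ 1} (y₀ := a₀) ⟨ha₀, fun h => ha₀1 (Subtype.ext h)⟩
    (fun y hy => s.orderOf_eq hy.1 hy.2) (fun y hy => s.closed.1 hy.1)
    (fun y hy g hg => ⟨s.closed.2 y hy.1 g hg, fun h => hy.2 (conj_eq_one_iff.1 h)⟩)
    (fun y hy y' hy' hne _ => ⟨mul_mem hy.1 hy'.1, fun h => hne (by
      rw [← inv_eq_of_mul_eq_one_right h]
      exact (inv_eq_of_mul_eq_one_right (s.sq hy.1)).symm)⟩)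
    (fun y hy hyR => by
      obtain ⟨-, c, hc, hcy⟩ := hyR
      simp only [Subgroup.coe_subtype] at hcy
      subst hcy
      have hcA : (c : G) ∈ s.A := hy.1
      have h1 := PA c hcA
      rw [MonoidHom.mem_ker.1 hc] at h1
      exact hy.2 (congrArg Subtype.val h1).symm)
    (fun r hr y hy => (cA (hcen hr.1) y hy.1).symm)
  refine le_antisymm (fun x hx => ?_) s.closed.1
  let c : C := ⟨x, hcen hx⟩
  have hPcA : ((P c : ↥s.A) : G) ∈ C := hcen (s.closed.1 (P c).2)
  have hx' : x * ((P c : ↥s.A) : G)⁻¹ ∈ R := by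
    refine ⟨(s.S : Subgroup G).mul_mem hx ((s.S : Subgroup G).inv_mem (s.closed.1 (P c).2)), c * (⟨_, hPcA⟩ : C)⁻¹, ?_, rfl⟩
    rw [SetLike.mem_coe, MonoidHom.mem_ker, map_mul, map_inv, PA ⟨_, hPcA⟩ (P c).2]
    exact mul_inv_eq_one.2 (Subtype.ext rfl)
  rw [hR, mem_bot, mul_inv_eq_one] at hx'
  exact hx'.symm ▸ (P c).2

/-- The same, with the squares of `S` in place of the complement. -/
theorem eq_of_squares (hcen : (s.S : Subgroup G) ≤ centralizer (s.A : Set G))
    (hodd : ∀ g ∈ normalizer (s.A : Set G), (∀ x ∈ s.A, g * g * x * (g * g)⁻¹ = x) →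
      ∀ x ∈ s.A, g * x * g⁻¹ = x)
    (hsq : s.A ⊓ Subgroup.closure ((fun x => x * x) '' ((s.S : Subgroup G) : Set G)) = ⊥) :
    (s.S : Subgroup G) = s.A := by
  obtain ⟨D, hD, hAD, hsup⟩ := exists_complement_of_squares s.closed.1 hsq
  exact eq_of_complement s hcen hodd hD hAD hsup

end Cfsg.Agent.Fus.Gold
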