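import Cfsg.Agent.Lib.Fus.Goldschmidt.FourBase
import Cfsg.Agent.Lib.Fus.Goldschmidt.Complement
import Cfsg.Agent.Lib.Grp.Frattini

/-!
# The normaliser of the centraliser of a maximal involution of four type

With `P = A × D` the centraliser in `S` and `g` of 3-power order centralising `D`: the elements of
`N(P) ∩ C(A)` give homomorphisms `D → A`, injective on central involutions; so `D` is elementary of order two
or four, `Q = S ∩ N(P)` has `|Q : P| = 4` and `Q = P T` with `T = [Q,g] A` abelian of order 16.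
-/

set_option autoImplicit false
set_option linter.style.haveILetI false
set_option maxHeartbeats 1600000

namespace Cfsg.Agent.Fus.Gold

open Subgroup

universe u

variable {G : Type u} [Group G] [Finite G]

/-- A normal subgroup of a 2-group contains a central involution. -/
theorem exists_central_involution {R N : Subgroup G} (hR : IsPGroup 2 R) (hNR : N ≤ R) (hne : N ≠ ⊥)
    (hN : ∀ r ∈ R, ∀ x ∈ N, r * x * r⁻¹ ∈ N) :
    ∃ z ∈ N, orderOf z = 2 ∧ ∀ r ∈ R, r * z = z * r := by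
  haveI : Fact (Nat.Prime 2) := ⟨Nat.prime_two⟩
  haveI : Group.IsNilpotent ↥R := hR.isNilpotent
  haveI : (N.subgroupOf R).Normal :=
    ⟨fun x hx r => mem_subgroupOf.2 (hN _ r.2 _ (mem_subgroupOf.1 hx))⟩
  have hne' : N.subgroupOf R ≠ ⊥ := fun e => hne (by
    rw [subgroupOf_eq_bot, disjoint_iff, inf_eq_left.2 hNR] at e; exact e)
  have hI := Grp.inf_center_ne_bot (N.subgroupOf R) hne'
  obtain ⟨⟨w, hw⟩, hw1⟩ := Subgroup.ne_bot_iff_exists_ne_one.1 hI
  obtain ⟨k, hk⟩ := IsPGroup.iff_orderOf.1 hR w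
  have hk0 : k ≠ 0 := fun e => hw1 (Subtype.ext (orderOf_eq_one_iff.1 (by rw [hk, e, pow_zero])))
  have hdvd : (2 : ℕ) ∣ orderOf w := hk ▸ dvd_pow_self 2 hk0
  refine ⟨((w ^ (orderOf w / 2) : ↥R) : G), mem_subgroupOf.1 (pow_mem hw.1 _), ?_, fun r hr => ?_⟩
  · rw [Subgroup.orderOf_coe, orderOf_pow_orderOf_div (orderOf_pos w).ne' hdvd]
  · exact congrArg Subtype.val (mem_center_iff.1 (pow_mem hw.2 (orderOf w / 2)) ⟨r, hr⟩)

omit [Finite G] in
/-- An element of 2-power order lying outside `M` has no odd power in `M`. -/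
theorem mem_of_pow_odd {M : Subgroup G} {x : G} {i k : ℕ} (hx : x ^ 2 ^ i = 1) (hk : Odd k)
    (h : x ^ k ∈ M) : x ∈ M := by
  have hcop : (2 ^ i).Coprime k := Nat.Coprime.pow_left i (Nat.coprime_two_left.2 hk)
  obtain ⟨j, hj⟩ := exists_pow_eq_self_of_coprime
    (Nat.Coprime.coprime_dvd_right (orderOf_dvd_of_pow_eq_one hx) hcop.symm)
  rw [← hj]
  exact pow_mem h j

/-- An odd power of 2-power order. -/
theorem exists_two_part (x : G) : ∃ k i : ℕ, Odd k ∧ (x ^ k) ^ 2 ^ i = 1 := by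
  obtain ⟨i, k, hk, he⟩ := Nat.exists_eq_two_pow_mul_odd (orderOf_pos x).ne'
  exact ⟨k, i, hk, by rw [← pow_mul, mul_comm, ← he, pow_orderOf_eq_one]⟩

variable {s : Setup G}

/-- The frame at a maximal involution of four type, from the decomposition of its centraliser. -/
theorem frame_of_decomp (h : Four s) {y : G} (hy : FourType s y) {D : Subgroup G} {g : G} (hyD : y ∈ D)
    (hDS : D ≤ (s.S : Subgroup G)) (hAD : s.A ⊓ D = ⊥)
    (hP : s.A ⊔ D = (s.S : Subgroup G) ⊓ centralizer ({y} : Set G)) (hg3 : ∃ k : ℕ, orderOf g = 3 ^ k)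
    (hgA : g ∈ normalizer (s.A : Set G))
    (hgP : g ∈ normalizer (((s.S : Subgroup G) ⊓ centralizer ({y} : Set G) : Subgroup G) : Set G))
    (hfpf : ∀ a ∈ s.A, g * a * g⁻¹ = a → a = 1) (hgD : ∀ d ∈ D, g * d = d * g)
    (hmax : ∀ x ∈ (s.S : Subgroup G), orderOf x = 2 → x ∉ s.A → ∀ R : Subgroup G, IsPGroup 2 R →
      R ≤ centralizer (s.A : Set G) → R ≤ centralizer ({x} : Set G) →
      Nat.card R ≤ Nat.card ↥((s.S : Subgroup G) ⊓ centralizer ({y} : Set G)))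
    (hmax2 : ∀ R : Subgroup G, IsPGroup 2 R → R ≤ centralizer (s.A : Set G) →
      R ≤ normalizer (((s.S : Subgroup G) ⊓ centralizer ({y} : Set G) : Subgroup G) : Set G) →
      Nat.card R ≤ Nat.card ↥((s.S : Subgroup G) ⊓
        normalizer (((s.S : Subgroup G) ⊓ centralizer ({y} : Set G) : Subgroup G) : Set G))) :
    ∃ f : Frame s, f.y = y ∧ f.P = (s.S : Subgroup G) ⊓ centralizer ({y} : Set G) := by
  classical
  haveI : Fact (Nat.Prime 2) := ⟨Nat.prime_two⟩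
  rw [← hP] at hmax hmax2 hgP
  set A := s.A with hAdef
  set S := (s.S : Subgroup G) with hSdef
  set P := A ⊔ D with hPdef
  have hSC : S ≤ centralizer (A : Set G) := h.central
  have cA : ∀ {x : G}, x ∈ centralizer (A : Set G) → ∀ a ∈ A, x * a = a * x := fun hx a ha =>
    (mem_centralizer_iff.1 hx a ha).symm
  have hPS : P ≤ S := sup_le s.closed.1 hDS
  have hPy : P ≤ centralizer ({y} : Set G) := hP.le.trans inf_le_right
  have hPp : IsPGroup 2 ↥P := s.S.isPGroup'.to_le hPS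
  have hdec : ∀ x ∈ P, ∃ a ∈ A, ∃ d ∈ D, a * d = x := by
    intro x hx
    have hN : D ≤ normalizer (A : Set G) := hDS.trans s.sylow_le_normalizer
    have hx' : x ∈ ((A ⊔ D : Subgroup G) : Set G) := hx
    rw [coe_mul_of_right_le_normalizer_left _ _ hN] at hx'
    exact hx'
  -- the fixed points of `g` in `P` are `D`
  have hgfix : ∀ x ∈ P, g * x = x * g → x ∈ D := by
    intro x hx hc
    obtain ⟨a, ha, d, hd, rfl⟩ := hdec x hx
    have h1 : g * a * g⁻¹ * d = a * d := by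
      calc g * a * g⁻¹ * d = g * a * (g⁻¹ * (d * g)) * g⁻¹ := by group
        _ = g * a * (g⁻¹ * (g * d)) * g⁻¹ := by rw [hgD d hd]
        _ = g * (a * d) * g⁻¹ := by group
        _ = a * d := by rw [hc, mul_inv_cancel_right]
    rw [hfpf a ha (mul_right_cancel h1), one_mul]
    exact hd
  have hDA : ∀ d ∈ D, d ∈ A → d = 1 := fun d hd hdA => mem_bot.1 (hAD ▸ ⟨hdA, hd⟩)
  have hyA : y ∉ A := hy.not_mem
  have hy2 : y * y = 1 := by rw [← pow_two, ← hy.inv, pow_orderOf_eq_one]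
  -- a larger subgroup fixes no involution of `D`
  have grow : ∀ R : Subgroup G, IsPGroup 2 R → R ≤ centralizer (A : Set G) → P ≤ R →
      ∀ z ∈ D, orderOf z = 2 → R ≤ centralizer ({z} : Set G) → R = P := by
    intro R hR hRC hPR z hz hz2 hRz
    exact (eq_of_le_of_card_ge hPR (hmax z (hDS hz) hz2 (fun hzA => by
      rw [hDA z hz hzA, orderOf_one] at hz2; omega) R hR hRC hRz)).symm
  let NP : Subgroup G := normalizer (P : Set G)
  let L : Subgroup G := centralizer (A : Set G) ⊓ NP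
  have hPL : P ≤ L := le_inf (hPS.trans hSC) le_normalizer
  have join : ∀ x ∈ L, ∀ i : ℕ, x ^ 2 ^ i = 1 →
      IsPGroup 2 ↥(P ⊔ zpowers x) ∧ P ⊔ zpowers x ≤ centralizer (A : Set G) := by
    intro x hx i hi
    refine ⟨hPp.to_sup_of_normal_left' (IsPGroup.of_card (n := (Nat.log 2 (orderOf x))) ?_) (zpowers_le.2 hx.2),
      sup_le (hPS.trans hSC) (zpowers_le.2 hx.1)⟩
    obtain ⟨j, -, hj⟩ := (Nat.dvd_prime_pow Nat.prime_two).1 (orderOf_dvd_of_pow_eq_one hi)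
    rw [Nat.card_zpowers, hj, Nat.log_pow (by norm_num)]
  -- elements commuting with `g` on `P`
  have stable : ∀ x ∈ L, ∀ i : ℕ, x ^ 2 ^ i = 1 → (∀ d ∈ D, x * d * x⁻¹ ∈ D) → x ∈ P := by
    intro x hx i hi hxD
    obtain ⟨hRp, hRC⟩ := join x hx i hi
    have hNR : ∀ r ∈ P ⊔ zpowers x, ∀ d ∈ D, r * d * r⁻¹ ∈ D := by
      have hle : P ⊔ zpowers x ≤ normalizer (D : Set G) := by
        refine sup_le (sup_le ?_ le_normalizer) (zpowers_le.2 (mem_normalizer_fintype hxD))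
        exact fun a ha => mem_normalizer_fintype fun d hd => by
          rwa [← cA (hSC (hDS hd)) a ha, mul_inv_cancel_right]
      exact fun r hr d hd => (mem_normalizer_iff.1 (hle hr) d).1 hd
    obtain ⟨z, hz, hz2, hzc⟩ := exists_central_involution hRp ((le_sup_right : D ≤ P).trans le_sup_left)
      (fun e => hyA (by rw [e, mem_bot] at hyD; rw [hyD]; exact one_mem _)) hNR
    have hRz : P ⊔ zpowers x ≤ centralizer ({z} : Set G) := fun r hr =>
      mem_centralizer_singleton_iff.2 (hzc r hr)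
    rw [← grow _ hRp hRC le_sup_left z hz hz2 hRz]
    exact mem_sup_right (mem_zpowers x)
  -- the elements acting trivially on `P / A`
  let M : Subgroup G :=
    { carrier := {l | l ∈ L ∧ ∀ d ∈ D, l * d * l⁻¹ * d⁻¹ ∈ A}
      one_mem' := ⟨one_mem _, fun d _ => by simp⟩
      mul_mem' := by
        rintro u v ⟨hu, hu'⟩ ⟨hv, hv'⟩
        refine ⟨mul_mem hu hv, fun d hd => ?_⟩
        rw [show u * v * d * (u * v)⁻¹ * d⁻¹ = u * (v * d * v⁻¹ * d⁻¹) * u⁻¹ * (u * d * u⁻¹ * d⁻¹) by group,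
          cA hu.1 _ (hv' d hd), mul_inv_cancel_right]
        exact mul_mem (hv' d hd) (hu' d hd)
      inv_mem' := by
        rintro u ⟨hu, hu'⟩
        refine ⟨inv_mem hu, fun d hd => ?_⟩
        have h1 := cA (inv_mem hu.1) _ (inv_mem (hu' d hd))
        rw [show u⁻¹ * d * u⁻¹⁻¹ * d⁻¹ = u⁻¹ * (u * d * u⁻¹ * d⁻¹)⁻¹ * u by group, h1, inv_mul_cancel_right]
        exact inv_mem (hu' d hd) }
  have hML : M ≤ L := fun l hl => hl.1
  let f : G → G → G := fun l d => l * d * l⁻¹ * d⁻¹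
  have fA : ∀ l ∈ M, ∀ d ∈ D, f l d ∈ A := fun l hl d hd => hl.2 d hd
  have fmul : ∀ l ∈ M, ∀ l' ∈ M, ∀ d ∈ D, f (l * l') d = f l d * f l' d := by
    intro l hl l' hl' d hd
    show l * l' * d * (l * l')⁻¹ * d⁻¹ = _
    rw [show l * l' * d * (l * l')⁻¹ * d⁻¹ = l * (l' * d * l'⁻¹ * d⁻¹) * l⁻¹ * (l * d * l⁻¹ * d⁻¹) by group,
      cA hl.1.1 _ (fA l' hl' d hd), mul_inv_cancel_right]
    exact s.comm (fA l' hl' d hd) (fA l hl d hd)
  have fd : ∀ l ∈ M, ∀ d ∈ D, ∀ e ∈ D, f l (d * e) = f l d * f l e := by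
    intro l hl d hd e he
    show l * (d * e) * l⁻¹ * (d * e)⁻¹ = _
    rw [show l * (d * e) * l⁻¹ * (d * e)⁻¹ = l * d * l⁻¹ * d⁻¹ * (d * (l * e * l⁻¹ * e⁻¹) * d⁻¹) by group,
      cA (hSC (hDS hd)) _ (fA l hl e he), mul_inv_cancel_right]
  have fpow : ∀ l ∈ M, ∀ k : ℕ, ∀ d ∈ D, Odd k → f (l ^ k) d = f l d := by
    intro l hl k d hd hk
    obtain ⟨m, rfl⟩ := hk
    have : ∀ i : ℕ, f (l ^ (2 * i + 1)) d = f l d := by
      intro i
      induction i with
      | zero => simp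
      | succ i ih =>
        rw [show 2 * (i + 1) + 1 = 2 * i + 1 + 1 + 1 by ring, pow_succ, pow_succ (n := 2 * i + 1),
          fmul _ (mul_mem (pow_mem hl _) hl) l hl d hd, fmul _ (pow_mem hl _) l hl d hd, ih,
          s.comm (mul_mem (fA l hl d hd) (fA l hl d hd)) (fA l hl d hd), s.sq (fA l hl d hd), mul_one]
    exact this m
  have fker : ∀ l ∈ M, (∀ d ∈ D, f l d = 1) → ∀ x ∈ P, l * x = x * l := by
    intro l hl h0 x hx
    obtain ⟨a, ha, d, hd, rfl⟩ := hdec x hx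
    have h1 : l * d = d * l := by
      have := h0 d hd
      rw [show f l d = l * d * (d * l)⁻¹ by show l * d * l⁻¹ * d⁻¹ = _; group, mul_inv_eq_one] at this
      exact this
    rw [← mul_assoc, cA hl.1.1 a ha, mul_assoc, h1, ← mul_assoc]
  -- injectivity at a central involution of `D`
  have finj : ∀ l ∈ M, ∀ z ∈ D, orderOf z = 2 → (∀ d ∈ D, d * z = z * d) → f l z = 1 →
      ∀ d ∈ D, f l d = 1 := by
    intro l hl z hz hz2 hzc h0 d hd
    obtain ⟨k, i, hk, hki⟩ := exists_two_part l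
    have hlk : l ^ k ∈ M := pow_mem hl k
    obtain ⟨hRp, hRC⟩ := join _ hlk.1 i hki
    have hRz : P ⊔ zpowers (l ^ k) ≤ centralizer ({z} : Set G) := by
      refine sup_le (fun x hx => mem_centralizer_singleton_iff.2 ?_) (zpowers_le.2 ?_)
      · obtain ⟨a, ha, e, he, rfl⟩ := hdec x hx
        rw [mul_assoc, hzc e he, ← mul_assoc, ← cA (hSC (hDS hz)) a ha, mul_assoc]
      · rw [mem_centralizer_singleton_iff]
        have h1 := fpow l hl k z hz hk
        rw [h0] at h1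
        exact mul_inv_eq_iff_eq_mul.1 (mul_inv_eq_one.1 h1)
    have hlP : l ^ k ∈ P := by
      rw [← grow _ hRp hRC le_sup_left z hz hz2 hRz]
      exact mem_sup_right (mem_zpowers _)
    obtain ⟨a, ha, e, he, hae⟩ := hdec _ hlP
    rw [← fpow l hl k d hd hk]
    refine hDA _ ?_ (fA _ hlk d hd)
    show l ^ k * d * (l ^ k)⁻¹ * d⁻¹ ∈ D
    rw [← hae, show a * e * d * (a * e)⁻¹ * d⁻¹ = a * (e * d * e⁻¹) * a⁻¹ * d⁻¹ by group,
      ← cA (hSC (hDS (D.mul_mem (D.mul_mem he hd) (D.inv_mem he)))) a ha, mul_inv_cancel_right]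
    exact D.mul_mem (D.mul_mem (D.mul_mem he hd) (D.inv_mem he)) (D.inv_mem hd)
  have hyZ : ∀ d ∈ D, d * y = y * d := fun d hd =>
    mem_centralizer_singleton_iff.1 (hPy (mem_sup_right hd))
  have finjy : ∀ l ∈ M, f l y = 1 → ∀ d ∈ D, f l d = 1 := fun l hl => finj l hl y hyD hy.inv hyZ
  -- equivariance
  have hgL : ∀ l ∈ L, g * l * g⁻¹ ∈ L := fun l hl =>
    ⟨mem_centralizer_iff.2 fun a ha => by
      have h1 : g⁻¹ * a * g ∈ A := (mem_normalizer_iff.1 hgA _).2 (by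
        rw [show g * (g⁻¹ * a * g) * g⁻¹ = a by group]; exact ha)
      calc a * (g * l * g⁻¹) = g * ((g⁻¹ * a * g) * l) * g⁻¹ := by group
        _ = g * (l * (g⁻¹ * a * g)) * g⁻¹ := by rw [cA hl.1 _ h1]
        _ = _ := by group,
      NP.mul_mem (NP.mul_mem hgP hl.2) (NP.inv_mem hgP)⟩
  have hgDc : ∀ d ∈ D, g * d * g⁻¹ = d := fun d hd => by rw [hgD d hd, mul_inv_cancel_right]
  have hgDc' : ∀ d ∈ D, g⁻¹ * d * g = d := fun d hd => by rw [mul_assoc, ← hgD d hd, inv_mul_cancel_left]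
  have fconj : ∀ l : G, ∀ d ∈ D, f (g * l * g⁻¹) d = g * f l d * g⁻¹ := by
    intro l d hd
    show g * l * g⁻¹ * d * (g * l * g⁻¹)⁻¹ * d⁻¹ = g * (l * d * l⁻¹ * d⁻¹) * g⁻¹
    calc g * l * g⁻¹ * d * (g * l * g⁻¹)⁻¹ * d⁻¹
        = g * l * (g⁻¹ * d * g) * l⁻¹ * (g⁻¹ * d⁻¹ * g) * g⁻¹ := by group
      _ = g * l * d * l⁻¹ * (g⁻¹ * d⁻¹ * g) * g⁻¹ := by rw [hgDc' d hd]
      _ = g * l * d * l⁻¹ * d⁻¹ * g⁻¹ := by rw [hgDc' _ (D.inv_mem hd)]
      _ = _ := by group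
  have hgM : ∀ l ∈ M, g * l * g⁻¹ ∈ M := fun l hl => ⟨hgL l hl.1, fun d hd => by
    rw [show g * l * g⁻¹ * d * (g * l * g⁻¹)⁻¹ * d⁻¹ = f (g * l * g⁻¹) d from rfl, fconj l d hd]
    exact (mem_normalizer_iff.1 hgA _).1 (fA l hl d hd)⟩
  -- the values at `y`
  let V : Subgroup G :=
    { carrier := {v | ∃ l ∈ M, f l y = v}
      one_mem' := ⟨1, one_mem _, by simp [f]⟩
      mul_mem' := fun {a b} ⟨l, hl, ha⟩ ⟨l', hl', hb⟩ =>
        ⟨l * l', mul_mem hl hl', by rw [fmul l hl l' hl' y hyD, ha, hb]⟩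
      inv_mem' := fun {a} ⟨l, hl, ha⟩ => ⟨l, hl, by
        rw [ha]; exact (inv_eq_of_mul_eq_one_right (s.sq (ha ▸ fA l hl y hyD))).symm⟩ }
  have hVA : V ≤ A := fun v ⟨l, hl, e⟩ => e ▸ fA l hl y hyD
  have hVg : ∀ v ∈ V, g * v * g⁻¹ ∈ V := fun v ⟨l, hl, e⟩ => ⟨_, hgM l hl, by rw [fconj l y hyD, e]⟩
  have hVbt : V = ⊥ ∨ V = A := by
    rcases eq_or_ne V ⊥ with e | e
    · exact Or.inl e
    right
    obtain ⟨⟨v, hv⟩, hv1⟩ := (Subgroup.ne_bot_iff_exists_ne_one).1 e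
    have hv1' : v ≠ 1 := fun e => hv1 (Subtype.ext e)
    refine eq_of_le_of_card_ge hVA ?_
    have h2 : g * v * g⁻¹ ≠ v := fun e => hv1' (hfpf v (hVA hv) e)
    have hg1 : g * v * g⁻¹ ≠ 1 := fun e => hv1' (conj_eq_one_iff.1 e)
    have h3 : 2 < ({1, v, g * v * g⁻¹} : Set G).ncard := by
      rw [Set.ncard_insert_of_notMem (by simp [hv1'.symm, hg1.symm]), Set.ncard_pair h2.symm]
      norm_num
    have h4 : 2 < Nat.card ↥V := by
      refine lt_of_lt_of_le h3 ?_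
      rw [← SetLike.coe_sort_coe, Nat.card_coe_set_eq]
      exact Set.ncard_le_ncard (by
        simp only [Set.insert_subset_iff, Set.singleton_subset_iff, SetLike.mem_coe]
        exact ⟨one_mem _, hv, hVg v hv⟩) (Set.toFinite _)
    have h5 : Nat.card ↥V ∣ 2 ^ 2 := by
      rw [show (2 : ℕ) ^ 2 = Nat.card s.A from h.card.symm]; exact card_dvd_of_le hVA
    obtain ⟨j, hj, hj'⟩ := (Nat.dvd_prime_pow Nat.prime_two).1 h5
    rw [show Nat.card ↥A = 4 from h.card]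
    interval_cases j <;> omega
  -- `c ↦ [c, g]`
  have hLM : ∀ l ∈ L, l * g * l⁻¹ * g⁻¹ ∈ M := by
    intro l hl
    refine ⟨?_, fun d hd => ?_⟩
    · have h1 := mul_mem hl (hgL _ (inv_mem hl))
      rwa [show l * (g * l⁻¹ * g⁻¹) = l * g * l⁻¹ * g⁻¹ by group] at h1
    · -- `l⁻¹ d l = a d'`, fixed up to `A` by `g`
      have hP' : l⁻¹ * d * l ∈ P := (mem_normalizer_iff.1 hl.2 _).2 (by
        rw [show l * (l⁻¹ * d * l) * l⁻¹ = d by group]; exact mem_sup_right hd)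
      obtain ⟨a, ha, e, he, hae⟩ := hdec _ hP'
      have hga : g * a * g⁻¹ ∈ A := (mem_normalizer_iff.1 hgA a).1 ha
      have hd' : l * (a * e) * l⁻¹ = d := by rw [hae]; group
      have he' : l * g * l⁻¹ * g⁻¹ * d * (l * g * l⁻¹ * g⁻¹)⁻¹ * d⁻¹ = g * a * g⁻¹ * a⁻¹ :=
      calc l * g * l⁻¹ * g⁻¹ * d * (l * g * l⁻¹ * g⁻¹)⁻¹ * d⁻¹
          = l * g * l⁻¹ * (g⁻¹ * d * g) * l * g⁻¹ * l⁻¹ * d⁻¹ := by group
        _ = l * g * l⁻¹ * d * l * g⁻¹ * l⁻¹ * d⁻¹ := by rw [hgDc' d hd]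
        _ = l * (g * (l⁻¹ * d * l) * g⁻¹) * l⁻¹ * (l * (a * e) * l⁻¹)⁻¹ := by rw [hd']; group
        _ = l * (g * a * g⁻¹ * (g * e * g⁻¹)) * l⁻¹ * (l * (a * e) * l⁻¹)⁻¹ := by rw [← hae]; group
        _ = l * (g * a * g⁻¹ * a⁻¹) * l⁻¹ := by rw [hgDc e he]; group
        _ = g * a * g⁻¹ * a⁻¹ := by
          rw [cA hl.1 _ (mul_mem hga (inv_mem ha)), mul_inv_cancel_right]
      rw [he']
      exact mul_mem hga (inv_mem ha)
  have hfix : ∀ l ∈ L, ∃ m ∈ M, ∀ d ∈ D, f (m * l * g * (m * l)⁻¹ * g⁻¹) d = 1 := by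
    intro l hl
    set c := l * g * l⁻¹ * g⁻¹ with hc
    have hcM : c ∈ M := hLM l hl
    -- choose the value
    obtain ⟨m, hm, hmv⟩ : ∃ m ∈ M, f m y * (g * f m y * g⁻¹) = f c y := by
      let u : ↥V → ↥V := fun v => ⟨(v : G) * (g * v * g⁻¹), mul_mem v.2 (hVg _ v.2)⟩
      have hu : Function.Injective u := by
        intro v w e
        have e' : (v : G) * (g * v * g⁻¹) = w * (g * w * g⁻¹) := congrArg Subtype.val e
        have hgg : ∀ {x : G}, x ∈ A → g * x * g⁻¹ ∈ A := fun hx => (mem_normalizer_iff.1 hgA _).1 hx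
        have h1 : g * ((v : G) * w) * g⁻¹ = (v : G) * w := by
          have hv' := hVA v.2
          have hw' := hVA w.2
          calc g * ((v : G) * w) * g⁻¹
              = ((v : G) * v) * (g * v * g⁻¹ * (g * w * g⁻¹)) := by rw [s.sq hv', one_mul]; group
            _ = (v : G) * ((v : G) * (g * v * g⁻¹)) * (g * w * g⁻¹) := by group
            _ = (v : G) * ((w : G) * (g * w * g⁻¹)) * (g * w * g⁻¹) := by rw [e']
            _ = (v : G) * w * ((g * w * g⁻¹) * (g * w * g⁻¹)) := by group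
            _ = (v : G) * w := by rw [s.sq (hgg hw'), mul_one]
        have h2 := hfpf _ (mul_mem (hVA v.2) (hVA w.2)) h1
        exact Subtype.ext ((eq_inv_of_mul_eq_one_left h2).trans (inv_eq_of_mul_eq_one_right (s.sq (hVA w.2))))
      obtain ⟨⟨v, m, hm, rfl⟩, hv⟩ := Finite.surjective_of_injective hu ⟨f c y, c, hcM, rfl⟩
      exact ⟨m, hm, congrArg Subtype.val hv⟩
    refine ⟨m, hm, fun d hd => ?_⟩
    have e1 : m * l * g * (m * l)⁻¹ * g⁻¹ = m * c * (g * m⁻¹ * g⁻¹) := by rw [hc]; group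
    rw [e1]
    have hmem : m * c * (g * m⁻¹ * g⁻¹) ∈ M := mul_mem (mul_mem hm hcM) (hgM _ (inv_mem hm))
    refine finjy _ hmem ?_ d hd
    have hinv : f m⁻¹ y = f m y := by
      have := fmul m hm m⁻¹ (inv_mem hm) y hyD
      rw [mul_inv_cancel, show f 1 y = 1 by simp [f]] at this
      exact (eq_inv_of_mul_eq_one_right this.symm).trans (inv_eq_of_mul_eq_one_right (s.sq (fA m hm y hyD)))
    rw [fmul _ (mul_mem hm hcM) _ (hgM _ (inv_mem hm)) y hyD, fmul m hm c hcM y hyD, fconj _ y hyD, hinv,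
      ← hmv, ← mul_assoc (f m y), s.sq (fA m hm y hyD), one_mul]
    exact s.sq ((mem_normalizer_iff.1 hgA _).1 (fA m hm y hyD))
  -- an element commuting with `g` on `P` and of 2-power order lies in `P`
  have commP : ∀ u ∈ L, (∀ d ∈ D, f (u * g * u⁻¹ * g⁻¹) d = 1) → ∀ k i : ℕ, (u ^ k) ^ 2 ^ i = 1 →
      u ^ k ∈ P := by
    intro u hu hcu k i hki
    refine stable _ (pow_mem hu k) i hki fun d hd => ?_
    -- conjugation by `u` keeps the fixed points of `g`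
    have hkeep : ∀ w ∈ D, u * w * u⁻¹ ∈ D := by
      intro w hw
      have hwP : u * w * u⁻¹ ∈ P := (mem_normalizer_iff.1 hu.2 w).1 (mem_sup_right hw)
      refine hgfix _ hwP ?_
      have hc : u * g * u⁻¹ * g⁻¹ * (u * w * u⁻¹) = u * w * u⁻¹ * (u * g * u⁻¹ * g⁻¹) :=
        fker _ (hLM u hu) hcu _ hwP
      calc g * (u * w * u⁻¹) = (u * g * u⁻¹ * g⁻¹)⁻¹ * (u * (g * w) * u⁻¹) := by group
        _ = (u * g * u⁻¹ * g⁻¹)⁻¹ * (u * w * u⁻¹ * (u * g * u⁻¹ * g⁻¹) * g) := by rw [hgD w hw]; group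
        _ = (u * g * u⁻¹ * g⁻¹)⁻¹ * ((u * g * u⁻¹ * g⁻¹) * (u * w * u⁻¹) * g) := by rw [hc]
        _ = u * w * u⁻¹ * g := by group
    clear hki
    induction k with
    | zero => simpa using hd
    | succ k ih =>
      rw [pow_succ', show u * u ^ k * d * (u * u ^ k)⁻¹ = u * (u ^ k * d * (u ^ k)⁻¹) * u⁻¹ by group]
      exact hkeep _ ih
  -- `V = A`
  have hV : V = A := by
    refine hVbt.resolve_left fun hb => ?_
    have hall : ∀ x ∈ S, x ∈ NP → x ∈ P := by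
      intro x hx hxN
      obtain ⟨i, hi⟩ := s.S.isPGroup' ⟨x, hx⟩
      have hxL : x ∈ L := ⟨hSC hx, hxN⟩
      have h1 := commP x hxL (fun d hd => finjy _ (hLM x hxL) (by
        have : f (x * g * x⁻¹ * g⁻¹) y ∈ V := ⟨_, hLM x hxL, rfl⟩
        rw [hb, mem_bot] at this; exact this) d hd) 1 i (by rw [pow_one]; exact congrArg Subtype.val hi)
      rwa [pow_one] at h1
    haveI : Group.IsNilpotent ↥S := s.S.isPGroup'.isNilpotent
    have hPS' : P = S := by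
      by_contra hne
      have hlt := Group.normalizerCondition_of_isNilpotent (G := ↥S) (P.subgroupOf S) (lt_top_iff_ne_top.2 fun e =>
        hne (le_antisymm hPS (subgroupOf_eq_top.1 e)))
      obtain ⟨x, hx, hx'⟩ := SetLike.exists_of_lt hlt
      refine hx' (mem_subgroupOf.2 (hall _ x.2 (mem_normalizer_fintype fun w hw => ?_)))
      exact (mem_normalizer_iff.1 hx ⟨w, hPS hw⟩).1 hw
    have hSA := eq_of_complement s h.central (fun g hg h2 => h.odd hg h2) hDS hAD hPS'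
    exact hyA (hSA.le (hDS hyD))
  have hsurj : ∀ v ∈ A, ∃ l ∈ M, f l y = v := fun v hv => (hV.symm ▸ hv : v ∈ V)
  -- `D` is elementary
  obtain ⟨a₀, ha₀, ha₀1⟩ : ∃ a₀ ∈ A, a₀ ≠ 1 := by
    obtain ⟨⟨v, hv⟩, hv1⟩ := s.A.ne_bot_iff_exists_ne_one.1 s.ne_bot
    exact ⟨v, hv, fun e => hv1 (Subtype.ext e)⟩
  obtain ⟨l₀, hl₀, hl₀y⟩ := hsurj a₀ ha₀
  have hDsq : ∀ d ∈ D, d * d = 1 := by
    let Φ : Subgroup G := Subgroup.closure ((fun d => d * d) '' (D : Set G))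
    have hΦD : Φ ≤ D := (Subgroup.closure_le _).2 (by rintro _ ⟨d, hd, rfl⟩; exact D.mul_mem hd hd)
    by_contra hno
    push Not at hno
    obtain ⟨d₀, hd₀, hd₀1⟩ := hno
    have hne : Φ ≠ ⊥ := fun e => hd₀1 (by
      have : d₀ * d₀ ∈ Φ := Subgroup.subset_closure ⟨d₀, hd₀, rfl⟩
      rwa [e, mem_bot] at this)
    obtain ⟨z, hz, hz2, hzc⟩ := exists_central_involution (s.S.isPGroup'.to_le hDS) hΦD hne fun r hr x hx => by
      induction hx using Subgroup.closure_induction with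
      | mem x hx =>
        obtain ⟨d, hd, rfl⟩ := hx
        refine Subgroup.subset_closure ⟨r * d * r⁻¹, D.mul_mem (D.mul_mem hr hd) (D.inv_mem hr), ?_⟩
        show r * d * r⁻¹ * (r * d * r⁻¹) = r * (d * d) * r⁻¹
        group
      | one => simp
      | mul u v _ _ hu hv =>
        rw [show r * (u * v) * r⁻¹ = r * u * r⁻¹ * (r * v * r⁻¹) by group]; exact mul_mem hu hv
      | inv u _ hu => rw [← conj_inv]; exact inv_mem hu
    have hfz : f l₀ z = 1 := by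
      have : ∀ x ∈ Φ, f l₀ x = 1 := by
        intro x hx
        induction hx using Subgroup.closure_induction with
        | mem x hx =>
          obtain ⟨d, hd, rfl⟩ := hx
          rw [fd l₀ hl₀ d hd d hd, s.sq (fA l₀ hl₀ d hd)]
        | one => simp [f]
        | mul u v hu hv ihu ihv => rw [fd l₀ hl₀ u (hΦD hu) v (hΦD hv), ihu, ihv, one_mul]
        | inv u hu ihu =>
          have h1 := fd l₀ hl₀ u⁻¹ (D.inv_mem (hΦD hu)) u (hΦD hu)
          rw [inv_mul_cancel, show f l₀ 1 = 1 by simp [f], ihu, mul_one] at h1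
          exact h1.symm
      exact this z hz
    exact ha₀1 (hl₀y ▸ finj l₀ hl₀ z (hΦD hz) hz2 (fun d hd => (hzc d hd)) hfz y hyD)
  have hDcomm : ∀ d ∈ D, ∀ e ∈ D, d * e = e * d := fun d hd e he => by
    have h1 := hDsq _ (D.mul_mem hd he)
    calc d * e = (d * e)⁻¹ := (inv_eq_of_mul_eq_one_right h1).symm
      _ = e⁻¹ * d⁻¹ := mul_inv_rev _ _
      _ = e * d := by
        rw [inv_eq_of_mul_eq_one_right (hDsq e he), inv_eq_of_mul_eq_one_right (hDsq d hd)]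
  have hPcomm : ∀ x ∈ P, ∀ w ∈ P, x * w = w * x := by
    intro x hx w hw
    obtain ⟨a, ha, d, hd, rfl⟩ := hdec x hx
    obtain ⟨b, hb, e, he, rfl⟩ := hdec w hw
    have c1 : Commute a b := s.comm ha hb
    have c2 : Commute a e := (cA (hSC (hDS he)) a ha).symm
    have c3 : Commute d b := cA (hSC (hDS hd)) b hb
    exact ((c1.mul_right c2).mul_left (c3.mul_right (hDcomm d hd e he))).eq
  have hPM : P ≤ M := fun x hx => ⟨hPL hx, fun d hd => by
    rw [hPcomm x hx d (mem_sup_right hd), mul_inv_cancel_right, mul_inv_cancel]; exact one_mem _⟩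
  have fzero : ∀ l ∈ M, ∀ d ∈ D, d ≠ 1 → f l d = 1 → ∀ e ∈ D, f l e = 1 := fun l hl d hd hd1 =>
    finj l hl d hd (orderOf_eq_prime (by rw [pow_two, hDsq d hd]) hd1) (fun e he => hDcomm e he d hd)
  -- `|D| ≤ 4`
  have hcardD : Nat.card D = 2 ∨ Nat.card D = 4 := by
    have hinj : Function.Injective (fun d : ↥D => (⟨f l₀ d, fA l₀ hl₀ d d.2⟩ : ↥A)) := by
      intro d e hde
      by_contra hne
      have hde' : f l₀ d = f l₀ e := congrArg Subtype.val hde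
      have hne' : (d : G) * e ≠ 1 := fun he' => hne (Subtype.ext
        ((eq_inv_of_mul_eq_one_left he').trans (inv_eq_of_mul_eq_one_right (hDsq e e.2))))
      refine ha₀1 (hl₀y ▸ fzero l₀ hl₀ _ (D.mul_mem d.2 e.2) hne' ?_ y hyD)
      rw [fd l₀ hl₀ d d.2 e e.2, hde', s.sq (fA l₀ hl₀ e e.2)]
    have h1 := Nat.card_le_card_of_injective _ hinj
    rw [show Nat.card ↥A = 4 from h.card] at h1
    obtain ⟨j, hj⟩ := IsPGroup.iff_card.1 (s.S.isPGroup'.to_le hDS)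
    have hj1 : 1 < Nat.card D := (Subgroup.one_lt_card_iff_ne_bot D).2 fun e => hyA (by
      rw [e, mem_bot] at hyD; rw [hyD]; exact one_mem _)
    rw [hj] at h1 hj1 ⊢
    have : j ≤ 2 := by
      by_contra hc
      have := Nat.pow_le_pow_right (show 0 < 2 by norm_num) (Nat.lt_of_not_le hc)
      omega
    interval_cases j
    · omega
    · exact Or.inl rfl
    · exact Or.inr rfl
  -- normality of `M` in `L`
  have hMnorm : ∀ u ∈ L, ∀ m ∈ M, u * m * u⁻¹ ∈ M := by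
    intro u hu m hm
    refine ⟨mul_mem (mul_mem hu hm.1) (inv_mem hu), fun d hd => ?_⟩
    have hP' : u⁻¹ * d * u ∈ P := (mem_normalizer_iff.1 hu.2 _).2 (by
      rw [show u * (u⁻¹ * d * u) * u⁻¹ = d by group]; exact mem_sup_right hd)
    obtain ⟨a, ha, e, he, hae⟩ := hdec _ hP'
    have h1 : m * (a * e) * m⁻¹ * (a * e)⁻¹ = f m e := by
      show _ = m * e * m⁻¹ * e⁻¹
      rw [show m * (a * e) * m⁻¹ * (a * e)⁻¹ = m * a * m⁻¹ * (m * e * m⁻¹ * e⁻¹) * a⁻¹ by group,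
        cA hm.1.1 a ha, mul_inv_cancel_right, s.comm ha (hm.2 e he), mul_inv_cancel_right]
    have he' : u * m * u⁻¹ * d * (u * m * u⁻¹)⁻¹ * d⁻¹ = f m e :=
    calc u * m * u⁻¹ * d * (u * m * u⁻¹)⁻¹ * d⁻¹
        = u * (m * (u⁻¹ * d * u) * m⁻¹ * (u⁻¹ * d * u)⁻¹) * u⁻¹ := by group
      _ = u * f m e * u⁻¹ := by rw [← hae, h1]
      _ = f m e := by rw [cA hu.1 _ (fA m hm e he), mul_inv_cancel_right]
    rw [he']
    exact fA m hm e he
  -- `Q = S ∩ N(P)` lies in `M`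
  let Q : Subgroup G := S ⊓ NP
  have hQp : IsPGroup 2 ↥Q := s.S.isPGroup'.to_le inf_le_left
  have hQL : Q ≤ L := le_inf (inf_le_left.trans hSC) inf_le_right
  have hPQ : P ≤ Q := le_inf hPS le_normalizer
  have hLpart : ∀ x ∈ L, ∀ i : ℕ, x ^ 2 ^ i = 1 → x ∈ M := by
    intro x hx i hi
    obtain ⟨m, hm, hmf⟩ := hfix x hx
    obtain ⟨k, j, hk, hkj⟩ := exists_two_part (m * x)
    have h1 : (m * x) ^ k ∈ P := commP (m * x) (mul_mem hm.1 hx) hmf k j hkj
    have h2 : ∀ n : ℕ, ∃ m' ∈ M, (m * x) ^ n = m' * x ^ n := by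
      intro n
      induction n with
      | zero => exact ⟨1, one_mem _, by simp⟩
      | succ n ih =>
        obtain ⟨m', hm', e⟩ := ih
        refine ⟨m' * (x ^ n * m * (x ^ n)⁻¹), mul_mem hm' (hMnorm _ (pow_mem hx n) m hm), ?_⟩
        rw [pow_succ, pow_succ, e]
        group
    obtain ⟨m', hm', e⟩ := h2 k
    refine mem_of_pow_odd hi hk ?_
    rw [show x ^ k = m'⁻¹ * (m * x) ^ k by rw [e, inv_mul_cancel_left]]
    exact mul_mem (inv_mem hm') (hPM h1)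
  have hQM : Q ≤ M := fun x hx => by
    obtain ⟨i, hi⟩ := hQp ⟨x, hx⟩
    exact hLpart x (hQL hx) i (congrArg Subtype.val hi)
  have hQmax : ∀ R : Subgroup G, IsPGroup 2 R → R ≤ centralizer (A : Set G) → R ≤ NP → Q ≤ R → R = Q :=
    fun R hR hRC hRN hle => (eq_of_le_of_card_ge hle (hmax2 R hR hRC hRN)).symm
  let Q₀ : Sylow 2 ↥M :=
    { toSubgroup := Q.subgroupOf M
      isPGroup' := hQp.comap_of_injective _ (subtype_injective _)
      is_maximal' := fun {R} hR hle => by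
        have h1 : R.map M.subtype = Q := hQmax _ (hR.map _) ((map_subtype_le _).trans (hML.trans inf_le_left))
          ((map_subtype_le _).trans (hML.trans inf_le_right)) fun x hx => ⟨⟨x, hQM hx⟩, hle hx, rfl⟩
        rw [← h1]
        exact (comap_map_eq_self_of_injective M.subtype_injective R).symm }
  have sylconj : ∀ R : Subgroup G, IsPGroup 2 R → R ≤ M →
      ∃ m ∈ M, ∀ x ∈ R, m * x * m⁻¹ ∈ Q := by
    intro R hR hRM
    obtain ⟨T', hT'⟩ := (hR.comap_of_injective M.subtype (subtype_injective _)).exists_le_sylow (p := 2)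
    obtain ⟨m, hm⟩ := MulAction.exists_smul_eq ↥M T' Q₀
    refine ⟨m, m.2, fun x hx => ?_⟩
    have h1 : m * ⟨x, hRM hx⟩ * m⁻¹ ∈ (Q₀ : Subgroup ↥M) := by
      rw [← hm, Sylow.coe_subgroup_smul, ← Grp.map_conj_eq_smul]
      exact ⟨⟨x, hRM hx⟩, hT' (show (⟨x, hRM hx⟩ : ↥M) ∈ R.comap M.subtype from hx), rfl⟩
    exact h1
  -- values on `Q`
  have fQ : ∀ v ∈ A, ∃ q ∈ Q, f q y = v := by
    intro v hv
    obtain ⟨l, hl, hlv⟩ := hsurj v hv
    obtain ⟨k, i, hk, hki⟩ := exists_two_part l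
    obtain ⟨j, -, hj⟩ := (Nat.dvd_prime_pow Nat.prime_two).1 (orderOf_dvd_of_pow_eq_one hki)
    obtain ⟨m, hm, hmQ⟩ := sylconj (zpowers (l ^ k))
      (IsPGroup.of_card (n := j) (by rw [Nat.card_zpowers, hj])) (zpowers_le.2 (pow_mem hl k))
    refine ⟨_, hmQ _ (mem_zpowers _), ?_⟩
    rw [fmul _ (mul_mem hm (pow_mem hl k)) _ (inv_mem hm) y hyD, fmul m hm _ (pow_mem hl k) y hyD,
      fpow l hl k y hyD hk, hlv, s.comm (fA m hm y hyD) hv, mul_assoc, ← fmul m hm _ (inv_mem hm) y hyD,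
      mul_inv_cancel, show f 1 y = 1 by simp [f], mul_one]
  have hQker : ∀ q ∈ Q, f q y = 1 → q ∈ P := fun q hq h1 => by
    rw [hP]
    refine ⟨hq.1, mem_centralizer_singleton_iff.2 ?_⟩
    exact mul_inv_eq_iff_eq_mul.1 (mul_inv_eq_one.1 h1)
  have hPker : ∀ x ∈ P, f x y = 1 := fun x hx => by
    show x * y * x⁻¹ * y⁻¹ = 1
    rw [hPcomm x hx y (mem_sup_right hyD), mul_inv_cancel_right, mul_inv_cancel]
  have hQcard : Nat.card ↥Q = 4 * Nat.card ↥P := by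
    let φ : ↥Q →* ↥A := MonoidHom.mk' (fun q => ⟨f q y, fA q (hQM q.2) y hyD⟩)
      fun u v => Subtype.ext (fmul u (hQM u.2) v (hQM v.2) y hyD)
    have hker : φ.ker = P.subgroupOf Q := by
      ext q
      rw [MonoidHom.mem_ker, mem_subgroupOf]
      exact ⟨fun e => hQker q q.2 (congrArg Subtype.val e), fun e => Subtype.ext (hPker _ e)⟩
    have hrange : φ.range = ⊤ := eq_top_iff.2 fun v _ => by
      obtain ⟨q, hq, e⟩ := fQ v v.2
      exact ⟨⟨q, hq⟩, Subtype.ext e⟩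
    have h1 := φ.ker.card_mul_index
    rw [Subgroup.index_ker, hrange, Subgroup.card_top, show Nat.card ↥A = 4 from h.card, hker,
      Nat.card_congr (subgroupOfEquivOfLe hPQ).toEquiv] at h1
    omega
  -- the element `hh` normalising `Q`
  obtain ⟨hh, hhQ, hhP, hh3⟩ : ∃ hh : G, hh ∈ normalizer (Q : Set G) ∧
      (∀ x ∈ P, hh * x * hh⁻¹ = g * x * g⁻¹) ∧ ∃ k : ℕ, orderOf hh = 3 ^ k := by
    obtain ⟨m, hm, hmQ⟩ := sylconj (Q.map (MulAut.conj g).toMonoidHom) (hQp.map _) (by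
      rintro _ ⟨x, hx, rfl⟩; exact hgM x (hQM hx))
    have hn1 : ∀ x ∈ Q, m * g * x * (m * g)⁻¹ ∈ Q := fun x hx => by
      rw [show m * g * x * (m * g)⁻¹ = m * (g * x * g⁻¹) * m⁻¹ by group]
      exact hmQ _ ⟨x, hx, rfl⟩
    obtain ⟨q, hq, hqy⟩ := fQ (f m y) (fA m hm y hyD)
    let n := q * m * g
    have hnQ : n ∈ normalizer (Q : Set G) := by
      show q * m * g ∈ _
      rw [mul_assoc]
      exact mul_mem (le_normalizer hq) (mem_normalizer_fintype hn1)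
    have hnP : ∀ x ∈ P, n * x * n⁻¹ = g * x * g⁻¹ := by
      intro x hx
      have hqm : q * m ∈ M := mul_mem (hQM hq) hm
      have h1 : ∀ d ∈ D, f (q * m) d = 1 := finjy _ hqm (by
        rw [fmul q (hQM hq) m hm y hyD, hqy, s.sq (fA m hm y hyD)])
      have hgx : g * x * g⁻¹ ∈ P := (mem_normalizer_iff.1 hgP x).1 hx
      show q * m * g * x * (q * m * g)⁻¹ = _
      rw [show q * m * g * x * (q * m * g)⁻¹ = q * m * (g * x * g⁻¹) * (q * m)⁻¹ by group,
        fker _ hqm h1 _ hgx, mul_inv_cancel_right]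
    obtain ⟨k, hk⟩ := hg3
    obtain ⟨i, r, hr, hir⟩ := Nat.exists_eq_pow_mul_and_not_dvd (orderOf_pos n).ne' 3 (by norm_num)
    have hcop : Nat.Coprime (3 ^ (i + k)) r := Nat.Coprime.pow_left _ ((Nat.Prime.coprime_iff_not_dvd Nat.prime_three).2 hr)
    obtain ⟨e, he1, he0⟩ := Nat.chineseRemainder hcop 1 0
    refine ⟨n ^ e, pow_mem hnQ e, fun x hx => ?_, ?_⟩
    · have hpow : ∀ j : ℕ, n ^ j * x * (n ^ j)⁻¹ = g ^ j * x * (g ^ j)⁻¹ ∧ g ^ j * x * (g ^ j)⁻¹ ∈ P := by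
        intro j
        induction j with
        | zero => exact ⟨by simp, by simpa using hx⟩
        | succ j ih =>
          refine ⟨?_, ?_⟩
          · rw [pow_succ', pow_succ', show n * n ^ j * x * (n * n ^ j)⁻¹ = n * (n ^ j * x * (n ^ j)⁻¹) * n⁻¹ by group,
              ih.1, hnP _ ih.2]
            group
          · rw [pow_succ', show g * g ^ j * x * (g * g ^ j)⁻¹ = g * (g ^ j * x * (g ^ j)⁻¹) * g⁻¹ by group]
            exact (mem_normalizer_iff.1 hgP _).1 ih.2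
      rw [(hpow e).1]
      have : g ^ e = g := by
        conv_rhs => rw [← pow_one g]
        exact pow_eq_pow_iff_modEq.2 (Nat.ModEq.of_dvd (hk ▸ pow_dvd_pow 3 (Nat.le_add_left k i)) he1)
      rw [this]
    · have hdvd : orderOf (n ^ e) ∣ 3 ^ i := by
        rw [orderOf_dvd_iff_pow_eq_one, ← pow_mul]
        obtain ⟨c, hc⟩ := Nat.modEq_zero_iff_dvd.1 he0
        rw [hc, show r * c * 3 ^ i = orderOf n * c by rw [hir]; ring, pow_mul, pow_orderOf_eq_one, one_pow]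
      exact (Nat.dvd_prime_pow Nat.prime_three).1 hdvd |>.imp fun j hj => hj.2
  have hhA : ∀ a ∈ A, hh * a * hh⁻¹ = g * a * g⁻¹ := fun a ha => hhP a (mem_sup_left ha)
  have hhD : ∀ d ∈ D, hh * d * hh⁻¹ = d := fun d hd => (hhP d (mem_sup_right hd)).trans (hgDc d hd)
  have hhD' : ∀ d ∈ D, hh⁻¹ * d * hh = d := fun d hd => by
    conv_lhs => rw [← hhD d hd]
    group
  have hhN : hh ∈ normalizer (A : Set G) := mem_normalizer_fintype fun a ha => by
    rw [hhA a ha]; exact (mem_normalizer_iff.1 hgA a).1 ha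
  have hhfpf : ∀ a ∈ A, hh * a * hh⁻¹ = a → a = 1 := fun a ha e => hfpf a ha ((hhA a ha).symm.trans e)
  have fhh : ∀ l : G, ∀ d ∈ D, f (hh * l * hh⁻¹) d = hh * f l d * hh⁻¹ := by
    intro l d hd
    show hh * l * hh⁻¹ * d * (hh * l * hh⁻¹)⁻¹ * d⁻¹ = hh * (l * d * l⁻¹ * d⁻¹) * hh⁻¹
    calc hh * l * hh⁻¹ * d * (hh * l * hh⁻¹)⁻¹ * d⁻¹
        = hh * l * (hh⁻¹ * d * hh) * l⁻¹ * (hh⁻¹ * d⁻¹ * hh) * hh⁻¹ := by group
      _ = hh * l * d * l⁻¹ * (hh⁻¹ * d⁻¹ * hh) * hh⁻¹ := by rw [hhD' d hd]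
      _ = hh * l * d * l⁻¹ * d⁻¹ * hh⁻¹ := by rw [hhD' _ (D.inv_mem hd)]
      _ = _ := by group
  -- squares of `Q` lie in `A`
  have hsqQ : ∀ q ∈ Q, q * q ∈ A := by
    intro q hq
    have hq2 : q * q ∈ P := hQker _ (mul_mem hq hq) (by
      rw [fmul q (hQM hq) q (hQM hq) y hyD, s.sq (fA q (hQM hq) y hyD)])
    obtain ⟨a, ha, d, hd, hae⟩ := hdec _ hq2
    by_cases hd1 : d = 1
    · rw [hd1, mul_one] at hae
      exact hae ▸ ha
    exfalso
    have hqd : q * d = d * q := by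
      have hde : d = a⁻¹ * (q * q) := by rw [← hae, inv_mul_cancel_left]
      have hqa : q * a⁻¹ = a⁻¹ * q := cA (hSC hq.1) _ (inv_mem ha)
      rw [hde]
      calc q * (a⁻¹ * (q * q)) = q * a⁻¹ * (q * q) := by group
        _ = a⁻¹ * q * (q * q) := by rw [hqa]
        _ = a⁻¹ * (q * q) * q := by group
    have hq0 : f q y = 1 := fzero q (hQM hq) d hd hd1 (by
      show q * d * q⁻¹ * d⁻¹ = 1
      rw [hqd, mul_inv_cancel_right, mul_inv_cancel]) y hyD
    have hqP := hQker q hq hq0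
    obtain ⟨b, hb, e, he, rfl⟩ := hdec q hqP
    have h1 : b * e * (b * e) = 1 := by
      calc b * e * (b * e) = b * (e * b) * e := by group
        _ = b * (b * e) * e := by rw [cA (hSC (hDS he)) b hb]
        _ = (b * b) * (e * e) := by group
        _ = 1 := by rw [s.sq hb, hDsq e he, one_mul]
    rw [h1] at hae
    exact hd1 (hDA d hd (by rw [eq_inv_of_mul_eq_one_right hae]; exact inv_mem ha))
  have hQA : ∀ q ∈ Q, ∀ q' ∈ Q, q * q' * q⁻¹ * q'⁻¹ ∈ A := by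
    intro q hq q' hq'
    have hinv : q⁻¹ * q⁻¹ ∈ A := hsqQ _ (inv_mem hq)
    have hinv' : q'⁻¹ * q'⁻¹ ∈ A := hsqQ _ (inv_mem hq')
    have h1 : q * q' * q⁻¹ * q'⁻¹ = q * q' * (q * q') * (q'⁻¹ * (q⁻¹ * q⁻¹) * q') * (q'⁻¹ * q'⁻¹) := by group
    rw [h1, cA (inv_mem (hSC hq'.1)) _ hinv, inv_mul_cancel_right]
    exact mul_mem (mul_mem (hsqQ _ (mul_mem hq hq')) hinv) hinv'
  -- `T`
  have hhQ' : ∀ q ∈ Q, hh * q * hh⁻¹ ∈ Q := fun q hq => (mem_normalizer_iff.1 hhQ q).1 hq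
  have hAQ : A ≤ Q := le_sup_left.trans hPQ
  let c : G → G := fun q => hh * q * hh⁻¹ * q⁻¹
  have hcQ : ∀ q ∈ Q, c q ∈ Q := fun q hq => mul_mem (hhQ' q hq) (inv_mem hq)
  have hcmul : ∀ r ∈ Q, ∀ r' ∈ Q, (c (r * r'))⁻¹ * (c r * c r') ∈ A := by
    intro r hr r' hr'
    have := hQA r hr (c r') (hcQ r' hr')
    have h1 : c (r * r') = c r * (r * c r' * r⁻¹ * (c r')⁻¹) * c r' := by
      simp only [c]
      group
    rw [h1, show (c r * (r * c r' * r⁻¹ * (c r')⁻¹) * c r')⁻¹ * (c r * c r') =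
      (c r')⁻¹ * (r * c r' * r⁻¹ * (c r')⁻¹)⁻¹ * c r' by group,
      cA (inv_mem (hSC (hcQ r' hr').1)) _ (inv_mem this), inv_mul_cancel_right]
    exact inv_mem this
  let T : Subgroup G :=
    { carrier := {q | q ∈ Q ∧ ∃ r ∈ Q, q⁻¹ * c r ∈ A}
      one_mem' := ⟨one_mem _, 1, one_mem _, by simp [c]⟩
      mul_mem' := by
        rintro u v ⟨hu, r, hr, hur⟩ ⟨hv, r', hr', hvr⟩
        refine ⟨mul_mem hu hv, r * r', mul_mem hr hr', ?_⟩
        have h1 : (u * v)⁻¹ * (c r * c r') = (v⁻¹ * (u⁻¹ * c r) * v) * (v⁻¹ * c r') := by group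
        have h2 : (u * v)⁻¹ * c (r * r') = (u * v)⁻¹ * (c r * c r') * ((c (r * r'))⁻¹ * (c r * c r'))⁻¹ := by
          group
        rw [h2, h1, cA (inv_mem (hSC hv.1)) _ hur, inv_mul_cancel_right]
        exact mul_mem (mul_mem hur hvr) (inv_mem (hcmul r hr r' hr'))
      inv_mem' := by
        rintro u ⟨hu, r, hr, hur⟩
        refine ⟨inv_mem hu, r, hr, ?_⟩
        rw [inv_inv, show u * c r = u * u * (u⁻¹ * c r) by group]
        exact mul_mem (hsqQ u hu) hur }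
  have hAT : A ≤ T := fun a ha => ⟨hAQ ha, 1, one_mem _, by simpa [c] using inv_mem ha⟩
  have fA0 : ∀ a ∈ A, f a y = 1 := fun a ha => hPker a (mem_sup_left ha)
  have finv : ∀ q ∈ Q, f q⁻¹ y = f q y := fun q hq => by
    have := fmul q (hQM hq) q⁻¹ (inv_mem (hQM hq)) y hyD
    rw [mul_inv_cancel, show f 1 y = 1 by simp [f]] at this
    exact (eq_inv_of_mul_eq_one_right this.symm).trans (inv_eq_of_mul_eq_one_right (s.sq (fA q (hQM hq) y hyD)))
  have fc : ∀ r ∈ Q, f (c r) y = hh * f r y * hh⁻¹ * f r y := fun r hr => by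
    show f (hh * r * hh⁻¹ * r⁻¹) y = _
    rw [fmul _ (hQM (hhQ' r hr)) _ (inv_mem (hQM hr)) y hyD, fhh r y hyD, finv r hr]
  have hfix0 : ∀ r ∈ Q, f (c r) y = 1 → r ∈ P := fun r hr e => by
    refine hQker r hr (hhfpf _ (fA r (hQM hr) y hyD) ?_)
    rw [fc r hr] at e
    exact (eq_inv_of_mul_eq_one_left e).trans (inv_eq_of_mul_eq_one_right (s.sq (fA r (hQM hr) y hyD)))
  have hcP : ∀ x ∈ P, c x ∈ A := fun x hx => by
    obtain ⟨a, ha, d, hd, rfl⟩ := hdec x hx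
    show hh * (a * d) * hh⁻¹ * (a * d)⁻¹ ∈ A
    rw [show hh * (a * d) * hh⁻¹ * (a * d)⁻¹ = hh * a * hh⁻¹ * (hh * d * hh⁻¹ * d⁻¹) * a⁻¹ by group,
      hhD d hd, mul_inv_cancel, mul_one]
    exact mul_mem ((mem_normalizer_iff.1 hhN a).1 ha) (inv_mem ha)
  have hTinf : T ⊓ P = A := by
    refine le_antisymm ?_ (le_inf hAT le_sup_left)
    rintro x ⟨⟨hxQ, r, hr, hxr⟩, hxP⟩
    have hrP : r ∈ P := by
      refine hfix0 r hr ?_
      rw [show c r = x * (x⁻¹ * c r) by group, fmul x (hQM hxQ) _ (hPM (mem_sup_left hxr)) y hyD,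
        hPker x hxP, fA0 _ hxr, one_mul]
    rw [show x = c r * (x⁻¹ * c r)⁻¹ by group]
    exact mul_mem (hcP r hrP) (inv_mem hxr)
  have hTQ : T ≤ Q := fun x hx => hx.1
  have hTsup : T ⊔ P = Q := by
    refine le_antisymm (sup_le hTQ hPQ) fun q hq => ?_
    let u : ↥A → ↥A := fun v => ⟨hh * v * hh⁻¹ * v, mul_mem ((mem_normalizer_iff.1 hhN _).1 v.2) v.2⟩
    have hu : Function.Injective u := by
      intro v w e
      have e' : hh * (v : G) * hh⁻¹ * v = hh * w * hh⁻¹ * w := congrArg Subtype.val e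
      have hgg : hh * (w : G) * hh⁻¹ ∈ A := (mem_normalizer_iff.1 hhN _).1 w.2
      have h1 : hh * ((v : G) * w) * hh⁻¹ = (v : G) * w := by
        calc hh * ((v : G) * w) * hh⁻¹ = hh * v * hh⁻¹ * ((v : G) * v) * (hh * w * hh⁻¹) := by
              rw [s.sq v.2, mul_one]; group
          _ = hh * v * hh⁻¹ * v * ((v : G) * (hh * w * hh⁻¹)) := by group
          _ = hh * w * hh⁻¹ * w * ((hh * w * hh⁻¹) * v) := by rw [e', s.comm v.2 hgg]
          _ = hh * w * hh⁻¹ * ((w : G) * (hh * w * hh⁻¹)) * v := by group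
          _ = hh * w * hh⁻¹ * ((hh * w * hh⁻¹) * w) * v := by rw [s.comm w.2 hgg]
          _ = (w : G) * v := by rw [← mul_assoc (hh * (w : G) * hh⁻¹), s.sq hgg, one_mul]
          _ = _ := s.comm w.2 v.2
      have h2 := hhfpf _ (mul_mem v.2 w.2) h1
      exact Subtype.ext ((eq_inv_of_mul_eq_one_left h2).trans (inv_eq_of_mul_eq_one_right (s.sq w.2)))
    obtain ⟨⟨v, hv⟩, hvq⟩ := Finite.surjective_of_injective hu ⟨f q y, fA q (hQM hq) y hyD⟩
    obtain ⟨r, hr, rfl⟩ := fQ v hv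
    have hvq' : hh * f r y * hh⁻¹ * f r y = f q y := congrArg Subtype.val hvq
    have hmem : (c r)⁻¹ * q ∈ P := hQker _ (mul_mem (inv_mem (hcQ r hr)) hq) (by
      rw [fmul _ (inv_mem (hQM (hcQ r hr))) q (hQM hq) y hyD, finv _ (hcQ r hr), fc r hr, hvq',
        s.sq (fA q (hQM hq) y hyD)])
    rw [show q = c r * ((c r)⁻¹ * q) by group]
    exact mul_mem (mem_sup_left ⟨hcQ r hr, r, hr, by rw [inv_mul_cancel]; exact one_mem _⟩) (mem_sup_right hmem)
  have hPnorm : Q ≤ normalizer (P : Set G) := inf_le_right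
  have hTcard : Nat.card ↥T = 16 := by
    have h1 := Grp.card_sup_mul_card_inf (H := T) (N := P) (hTQ.trans hPnorm)
    rw [hTsup, hTinf, hQcard, show Nat.card ↥A = 4 from h.card] at h1
    have hpos : 0 < Nat.card ↥P := Nat.card_pos
    nlinarith
  have hT3 : ∀ t ∈ T, hh * t * hh⁻¹ ∈ T := by
    rintro t ⟨ht, r, hr, htr⟩
    refine ⟨hhQ' t ht, hh * r * hh⁻¹, hhQ' r hr, ?_⟩
    rw [show (hh * t * hh⁻¹)⁻¹ * c (hh * r * hh⁻¹) = hh * (t⁻¹ * c r) * hh⁻¹ by
      show _ * (hh * (hh * r * hh⁻¹) * hh⁻¹ * (hh * r * hh⁻¹)⁻¹) = hh * (t⁻¹ * (hh * r * hh⁻¹ * r⁻¹)) * hh⁻¹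
      group]
    exact (mem_normalizer_iff.1 hhN _).1 htr
  have htfpf : ∀ t ∈ T, hh * t * hh⁻¹ * t⁻¹ ∈ A → t ∈ A := by
    intro t ht htA
    rw [← hTinf]
    exact ⟨ht, hfix0 t ht.1 (fA0 _ htA)⟩
  have hTA : ∀ t ∈ T, f t y = 1 → t ∈ A := fun t ht e => hTinf ▸ ⟨ht, hQker t ht.1 e⟩
  have hTcomm : ∀ t ∈ T, ∀ t' ∈ T, t * t' = t' * t := by
    obtain ⟨q, hq, hqy⟩ := fQ a₀ ha₀
    obtain ⟨t, ht, x, hx, htx⟩ : ∃ t ∈ T, ∃ x ∈ P, t * x = q := by
      have hq' : q ∈ ((T ⊔ P : Subgroup G) : Set G) := hTsup.symm ▸ hq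
      rw [coe_mul_of_left_le_normalizer_right _ _ (hTQ.trans hPnorm)] at hq'
      exact hq'
    set v := f t y with hv
    have hv1 : v ≠ 1 := fun e => ha₀1 (by
      rw [← hqy, ← htx, fmul t (hQM ht.1) x (hPM hx) y hyD, ← hv, e, hPker x hx, one_mul])
    have hvA : v ∈ A := fA t (hQM ht.1) y hyD
    set t' := hh * t * hh⁻¹ with ht'
    have ht'T : t' ∈ T := hT3 t ht
    have hv' : f t' y = hh * v * hh⁻¹ := fhh t y hyD
    have hv'A : hh * v * hh⁻¹ ∈ A := (mem_normalizer_iff.1 hhN v).1 hvA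
    have hv'1 : hh * v * hh⁻¹ ≠ 1 := fun e => hv1 (conj_eq_one_iff.1 e)
    have hvv : hh * v * hh⁻¹ ≠ v := fun e => hv1 (hhfpf v hvA e)
    have hvv1 : v * (hh * v * hh⁻¹) ≠ 1 := fun e => hvv ((eq_inv_of_mul_eq_one_right e).trans
      (inv_eq_of_mul_eq_one_right (s.sq hvA)))
    have hall : ∀ w ∈ A, w = 1 ∨ w = v ∨ w = hh * v * hh⁻¹ ∨ w = v * (hh * v * hh⁻¹) := by
      intro w hw
      letI : Fintype ↥A := Fintype.ofFinite _
      have huniv : ({1, ⟨v, hvA⟩, ⟨_, hv'A⟩, ⟨_, mul_mem hvA hv'A⟩} : Finset ↥A) = Finset.univ := by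
        refine Finset.eq_univ_of_card _ ?_
        rw [← Nat.card_eq_fintype_card, show Nat.card ↥A = 4 from h.card]
        simp [Subtype.ext_iff, hv1.symm, hv'1.symm, hvv1.symm, hvv.symm, hv1, hv'1]
      have hw' : (⟨w, hw⟩ : ↥A) ∈ ({1, ⟨v, hvA⟩, ⟨_, hv'A⟩, ⟨_, mul_mem hvA hv'A⟩} : Finset ↥A) :=
        huniv ▸ Finset.mem_univ _
      simpa [Subtype.ext_iff] using hw'
    -- the third member
    set v'' := hh * (hh * v * hh⁻¹) * hh⁻¹ with hv''
    have hv''A : v'' ∈ A := (mem_normalizer_iff.1 hhN _).1 hv'A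
    have hsum : v'' = v * (hh * v * hh⁻¹) := by
      rcases hall v'' hv''A with e | e | e | e
      · exact absurd (conj_eq_one_iff.1 e) hv'1
      · exfalso
        refine hvv1 (hhfpf _ (mul_mem hvA hv'A) ?_)
        calc hh * (v * (hh * v * hh⁻¹)) * hh⁻¹ = hh * v * hh⁻¹ * v'' := by rw [hv'']; group
          _ = hh * v * hh⁻¹ * v := by rw [e]
          _ = _ := s.comm hv'A hvA
      · exact absurd (hhfpf _ hv'A e) hv'1
      · exact e
    have hc0A : t * t' * t⁻¹ * t'⁻¹ ∈ A := hQA t ht.1 t' ht'T.1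
    have hrest : hh * t' * hh⁻¹ * (t * t')⁻¹ ∈ A := by
      refine hTA _ (mul_mem (hT3 t' ht'T) (inv_mem (mul_mem ht ht'T))) ?_
      rw [fmul _ (hQM (hhQ' t' ht'T.1)) _ (inv_mem (hQM (mul_mem ht.1 ht'T.1))) y hyD,
        finv _ (mul_mem ht.1 ht'T.1), fmul t (hQM ht.1) t' (hQM ht'T.1) y hyD, fhh t' y hyD, hv', ← hv, ← hv'',
        hsum, s.sq (mul_mem hvA hv'A)]
    have hc0 : t * t' * t⁻¹ * t'⁻¹ = 1 := by
      refine hhfpf _ hc0A ?_
      set a := hh * t' * hh⁻¹ * (t * t')⁻¹ with ha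
      have ht'' : hh * t' * hh⁻¹ = a * (t * t') := by rw [ha]; group
      have h1 : hh * (t * t' * t⁻¹ * t'⁻¹) * hh⁻¹ = t' * (hh * t' * hh⁻¹) * t'⁻¹ * (hh * t' * hh⁻¹)⁻¹ := by
        rw [ht']; group
      rw [h1, ht'']
      have hca : t' * a = a * t' := cA (hSC ht'T.1.1) a hrest
      calc t' * (a * (t * t')) * t'⁻¹ * (a * (t * t'))⁻¹ = (t' * a) * t * t'⁻¹ * t⁻¹ * a⁻¹ := by group
        _ = a * (t * t' * t⁻¹ * t'⁻¹)⁻¹ * a⁻¹ := by rw [hca]; group
        _ = (t * t' * t⁻¹ * t'⁻¹)⁻¹ := by rw [s.comm hrest (inv_mem hc0A), mul_inv_cancel_right]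
        _ = _ := inv_eq_of_mul_eq_one_right (s.sq hc0A)
    have htt : Commute t t' := by
      rw [show t * t' * t⁻¹ * t'⁻¹ = t * t' * (t' * t)⁻¹ by group, mul_inv_eq_one] at hc0
      exact hc0
    have hform : ∀ u ∈ T, ∃ a ∈ A, ∃ i j : ℕ, u = a * (t ^ i * t' ^ j) := by
      intro u hu
      have key : ∀ w ∈ T, f w y = f u y → ∃ a ∈ A, u = a * w := fun w hw e =>
        ⟨u * w⁻¹, hTA _ (mul_mem hu (inv_mem hw)) (by
          rw [fmul u (hQM hu.1) _ (inv_mem (hQM hw.1)) y hyD, finv w hw.1, e, s.sq (fA u (hQM hu.1) y hyD)]),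
          by group⟩
      rcases hall _ (fA u (hQM hu.1) y hyD) with e | e | e | e
      · exact ⟨u, hTA u hu e, 0, 0, by simp⟩
      · obtain ⟨a, ha, e'⟩ := key t ht (by rw [← hv, e])
        exact ⟨a, ha, 1, 0, by simp [e']⟩
      · obtain ⟨a, ha, e'⟩ := key t' ht'T (by rw [hv', e])
        exact ⟨a, ha, 0, 1, by simp [e']⟩
      · obtain ⟨a, ha, e'⟩ := key (t * t') (mul_mem ht ht'T) (by
          rw [fmul t (hQM ht.1) t' (hQM ht'T.1) y hyD, ← hv, hv', e])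
        exact ⟨a, ha, 1, 1, by simp [e']⟩
    intro u hu w hw
    obtain ⟨a, ha, i, j, rfl⟩ := hform u hu
    obtain ⟨b, hb, k, l, rfl⟩ := hform w hw
    have ct : ∀ a ∈ A, ∀ i j : ℕ, Commute a (t ^ i * t' ^ j) := fun a ha i j =>
      ((show Commute a t from (cA (hSC ht.1.1) a ha).symm).pow_right i).mul_right
        ((show Commute a t' from (cA (hSC ht'T.1.1) a ha).symm).pow_right j)
    have cij : Commute (t ^ i * t' ^ j) (t ^ k * t' ^ l) :=
      (((Commute.refl t).pow_pow i k).mul_right (htt.pow_pow i l)).mul_left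
        ((htt.symm.pow_pow j k).mul_right ((Commute.refl t').pow_pow j l))
    exact (((show Commute a b from s.comm ha hb).mul_right (ct a ha k l)).mul_left
      ((ct b hb i j).symm.mul_right cij)).eq
  -- the frame
  refine ⟨⟨D, T, y, hh, hy, hyD, hDS, hAD, hDsq, hcardD, ?_, ?_, hh3, hhN, hhfpf,
    fun d hd => mul_inv_eq_iff_eq_mul.1 (hhD d hd), hhQ, mem_normalizer_fintype hT3, hQmax, hAT, hTinf, hTsup,
    hTcard, hTcomm, htfpf, fun t ht => hsqQ t ht.1, fun t ht d hd => fA t (hQM ht.1) d hd, ?_⟩, rfl, hP⟩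
  · intro x hx hxA
    have hle : P ≤ S ⊓ centralizer ({x} : Set G) :=
      le_inf hPS fun w hw => mem_centralizer_singleton_iff.2 (hPcomm w hw x hx)
    obtain ⟨a, ha, d, hd, rfl⟩ := hdec x hx
    refine (eq_of_le_of_card_ge hle (hmax _ (hPS hx) (orderOf_eq_prime ?_ fun e => hxA (by rw [e]; exact one_mem _))
      hxA _ (s.S.isPGroup'.to_le inf_le_left) (inf_le_left.trans hSC) inf_le_right)).symm
    rw [pow_two]
    calc a * d * (a * d) = a * (d * a) * d := by group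
      _ = a * (a * d) * d := by rw [cA (hSC (hDS hd)) a ha]
      _ = (a * a) * (d * d) := by group
      _ = 1 := by rw [s.sq ha, hDsq d hd, one_mul]
  · intro x hxS hx2 hxA R hR hRC hRx
    refine (hmax x hxS hx2 hxA R hR hRC hRx).trans (le_of_eq ?_)
    have h1 := Grp.card_sup_mul_card_inf (H := A) (N := D) (fun a ha => mem_normalizer_fintype fun d hd => by
      rwa [← cA (hSC (hDS hd)) a ha, mul_inv_cancel_right])
    rw [hAD, Subgroup.card_bot, mul_one, show Nat.card ↥A = 4 from h.card] at h1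
    exact h1
  · intro t ht htA d hd hd1 h1
    refine htA (hTA t ht ?_)
    exact fzero t (hQM ht.1) d hd hd1 h1 y hyD

end Cfsg.Agent.Fus.Gold
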