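import Cfsg.Agent.Lib.Fus.Goldschmidt.FourBase

/-!
# Elementary consequences of a frame

Commutators with values in the central subgroup `A` are bilinear; `Q = T P`; `T = A ∪ tA ∪ t'A ∪ tt'A`.
-/

set_option autoImplicit false
set_option linter.style.haveILetI false
set_option linter.unusedSectionVars false

namespace Cfsg.Agent.Fus.Gold

open Subgroup

universe u

variable {G : Type u} [Group G] [Finite G]

/-- The commutator, as used for bilinearity into a central subgroup. -/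
def br (x y : G) : G := x * y * x⁻¹ * y⁻¹

omit [Finite G] in
theorem br_self_mul (x y : G) : br x y * (y * x) = x * y := by rw [br]; group

omit [Finite G] in
theorem br_eq_one_iff {x y : G} : br x y = 1 ↔ x * y = y * x := by
  rw [show br x y = x * y * (y * x)⁻¹ by rw [br]; group, mul_inv_eq_one]

omit [Finite G] in
theorem br_inv (x y : G) : (br x y)⁻¹ = br y x := by rw [br, br]; group

omit [Finite G] in
theorem br_conj (g x y : G) : br (g * x * g⁻¹) (g * y * g⁻¹) = g * br x y * g⁻¹ := by rw [br, br]; group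

/-- A 2-group containing `A` is carried into `S` by an element normalising `A`. -/
theorem Setup.conj_into (s : Setup G) {R : Subgroup G} (hR : IsPGroup 2 R) (hAR : s.A ≤ R) :
    ∃ g ∈ normalizer (s.A : Set G), ∀ r ∈ R, g * r * g⁻¹ ∈ (s.S : Subgroup G) := by
  haveI : Fact (Nat.Prime 2) := ⟨Nat.prime_two⟩
  obtain ⟨P, hP⟩ := hR.exists_le_sylow
  obtain ⟨g, hg⟩ := MulAction.exists_smul_eq G P s.S
  have hmem : ∀ r ∈ R, g * r * g⁻¹ ∈ (s.S : Subgroup G) := fun r hr => by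
    rw [← hg, Sylow.coe_subgroup_smul, ← Grp.map_conj_eq_smul]
    exact ⟨r, hP hr, rfl⟩
  exact ⟨g, mem_normalizer_fintype fun a ha => s.closed.2 a ha g (hmem a (hAR ha)), hmem⟩

namespace Four

variable {s : Setup G} (h : Four s)

include h

theorem commute_A {x : G} (hx : x ∈ (s.S : Subgroup G)) {a : G} (ha : a ∈ s.A) : x * a = a * x :=
  (mem_centralizer_iff.1 (h.central hx) a ha).symm

theorem commute_inv {x : G} (hx : x ∈ (s.S : Subgroup G)) {a : G} (ha : a ∈ s.A) : x * a * x⁻¹ = a := by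
  rw [h.commute_A hx ha, mul_inv_cancel_right]

theorem br_A {x : G} (hx : x ∈ (s.S : Subgroup G)) {a : G} (ha : a ∈ s.A) : br x a = 1 :=
  br_eq_one_iff.2 (h.commute_A hx ha)

theorem br_mul_left {x z y : G} (hx : x ∈ (s.S : Subgroup G)) (hzy : br z y ∈ s.A) :
    br (x * z) y = br z y * br x y := by
  rw [show br (x * z) y = x * br z y * x⁻¹ * br x y by rw [br, br, br]; group, h.commute_inv hx hzy]

theorem br_mul_right {x y z : G} (hy : y ∈ (s.S : Subgroup G)) (hxz : br x z ∈ s.A) :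
    br x (y * z) = br x y * br x z := by
  rw [show br x (y * z) = br x y * (y * br x z * y⁻¹) by rw [br, br, br]; group, h.commute_inv hy hxz]

/-- A 2-group containing `A` centralises it. -/
theorem two_group_le {R : Subgroup G} (hR : IsPGroup 2 R) (hAR : s.A ≤ R) :
    R ≤ centralizer (s.A : Set G) := by
  obtain ⟨g, hg, hgR⟩ := s.conj_into hR hAR
  refine fun r hr => mem_centralizer_iff.2 fun a ha => ?_
  have ha' : g * a * g⁻¹ ∈ s.A := (mem_normalizer_iff.1 hg a).1 ha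
  exact (MulAut.conj g).injective (show g * (a * r) * g⁻¹ = g * (r * a) * g⁻¹ by
    calc g * (a * r) * g⁻¹ = g * a * g⁻¹ * (g * r * g⁻¹) := by group
      _ = g * r * g⁻¹ * (g * a * g⁻¹) := (h.commute_A (hgR r hr) ha').symm
      _ = _ := by group)

end Four

namespace Frame

variable {s : Setup G} (f : Frame s)

theorem A_le_P : s.A ≤ f.P := le_sup_left

theorem D_le_P : f.D ≤ f.P := le_sup_right

theorem P_le : f.P ≤ (s.S : Subgroup G) := sup_le s.closed.1 f.D_le

theorem P_le_Q : f.P ≤ f.Q := le_inf f.P_le le_normalizer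

theorem T_le_Q : f.T ≤ f.Q := le_sup_left.trans f.T_sup.le

theorem T_le : f.T ≤ (s.S : Subgroup G) := f.T_le_Q.trans inf_le_left

theorem Q_le : f.Q ≤ (s.S : Subgroup G) := inf_le_left

theorem A_le_Q : s.A ≤ f.Q := f.A_le_P.trans f.P_le_Q

theorem y_mem_P : f.y ∈ f.P := f.D_le_P f.y_mem

theorem hh_A {a : G} (ha : a ∈ s.A) : f.h * a * f.h⁻¹ ∈ s.A := (mem_normalizer_iff.1 f.h_norm a).1 ha

theorem hh_T {t : G} (ht : t ∈ f.T) : f.h * t * f.h⁻¹ ∈ f.T := (mem_normalizer_iff.1 f.h_T t).1 ht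

theorem not_mem_P {t : G} (ht : t ∈ f.T) (htA : t ∉ s.A) : t ∉ f.P := fun h' =>
  htA (f.T_inf.le ⟨ht, h'⟩)

variable (h : Four s)

include h

theorem dec {x : G} (hx : x ∈ f.P) : ∃ a ∈ s.A, ∃ d ∈ f.D, a * d = x := by
  have hN : f.D ≤ normalizer (s.A : Set G) := f.D_le.trans s.sylow_le_normalizer
  have hx' : x ∈ ((s.A ⊔ f.D : Subgroup G) : Set G) := hx
  rw [coe_mul_of_right_le_normalizer_left _ _ hN] at hx'
  exact hx'

theorem cardP : Nat.card ↥f.P = 4 * Nat.card f.D := by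
  have h1 := Grp.card_sup_mul_card_inf (H := s.A) (N := f.D) (fun a ha => mem_normalizer_fintype fun d hd => by
    rwa [← h.commute_inv (f.D_le hd) ha, show d * a * d⁻¹ * d * (d * a * d⁻¹)⁻¹ = d * (a * d * a⁻¹) * d⁻¹ by group,
      ← h.commute_A (f.D_le hd) ha, mul_inv_cancel_right, mul_inv_cancel_right])
  rwa [f.disj, Subgroup.card_bot, mul_one, h.card] at h1

theorem P_sq {x : G} (hx : x ∈ f.P) : x * x = 1 := by
  obtain ⟨a, ha, d, hd, rfl⟩ := f.dec h hx
  calc a * d * (a * d) = a * (d * a) * d := by group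
    _ = a * (a * d) * d := by rw [h.commute_A (f.D_le hd) ha]
    _ = (a * a) * (d * d) := by group
    _ = 1 := by rw [s.sq ha, f.D_sq d hd, one_mul]

theorem P_inv {x : G} (hx : x ∈ f.P) : x⁻¹ = x := inv_eq_of_mul_eq_one_right (f.P_sq h hx)

theorem P_comm {x w : G} (hx : x ∈ f.P) (hw : w ∈ f.P) : x * w = w * x := by
  have h1 := f.P_sq h (f.P.mul_mem hx hw)
  calc x * w = (x * w)⁻¹ := (inv_eq_of_mul_eq_one_right h1).symm
    _ = w⁻¹ * x⁻¹ := mul_inv_rev _ _
    _ = w * x := by rw [f.P_inv h hx, f.P_inv h hw]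

theorem br_P {x w : G} (hx : x ∈ f.P) (hw : w ∈ f.P) : br x w = 1 := br_eq_one_iff.2 (f.P_comm h hx hw)

theorem br_TP_mem {t x : G} (ht : t ∈ f.T) (hx : x ∈ f.P) : br t x ∈ s.A := by
  obtain ⟨a, ha, d, hd, rfl⟩ := f.dec h hx
  rw [h.br_mul_right (s.closed.1 ha) (f.bracket_mem t ht d hd), h.br_A (f.T_le ht) ha, one_mul]
  exact f.bracket_mem t ht d hd

theorem br_TP_ne {t x : G} (ht : t ∈ f.T) (htA : t ∉ s.A) (hx : x ∈ f.P) (hxA : x ∉ s.A) : br t x ≠ 1 := by
  obtain ⟨a, ha, d, hd, rfl⟩ := f.dec h hx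
  rw [h.br_mul_right (s.closed.1 ha) (f.bracket_mem t ht d hd), h.br_A (f.T_le ht) ha, one_mul]
  exact f.bracket_ne t ht htA d hd fun e => hxA (by rw [e, mul_one]; exact ha)

theorem br_TT {t u : G} (ht : t ∈ f.T) (hu : u ∈ f.T) : br t u = 1 := br_eq_one_iff.2 (f.T_comm t ht u hu)

theorem br_h {t d : G} (hd : d ∈ f.D) : br (f.h * t * f.h⁻¹) d = f.h * br t d * f.h⁻¹ := by
  conv_lhs => rw [show d = f.h * d * f.h⁻¹ by rw [f.h_D d hd, mul_inv_cancel_right]]
  exact br_conj f.h t d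

theorem dec_Q {q : G} (hq : q ∈ f.Q) : ∃ t ∈ f.T, ∃ x ∈ f.P, t * x = q := by
  have hq' : q ∈ ((f.T ⊔ f.P : Subgroup G) : Set G) := by rw [SetLike.mem_coe, f.T_sup]; exact hq
  rw [coe_mul_of_left_le_normalizer_right _ _ (f.T_le_Q.trans inf_le_right)] at hq'
  exact hq'

theorem cardQ : Nat.card ↥f.Q = 16 * Nat.card f.D := by
  have h1 := Grp.card_sup_mul_card_inf (H := f.T) (N := f.P) (f.T_le_Q.trans inf_le_right)
  rw [f.T_sup, f.T_inf, f.cardT, h.card, f.cardP h] at h1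
  have h2 : Nat.card ↥f.Q * 4 = 16 * (4 * Nat.card f.D) := h1
  omega

/-- The four cosets of `A` in `T`. -/
theorem gen {t : G} (ht : t ∈ f.T) (htA : t ∉ s.A) {u : G} (hu : u ∈ f.T) :
    u ∈ s.A ∨ u * t⁻¹ ∈ s.A ∨ u * (f.h * t * f.h⁻¹)⁻¹ ∈ s.A ∨ u * (t * (f.h * t * f.h⁻¹))⁻¹ ∈ s.A := by
  classical
  set t' := f.h * t * f.h⁻¹ with ht'
  have ht'T : t' ∈ f.T := f.hh_T ht
  have hsub : ∀ {a b : G}, a * b ∈ s.A → a ∈ s.A → b ∈ s.A := fun {a b} h1 h2 => by
    simpa using s.A.mul_mem (s.A.inv_mem h2) h1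
  have ht'A : t' ∉ s.A := fun e => htA ((mem_normalizer_iff.1 f.h_norm t).2 e)
  have hd1 : t' * t⁻¹ ∉ s.A := fun e => htA (f.h_T_fpf t ht e)
  have htt : t * t' ∉ s.A := fun e => hd1 (by
    have h1 := s.A.mul_mem e (s.A.inv_mem (f.sq_mem t ht))
    rwa [show t * t' * (t * t)⁻¹ = t * (t' * t⁻¹) * t⁻¹ by group,
      f.T_comm t ht _ (mul_mem ht'T (inv_mem ht)), mul_inv_cancel_right] at h1)
  let U : Subgroup G := s.A
  letI : Fintype (↥f.T ⧸ U.subgroupOf f.T) := Fintype.ofFinite _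
  have hcard : Fintype.card (↥f.T ⧸ U.subgroupOf f.T) = 4 := by
    rw [← Nat.card_eq_fintype_card, ← Subgroup.index_eq_card]
    have h1 := (U.subgroupOf f.T).card_mul_index
    rw [Nat.card_congr (subgroupOfEquivOfLe f.A_le_T).toEquiv, h.card, f.cardT] at h1
    omega
  let π : ↥f.T → ↥f.T ⧸ U.subgroupOf f.T := QuotientGroup.mk
  have heq : ∀ a b : ↥f.T, π a = π b ↔ (b : G) * (a : G)⁻¹ ∈ s.A := fun a b => by
    show QuotientGroup.mk a = QuotientGroup.mk b ↔ _
    rw [QuotientGroup.eq, mem_subgroupOf]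
    push_cast
    rw [f.T_comm (a : G)⁻¹ (inv_mem a.2) b b.2]
  have huniv : ({π 1, π ⟨t, ht⟩, π ⟨t', ht'T⟩, π ⟨t * t', mul_mem ht ht'T⟩} : Finset _) = Finset.univ := by
    refine Finset.eq_univ_of_card _ ?_
    rw [hcard]
    rw [Finset.card_insert_of_notMem, Finset.card_insert_of_notMem, Finset.card_pair]
    · intro e
      refine htA ?_
      have h1 := (heq _ _).1 e
      simp only at h1
      rwa [mul_inv_cancel_right] at h1
    · simp only [Finset.mem_insert, Finset.mem_singleton, heq, not_or]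
      refine ⟨hd1, fun e => ht'A ?_⟩
      rwa [f.T_comm t ht t' ht'T, mul_inv_cancel_right] at e
    · simp only [Finset.mem_insert, Finset.mem_singleton, heq, not_or, OneMemClass.coe_one, inv_one, mul_one]
      exact ⟨htA, ht'A, htt⟩
  have hmem : π ⟨u, hu⟩ ∈ ({π 1, π ⟨t, ht⟩, π ⟨t', ht'T⟩, π ⟨t * t', mul_mem ht ht'T⟩} : Finset _) :=
    huniv ▸ Finset.mem_univ _
  simp only [Finset.mem_insert, Finset.mem_singleton, eq_comm (a := π ⟨u, hu⟩), heq, OneMemClass.coe_one,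
    inv_one, mul_one] at hmem
  exact hmem

/-- `T` is elementary, or has no involution outside `A`. -/
theorem sq_dichotomy : (∀ t ∈ f.T, t * t = 1) ∨ ∀ t ∈ f.T, t ∉ s.A → t * t ≠ 1 := by
  by_cases hex : ∃ t ∈ f.T, t ∉ s.A ∧ t * t = 1
  swap
  · push Not at hex
    exact Or.inr hex
  left
  obtain ⟨t, ht, htA, htt⟩ := hex
  have hmul : ∀ a b : G, a ∈ f.T → b ∈ f.T → a * a = 1 → b * b = 1 → a * b * (a * b) = 1 := fun a b ha hb h1 h2 => by
    rw [show a * b * (a * b) = a * (b * a) * b by group, f.T_comm b hb a ha,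
      show a * (a * b) * b = a * a * (b * b) by group, h1, h2, one_mul]
  have ht' : f.h * t * f.h⁻¹ * (f.h * t * f.h⁻¹) = 1 := by
    rw [show f.h * t * f.h⁻¹ * (f.h * t * f.h⁻¹) = f.h * (t * t) * f.h⁻¹ by group, htt]; group
  intro u hu
  have key : ∀ w : G, w ∈ f.T → w * w = 1 → u * w⁻¹ ∈ s.A → u * u = 1 := fun w hw hww e => by
    rw [show u = u * w⁻¹ * w by group]
    exact hmul _ _ (f.A_le_T e) hw (s.sq e) hww
  rcases f.gen h ht htA hu with e | e | e | e
  · exact s.sq e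
  · exact key t ht htt e
  · exact key _ (f.hh_T ht) ht' e
  · exact key _ (mul_mem ht (f.hh_T ht)) (hmul _ _ ht (f.hh_T ht) htt ht') e

theorem exists_not_mem_T : ∃ t ∈ f.T, t ∉ s.A := by
  by_contra hno
  push Not at hno
  have := card_le_of_le (show f.T ≤ s.A from hno)
  rw [f.cardT, h.card] at this
  omega

end Frame

end Cfsg.Agent.Fus.Gold
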