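import Cfsg.Agent.Lib.Invol.CentRank.Models
import Cfsg.Agent.Lib.Invol.CentInt.Cover
import Cfsg.Agent.Lib.Invol.ThreeFree.Cover
import Cfsg.Agent.Lib.Fus.OddTransp.LineModels

/-!
# Covers of Bender's groups with a central involution and a non-elementary Sylow subgroup: `Sz(8)`
-/

set_option autoImplicit false
set_option linter.style.haveILetI false

namespace Cfsg.Agent.Fus.Gold

open Subgroup

universe u

/-- The cover is one of `Sz(8)`: centre of order at most four, eight elements of square one in a Sylow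
subgroup of the quotient, and its automorphisms of 2-power order are inner. -/
theorem sz_cover {K : Type u} [Group K] [Finite K] (hK : Cfsg.IsQuasisimple K)
    (hB : Invol.CentInt.IsBenderGrp (K ⧸ center K)) (hz : 2 ∣ Nat.card (center K))
    (T0 : Sylow 2 (K ⧸ center K)) (hne : ∃ t ∈ (T0 : Subgroup (K ⧸ center K)), t * t ≠ 1) :
    Nat.card (center K) ≤ 4 ∧ (∀ T : Sylow 2 (K ⧸ center K), {t | t ∈ T ∧ t * t = 1}.ncard = 8) ∧
      ∀ f : MulAut (K ⧸ center K), (∃ n, f ^ (2 ^ n) = 1) → ∃ k, f = MulAut.conj k := by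
  haveI : Fact (Nat.Prime 2) := ⟨Nat.prime_two⟩
  rcases hB with ⟨F, iF, jF, hc, h4, ⟨e⟩⟩ | ⟨F, iF, jF, q, hq, h4, hF, ⟨e⟩⟩ | ⟨F, iF, jF, m, hm, hF, ⟨e⟩⟩
  · exfalso
    haveI := hc
    obtain ⟨P, hP, hPc⟩ := Invol.CentRank.sylow_sl (F := F)
    obtain ⟨ψ, hψ⟩ := Invol.CentRank.exists_iso_sylow e T0 P
    obtain ⟨t, ht, htt⟩ := hne
    have hall : {x | x ∈ (P : Subgroup (Matrix.SpecialLinearGroup (Fin 2) F)) ∧ x * x = 1} =
        (P : Set (Matrix.SpecialLinearGroup (Fin 2) F)) := by
      refine Set.eq_of_subset_of_ncard_le (fun x hx => hx.1) ?_ (Set.toFinite _)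
      rw [hPc]
      exact hP.le
    have h1 : ψ t ∈ {x | x ∈ (P : Subgroup (Matrix.SpecialLinearGroup (Fin 2) F)) ∧ x * x = 1} := by
      rw [hall]
      show ψ t ∈ (P : Subgroup _)
      rw [← hψ]
      exact ⟨t, ht, rfl⟩
    exact htt (ψ.injective (by rw [map_mul, map_one]; exact h1.2))
  · exfalso
    have hm := S2089.result (F := F) 3 q hF le_rfl (fun h => by omega) (by
      simp only [Set.mem_insert_iff, Set.mem_singleton_iff, Prod.mk.injEq]
      rintro (⟨h, -⟩ | ⟨h, -⟩ | ⟨h, -⟩) <;> omega)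
    let π : K →* Cfsg.PSU 3 F q := e.toMonoidHom.comp (QuotientGroup.mk' (center K))
    have hπker : π.ker = center K := by
      ext x
      simp [π, MonoidHom.mem_ker]
    have h1 := Block.CpQuot.card_ker_dvd hm π (e.surjective.comp (QuotientGroup.mk'_surjective _))
      hπker.le hK.1
    rw [hπker, Nat.card_congr Multiplicative.toAdd, Nat.card_zmod] at h1
    have h2 := (hz.trans h1).trans (Nat.gcd_dvd_left 3 (q + 1))
    exact absurd h2 (by decide)
  · have hS : Suz.SzField F m := ⟨hm, hF⟩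
    have h8 : Fintype.card F = 8 := by
      rcases eq_or_lt_of_le hm with h1 | h2
      · rw [hF, ← h1]; norm_num
      · exfalso
        have h1 := (Invol.ThreeFree.card_center_le_of_multiplier hK e
          (Suz.Mult.trivial_lie hS (show 2 ≤ m by omega))).1
        have h1' : Nat.card (center K) ≤ 1 := h1.trans (by simp)
        have := Nat.le_of_dvd Nat.card_pos hz
        omega
    have hf := OTLine.SzFacts.congr ((Suz.szEquiv hS).trans e.symm) (OTLine.szFacts_model hS)
    refine ⟨(Invol.ThreeFree.cover_sz hK ⟨F, iF, jF, m, hm, hF, ⟨e⟩⟩).1, fun T => ?_, hf.inner⟩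
    exact (hf.card T).trans h8

end Cfsg.Agent.Fus.Gold
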