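import Cfsg.Agent.Lib.Fus.Goldschmidt.LocalBase
import Cfsg.Agent.Lib.Fus.Goldschmidt.Bender
import Cfsg.Agent.Lib.Fus.Goldschmidt.SzCover

/-!
# The components of `C(a)/O(C(a))` and the image of `A`

For a component `K` not centralised by `A`: `A = C_A(K) (A ∩ K)`, the image of `A ∩ K` in `K/Z(K)` is
given by the induction statement, and `X = E(X) N(A)`.
-/

set_option autoImplicit false
set_option linter.unusedSectionVars false
set_option linter.style.haveILetI false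

namespace Cfsg.Agent.Fus.Gold

open Subgroup Cfsg.Agent.Grp Cfsg.Agent.Invol.StrongClosed.OneClass
open scoped commutatorElement

universe u

section Generic

variable {L : Type u} [Group L] [Finite L]

/-- The centralizer of a Sylow subgroup that is abelian, or of an involution of a Bender group, is solvable. -/
theorem centralizer_solvable (P : Sylow 2 L) {A : Subgroup L} (hA : A ≠ ⊥)
    (hel : Cfsg.IsElementaryAbelian 2 A) (hs : IsSimpleGroup L) (hnc : ¬ IsMulCommutative L)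
    (hc : (P : Subgroup L) = A ∨ ∃ H : Subgroup L, Cfsg.IsStronglyEmbedded H) :
    Group.IsSolvable ↥(centralizer (A : Set L)) := by
  haveI : Fact (Nat.Prime 2) := ⟨Nat.prime_two⟩
  haveI := hs
  rcases hc with e | ⟨H, hH⟩
  · set C := centralizer (A : Set L)
    have hAC : A ≤ C := fun x hx => mem_centralizer_iff.2 fun y hy => elemAb_comm hel y hy x hx
    haveI : (A.subgroupOf C).Normal := ⟨fun a ha g => mem_subgroupOf.2 (by
      show (g : L) * a * (g : L)⁻¹ ∈ A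
      rw [← mem_centralizer_iff.1 g.2 _ (mem_subgroupOf.1 ha), mul_inv_cancel_right]
      exact mem_subgroupOf.1 ha)⟩
    haveI : Group.IsSolvable ↥(A.subgroupOf C) :=
      Group.isSolvable_of_comm fun a b => Subtype.ext (Subtype.ext
        (elemAb_comm hel _ (mem_subgroupOf.1 a.2) _ (mem_subgroupOf.1 b.2)))
    have hodd : Odd (Nat.card (↥C ⧸ A.subgroupOf C)) := by
      rw [← index_eq_card]
      refine Nat.not_even_iff_odd.1 fun he => P.not_dvd_index ?_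
      rw [e]
      exact (even_iff_two_dvd.1 he).trans (relIndex_dvd_index_of_le hAC)
    haveI : Group.IsSolvable (↥C ⧸ A.subgroupOf C) := Cfsg.Agent.S0205.result hodd
    exact Group.isSolvable_of_ker_le_range (A.subgroupOf C).subtype (QuotientGroup.mk' (A.subgroupOf C))
      (by rw [QuotientGroup.ker_mk', range_subtype])
  · obtain ⟨⟨w, hw⟩, hw1⟩ := A.ne_bot_iff_exists_ne_one.1 hA
    have ho : orderOf w = 2 := orderOf_eq_prime (hel.2 w hw) fun e => hw1 (Subtype.ext e)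
    haveI := centralizer_involution_solvable hnc hH ho
    exact isSolvable_of_le (centralizer_le (Set.singleton_subset_iff.2 hw)) ‹_›

/-- An involutory automorphism centralising `A0 = Ω₁(P)` and `P/A0` centralises `P`, in a Bender group. -/
theorem twist_trivial (hB : Invol.CentInt.IsBenderGrp L) (P : Sylow 2 L) {A0 : Subgroup L}
    (hA0 : ∀ p ∈ (P : Subgroup L), p * p = 1 → p ∈ A0) (hA0P : A0 ≤ P) (hsq : ∀ a ∈ A0, a * a = 1)
    (hcl : ∀ a ∈ A0, ∀ g : L, g * a * g⁻¹ ∈ (P : Subgroup L) → g * a * g⁻¹ ∈ A0)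
    (hcent : ∀ a ∈ A0, ∀ p ∈ (P : Subgroup L), p * a = a * p)
    (σ : L →* L) (hσ2 : ∀ g, σ (σ g) = g) (hσA : ∀ a ∈ A0, σ a = a)
    (hσP : ∀ p ∈ (P : Subgroup L), p * (σ p)⁻¹ ∈ A0)
    (hlift : ∀ g : L, g * (σ g)⁻¹ ∈ (P : Subgroup L) → g * (σ g)⁻¹ ∈ A0) :
    ∀ p ∈ (P : Subgroup L), σ p = p := by
  haveI : Fact (Nat.Prime 2) := ⟨Nat.prime_two⟩
  let φ : ↥(P : Subgroup L) →* ↥(P : Subgroup L) := MonoidHom.mk'
    (fun p => ⟨p * (σ p)⁻¹, hA0P (hσP p p.2)⟩) fun p q => Subtype.ext (by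
      show (p : L) * q * (σ ((p : L) * q))⁻¹ = p * (σ p)⁻¹ * (q * (σ q)⁻¹)
      have h1 := hcent _ (hσP q q.2) _ p.2
      have h2 : ((p : L) * (σ p)⁻¹) * ((q : L) * (σ q)⁻¹) = ((q : L) * (σ q)⁻¹) * ((p : L) * (σ p)⁻¹) :=
        hcent _ (hσP q q.2) _ (hA0P (hσP p p.2))
      rw [h2, map_mul, mul_inv_rev]
      calc (p : L) * q * ((σ q)⁻¹ * (σ p)⁻¹) = p * (q * (σ q)⁻¹) * (σ p)⁻¹ := by group
        _ = q * (σ q)⁻¹ * p * (σ p)⁻¹ := by rw [h1]
        _ = _ := by group)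
  have key := noTwist hB P φ (fun t => Subtype.ext (hsq _ (hσP t t.2)))
    (fun t ht => Subtype.ext (by
      show (t : L) * (σ t)⁻¹ = 1
      rw [hσA t (hA0 t t.2 (congrArg Subtype.val ht)), mul_inv_cancel]))
    (fun g t t' hg hgt => ?_)
  · intro p hp
    have := congrArg Subtype.val (key ⟨p, hp⟩)
    exact (mul_inv_eq_one.1 this).symm
  have hgA : ∀ a ∈ A0, g * a * g⁻¹ ∈ A0 := fun a ha => hcl a ha g (mem_conj_normalizer hg (hA0P ha))
  have hgA' : ∀ a ∈ A0, g⁻¹ * a * g ∈ A0 := fun a ha => by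
    have := hcl a ha g⁻¹ (by rw [inv_inv]; exact mem_conj_normalizer' hg (hA0P ha))
    rwa [inv_inv] at this
  have hσPP : ∀ p ∈ (P : Subgroup L), σ p ∈ (P : Subgroup L) := fun p hp => by
    have := (P : Subgroup L).mul_mem ((P : Subgroup L).inv_mem (hA0P (hσP p hp))) hp
    simpa using this
  have hσg : σ g ∈ normalizer ((P : Subgroup L) : Set L) := mem_normalizer_fintype fun p hp => by
    show σ g * p * (σ g)⁻¹ ∈ (P : Subgroup L)
    have := hσPP _ (mem_conj_normalizer hg (hσPP p hp))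
    rwa [map_mul, map_mul, map_inv, hσ2] at this
  set c := g * (σ g)⁻¹ with hc
  have hcN : c ∈ normalizer ((P : Subgroup L) : Set L) := mul_mem hg (inv_mem hσg)
  have hσgA : ∀ a ∈ A0, (σ g)⁻¹ * a * σ g = g⁻¹ * a * g := fun a ha => by
    have h3 := hσA _ (hgA' a ha)
    rwa [map_mul, map_mul, map_inv, hσA a ha] at h3
  have hcA : ∀ a ∈ A0, c * a * c⁻¹ = a := fun a ha => by
    rw [hc, show g * (σ g)⁻¹ * a * (g * (σ g)⁻¹)⁻¹ = g * ((σ g)⁻¹ * a * σ g) * g⁻¹ by group, hσgA a ha]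
    group
  have hcc : ∀ p ∈ (P : Subgroup L), c * p * c⁻¹ * p⁻¹ ∈ A0 := by
    intro p hp
    set q := g⁻¹ * p * g
    have hq : q ∈ (P : Subgroup L) := mem_conj_normalizer' hg hp
    have hw := hgA _ (hσP q hq)
    have hv := hσP p hp
    have hv' : σ (g⁻¹) * σ p * σ g = σ q := by rw [← map_mul, ← map_mul]
    have e1 : (σ g)⁻¹ * p * σ g = (σ g)⁻¹ * (p * (σ p)⁻¹) * σ g * σ q := by
      rw [← hv', map_inv]; group
    rw [hσgA _ hv] at e1
    have e : c * p * c⁻¹ * p⁻¹ = (p * (σ p)⁻¹) * (g * (q * (σ q)⁻¹) * g⁻¹)⁻¹ := by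
      calc c * p * c⁻¹ * p⁻¹ = g * ((σ g)⁻¹ * p * σ g) * g⁻¹ * p⁻¹ := by rw [hc]; group
        _ = g * (g⁻¹ * (p * (σ p)⁻¹) * g * σ q) * g⁻¹ * p⁻¹ := by rw [e1]
        _ = (p * (σ p)⁻¹) * (g * (q * (σ q)⁻¹) * g⁻¹)⁻¹ := by simp only [q]; group
    rw [e]
    exact A0.mul_mem hv (A0.inv_mem hw)
  have hc2 : ∀ p ∈ (P : Subgroup L), Commute (c * c) p := fun p hp => by
    have h1 := hcc p hp
    have h2 := hcA _ h1
    show c * c * p = p * (c * c)
    calc c * c * p = (c * (c * p * c⁻¹ * p⁻¹) * c⁻¹) * (c * p * c⁻¹ * p⁻¹) * p * (c * c) := by group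
      _ = ((c * p * c⁻¹ * p⁻¹) * (c * p * c⁻¹ * p⁻¹)) * p * (c * c) := by rw [h2]
      _ = _ := by rw [hsq _ h1, one_mul]
  have hσc : σ c = c⁻¹ := by rw [hc, map_mul, map_inv, hσ2]; group
  obtain ⟨j, n, hn, hjn⟩ := Nat.exists_eq_two_pow_mul_odd (orderOf_pos c).ne'
  obtain ⟨s, hs0, hs1⟩ := Nat.chineseRemainder (Nat.coprime_two_left.2 hn) 0 ((n - 1) / 2)
  obtain ⟨i, hi⟩ := Nat.modEq_zero_iff_dvd.1 hs0
  have hdiv : n ∣ 2 * s + 1 := by
    obtain ⟨m, rfl⟩ := hn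
    rw [show (2 * m + 1 - 1) / 2 = m by omega] at hs1
    exact Nat.modEq_zero_iff_dvd.1 (((hs1.mul_left 2).add_right 1).trans (Nat.modEq_zero_iff_dvd.2 dvd_rfl))
  set o := c ^ s
  have hoP : ∀ p ∈ (P : Subgroup L), Commute o p := fun p hp => by
    show Commute (c ^ s) p
    rw [hi, pow_mul, pow_two]
    exact (hc2 p hp).pow_left i
  set g' := o * g
  have hg' : g' * (σ g')⁻¹ = c ^ (2 * s + 1) := by
    show o * g * (σ (o * g))⁻¹ = _
    rw [map_mul, mul_inv_rev, map_pow, hσc, inv_pow, inv_inv,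
      show c ^ s * g * ((σ g)⁻¹ * c ^ s) = c ^ s * (g * (σ g)⁻¹) * c ^ s by group, ← hc, two_mul,
      add_right_comm, pow_add, pow_succ]
  have hc2P : c ^ (2 * s + 1) ∈ (P : Subgroup L) := by
    have hp2 : IsPGroup 2 (zpowers (c ^ (2 * s + 1))) := by
      obtain ⟨k, hk⟩ := hdiv
      intro z
      obtain ⟨l, hl⟩ := mem_zpowers_iff.1 z.2
      refine ⟨j, Subtype.ext ?_⟩
      show (z : L) ^ (2 ^ j) = 1
      have h0 : (c ^ (2 * s + 1)) ^ (2 ^ j) = 1 := by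
        rw [← pow_mul, hk, mul_comm n k, mul_assoc, mul_comm n, ← hjn, mul_comm, pow_mul, pow_orderOf_eq_one, one_pow]
      rw [← hl, ← zpow_natCast, zpow_comm, zpow_natCast, h0, one_zpow]
    have hN : zpowers (c ^ (2 * s + 1)) ≤ normalizer ((P : Subgroup L) : Set L) :=
      zpowers_le.2 (pow_mem hcN _)
    have := IsPGroup.to_sup_of_normal_right' hp2 P.isPGroup' hN
    have e := P.3 this le_sup_right
    exact e ▸ mem_sup_left (mem_zpowers _)
  rw [← hg'] at hc2P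
  have hd := hlift g' hc2P
  set d := g' * (σ g')⁻¹
  have hσg' : σ g' = d⁻¹ * g' := by simp only [d]; group
  have ht' : (t' : L) = g' * t * g'⁻¹ := by
    rw [hgt]
    show g * (t : L) * g⁻¹ = o * g * t * (o * g)⁻¹
    rw [show o * g * (t : L) * (o * g)⁻¹ = o * (g * t * g⁻¹) * o⁻¹ by group,
      (hoP _ (mem_conj_normalizer hg t.2)).eq, mul_inv_cancel_right]
  show (t' : L) * (σ t')⁻¹ = g * ((t : L) * (σ t)⁻¹) * g⁻¹
  have hw : (t : L) * (σ t)⁻¹ ∈ A0 := hσP t t.2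
  have hgo : g' * ((t : L) * (σ t)⁻¹) * g'⁻¹ = g * ((t : L) * (σ t)⁻¹) * g⁻¹ := by
    show o * g * _ * (o * g)⁻¹ = _
    rw [show o * g * ((t : L) * (σ t)⁻¹) * (o * g)⁻¹ = o * (g * ((t : L) * (σ t)⁻¹) * g⁻¹) * o⁻¹ by group,
      (hoP _ (hA0P (hgA _ hw))).eq, mul_inv_cancel_right]
  rw [← hgo]
  conv_lhs => rw [ht', map_mul, map_mul, map_inv, hσg']
  have h5 : g' * (t : L) * g'⁻¹ * d⁻¹ = d⁻¹ * (g' * (t : L) * g'⁻¹) := by
    rw [← ht']
    exact hcent _ (A0.inv_mem hd) _ t'.2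
  have h6 : g' * ((t : L) * (σ t)⁻¹) * g'⁻¹ ∈ A0 := hgo ▸ hgA _ hw
  calc g' * (t : L) * g'⁻¹ * (d⁻¹ * g' * σ t * (d⁻¹ * g')⁻¹)⁻¹
      = g' * (t : L) * g'⁻¹ * d⁻¹ * (g' * (σ t)⁻¹ * g'⁻¹) * d := by group
    _ = d⁻¹ * (g' * (t : L) * g'⁻¹) * (g' * (σ t)⁻¹ * g'⁻¹) * d := by rw [h5]
    _ = d⁻¹ * ((g' * ((t : L) * (σ t)⁻¹) * g'⁻¹) * d) := by group
    _ = _ := by rw [← hcent _ h6 _ (hA0P hd), inv_mul_cancel_left]

/-- A perfect group with an abelian Sylow 2-subgroup has a centre of odd order. -/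
theorem eq_one_of_abelian_sylow {H : Type u} [Group H] [Finite H] (hp : commutator H = ⊤) (P : Sylow 2 H)
    (hP : ∀ a ∈ (P : Subgroup H), ∀ b ∈ (P : Subgroup H), a * b = b * a) {z : H}
    (hz : z ∈ (P : Subgroup H)) (hzc : z ∈ center H) : z = 1 := by
  haveI : Fact (Nat.Prime 2) := ⟨Nat.prime_two⟩
  letI : CommGroup ↥(P : Subgroup H) := { (inferInstance : Group ↥(P : Subgroup H)) with
    mul_comm := fun a b => Subtype.ext (hP a a.2 b b.2) }
  let f : H →* ↥(P : Subgroup H) := MonoidHom.transfer (MonoidHom.id ↥(P : Subgroup H))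
  have key : ∀ (k : ℕ) (g₀ : H), g₀⁻¹ * z ^ k * g₀ ∈ (P : Subgroup H) → g₀⁻¹ * z ^ k * g₀ = z ^ k :=
    fun k g₀ _ => by
      rw [mul_assoc, ← mem_center_iff.1 (pow_mem hzc k) g₀, inv_mul_cancel_left]
  have h1 : f z = ⟨z ^ (P : Subgroup H).index, pow_mem hz _⟩ := by
    show MonoidHom.transfer (MonoidHom.id ↥(P : Subgroup H)) z = _
    exact MonoidHom.transfer_eq_pow (MonoidHom.id ↥(P : Subgroup H)) z key
  have h2 : f z = 1 := by
    have h3 : commutator H ≤ f.ker := Abelianization.commutator_subset_ker f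
    exact h3 (hp ▸ mem_top z)
  rw [h1] at h2
  obtain ⟨j, hj⟩ := P.isPGroup' ⟨z, hz⟩
  refine pow_eq_one_coprime (p := 2) (k := j) (by simpa using congrArg Subtype.val hj) ?_
  exact ((Nat.prime_two.coprime_iff_not_dvd.2 P.not_dvd_index).coprime_dvd_right
    (orderOf_dvd_of_pow_eq_one (congrArg Subtype.val h2))).symm

end Generic

section Quot

variable {X : Type u} [Group X] [Finite X] {K : Subgroup X}

theorem LocalHyp.le_normalizer_of_le {Ab : Subgroup X} (h : LocalHyp X Ab) {B C : Subgroup X} (hB : B ≤ Ab)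
    (hC : C ≤ Ab) : B ≤ normalizer (C : Set X) := fun x hx =>
  centralizer_le_normalizer _ (mem_centralizer_iff.2 fun y hy => h.comm (hC hy) (hB hx))

/-- The image of `Ab ∩ K` in `K/Z(K)`. -/
def kbar (Ab K : Subgroup X) : Subgroup (↥K ⧸ center ↥K) :=
  ((Ab ⊓ K).subgroupOf K).map (QuotientGroup.mk' (center ↥K))

theorem conj_mem_centralizer {n c : X} (hn : n ∈ normalizer (K : Set X)) (hc : c ∈ centralizer (K : Set X)) :
    n * c * n⁻¹ ∈ centralizer (K : Set X) :=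
  mem_centralizer_iff.2 fun k hk => by
    have := mem_centralizer_iff.1 hc _ (mem_conj_normalizer' hn hk)
    calc k * (n * c * n⁻¹) = n * ((n⁻¹ * k * n) * c) * n⁻¹ := by group
      _ = n * (c * (n⁻¹ * k * n)) * n⁻¹ := by rw [this]
      _ = _ := by group

/-- Conjugation by `n ∈ N(K)` on `K/Z(K)`. -/
def conjQ {n : X} (hn : n ∈ normalizer (K : Set X)) : (↥K ⧸ center ↥K) →* (↥K ⧸ center ↥K) :=
  QuotientGroup.lift (center ↥K)
    ((QuotientGroup.mk' (center ↥K)).comp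
      (MonoidHom.mk' (fun k : ↥K => (⟨n * k * n⁻¹, mem_conj_normalizer hn k.2⟩ : ↥K))
        fun a b => Subtype.ext (by simp [mul_assoc])))
    fun k hk => (QuotientGroup.eq_one_iff _).2 (mem_center_iff.2 fun y => Subtype.ext (by
      have h1 := congrArg Subtype.val (mem_center_iff.1 hk ⟨n⁻¹ * y * n, mem_conj_normalizer' hn y.2⟩)
      simp only [Subgroup.coe_mul] at h1
      show (y : X) * (n * k * n⁻¹) = n * k * n⁻¹ * y
      calc (y : X) * (n * k * n⁻¹) = n * ((n⁻¹ * y * n) * k) * n⁻¹ := by group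
        _ = n * (k * (n⁻¹ * y * n)) * n⁻¹ := by rw [h1]
        _ = _ := by group))

end Quot

section Component

variable {X : Type u} [Group X] [Finite X] {Ab : Subgroup X} (h : LocalHyp X Ab) {K : Subgroup X}
  (hK : Cfsg.IsComponent K)
include h hK

omit h in
theorem mk_eq_one {a : ↥K} : (a : ↥K ⧸ center ↥K) = 1 ↔ (a : X) ∈ centralizer (K : Set X) := by
  rw [← QuotientGroup.mk_one, eq_comm, mk_eq_mk hK]
  simp

omit h hK in
theorem mem_kbar {e : X} (he : e ∈ Ab) (heK : e ∈ K) :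
    ((⟨e, heK⟩ : ↥K) : ↥K ⧸ center ↥K) ∈ kbar Ab K := ⟨⟨e, heK⟩, mem_subgroupOf.2 ⟨he, heK⟩, rfl⟩

omit hK in
theorem comm_mem_inf {T : Sylow 2 X} (hT : Ab ≤ T) (hN : Ab ≤ normalizer (K : Set X)) {t a : X}
    (ht : t ∈ (T : Subgroup X)) (htK : t ∈ K) (ha : a ∈ Ab) : t * a * t⁻¹ * a⁻¹ ∈ Ab ⊓ K := by
  refine ⟨Ab.mul_mem (mem_conj_normalizer (h.sylow_le_normalizer hT ht) ha) (Ab.inv_mem ha), ?_⟩
  rw [show t * a * t⁻¹ * a⁻¹ = t * (a * t⁻¹ * a⁻¹) by group]
  exact K.mul_mem htK (mem_conj_normalizer (hN ha) (K.inv_mem htK))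

theorem not_le_of_moved (hm : ¬ Ab ≤ centralizer (K : Set X)) : ¬ Ab ⊓ K ≤ centralizer (K : Set X) := by
  intro hle
  obtain ⟨T, hT⟩ := h.exists_sylow
  refine hm ((sup_eq_of_twist h hT hK fun t ht htK a ha =>
    hle (comm_mem_inf h hT (normalizes h hT hK) ht htK ha)).symm.le.trans (sup_le inf_le_right hle))

/-- The image of `Ab ∩ K` in `K/Z(K)`: elementary, strongly closed, with the induction statement. -/
theorem exists_data {T : Sylow 2 X} (hT : Ab ≤ T) (hm : ¬ Ab ≤ centralizer (K : Set X)) :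
    ∃ P : Sylow 2 (↥K ⧸ center ↥K),
      (∀ k : ↥K, ((k : ↥K ⧸ center ↥K) ∈ (P : Subgroup (↥K ⧸ center ↥K)) ↔ (k : X) ∈ (T : Subgroup X))) ∧
      Cfsg.IsStronglyClosed (kbar Ab K) (P : Subgroup (↥K ⧸ center ↥K)) ∧
      Cfsg.IsElementaryAbelian 2 (kbar Ab K) ∧ kbar Ab K ≠ ⊥ ∧
      ((P : Subgroup (↥K ⧸ center ↥K)) = kbar Ab K ∨
        ∃ H : Subgroup (↥K ⧸ center ↥K), Cfsg.IsStronglyEmbedded H) ∧
      (∀ p ∈ (P : Subgroup (↥K ⧸ center ↥K)), p * p = 1 → p ∈ kbar Ab K) ∧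
      (P : Subgroup (↥K ⧸ center ↥K)) ≤ centralizer (kbar Ab K : Set (↥K ⧸ center ↥K)) ∧
      ∀ a ∈ kbar Ab K, ∀ b ∈ kbar Ab K, a ≠ 1 → b ≠ 1 →
        ∃ g ∈ normalizer (kbar Ab K : Set (↥K ⧸ center ↥K)), g * a * g⁻¹ = b := by
  obtain ⟨P, hP⟩ := exists_sylow_quotient h hT hK
  have hel : Cfsg.IsElementaryAbelian 2 (kbar Ab K) := by
    refine ⟨⟨⟨?_⟩⟩, ?_⟩
    · rintro ⟨_, a, ha, rfl⟩ ⟨_, b, hb, rfl⟩
      refine Subtype.ext ?_
      show QuotientGroup.mk' _ a * QuotientGroup.mk' _ b = QuotientGroup.mk' _ b * QuotientGroup.mk' _ a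
      rw [← map_mul, ← map_mul]
      exact congrArg _ (Subtype.ext (h.comm (mem_subgroupOf.1 ha).1 (mem_subgroupOf.1 hb).1))
    · rintro _ ⟨a, ha, rfl⟩
      rw [← map_pow, show a ^ 2 = 1 from Subtype.ext (h.elem.2 _ (mem_subgroupOf.1 ha).1), map_one]
  have hcl : Cfsg.IsStronglyClosed (kbar Ab K) (P : Subgroup (↥K ⧸ center ↥K)) := by
    refine ⟨?_, ?_⟩
    · rintro _ ⟨e, he, rfl⟩
      exact (hP e).2 (hT (mem_subgroupOf.1 he).1)
    · rintro _ ⟨e, he, rfl⟩ g hg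
      obtain ⟨g, rfl⟩ := QuotientGroup.mk'_surjective _ g
      rw [← map_inv, ← map_mul, ← map_mul] at hg ⊢
      exact ⟨_, mem_subgroupOf.2 ⟨h.closed _ T.isPGroup' hT _ (mem_subgroupOf.1 he).1 g
        ((hP _).1 hg), (g * e * g⁻¹).2⟩, rfl⟩
  have hne : kbar Ab K ≠ ⊥ := fun e => by
    refine not_le_of_moved h hK hm fun x hx => ?_
    have h1 := mem_kbar (Ab := Ab) hx.1 hx.2
    rw [e, mem_bot] at h1
    exact (mk_eq_one hK).1 h1
  obtain ⟨h1, h2, h3, h4⟩ := h.comp K hK P (kbar Ab K) hne hel hcl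
  exact ⟨P, hP, hcl, hel, hne, h1, h2, h3, h4⟩

/-- The Sylow subgroup of `K` acts on `Ab` trivially modulo `C(K)`. -/
theorem twist {T : Sylow 2 X} (hT : Ab ≤ T) (hm : ¬ Ab ≤ centralizer (K : Set X)) :
    ∀ t ∈ (T : Subgroup X), t ∈ K → ∀ a ∈ Ab, t * a * t⁻¹ * a⁻¹ ∈ centralizer (K : Set X) := by
  intro t ht htK a ha
  obtain ⟨P, hP, hcl, hel, hne, h1, h2, h3, -⟩ := exists_data h hK hT hm
  have hN := normalizes h hT hK
  rcases h1 with he | ⟨H, hH⟩
  · have htP : ((⟨t, htK⟩ : ↥K) : ↥K ⧸ center ↥K) ∈ kbar Ab K := he ▸ (hP ⟨t, htK⟩).2 ht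
    obtain ⟨⟨e, heK⟩, he', hte⟩ := htP
    have hc := (mk_eq_mk hK).1 hte
    have heA : e ∈ Ab := (mem_subgroupOf.1 he').1
    set c := e⁻¹ * t with hcdef
    have e1 : t * a * t⁻¹ * a⁻¹ = e * (c * (a * c⁻¹ * a⁻¹)) * e⁻¹ := by
      calc t * a * t⁻¹ * a⁻¹ = e * c * a * c⁻¹ * (e⁻¹ * a⁻¹) := by rw [hcdef]; group
        _ = e * c * a * c⁻¹ * (a⁻¹ * e⁻¹) := by rw [h.comm (Ab.inv_mem heA) (Ab.inv_mem ha)]
        _ = _ := by group
    rw [e1]
    exact conj_mem_centralizer (Subgroup.le_normalizer heK)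
      (Subgroup.mul_mem _ hc (conj_mem_centralizer (hN ha) (Subgroup.inv_mem _ hc)))
  · haveI := hK.2.2
    have hB := (bender_of_se (not_comm_quotient hK) hH).1
    set σ := conjQ (hN ha)
    have hσ : ∀ k : ↥K, σ k = ((⟨a * k * a⁻¹, mem_conj_normalizer (hN ha) k.2⟩ : ↥K) : ↥K ⧸ center ↥K) :=
      fun k => rfl
    have key := twist_trivial hB P h2 hcl.1 (fun x hx => by rw [← pow_two]; exact hel.2 x hx)
      (fun x hx g hg => hcl.2 x hx g hg) (fun x hx p hp => (mem_centralizer_iff.1 (h3 hp) x hx).symm) σ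
      (fun g => by
        obtain ⟨k, rfl⟩ := QuotientGroup.mk_surjective g
        rw [hσ, hσ]
        refine congrArg QuotientGroup.mk (Subtype.ext ?_)
        show a * (a * k * a⁻¹) * a⁻¹ = k
        rw [show a * (a * k * a⁻¹) * a⁻¹ = (a * a) * k * (a * a)⁻¹ by group, h.sq ha]
        group)
      (by
        rintro _ ⟨e, he, rfl⟩
        show σ e = _
        rw [hσ]
        refine congrArg QuotientGroup.mk (Subtype.ext ?_)
        show a * e * a⁻¹ = e
        rw [h.comm ha (mem_subgroupOf.1 he).1, mul_inv_cancel_right])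
      (fun p hp => by
        obtain ⟨k, rfl⟩ := QuotientGroup.mk_surjective p
        rw [hσ, ← QuotientGroup.mk_inv, ← QuotientGroup.mk_mul]
        refine ⟨_, mem_subgroupOf.2 ?_, rfl⟩
        show (k : X) * (a * k * a⁻¹)⁻¹ ∈ Ab ⊓ K
        rw [show (k : X) * (a * k * a⁻¹)⁻¹ = k * a * (k : X)⁻¹ * a⁻¹ by group]
        exact comm_mem_inf h hT hN ((hP k).1 hp) k.2 ha)
      (fun g hg => by
        obtain ⟨k, rfl⟩ := QuotientGroup.mk_surjective g
        rw [hσ, ← QuotientGroup.mk_inv, ← QuotientGroup.mk_mul] at hg ⊢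
        refine ⟨_, mem_subgroupOf.2 ?_, rfl⟩
        have h4 := (hP _).1 hg
        show (k : X) * (a * k * a⁻¹)⁻¹ ∈ Ab ⊓ K
        change (k : X) * (a * k * a⁻¹)⁻¹ ∈ (T : Subgroup X) at h4
        rw [show (k : X) * (a * k * a⁻¹)⁻¹ = k * a * (k : X)⁻¹ * a⁻¹ by group] at h4 ⊢
        refine ⟨Ab.mul_mem (h.closed _ T.isPGroup' hT a ha k ?_) (Ab.inv_mem ha), ?_⟩
        · simpa using (T : Subgroup X).mul_mem h4 (hT ha)
        · rw [show (k : X) * a * (k : X)⁻¹ * a⁻¹ = k * (a * (k : X)⁻¹ * a⁻¹) by group]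
          exact K.mul_mem k.2 (mem_conj_normalizer (hN ha) (K.inv_mem k.2)))
    have h5 := key _ ((hP ⟨t, htK⟩).2 ht)
    rw [hσ] at h5
    have h6 := (mk_eq_mk hK).1 h5.symm
    change t⁻¹ * (a * t * a⁻¹) ∈ centralizer (K : Set X) at h6
    have h7 := conj_mem_centralizer (Subgroup.le_normalizer htK) (Subgroup.inv_mem _ h6)
    have e2 : t * (t⁻¹ * (a * t * a⁻¹))⁻¹ * t⁻¹ = t * a * t⁻¹ * a⁻¹ := by group
    rwa [e2] at h7

theorem local_normalizes : Ab ≤ normalizer (K : Set X) := by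
  obtain ⟨T, hT⟩ := h.exists_sylow
  exact normalizes h hT hK

theorem local_sup : (Ab ⊓ centralizer (K : Set X)) ⊔ (Ab ⊓ K) = Ab := by
  by_cases hm : Ab ≤ centralizer (K : Set X)
  · exact le_antisymm (sup_le inf_le_left inf_le_left) ((le_inf le_rfl hm).trans le_sup_left)
  · obtain ⟨T, hT⟩ := h.exists_sylow
    exact sup_eq_of_twist h hT hK (twist h hK hT hm)

/-- `Ab ∩ K` has image of order at least four. -/
theorem four_le_kbar (hm : ¬ Ab ≤ centralizer (K : Set X)) : 4 ≤ Nat.card (kbar Ab K) := by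
  haveI : Fact (Nat.Prime 2) := ⟨Nat.prime_two⟩
  obtain ⟨T, hT⟩ := h.exists_sylow
  obtain ⟨P, -, hcl, hel, hne, -⟩ := exists_data h hK hT hm
  obtain ⟨k, hk⟩ := IsPGroup.iff_card.1 (elemAb_isPGroup hel)
  rcases Nat.lt_or_ge k 2 with hk2 | hk2
  swap
  · rw [hk]; exact Nat.pow_le_pow_right (n := 2) two_pos hk2
  exfalso
  obtain ⟨⟨u, hu⟩, hu1⟩ := (kbar Ab K).ne_bot_iff_exists_ne_one.1 hne
  have hu1' : u ≠ 1 := fun e => hu1 (Subtype.ext e)
  have hou : orderOf u = 2 := orderOf_eq_prime (hel.2 u hu) hu1'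
  have hA : kbar Ab K = zpowers u := by
    refine (eq_of_le_of_card_ge (zpowers_le.2 hu) ?_).symm
    rw [Nat.card_zpowers, hou, hk]
    exact Nat.pow_le_pow_right two_pos (Nat.le_of_lt_succ hk2)
  refine isolated_false hK.2.2 (not_comm_quotient hK) P hou (hcl.1 hu) fun g hg => ?_
  have h1 := hcl.2 u hu g hg
  rw [hA] at h1
  obtain ⟨i, hi⟩ := mem_zpowers_iff.1 h1
  have hsq : u * u = 1 := by rw [← pow_two]; exact hel.2 u hu
  rcases Int.even_or_odd i with ⟨j, rfl⟩ | ⟨j, rfl⟩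
  · rw [zpow_add, ← (Commute.refl u).mul_zpow, hsq, one_zpow] at hi
    exact absurd (conj_eq_one_iff.1 hi.symm) hu1'
  · rw [zpow_add, zpow_mul, zpow_ofNat, pow_two, hsq, one_zpow, one_mul, zpow_one] at hi
    exact hi.symm

omit h in
theorem card_inf_eq :
    Nat.card ↥(Ab ⊓ K) = Nat.card (kbar Ab K) * Nat.card ↥((Ab ⊓ centralizer (K : Set X)) ⊓ (Ab ⊓ K)) := by
  set f : ↥(Ab ⊓ K) →* ↥K ⧸ center ↥K :=
    (QuotientGroup.mk' (center ↥K)).comp (Subgroup.inclusion (inf_le_right : Ab ⊓ K ≤ K))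
  have h1 : f.range = kbar Ab K := by
    refine le_antisymm ?_ ?_
    · rintro _ ⟨e, rfl⟩
      exact mem_kbar e.2.1 e.2.2
    · rintro _ ⟨e, he, rfl⟩
      exact ⟨⟨e, mem_subgroupOf.1 he⟩, rfl⟩
  have h2 : f.ker = ((Ab ⊓ centralizer (K : Set X)) ⊓ (Ab ⊓ K)).subgroupOf (Ab ⊓ K) := by
    ext e
    rw [MonoidHom.mem_ker, mem_subgroupOf]
    exact (mk_eq_one hK).trans ⟨fun hc => ⟨⟨e.2.1, hc⟩, e.2⟩, fun hc => hc.1.2⟩
  rw [← card_mul_index f.ker, index_ker, h1, h2, mul_comm,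
    Nat.card_congr (Subgroup.subgroupOfEquivOfLe inf_le_right).toEquiv]

theorem local_four (hm : ¬ Ab ≤ centralizer (K : Set X)) :
    4 * Nat.card ↥(Ab ⊓ centralizer (K : Set X)) ≤ Nat.card Ab := by
  have h1 := card_sup_mul_card_inf (H := Ab ⊓ centralizer (K : Set X)) (N := Ab ⊓ K)
    (h.le_normalizer_of_le inf_le_left inf_le_left)
  rw [local_sup h hK, card_inf_eq hK] at h1
  have h2 : Nat.card Ab = Nat.card ↥(Ab ⊓ centralizer (K : Set X)) * Nat.card (kbar Ab K) :=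
    Nat.eq_of_mul_eq_mul_right Nat.card_pos (h1.trans (mul_assoc _ _ _).symm)
  rw [h2, mul_comm 4]
  exact Nat.mul_le_mul_left _ (four_le_kbar h hK hm)

theorem local_perfect_bot (hm : ¬ Ab ≤ centralizer (K : Set X)) {J : Subgroup X} (hJ : J ≤ K)
    (hp : ⁅J, J⁆ = J) (hc : ∀ j ∈ J, ∀ x ∈ Ab ⊓ K, j * x = x * j) : J = ⊥ := by
  obtain ⟨T, hT⟩ := h.exists_sylow
  obtain ⟨P, -, -, hel, hne, h1, -⟩ := exists_data h hK hT hm
  haveI := centralizer_solvable P hne hel hK.2.2 (not_comm_quotient hK) h1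
  set Jq := (J.subgroupOf K).map (QuotientGroup.mk' (center ↥K))
  have hpK : ⁅J.subgroupOf K, J.subgroupOf K⁆ = J.subgroupOf K := by
    apply map_injective K.subtype_injective
    rw [map_commutator, map_subgroupOf_eq_of_le hJ, hp]
  have hJq : Jq ≤ centralizer (kbar Ab K : Set (↥K ⧸ center ↥K)) := by
    rintro _ ⟨j, hj, rfl⟩
    refine mem_centralizer_iff.2 ?_
    rintro _ ⟨e, he, rfl⟩
    rw [← map_mul, ← map_mul]
    exact congrArg _ (Subtype.ext (hc _ (mem_subgroupOf.1 hj) _ (mem_subgroupOf.1 he)).symm)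
  have hbot : Jq = ⊥ := eq_bot_of_perfect_of_solvable (by rw [← map_commutator, hpK])
    (isSolvable_of_le hJq inferInstance)
  refine eq_bot_of_perfect_of_comm hp fun j hj => mem_centralizer_iff.2 fun i hi => ?_
  have h5 : ((⟨j, hJ hj⟩ : ↥K) : ↥K ⧸ center ↥K) ∈ Jq := ⟨⟨j, hJ hj⟩, hj, rfl⟩
  rw [hbot, mem_bot] at h5
  exact mem_centralizer_iff.1 ((mk_eq_one hK).1 h5) i (hJ hi)

/-- The elements of `N_K(Ab ∩ K)` normalising `T ∩ K` are transitive on the image of `Ab ∩ K`. -/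
theorem exists_transitive {T : Sylow 2 X} (hT : Ab ≤ T) (hm : ¬ Ab ≤ centralizer (K : Set X)) {x y : X}
    (hx : x ∈ Ab ⊓ K) (hxC : x ∉ centralizer (K : Set X)) (hy : y ∈ Ab ⊓ K)
    (hyC : y ∉ centralizer (K : Set X)) :
    ∃ n ∈ K, n ∈ normalizer (((T : Subgroup X) ⊓ K : Subgroup X) : Set X) ∧
      y⁻¹ * (n * x * n⁻¹) ∈ centralizer (K : Set X) := by
  haveI : Fact (Nat.Prime 2) := ⟨Nat.prime_two⟩
  obtain ⟨P, hP, -, -, -, -, -, h3, h4⟩ := exists_data h hK hT hm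
  set C := centralizer (kbar Ab K : Set (↥K ⧸ center ↥K))
  obtain ⟨g, hg, hgxy⟩ := h4 _ (mem_kbar hx.1 hx.2) _ (mem_kbar hy.1 hy.2)
    (fun e => hxC ((mk_eq_one hK).1 e)) (fun e => hyC ((mk_eq_one hK).1 e))
  have hPg : ((g • P : Sylow 2 (↥K ⧸ center ↥K)) : Subgroup (↥K ⧸ center ↥K)) ≤ C := by
    rw [Sylow.coe_subgroup_smul, ← Grp.map_conj_eq_smul]
    rintro _ ⟨p, hp, rfl⟩
    refine mem_centralizer_iff.2 fun e he => ?_
    have := mem_centralizer_iff.1 (h3 hp) _ (mem_conj_normalizer' hg he)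
    show e * (g * p * g⁻¹) = g * p * g⁻¹ * e
    calc e * (g * p * g⁻¹) = g * ((g⁻¹ * e * g) * p) * g⁻¹ := by group
      _ = g * (p * (g⁻¹ * e * g)) * g⁻¹ := by rw [this]
      _ = _ := by group
  obtain ⟨c, hc⟩ := MulAction.exists_smul_eq ↥C ((g • P).subtype hPg) (P.subtype h3)
  have hcg : ((c : ↥K ⧸ center ↥K) * g) • P = P := by
    rw [mul_smul]
    refine Sylow.ext ?_
    have h6 := congrArg (fun Q : Sylow 2 ↥C => (Q : Subgroup ↥C).map C.subtype) hc
    simp only [Sylow.coe_subgroup_smul, Sylow.coe_subtype, map_subgroupOf_eq_of_le h3] at h6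
    rw [← h6, Sylow.coe_subgroup_smul]
    rw [← Grp.map_conj_eq_smul, ← Grp.map_conj_eq_smul, Subgroup.map_map,
      show C.subtype.comp (MulAut.conj c).toMonoidHom = (MulAut.conj (c : ↥K ⧸ center ↥K)).toMonoidHom.comp C.subtype from
        MonoidHom.ext fun z => rfl, ← Subgroup.map_map, Sylow.coe_subgroup_smul] at *
    rw [map_subgroupOf_eq_of_le hPg]
  obtain ⟨n, hn⟩ := QuotientGroup.mk_surjective ((c : ↥K ⧸ center ↥K) * g)
  have hnN := Sylow.smul_eq_iff_mem_normalizer.1 hcg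
  refine ⟨n, n.2, mem_normalizer_fintype fun t ht => ⟨?_, ?_⟩, ?_⟩
  · have h7 : ((n * ⟨t, ht.2⟩ * n⁻¹ : ↥K) : ↥K ⧸ center ↥K) ∈ (P : Subgroup (↥K ⧸ center ↥K)) := by
      rw [QuotientGroup.mk_mul, QuotientGroup.mk_mul, QuotientGroup.mk_inv, hn]
      exact mem_conj_normalizer hnN ((hP _).2 ht.1)
    exact (hP _).1 h7
  · exact K.mul_mem (K.mul_mem n.2 ht.2) (K.inv_mem n.2)
  · refine (mk_eq_mk hK (a := (⟨y, hy.2⟩ : ↥K)) (b := n * ⟨x, hx.2⟩ * n⁻¹)).1 ?_
    rw [QuotientGroup.mk_mul, QuotientGroup.mk_mul, QuotientGroup.mk_inv, hn, ← hgxy]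
    have hgy : g * ((⟨x, hx.2⟩ : ↥K) : ↥K ⧸ center ↥K) * g⁻¹ ∈ kbar Ab K := by rw [hgxy]; exact mem_kbar hy.1 hy.2
    have := mem_centralizer_iff.1 c.2 _ hgy
    calc g * ((⟨x, hx.2⟩ : ↥K) : ↥K ⧸ center ↥K) * g⁻¹
        = (g * ((⟨x, hx.2⟩ : ↥K) : ↥K ⧸ center ↥K) * g⁻¹) * c * (c : ↥K ⧸ center ↥K)⁻¹ := by group
      _ = c * (g * ((⟨x, hx.2⟩ : ↥K) : ↥K ⧸ center ↥K) * g⁻¹) * (c : ↥K ⧸ center ↥K)⁻¹ := by rw [this]
      _ = _ := by group

theorem local_factor (hm : ¬ Ab ≤ centralizer (K : Set X)) :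
    ∃ E : Subgroup X, E ≤ Ab ⊓ K ∧ E ⊓ centralizer (K : Set X) = ⊥ ∧
      (Ab ⊓ centralizer (K : Set X)) ⊔ E = Ab ∧
      ∀ x ∈ E, ∀ y ∈ E, x ≠ 1 → y ≠ 1 → ∃ g ∈ K, g ∈ normalizer (Ab : Set X) ∧
        (∀ v ∈ E, g * v * g⁻¹ ∈ E) ∧ g * x * g⁻¹ = y := by
  haveI : Fact (Nat.Prime 2) := ⟨Nat.prime_two⟩
  obtain ⟨T, hT⟩ := h.exists_sylow
  set TK := (T : Subgroup X) ⊓ K
  set N2 := K ⊓ normalizer (TK : Set X)
  have hTKN : TK ≤ N2 := le_inf inf_le_right Subgroup.le_normalizer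
  haveI : (TK.subgroupOf N2).Normal := normal_subgroupOf_of_le_normalizer inf_le_right
  have hcop : (Nat.card ↥(TK.subgroupOf N2)).Coprime (TK.subgroupOf N2).index := by
    obtain ⟨k, hk⟩ := IsPGroup.iff_card.1 ((T.isPGroup'.to_le (inf_le_left : TK ≤ _)).comap_of_injective
      N2.subtype (subtype_injective N2))
    rw [show Nat.card ↥(TK.subgroupOf N2) = 2 ^ k from hk]
    refine Nat.Coprime.pow_left k (Nat.prime_two.coprime_iff_not_dvd.2 fun hd => not_dvd_relIndex_sylow T hK.1 ?_)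
    rw [← inf_relIndex_right, ← relIndex_mul_relIndex TK N2 K hTKN inf_le_left]
    exact dvd_mul_of_dvd_left hd _
  obtain ⟨R0, hR0⟩ := exists_right_complement'_of_coprime hcop
  set R := R0.map N2.subtype
  have hRN2 : R ≤ N2 := map_subtype_le _
  set V := Ab ⊓ K
  have hN2V : N2 ≤ normalizer (V : Set X) := by
    refine invariant_iff.1 fun n hn v hv => ?_
    have h1 : n * v * n⁻¹ ∈ TK := mem_conj_normalizer hn.2 ⟨hT hv.1, hv.2⟩
    exact ⟨h.closed _ T.isPGroup' hT v hv.1 n h1.1, h1.2⟩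
  haveI : IsMulCommutative ↥V := ⟨⟨fun a b => Subtype.ext (h.comm a.2.1 b.2.1)⟩⟩
  have hRodd : Odd (Nat.card R) := by
    rw [card_map_of_injective (subtype_injective _), ← hR0.symm.index_eq_card]
    refine Nat.not_even_iff_odd.1 fun he => not_dvd_relIndex_sylow T hK.1 ?_
    rw [← inf_relIndex_right, ← relIndex_mul_relIndex TK N2 K hTKN inf_le_left]
    exact dvd_mul_of_dvd_left (even_iff_two_dvd.1 he) _
  have hcopV : (Nat.card R).Coprime (Nat.card V) := by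
    obtain ⟨k, hk⟩ := IsPGroup.iff_card.1 (elemAb_isPGroup (elemAb_mono h.elem (inf_le_left : V ≤ Ab)))
    rw [hk]
    exact Nat.Coprime.pow_right k (Nat.coprime_two_right.2 hRodd)
  have hdec : ∀ n ∈ N2, ∃ t ∈ TK, ∃ r ∈ R, n = t * r := by
    intro n hn
    obtain ⟨t, ht, r, hr, e⟩ := mem_sup_of_normal_left.1
      (show (⟨n, hn⟩ : ↥N2) ∈ TK.subgroupOf N2 ⊔ R0 by rw [hR0.sup_eq_top]; trivial)
    exact ⟨t, mem_subgroupOf.1 ht, r, ⟨r, hr, rfl⟩, (congrArg Subtype.val e).symm⟩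
  have htv : ∀ t ∈ TK, ∀ v ∈ V, v⁻¹ * (t * v * t⁻¹) ∈ centralizer (K : Set X) := fun t ht v hv => by
    have h1 := twist h hK hT hm t ht.1 ht.2 v hv.1
    have h2 := conj_mem_centralizer (Subgroup.le_normalizer (K.inv_mem hv.2)) h1
    rwa [show v⁻¹ * (t * v * t⁻¹ * v⁻¹) * v⁻¹⁻¹ = v⁻¹ * (t * v * t⁻¹) by group] at h2
  have htrans : ∀ x ∈ V, x ∉ centralizer (K : Set X) → ∀ y ∈ V, y ∉ centralizer (K : Set X) →
      ∃ r ∈ R, y⁻¹ * (r * x * r⁻¹) ∈ centralizer (K : Set X) := by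
    intro x hx hxC y hy hyC
    obtain ⟨n, hnK, hnN, hn⟩ := exists_transitive h hK hT hm hx hxC hy hyC
    obtain ⟨t, ht, r, hr, rfl⟩ := hdec n ⟨hnK, hnN⟩
    refine ⟨r, hr, ?_⟩
    have hw := htv t ht _ (mem_conj_normalizer (hN2V (hRN2 hr)) hx)
    have h1 := Subgroup.mul_mem _ hn (Subgroup.inv_mem _ hw)
    rwa [show y⁻¹ * (t * r * x * (t * r)⁻¹) * ((r * x * r⁻¹)⁻¹ * (t * (r * x * r⁻¹) * t⁻¹))⁻¹ =
      y⁻¹ * (r * x * r⁻¹) by group] at h1
  have hRV : R ≤ normalizer (V : Set X) := hRN2.trans hN2V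
  have hfix : V ⊓ centralizer (R : Set X) ≤ centralizer (K : Set X) := by
    rintro v ⟨hv, hvR⟩
    by_contra hvC
    have h4 := four_le_kbar h hK hm
    have h5 : kbar Ab K ≤ zpowers ((⟨v, hv.2⟩ : ↥K) : ↥K ⧸ center ↥K) := by
      rintro _ ⟨⟨w, hwK⟩, hw, rfl⟩
      by_cases hwC : w ∈ centralizer (K : Set X)
      · rw [show QuotientGroup.mk' (center ↥K) ⟨w, hwK⟩ = 1 from (mk_eq_one hK).2 hwC]
        exact one_mem _
      obtain ⟨r, hr, h6⟩ := htrans v hv hvC w (mem_subgroupOf.1 hw) hwC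
      rw [mem_centralizer_iff.1 hvR r hr, mul_inv_cancel_right] at h6
      rw [show QuotientGroup.mk' (center ↥K) ⟨w, hwK⟩ = ((⟨v, hv.2⟩ : ↥K) : ↥K ⧸ center ↥K) from
        (mk_eq_mk hK).2 h6]
      exact mem_zpowers _
    have h6 := card_le_of_le h5
    rw [Nat.card_zpowers] at h6
    have h7 : orderOf ((⟨v, hv.2⟩ : ↥K) : ↥K ⧸ center ↥K) ≤ 2 := Nat.le_of_dvd two_pos
      (orderOf_dvd_of_pow_eq_one (by
        rw [← QuotientGroup.mk_pow, show (⟨v, hv.2⟩ : ↥K) ^ 2 = 1 from Subtype.ext (h.elem.2 v hv.1)]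
        rfl))
    omega
  set E := ⁅V, R⁆
  have hEV : E ≤ V := commutator_le_left_of_le_normalizer hRV
  have hdisj := abelian_commutator_inf_fixed R V hRV hcopV
  have hEC : E ⊓ centralizer (K : Set X) = ⊥ := by
    rw [eq_bot_iff, ← hdisj]
    rintro v ⟨hvE, hvC⟩
    exact ⟨⟨hEV hvE, mem_centralizer_iff.2 fun r hr => mem_centralizer_iff.1 hvC r (hRN2 hr).1⟩, hvE⟩
  refine ⟨E, hEV, hEC, ?_, ?_⟩
  · refine le_antisymm (sup_le inf_le_left (hEV.trans inf_le_left)) ?_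
    refine (local_sup h hK).symm.le.trans (sup_le le_sup_left fun v hv => ?_)
    obtain ⟨m, hm', c, hc, e⟩ := exists_commutator_mul_fixed R V hRV hcopV
      (Or.inr (Group.isSolvable_of_comm fun a b => Subtype.ext (h.comm a.2.1 b.2.1))) hv
    rw [e]
    exact mul_mem (mem_sup_right hm') (mem_sup_left ⟨hc.1.1, hfix ⟨hc.1, hc.2⟩⟩)
  · intro x hx y hy hx1 hy1
    have hxC : x ∉ centralizer (K : Set X) := fun hc => hx1 (mem_bot.1 (hEC ▸ ⟨hx, hc⟩))
    have hyC : y ∉ centralizer (K : Set X) := fun hc => hy1 (mem_bot.1 (hEC ▸ ⟨hy, hc⟩))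
    obtain ⟨r, hr, h1⟩ := htrans x (hEV hx) hxC y (hEV hy) hyC
    have hrE : ∀ v ∈ E, r * v * r⁻¹ ∈ E := fun v hv => mem_conj_normalizer
      (right_le_normalizer_commutator R V hr) hv
    refine ⟨r, (hRN2 hr).1, mem_normalizer_fintype fun a ha => ?_, hrE,
      (inv_mul_eq_one.1 (mem_bot.1 (hEC ▸ ⟨E.mul_mem (E.inv_mem hy) (hrE x hx), h1⟩))).symm⟩
    show r * a * r⁻¹ ∈ Ab
    rw [← local_sup h hK] at ha
    replace ha : a ∈ (((Ab ⊓ centralizer (K : Set X)) ⊔ (Ab ⊓ K) : Subgroup X) : Set X) := ha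
    rw [coe_mul_of_left_le_normalizer_right _ _
      (h.le_normalizer_of_le inf_le_left inf_le_left)] at ha
    obtain ⟨d, hd, v, hv, rfl⟩ := ha
    rw [show r * (d * v) * r⁻¹ = (r * d * r⁻¹) * (r * v * r⁻¹) by group,
      mem_centralizer_iff.1 hd.2 r (hRN2 hr).1, mul_inv_cancel_right]
    exact Ab.mul_mem hd.1 (mem_conj_normalizer (hRV hr) hv).1

theorem local_defect (hm : ¬ Ab ≤ centralizer (K : Set X))
    (hz : Ab ⊓ K ⊓ centralizer (K : Set X) ≠ ⊥) :
    Nat.card Ab = 8 * Nat.card ↥(Ab ⊓ centralizer (K : Set X)) ∧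
      Nat.card ↥(Ab ⊓ K ⊓ centralizer (K : Set X)) ≤ 4 ∧
      ∀ g ∈ normalizer (Ab : Set X), (∀ d ∈ Ab ⊓ centralizer (K : Set X), g * d * g⁻¹ = d) →
        (∀ x ∈ Ab, g * g * x * (g * g)⁻¹ * x⁻¹ ∈ centralizer (K : Set X)) →
          ∀ x ∈ Ab, g * x * g⁻¹ * x⁻¹ ∈ centralizer (K : Set X) := by
  haveI : Fact (Nat.Prime 2) := ⟨Nat.prime_two⟩
  obtain ⟨T, hT⟩ := h.exists_sylow
  obtain ⟨P, hP, hcl, hel, hne, h1, h2, h3, -⟩ := exists_data h hK hT hm
  obtain ⟨⟨z, hzm⟩, hz1⟩ := (Ab ⊓ K ⊓ centralizer (K : Set X)).ne_bot_iff_exists_ne_one.1 hz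
  obtain ⟨⟨hzA, hzK⟩, hzC⟩ := hzm
  have hz1' : z ≠ 1 := fun e => hz1 (Subtype.ext e)
  have hzc : (⟨z, hzK⟩ : ↥K) ∈ center ↥K := (QuotientGroup.eq_one_iff _).1 ((mk_eq_one hK).2 hzC)
  by_cases he : (P : Subgroup (↥K ⧸ center ↥K)) = kbar Ab K
  · exfalso
    obtain ⟨PK, hPK⟩ := exists_sylow_component (T := T) hK
    have hmem : ∀ a ∈ (PK : Subgroup ↥K), ∃ e ∈ Ab ⊓ K, ∃ c ∈ centralizer (K : Set X), (a : X) = e * c := by
      intro a ha
      rw [hPK, mem_subgroupOf] at ha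
      obtain ⟨⟨e, heK⟩, he', hte⟩ := (he ▸ (hP a).2 ha : (a : ↥K ⧸ center ↥K) ∈ kbar Ab K)
      exact ⟨e, mem_subgroupOf.1 he', e⁻¹ * a, (mk_eq_mk hK).1 hte, (mul_inv_cancel_left e (a : X)).symm⟩
    refine hz1' (congrArg Subtype.val (eq_one_of_abelian_sylow hK.2.1.commutator_eq_top PK ?_
      (z := ⟨z, hzK⟩) (by rw [hPK, mem_subgroupOf]; exact hT hzA) hzc))
    intro a ha b hb
    obtain ⟨e, he, c, hc, hec⟩ := hmem a ha
    obtain ⟨e', he', c', hc', hec'⟩ := hmem b hb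
    refine Subtype.ext ?_
    show (a : X) * b = b * a
    have hbc : (b : X) * c = c * b := mem_centralizer_iff.1 hc b b.2
    have hce' : e * c' = c' * e := mem_centralizer_iff.1 hc' e he.2
    have heb : e * (b : X) = b * e := by
      rw [hec', ← mul_assoc, h.comm he.1 he'.1, mul_assoc, hce', mul_assoc]
    rw [hec, mul_assoc, ← hbc, ← mul_assoc, heb, mul_assoc]
  · haveI := hK.2.2
    obtain ⟨H, hH⟩ := h1.resolve_left he
    have hB := (bender_of_se (not_comm_quotient hK) hH).1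
    have hne2 : ∃ t ∈ (P : Subgroup (↥K ⧸ center ↥K)), t * t ≠ 1 := by
      by_contra hcon
      push_neg at hcon
      exact he (le_antisymm (fun t ht => h2 t ht (hcon t ht)) hcl.1)
    have hz2 : 2 ∣ Nat.card (center ↥K) := by
      have h5 : orderOf (⟨z, hzK⟩ : ↥K) = 2 := orderOf_eq_prime (Subtype.ext (h.elem.2 z hzA))
        fun e => hz1' (congrArg Subtype.val e)
      exact h5 ▸ orderOf_dvd_natCard _ hzc
    obtain ⟨hcard, hinv, hout⟩ := sz_cover hK.2 hB hz2 P hne2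
    have hk8 : Nat.card (kbar Ab K) = 8 := by
      rw [← hinv P, ← Nat.card_coe_set_eq]
      refine Nat.card_congr (Equiv.setCongr ?_)
      ext x
      exact ⟨fun hx => ⟨hcl.1 hx, by rw [← pow_two]; exact hel.2 x hx⟩, fun hx => h2 x hx.1 hx.2⟩
    refine ⟨?_, ?_, ?_⟩
    · have e1 := card_sup_mul_card_inf (H := Ab ⊓ centralizer (K : Set X)) (N := Ab ⊓ K)
        (h.le_normalizer_of_le inf_le_left inf_le_left)
      rw [local_sup h hK, card_inf_eq hK, hk8] at e1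
      rw [mul_comm 8]
      exact Nat.eq_of_mul_eq_mul_right Nat.card_pos (e1.trans (mul_assoc _ _ _).symm)
    · refine le_trans (le_trans (card_le_of_le (inf_le_inf_right _ inf_le_right)) ?_) hcard
      rw [center_eq hK, Nat.card_congr (Subgroup.subgroupOfEquivOfLe inf_le_left).toEquiv]
    intro g hg hgD hg2 x hx
    have hgK : g ∈ normalizer (K : Set X) := by
      by_contra hgn
      have hne : K ≠ K.map (MulAut.conj g).toMonoidHom := fun e => hgn (conj_eq_iff.1 e.symm)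
      refine not_le_of_moved h hK hm fun v hv => ?_
      have hd : g * v * g⁻¹ ∈ Ab ⊓ centralizer (K : Set X) := ⟨mem_conj_normalizer hg hv.1,
        IsComponent.commute (IsComponent.conj hK g) hK hne.symm ⟨v, hv.2, rfl⟩⟩
      have := hgD _ hd
      rw [mul_left_inj, mul_right_inj] at this
      exact this ▸ hd.2
    obtain ⟨d, hd, v, hv, rfl⟩ : ∃ d ∈ Ab ⊓ centralizer (K : Set X), ∃ v ∈ Ab ⊓ K, d * v = x := by
      rw [← local_sup h hK] at hx
      replace hx : x ∈ (((Ab ⊓ centralizer (K : Set X)) ⊔ (Ab ⊓ K) : Subgroup X) : Set X) := hx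
      rw [coe_mul_of_left_le_normalizer_right _ _ (h.le_normalizer_of_le inf_le_left inf_le_left)] at hx
      exact hx
    have hgv : g * (d * v) * g⁻¹ * (d * v)⁻¹ = g * v * g⁻¹ * v⁻¹ := by
      have hw : g * v * g⁻¹ ∈ Ab := mem_conj_normalizer hg hv.1
      calc g * (d * v) * g⁻¹ * (d * v)⁻¹ = g * d * g⁻¹ * (g * v * g⁻¹) * v⁻¹ * d⁻¹ := by group
        _ = d * (g * v * g⁻¹ * v⁻¹) * d⁻¹ := by rw [hgD d hd]; group
        _ = _ := by rw [h.comm hd.1 (Ab.mul_mem hw (Ab.inv_mem hv.1)), mul_inv_cancel_right]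
    rw [hgv]
    let W : Subgroup X :=
      { carrier := {y | ∃ hy : y ∈ normalizer (K : Set X), ∀ e ∈ kbar Ab K, conjQ hy e = e}
        one_mem' := ⟨one_mem _, by rintro _ ⟨e, he, rfl⟩; exact congrArg QuotientGroup.mk (Subtype.ext (by simp))⟩
        mul_mem' := by
          rintro y y' ⟨hy, hy'⟩ ⟨hz, hz'⟩
          refine ⟨mul_mem hy hz, fun e he => ?_⟩
          obtain ⟨k, rfl⟩ := QuotientGroup.mk_surjective e
          have h6 := hz' _ he
          have h7 := hy' _ he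
          conv at h7 => lhs; rw [← h6]
          refine Eq.trans ?_ h7
          exact congrArg QuotientGroup.mk (Subtype.ext (by simp [mul_assoc]))
        inv_mem' := by
          rintro y ⟨hy, hy'⟩
          refine ⟨inv_mem hy, fun e he => ?_⟩
          have h6 := congrArg (conjQ (inv_mem hy)) (hy' _ he)
          refine h6.symm.trans ?_
          obtain ⟨k, rfl⟩ := QuotientGroup.mk_surjective e
          exact congrArg QuotientGroup.mk (Subtype.ext (by simp [mul_assoc])) }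
    have hgg : g * g ∈ W := by
      refine ⟨mul_mem hgK hgK, ?_⟩
      rintro _ ⟨⟨e, heK⟩, he, rfl⟩
      refine ((mk_eq_mk hK).2 ?_).symm
      show e⁻¹ * (g * g * e * (g * g)⁻¹) ∈ centralizer (K : Set X)
      have h6 := conj_mem_centralizer (Subgroup.le_normalizer (K.inv_mem heK)) (hg2 e (mem_subgroupOf.1 he).1)
      rwa [show e⁻¹ * (g * g * e * (g * g)⁻¹ * e⁻¹) * e⁻¹⁻¹ = e⁻¹ * (g * g * e * (g * g)⁻¹) by group] at h6
    suffices hgW : g ∈ W by
      obtain ⟨hy, hy'⟩ := hgW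
      have h6 := (mk_eq_mk hK).1 (hy' _ (mem_kbar hv.1 hv.2)).symm
      change v⁻¹ * (g * v * g⁻¹) ∈ centralizer (K : Set X) at h6
      have h7 := conj_mem_centralizer (Subgroup.le_normalizer hv.2) h6
      rwa [show v * (v⁻¹ * (g * v * g⁻¹)) * v⁻¹ = g * v * g⁻¹ * v⁻¹ by group] at h7
    -- `g = (power of g²) · (2-element)`
    obtain ⟨j, n, hn, hjn⟩ := Nat.exists_eq_two_pow_mul_odd (orderOf_pos g).ne'
    obtain ⟨m, hm'⟩ := hn
    set t := g ^ n with ht
    have htW : t ∈ W → g ∈ W := fun htW => by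
      have : g = ((g * g) ^ m)⁻¹ * t := by rw [ht, hm', pow_succ, pow_mul, pow_two, inv_mul_cancel_left]
      rw [this]; exact W.mul_mem (W.inv_mem (W.pow_mem hgg m)) htW
    refine htW ⟨pow_mem hgK n, ?_⟩
    have htK : t ∈ normalizer (K : Set X) := pow_mem hgK n
    have htN : t ∈ normalizer (Ab : Set X) := pow_mem hg n
    let hom : ↥(normalizer (K : Set X)) →* MulAut (↥K ⧸ center ↥K) :=
      { toFun := fun y => MonoidHom.toMulEquiv (conjQ y.2) (conjQ (inv_mem y.2))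
          (MonoidHom.ext fun e => by
            obtain ⟨k, rfl⟩ := QuotientGroup.mk_surjective e
            exact congrArg QuotientGroup.mk (Subtype.ext (by simp [mul_assoc])))
          (MonoidHom.ext fun e => by
            obtain ⟨k, rfl⟩ := QuotientGroup.mk_surjective e
            exact congrArg QuotientGroup.mk (Subtype.ext (by simp [mul_assoc])))
        map_one' := MulEquiv.ext fun e => by
          obtain ⟨k, rfl⟩ := QuotientGroup.mk_surjective e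
          exact congrArg QuotientGroup.mk (Subtype.ext (by simp))
        map_mul' := fun a b => MulEquiv.ext fun e => by
          obtain ⟨k, rfl⟩ := QuotientGroup.mk_surjective e
          exact congrArg QuotientGroup.mk (Subtype.ext (by simp [mul_assoc])) }
    have htj : (⟨t, htK⟩ : ↥(normalizer (K : Set X))) ^ (2 ^ j) = 1 := Subtype.ext (by
      show t ^ (2 ^ j) = 1
      rw [ht, ← pow_mul, mul_comm, ← hjn, pow_orderOf_eq_one])
    obtain ⟨k, hk⟩ := hout (hom ⟨t, htK⟩) ⟨j, by rw [← map_pow, htj, map_one]⟩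
    have hσ : ∀ e, conjQ htK e = k * e * k⁻¹ := fun e => DFunLike.congr_fun hk e
    have hk1 : k ^ (2 ^ j) = 1 := by
      have h6 : MulAut.conj (k ^ (2 ^ j)) = 1 := by rw [map_pow, ← hk, ← map_pow, htj, map_one]
      have h7 : k ^ (2 ^ j) ∈ center (↥K ⧸ center ↥K) := mem_center_iff.2 fun y => by
        have h8 := DFunLike.congr_fun h6 y
        simp only [MulAut.conj_apply, MulAut.one_apply] at h8
        exact (mul_inv_eq_iff_eq_mul.1 h8).symm
      rwa [Transfer.CentralFour.center_eq_bot (not_comm_quotient hK), mem_bot] at h7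
    have hkN : k ∈ normalizer (kbar Ab K : Set (↥K ⧸ center ↥K)) := mem_normalizer_fintype fun e he => by
      show k * e * k⁻¹ ∈ kbar Ab K
      rw [← hσ]
      obtain ⟨⟨e, heK⟩, he, rfl⟩ := he
      exact mem_kbar (mem_conj_normalizer htN (mem_subgroupOf.1 he).1) (mem_conj_normalizer htK heK)
    set N := normalizer (kbar Ab K : Set (↥K ⧸ center ↥K))
    have hPN : (P : Subgroup (↥K ⧸ center ↥K)) ≤ N := h3.trans (centralizer_le_normalizer _)
    have hk2 : IsPGroup 2 (zpowers (⟨k, hkN⟩ : ↥N)) := by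
      intro y
      obtain ⟨l, hl⟩ := mem_zpowers_iff.1 y.2
      refine ⟨j, Subtype.ext ?_⟩
      show (y : ↥N) ^ (2 ^ j) = 1
      have h8 : (⟨k, hkN⟩ : ↥N) ^ (2 ^ j) = 1 := Subtype.ext hk1
      rw [← hl, ← zpow_natCast, zpow_comm, zpow_natCast, h8, one_zpow]
    obtain ⟨Q, hQ⟩ := hk2.exists_le_sylow
    obtain ⟨c, hc⟩ := MulAction.exists_smul_eq ↥N (P.subtype hPN) Q
    have hkQ : (⟨k, hkN⟩ : ↥N) ∈ (Q : Subgroup ↥N) := hQ (mem_zpowers _)
    rw [← hc, Sylow.coe_subgroup_smul, ← Grp.map_conj_eq_smul] at hkQ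
    obtain ⟨p, hp, hpk⟩ := hkQ
    intro e he
    rw [hσ]
    have hpe : (p : ↥K ⧸ center ↥K) ∈ (P : Subgroup (↥K ⧸ center ↥K)) := hp
    have hk' : (c : ↥K ⧸ center ↥K) * p * (c : ↥K ⧸ center ↥K)⁻¹ = k := congrArg Subtype.val hpk
    have h9 := mem_centralizer_iff.1 (h3 hpe) _ (mem_conj_normalizer' c.2 he)
    rw [← hk']
    calc (c : ↥K ⧸ center ↥K) * p * (c : ↥K ⧸ center ↥K)⁻¹ * e * ((c : ↥K ⧸ center ↥K) * p * (c : ↥K ⧸ center ↥K)⁻¹)⁻¹
        = c * (p * ((c : ↥K ⧸ center ↥K)⁻¹ * e * c)) * (p : ↥K ⧸ center ↥K)⁻¹ * (c : ↥K ⧸ center ↥K)⁻¹ := by group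
      _ = c * (((c : ↥K ⧸ center ↥K)⁻¹ * e * c) * p) * (p : ↥K ⧸ center ↥K)⁻¹ * (c : ↥K ⧸ center ↥K)⁻¹ := by rw [h9]
      _ = e := by group

end Component

section Global

variable {X : Type u} [Group X] [Finite X] {Ab : Subgroup X} (h : LocalHyp X Ab)
include h

/-- Every element of `Ab` is in `Ab ∩ E(X)` times one centralising every component. -/
theorem exists_mul_centralizes {x : X} (hx : x ∈ Ab) :
    ∃ e ∈ Ab ⊓ Cfsg.layer X, x * e ∈ centralizer (Cfsg.layer X : Set X) := by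
  classical
  obtain ⟨S, hS, hSsup⟩ := components_finset (G := X)
  have key : ∀ s : Finset (Subgroup X), s ⊆ S → ∃ e ∈ Ab ⊓ s.sup id,
      ∀ K ∈ s, x * e ∈ centralizer (K : Set X) := by
    intro s
    induction s using Finset.induction_on with
    | empty => exact fun _ => ⟨1, ⟨one_mem _, one_mem _⟩, by simp⟩
    | insert K s hKs ih =>
      intro hsub
      obtain ⟨e, he, hec⟩ := ih fun L hL => hsub (Finset.mem_insert_of_mem hL)
      have hK := (hS K).1 (hsub (Finset.mem_insert_self K s))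
      have hxe : x * e ∈ Ab := Ab.mul_mem hx he.1
      obtain ⟨d, hd, v, hv, hdv⟩ : ∃ d ∈ Ab ⊓ centralizer (K : Set X), ∃ v ∈ Ab ⊓ K, d * v = x * e := by
        rw [← local_sup h hK, ← SetLike.mem_coe, coe_mul_of_left_le_normalizer_right _ _
          (h.le_normalizer_of_le inf_le_left inf_le_left)] at hxe
        exact hxe
      have hxev : x * (e * v) = d := by
        rw [← mul_assoc, ← hdv, mul_assoc, h.sq hv.1, mul_one]
      rw [Finset.sup_insert, id]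
      refine ⟨e * v, ⟨Ab.mul_mem he.1 hv.1, mul_mem (mem_sup_right he.2) (mem_sup_left hv.2)⟩, fun L hL => ?_⟩
      rcases Finset.mem_insert.1 hL with rfl | hLs
      · rw [hxev]; exact hd.2
      · have hLK : K ≤ centralizer (L : Set X) := IsComponent.commute hK
          ((hS L).1 (hsub hL)) fun e' => hKs (e' ▸ hLs)
        rw [← mul_assoc]
        exact Subgroup.mul_mem _ (hec L hLs) (hLK hv.2)
  obtain ⟨e, he, hec⟩ := key S (Finset.Subset.refl _)
  rw [← hSsup]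
  refine ⟨e, he, ?_⟩
  have : S.sup id ≤ centralizer ({x * e} : Set X) := Finset.sup_le fun K hK k hk =>
    mem_centralizer_singleton_iff.2 (mem_centralizer_iff.1 (hec K hK) k hk)
  exact mem_centralizer_iff.2 fun k hk => mem_centralizer_singleton_iff.1 (this hk)

theorem local_cover : Cfsg.layer X ⊔ normalizer (Ab : Set X) = ⊤ := by
  haveI : Fact (Nat.Prime 2) := ⟨Nat.prime_two⟩
  obtain ⟨T, hT⟩ := h.exists_sylow
  set Q := Cfsg.pCore 2 X
  haveI hQn : Q.Normal := Grp.pCore_isNormal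
  haveI hLn : (Cfsg.layer X).Normal := Subgroup.normalizer_eq_top_iff.1 (eq_top_iff.2 fun g _ => by
    rw [mem_normalizer_iff_smul, ← map_conj_eq_smul]
    exact le_antisymm (layer_map_le (MulAut.conj g)) (by
      have := map_mono (f := (MulAut.conj g).toMonoidHom) (layer_map_le (MulAut.conj g⁻¹))
      rwa [Subgroup.map_map, show (MulAut.conj g).toMonoidHom.comp (MulAut.conj g⁻¹).toMonoidHom = MonoidHom.id X
        from MonoidHom.ext fun z => by simp [mul_assoc], Subgroup.map_id] at this))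
  have hQT : Q ≤ T := Grp.pCore_le_sylow T
  set V := Ab ⊓ Q
  have hVn : ∀ g : X, ∀ v ∈ V, g * v * g⁻¹ ∈ V := fun g v hv =>
    ⟨h.closed _ T.isPGroup' hT v hv.1 g (hQT (hQn.conj_mem v hv.2 g)), hQn.conj_mem v hv.2 g⟩
  let N1 : Subgroup X :=
    { carrier := {y | y ∈ centralizer (Cfsg.layer X : Set X) ∧ (∀ v ∈ V, y * v = v * y) ∧
        ∀ q ∈ Q, y * q * y⁻¹ * q⁻¹ ∈ V}
      one_mem' := ⟨one_mem _, fun v _ => by simp, fun q _ => by simp⟩
      mul_mem' := by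
        rintro y z ⟨hy, hy', hy''⟩ ⟨hz, hz', hz''⟩
        refine ⟨Subgroup.mul_mem _ hy hz, fun v hv => ?_, fun q hq => ?_⟩
        · rw [mul_assoc, hz' v hv, ← mul_assoc, hy' v hv, mul_assoc]
        · have e : y * z * q * (y * z)⁻¹ * q⁻¹ =
              (y * (z * q * z⁻¹ * q⁻¹) * y⁻¹) * (y * q * y⁻¹ * q⁻¹) := by group
          rw [e]
          exact V.mul_mem (hVn y _ (hz'' q hq)) (hy'' q hq)
      inv_mem' := by
        rintro y ⟨hy, hy', hy''⟩
        refine ⟨Subgroup.inv_mem _ hy, fun v hv => ?_, fun q hq => ?_⟩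
        · calc y⁻¹ * v = y⁻¹ * (v * y) * y⁻¹ := by group
            _ = y⁻¹ * (y * v) * y⁻¹ := by rw [hy' v hv]
            _ = _ := by group
        · have := hVn y⁻¹ _ (V.inv_mem (hy'' q hq))
          rwa [show y⁻¹ * (y * q * y⁻¹ * q⁻¹)⁻¹ * y⁻¹⁻¹ = y⁻¹ * q * y⁻¹⁻¹ * q⁻¹ by group] at this }
  have hN1n : N1.Normal := by
    refine ⟨fun y ⟨hy, hy', hy''⟩ g => ⟨?_, fun v hv => ?_, fun q hq => ?_⟩⟩
    · exact conj_mem_centralizer (K := Cfsg.layer X) (normalizer_eq_top (H := Cfsg.layer X) ▸ mem_top g) hy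
    · have h1 := hy' _ (by simpa using hVn g⁻¹ v hv)
      calc g * y * g⁻¹ * v = g * (y * (g⁻¹ * v * g)) * g⁻¹ := by group
        _ = g * ((g⁻¹ * v * g) * y) * g⁻¹ := by rw [h1]
        _ = _ := by group
    · have h1 := hy'' _ (by simpa using hQn.conj_mem q hq g⁻¹)
      have h2 := hVn g _ h1
      rwa [show g * (y * (g⁻¹ * q * g) * y⁻¹ * (g⁻¹ * q * g)⁻¹) * g⁻¹ =
        g * y * g⁻¹ * q * (g * y * g⁻¹)⁻¹ * q⁻¹ by group] at h2
  have hN1 : N1 ≤ Q := by
    refine Grp.le_pCore hN1n ?_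
    by_contra hne
    obtain ⟨p, hp, hpd, hp2⟩ : ∃ p, p.Prime ∧ p ∣ Nat.card N1 ∧ p ≠ 2 := by
      by_contra hcon
      push_neg at hcon
      exact hne (IsPGroup.of_card
        (Nat.eq_prime_pow_of_unique_prime_dvd Nat.card_pos.ne' fun {q} hq hqd => hcon q hq hqd))
    haveI := Fact.mk hp
    obtain ⟨y, hy⟩ := exists_prime_orderOf_dvd_card' p hpd
    rw [← Subgroup.orderOf_coe] at hy
    obtain ⟨hyL, hy', hy''⟩ := y.2
    have hyQ : ∀ q ∈ Q, Commute (y : X) q := by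
      intro q hq
      have hw := hy'' q hq
      set w := (y : X) * q * (y : X)⁻¹ * q⁻¹
      have hyw : (y : X) * w = w * y := hy' w hw
      have hsq : w * w = 1 := h.sq hw.1
      have h2 : Commute ((y : X) ^ 2) q := by
        show (y : X) ^ 2 * q = q * (y : X) ^ 2
        have e : (y : X) * q = w * q * y := by simp only [w]; group
        calc (y : X) ^ 2 * q = y * (y * q) := by rw [pow_two, mul_assoc]
          _ = (y * w) * (q * y) := by rw [e]; group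
          _ = w * (y * q) * y := by rw [hyw]; group
          _ = (w * w) * q * (y : X) ^ 2 := by rw [e, pow_two]; group
          _ = _ := by rw [hsq, one_mul]
      obtain ⟨m, hm⟩ := hp.odd_of_ne_two hp2
      have e : (y : X) = ((y : X) ^ 2) ^ (m + 1) := by
        rw [← pow_mul, show 2 * (m + 1) = p + 1 by omega, pow_succ, ← hy, pow_orderOf_eq_one, one_mul]
      rw [e]; exact h2.pow_left _
    have hyF : (y : X) ∈ centralizer (Cfsg.generalizedFittingSubgroup X : Set X) := by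
      refine mem_centralizer_iff.2 fun z hz => ?_
      have hle : Cfsg.generalizedFittingSubgroup X ≤ centralizer ({(y : X)} : Set X) := by
        refine sup_le (fun k hk => ?_) (fun k hk => ?_)
        · exact mem_centralizer_singleton_iff.2 (mem_centralizer_iff.1 hyL k hk)
        · rw [fitting_eq_pCore (p := 2) h.core] at hk
          exact mem_centralizer_singleton_iff.2 (hyQ k hk).eq.symm
      exact mem_centralizer_singleton_iff.1 (hle hz)
    have h9 := centralizer_gfitting_le_fitting hyF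
    rw [fitting_eq_pCore (p := 2) h.core] at h9
    obtain ⟨j, hj⟩ := Grp.pCore_isPGroup (p := 2) (G := X) ⟨(y : X), h9⟩
    have h10 := orderOf_dvd_of_pow_eq_one (x := (y : X)) (by simpa using congrArg Subtype.val hj)
    rw [hy] at h10
    exact hp2 ((Nat.prime_dvd_prime_iff_eq hp Nat.prime_two).1 (hp.dvd_of_dvd_pow h10))
  have hAF : Ab ≤ Cfsg.layer X ⊔ Q := by
    intro x hx
    obtain ⟨e, he, hc⟩ := exists_mul_centralizes h hx
    have hr : x * e ∈ Q := hN1 ⟨hc, fun v hv => h.comm (Ab.mul_mem hx he.1) hv.1, fun q hq => by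
      have hxe := Ab.mul_mem hx he.1
      have hN := h.sylow_le_normalizer hT (hQT hq)
      refine ⟨?_, ?_⟩
      · rw [show x * e * q * (x * e)⁻¹ * q⁻¹ = x * e * (q * (x * e)⁻¹ * q⁻¹) by group]
        exact Ab.mul_mem hxe (mem_conj_normalizer hN (Ab.inv_mem hxe))
      · exact Q.mul_mem (hQn.conj_mem q hq _) (Q.inv_mem hq)⟩
    have : x = (x * e) * e := by rw [mul_assoc, h.sq he.1, mul_one]
    rw [this]
    exact mul_mem (mem_sup_right hr) (mem_sup_left he.2)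
  set H0 := Cfsg.layer X ⊔ Q with hH0
  haveI : H0.Normal := Subgroup.sup_normal _ _
  have hp : IsPGroup 2 ((T : Subgroup X).subgroupOf H0) := T.isPGroup'.comap_of_injective _ (subtype_injective _)
  have hnorm : H0.IsSubnormal := (inferInstance : H0.Normal).isSubnormal
  have hfr := Sylow.normalizer_sup_eq_top (hp.toSylow (not_dvd_relIndex_sylow T hnorm))
  rw [eq_top_iff, ← hfr]
  refine sup_le (fun g hg => mem_sup_right ?_)
    (sup_le le_sup_left ((hQT.trans (h.sylow_le_normalizer hT)).trans le_sup_right))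
  refine mem_normalizer_fintype fun a ha => h.closed _ T.isPGroup' hT a ha g ?_
  have h1 := mem_conj_normalizer hg (x := a) ⟨⟨a, hAF ha⟩, hT ha, rfl⟩
  obtain ⟨b, hb, e⟩ := h1
  rw [← e]; exact hb

/-- The components not centralised by `Ab`. -/
def movedComps (Ab : Subgroup X) : Set (Subgroup X) :=
  {J | Cfsg.IsComponent J ∧ ¬ J ≤ centralizer (Ab : Set X)}

theorem local_gen : sSup (movedComps Ab) ⊔ normalizer (Ab : Set X) = ⊤ := by
  rw [eq_top_iff, ← local_cover h]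
  refine sup_le (sSup_le fun J hJ => ?_) le_sup_right
  by_cases hc : J ≤ centralizer (Ab : Set X)
  · exact (hc.trans (centralizer_le_normalizer _)).trans le_sup_right
  · exact (le_sSup (s := movedComps Ab) ⟨hJ, hc⟩).trans le_sup_left

theorem local_closure : ⁅(⊤ : Subgroup X), Ab⁆ ≤ Ab ⊔ sSup (movedComps Ab) := by
  set M := Ab ⊔ sSup (movedComps Ab)
  have hN : normalizer (Ab : Set X) ≤ normalizer (M : Set X) := by
    refine le_normalizer_sup_of le_rfl (invariant_iff.1 fun n hn => ?_)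
    suffices hle : (sSup (movedComps Ab)).map (MulAut.conj n).toMonoidHom ≤ sSup (movedComps Ab) from
      fun x hx => hle ⟨x, hx, rfl⟩
    rw [map_le_iff_le_comap]
    refine sSup_le fun J hJ => ?_
    rw [← map_le_iff_le_comap]
    refine le_sSup (s := movedComps Ab) ⟨IsComponent.conj hJ.1 n, fun hc => hJ.2 fun j hj => ?_⟩
    refine mem_centralizer_iff.2 fun a ha => ?_
    have h1 : n * a * n⁻¹ * (n * j * n⁻¹) = n * j * n⁻¹ * (n * a * n⁻¹) :=
      mem_centralizer_iff.1 (hc ⟨j, hj, rfl⟩) _ (mem_conj_normalizer hn ha)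
    calc a * j = n⁻¹ * (n * a * n⁻¹ * (n * j * n⁻¹)) * n := by group
      _ = n⁻¹ * (n * j * n⁻¹ * (n * a * n⁻¹)) * n := by rw [h1]
      _ = _ := by group
  haveI : M.Normal := normalizer_eq_top_iff.1 (top_le_iff.1 ((local_gen h).symm.le.trans
    (sup_le ((le_sup_right : sSup (movedComps Ab) ≤ M).trans Subgroup.le_normalizer) hN)))
  exact (commutator_mono le_rfl le_sup_left).trans (commutator_le_right ⊤ M)

end Global

end Cfsg.Agent.Fus.Gold
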