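import Cfsg.Agent.Lib.Fus.Goldschmidt.FourPoint
import Cfsg.Agent.S1174
import Cfsg.Agent.Lib.Fus.Goldschmidt.Local
import Cfsg.Agent.S0516
import Cfsg.Agent.S0486
import Cfsg.Agent.S0217

/-!
# `A` of order four: an involution of four type

`C(a) = O(C(a)) C(A)`; an involution of `S` lies outside `A` unless `S = A`; then one of its translates by `A`
has four type, for otherwise the cores would be balanced on `A × ⟨y⟩` and give a strongly embedded subgroup.
-/

set_option autoImplicit false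
set_option linter.style.haveILetI false
set_option linter.unusedSectionVars false

namespace Cfsg.Agent.Fus.Gold

open Subgroup Cfsg.Agent.Grp
open scoped commutatorElement

universe u

variable {G : Type u} [Group G] [Finite G] {s : Setup G}

/-- No proper subgroup contains the centralisers of all involutions of `A`. -/
theorem Four.eq_top_of_centralizers (h : Four s) {M : Subgroup G}
    (hM : ∀ a ∈ s.A, a ≠ 1 → centralizer ({a} : Set G) ≤ M) : M = ⊤ := by
  by_contra hne
  haveI := s.simple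
  refine h.nse (S1174.result s.S s.A s.ne_bot s.closed fun e => hne (top_le_iff.1 ?_))
  rw [← e]
  refine iSup_le fun t => hM t t.2.1 fun e1 => ?_
  have h2 := t.2.2
  rw [e1, orderOf_one] at h2
  omega

/-- `C(a) = O(C(a)) C(A)`. -/
theorem Four.split (h : Four s) {a : G} (ha : a ∈ s.A) (ha1 : a ≠ 1) :
    centralizer ({a} : Set G) ≤ Cfsg.centralizerPPrimeCore 2 a ⊔ centralizer (s.A : Set G) := by
  haveI : Fact (Nat.Prime 2) := ⟨Nat.prime_two⟩
  have hAa := s.le_centralizer ha
  set C := centralizer ({a} : Set G)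
  have hloc := localHyp_of s hAa (s.card_centralizer_lt ha ha1)
  have hcard : Nat.card ↥(imA s.A a) = 4 := by
    rw [← h.card]
    refine (Nat.card_eq_of_bijective (fun x : ↥s.A =>
      (⟨proj a ⟨x, hAa x.2⟩, (mem_imA_of hAa).2 ⟨x, x.2, rfl⟩⟩ : ↥(imA s.A a))) ⟨fun x z e => ?_, fun z => ?_⟩).symm
    · have h1 := proj_injOn (Grp.elemAb_isPGroup s.elem) (u := ⟨(x : G), hAa x.2⟩) (v := ⟨(z : G), hAa z.2⟩)
        x.2 z.2 (congrArg Subtype.val e)
      exact Subtype.ext (congrArg Subtype.val h1 :)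
    · obtain ⟨x, hx, e⟩ := (mem_imA_of hAa).1 z.2
      exact ⟨⟨x, hx⟩, Subtype.ext e⟩
  -- no component is moved
  have hnone : ∀ K : Subgroup (Cq a), Cfsg.IsComponent K → imA s.A a ≤ centralizer (K : Set (Cq a)) := by
    intro K hK
    by_contra hm
    have h1 := local_four hloc hK hm
    have h2 : proj a ⟨a, hAa ha⟩ ∈ imA s.A a ⊓ centralizer (K : Set (Cq a)) := by
      refine ⟨(mem_imA_of hAa).2 ⟨a, ha, rfl⟩, mem_centralizer_iff.2 fun k _ => ?_⟩
      obtain ⟨k, rfl⟩ := QuotientGroup.mk'_surjective (Cfsg.pPrimeCore 2 ↥C) k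
      rw [← map_mul, ← map_mul]
      exact congrArg _ (Subtype.ext (mem_centralizer_singleton_iff.1 k.2))
    have h3 : 2 ≤ Nat.card ↥(imA s.A a ⊓ centralizer (K : Set (Cq a))) := by
      by_contra hlt
      have h4 : Nat.card ↥(imA s.A a ⊓ centralizer (K : Set (Cq a))) = 1 := by
        have := Nat.card_pos (α := ↥(imA s.A a ⊓ centralizer (K : Set (Cq a))))
        omega
      rw [Subgroup.card_eq_one] at h4
      rw [h4, mem_bot] at h2
      exact ha1 (congrArg Subtype.val (proj_injOn (Grp.elemAb_isPGroup s.elem) (u := ⟨a, hAa ha⟩) (v := 1) ha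
        s.A.one_mem (h2.trans (map_one _).symm)))
    rw [hcard] at h1
    omega
  have htop : normalizer (imA s.A a : Set (Cq a)) = ⊤ := by
    refine top_le_iff.1 ((local_cover hloc).ge.trans (sup_le ?_ le_rfl))
    exact (le_centralizer_iff.1 (le_centralizer_iff.2 (sSup_le fun K hK => le_centralizer_iff.1 (hnone K hK)))).trans
      (centralizer_le_normalizer _)
  intro x hx
  have hp : IsPGroup 2 ↥(s.A.subgroupOf C) :=
    (Grp.elemAb_isPGroup s.elem).comap_of_injective _ (subtype_injective C)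
  have h5 : proj a ⟨x, hx⟩ ∈ normalizer ((s.A.subgroupOf C).map (proj a) : Set (Cq a)) := by
    show _ ∈ normalizer (imA s.A a : Set (Cq a))
    rw [htop]; trivial
  rw [← map_normalizer_pGroup hp] at h5
  obtain ⟨n, hn, hnx⟩ := h5
  have hno : (⟨x, hx⟩ : ↥C) * n⁻¹ ∈ Cfsg.pPrimeCore 2 ↥C := by
    rw [← QuotientGroup.eq_one_iff, ← QuotientGroup.mk'_apply]
    show proj a (⟨x, hx⟩ * n⁻¹) = 1
    rw [map_mul, map_inv, show proj a n = proj a ⟨x, hx⟩ from hnx, mul_inv_cancel]
  have hnN : (n : G) ∈ normalizer (s.A : Set G) := mem_normalizer_fintype fun v hv =>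
    mem_subgroupOf.1 ((mem_normalizer_iff.1 hn ⟨v, hAa hv⟩).1 (mem_subgroupOf.2 hv))
  have h6 := mul_mem_sup (S := Cfsg.centralizerPPrimeCore 2 a) (T := centralizer (s.A : Set G))
    (⟨_, hno, rfl⟩ : ((⟨x, hx⟩ * n⁻¹ : ↥C) : G) ∈ Cfsg.centralizerPPrimeCore 2 a)
    (h.centralizer_inf_normalizer ha ha1 ⟨n.2, hnN⟩)
  simpa using h6

theorem Four.no_outside (h : Four s) (hin : ∀ x ∈ (s.S : Subgroup G), x * x = 1 → x ∈ s.A) :
    (s.S : Subgroup G) = s.A := by
  classical
  haveI : Fact (Nat.Prime 2) := ⟨Nat.prime_two⟩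
  haveI := s.simple
  have hrank : Cfsg.PRankLE 2 2 G := by
    intro B hB hB2
    obtain ⟨P, hP⟩ := (Grp.elemAb_isPGroup ⟨hB, hB2⟩).exists_le_sylow
    obtain ⟨g, hg⟩ := MulAction.exists_smul_eq G P s.S
    have hle : B.map (MulAut.conj g).toMonoidHom ≤ s.A := by
      rintro _ ⟨b, hb, rfl⟩
      refine hin _ ?_ ?_
      · rw [← hg, Sylow.coe_subgroup_smul, ← Grp.map_conj_eq_smul]
        exact ⟨b, hP hb, rfl⟩
      · rw [← map_mul, show b * b = 1 by rw [← pow_two]; exact hB2 b hb, map_one]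
    have h1 := card_le_of_le hle
    rw [card_map_of_injective (f := (MulAut.conj g).toMonoidHom) (MulAut.conj g).injective, h.card] at h1
    exact h1
  letI : Fintype (GaloisField 2 4) := Fintype.ofFinite _
  have hF : Fintype.card (GaloisField 2 4) = 16 := by
    rw [← Nat.card_eq_fintype_card, GaloisField.card 2 4 (by norm_num)]; norm_num
  obtain ⟨P⟩ : Nonempty (Sylow 2 (Cfsg.PSU 3 (GaloisField 2 4) 4)) := inferInstance
  have hcomm : ∀ y : ↥(s.S : Subgroup G), y * y = 1 → ∀ x : ↥(s.S : Subgroup G), y * x = x * y := fun y hy x =>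
    Subtype.ext (mem_centralizer_iff.1 (h.central x.2) _ (hin y y.2 (congrArg Subtype.val hy)))
  rcases S0516.result s.nonab hrank s.S hF P with ⟨n, hn, ⟨e⟩⟩ | hQD | hW | ⟨⟨e⟩⟩
  · -- dihedral
    have h1 : DihedralGroup.sr (0 : ZMod n) * DihedralGroup.r 1 = DihedralGroup.r 1 * DihedralGroup.sr 0 := by
      have := hcomm (e.symm (DihedralGroup.sr 0))
        (by rw [← map_mul, DihedralGroup.sr_mul_self, map_one]) (e.symm (DihedralGroup.r 1))
      rw [← map_mul, ← map_mul] at this
      exact e.symm.injective this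
    rw [DihedralGroup.sr_mul_r, DihedralGroup.r_mul_sr, DihedralGroup.sr.injEq] at h1
    have h2 : ((2 : ℕ) : ZMod n) = 0 := by
      push_cast
      linear_combination h1
    have hn2 : n = 2 := le_antisymm (Nat.le_of_dvd two_pos ((ZMod.natCast_eq_zero_iff 2 n).1 h2)) hn
    refine (eq_of_le_of_card_ge s.closed.1 ?_).symm
    rw [Nat.card_congr e.toEquiv, DihedralGroup.nat_card, h.card, hn2]
  · exfalso
    obtain ⟨n, hn, -, x, y, hx, hy, hxy⟩ := hQD
    have hy2 : y * y = 1 := by
      have e := pow_orderOf_eq_one y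
      rwa [hy, pow_two] at e
    rw [hcomm y hy2 x, mul_inv_cancel_right] at hxy
    have h1 : x ^ (2 ^ (n - 1) - 2) = 1 := by
      have h4 : 4 ≤ 2 ^ (n - 1) := by
        calc 4 = 2 ^ 2 := rfl
          _ ≤ _ := Nat.pow_le_pow_right two_pos (by omega)
      have : x ^ (2 ^ (n - 1) - 2) * x = x := by
        rw [← pow_succ, show 2 ^ (n - 1) - 2 + 1 = 2 ^ (n - 1) - 1 by omega]
        exact hxy.symm
      exact mul_eq_right.1 this
    have h4 : 4 ≤ 2 ^ (n - 1) := by
      calc 4 = 2 ^ 2 := rfl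
        _ ≤ _ := Nat.pow_le_pow_right two_pos (by omega)
    have h5 := Nat.le_of_dvd (by omega) (hx ▸ orderOf_dvd_of_pow_eq_one h1)
    have h6 : 2 ^ (n - 1) ≤ 2 ^ n := Nat.pow_le_pow_right two_pos (Nat.sub_le _ _)
    omega
  · exfalso
    obtain ⟨n, hn, -, x, y, z, hx, -, hdis, hz, hzx⟩ := hW
    have hz2 : z * z = 1 := by
      have e := pow_orderOf_eq_one z
      rwa [hz, pow_two] at e
    rw [hcomm z hz2 x, mul_inv_cancel_right] at hzx
    rw [← hzx, inf_idem, zpowers_eq_bot] at hdis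
    rw [hdis, orderOf_one] at hx
    have : 4 ≤ 2 ^ n := by
      calc 4 = 2 ^ 2 := rfl
        _ ≤ _ := Nat.pow_le_pow_right two_pos hn
    omega
  · exfalso
    obtain ⟨e'⟩ := S0486.result hF s.S P ⟨e⟩
    exact h.nse (exists_se_of_psu (q := 4) (by rw [hF]; norm_num) (by decide) le_rfl e')

theorem Four.exists_fourType (h : Four s) {y : G} (hy : orderOf y = 2) (hyS : y ∈ (s.S : Subgroup G))
    (hyA : y ∉ s.A) : ∃ a ∈ s.A, FourType s (y * a) := by
  classical
  haveI : Fact (Nat.Prime 2) := ⟨Nat.prime_two⟩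
  by_contra hnone
  push Not at hnone
  set O : G → Subgroup G := fun a => Cfsg.centralizerPPrimeCore 2 a with hOdef
  have hy2 : y * y = 1 := by rw [← pow_two, ← hy, pow_orderOf_eq_one]
  have hcomS : ∀ x ∈ (s.S : Subgroup G), ∀ a ∈ s.A, a * x = x * a := fun x hx a ha =>
    mem_centralizer_iff.1 (h.central hx) a ha
  -- the translates of `y`
  have hya : ∀ a ∈ s.A, orderOf (y * a) = 2 ∧ y * a ∈ (s.S : Subgroup G) ∧ y * a ∉ s.A := by
    intro a ha
    have hna : y * a ∉ s.A := fun h' => hyA (by simpa using s.A.mul_mem h' (s.A.inv_mem ha))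
    refine ⟨orderOf_eq_prime ?_ fun e => hna (e ▸ s.A.one_mem), mul_mem hyS (s.closed.1 ha), hna⟩
    rw [pow_two, show y * a * (y * a) = y * (a * y) * a by group, hcomS y hyS a ha,
      show y * (y * a) * a = y * y * (a * a) by group, hy2, s.sq ha, one_mul]
  -- balance into the cores at the translates
  have hbalanced : ∀ a ∈ s.A, a ≠ 1 → ∀ b ∈ s.A,
      O a ⊓ centralizer ({y * b} : Set G) ≤ O (y * b) := by
    intro a ha ha1 b hb
    obtain ⟨hz, hzS, hzA⟩ := hya b hb
    set z := y * b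
    have hAz := h.le_centralizer_of_mem hzS
    set C := centralizer ({z} : Set G)
    obtain ⟨T, l, -⟩ := h.exists_loc hz hzS
    set t : Cq z := proj z ⟨a, hAz ha⟩
    set W0 : Subgroup G := O a ⊓ C
    set W : Subgroup (Cq z) := (W0.subgroupOf C).map (proj z)
    have hW : W = ⊥ := by
      refine l.eq_bot_of_invariant (fun K hK hm e => hnone b hb (fourType_of hz hzS hzA l hK hm e))
        (t := t) ((mem_imA_of hAz).2 ⟨a, ha, rfl⟩) (fun e => ha1 ?_) ?_ ?_ ?_
      · exact congrArg Subtype.val (proj_injOn (Grp.elemAb_isPGroup s.elem) (u := ⟨a, hAz ha⟩) (v := 1) ha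
          s.A.one_mem (e.trans (map_one _).symm))
      · refine Nat.Coprime.odd_of_left ?_ |> id
        refine Nat.Coprime.symm (Nat.Coprime.coprime_dvd_left (card_map_dvd _ _) ?_)
        rw [Nat.card_congr (subgroupOfEquivOfLe (inf_le_right : W0 ≤ C)).toEquiv]
        exact Nat.Coprime.coprime_dvd_left (card_dvd_of_le inf_le_left) (centralizerPPrimeCore_coprime a)
      · rintro _ ⟨⟨w, hwC⟩, hw, rfl⟩
        refine mem_centralizer_singleton_iff.2 ?_
        rw [← map_mul, ← map_mul]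
        exact congrArg _ (Subtype.ext (centralizerPPrimeCore_commute (mem_subgroupOf.1 hw).1))
      · have hzp : IsPGroup 2 ↥(zpowers (⟨a, hAz ha⟩ : ↥C)) := IsPGroup.of_card (n := 1) (by
          rw [Nat.card_zpowers, Subgroup.orderOf_mk, s.orderOf_eq ha ha1, pow_one])
        rw [centralizer_singleton_eq_zpowers t, show zpowers t = (zpowers (⟨a, hAz ha⟩ : ↥C)).map (proj z) from
          (MonoidHom.map_zpowers _ _).symm, ← map_centralizer_pGroup hzp]
        refine le_trans (map_mono fun c hc => ?_) (le_normalizer_map _)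
        refine mem_normalizer_fintype fun w hw => mem_subgroupOf.2 ⟨?_, (c * w * c⁻¹).2⟩
        rw [← centralizer_singleton_eq_zpowers] at hc
        exact centralizerPPrimeCore_conj (congrArg Subtype.val (mem_centralizer_singleton_iff.1 hc))
          (mem_subgroupOf.1 hw).1
    intro x hx
    have h1 : proj z ⟨x, hx.2⟩ ∈ W := mem_map_of_mem _ (mem_subgroupOf.2 hx)
    rw [hW, mem_bot] at h1
    exact ⟨_, (QuotientGroup.eq_one_iff _).1 h1, rfl⟩
  -- the signalizers
  set B : Subgroup G := s.A ⊔ zpowers y with hBdef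
  have hBmem : ∀ x, x ∈ B ↔ x ∈ s.A ∨ ∃ a ∈ s.A, x = y * a := by
    intro x
    constructor
    · intro hx
      have hn : s.A ≤ normalizer (zpowers y : Set G) := fun a ha => mem_normalizer_fintype fun v hv => by
        obtain ⟨i, rfl⟩ := mem_zpowers_iff.1 hv
        rw [← conj_zpow, hcomS y hyS a ha, mul_inv_cancel_right]
        exact zpow_mem (mem_zpowers y) i
      have h1 : x ∈ ((s.A ⊔ zpowers y : Subgroup G) : Set G) := hx
      rw [coe_mul_of_left_le_normalizer_right _ _ hn] at h1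
      obtain ⟨a, ha, v, hv, rfl⟩ := h1
      obtain ⟨i, rfl⟩ := mem_zpowers_iff.1 hv
      rcases Int.even_or_odd i with ⟨j, rfl⟩ | ⟨j, rfl⟩
      · left
        show a * y ^ (j + j) ∈ s.A
        rw [zpow_add, ← (Commute.refl y).mul_zpow, hy2, one_zpow, mul_one]
        exact ha
      · right
        refine ⟨a, ha, ?_⟩
        show a * y ^ (2 * j + 1) = y * a
        rw [zpow_add, zpow_mul, zpow_ofNat, pow_two, hy2, one_zpow, one_mul, zpow_one, hcomS y hyS a ha]
    · rintro (hx | ⟨a, ha, rfl⟩)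
      · exact mem_sup_left hx
      · exact mul_mem (mem_sup_right (mem_zpowers y)) (mem_sup_left ha)
  have hBS : B ≤ (s.S : Subgroup G) := sup_le s.closed.1 (zpowers_le.2 hyS)
  have hBc : ∀ u ∈ B, ∀ v ∈ B, u * v = v * u := by
    have h1 : ∀ u ∈ B, ∀ a ∈ s.A, Commute a u := fun u hu a ha => hcomS u (hBS hu) a ha
    intro u hu v hv
    rcases (hBmem u).1 hu with hu' | ⟨a, ha, rfl⟩
    · exact (h1 v hv u hu').eq
    rcases (hBmem v).1 hv with hv' | ⟨b, hb, rfl⟩
    · exact (h1 _ hu v hv').symm.eq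
    have c1 : Commute y b := (h1 y (hBmem y |>.2 (Or.inr ⟨1, s.A.one_mem, (mul_one y).symm⟩)) b hb).symm
    have c2 : Commute a y := h1 y (hBmem y |>.2 (Or.inr ⟨1, s.A.one_mem, (mul_one y).symm⟩)) a ha
    exact (((Commute.refl y).mul_right c1).mul_left (c2.mul_right (s.comm ha hb))).eq
  have hB2 : ∀ u ∈ B, u ^ 2 = 1 := by
    intro u hu
    rcases (hBmem u).1 hu with hu' | ⟨a, ha, rfl⟩
    · exact s.pow_two_eq hu'
    · rw [← (hya a ha).1, pow_orderOf_eq_one]
  set V : G → Subgroup G := fun z => ⨆ a : {a : G // a ∈ s.A ∧ a ≠ 1}, O a ⊓ centralizer ({z} : Set G)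
  set θ : G → Subgroup G := fun z => if z ∈ s.A then O z else V z with hθdef
  have hθA : ∀ z ∈ s.A, θ z = O z := fun z hz => if_pos hz
  have hθy : ∀ z ∉ s.A, θ z = V z := fun z hz => if_neg hz
  have hV : ∀ b ∈ s.A, V (y * b) ≤ O (y * b) := fun b hb => iSup_le fun a => hbalanced a a.2.1 a.2.2 b hb
  have hodd : ∀ z : G, Odd (Nat.card ↥(O z)) := fun z =>
    Nat.coprime_two_left.1 (centralizerPPrimeCore_coprime z).symm
  have hθle : ∀ z ∈ B, z ≠ 1 → θ z ≤ O z := by
    intro z hz _
    by_cases hzA : z ∈ s.A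
    · rw [hθA z hzA]
    · rw [hθy z hzA]
      obtain ⟨b, hb, rfl⟩ := ((hBmem z).1 hz).resolve_left hzA
      exact hV b hb
  have hθodd : ∀ z ∈ B, z ≠ 1 → Odd (Nat.card ↥(θ z)) := fun z hz hz1 =>
    Odd.of_dvd_nat (hodd z) (card_dvd_of_le (hθle z hz hz1))
  have hθC : ∀ z ∈ B, z ≠ 1 → θ z ≤ centralizer ({z} : Set G) := fun z hz hz1 =>
    (hθle z hz hz1).trans (map_subtype_le _)
  have hOinv : ∀ z, centralizer ({z} : Set G) ≤ normalizer (O z : Set G) := fun z c hc =>
    mem_normalizer_fintype fun w hw => centralizerPPrimeCore_conj (mem_centralizer_singleton_iff.1 hc) hw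
  have hBz : ∀ z ∈ B, B ≤ centralizer ({z} : Set G) := fun z hz v hv =>
    mem_centralizer_singleton_iff.2 (hBc v hv z hz)
  have hVinv : ∀ z : G, ∀ c : G, c ∈ centralizer ({z} : Set G) →
      (∀ a ∈ s.A, c ∈ centralizer ({a} : Set G)) → c ∈ normalizer (V z : Set G) := by
    intro z c hc hca
    rw [mem_normalizer_iff_smul, ← Grp.map_conj_eq_smul, Subgroup.map_iSup]
    refine iSup_congr fun a => ?_
    rw [map_inf _ _ _ (MulAut.conj c).injective, Grp.map_conj_eq_smul, Grp.map_conj_eq_smul,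
      mem_normalizer_iff_smul.1 (hOinv a (hca a a.2.1)), mem_normalizer_iff_smul.1 (Subgroup.le_normalizer hc)]
  have hθinv : ∀ z ∈ B, z ≠ 1 → ∀ c ∈ B, ∀ x ∈ θ z, c * x * c⁻¹ ∈ θ z := by
    intro z hz hz1 c hc x hx
    refine (mem_normalizer_iff.1 (?_ : c ∈ normalizer (θ z : Set G)) x).1 hx
    by_cases hzA : z ∈ s.A
    · rw [hθA z hzA]; exact hOinv z (hBz z hz hc)
    · rw [hθy z hzA]; exact hVinv z c (hBz z hz hc) fun a ha => hBz a (mem_sup_left ha) hc
  have hOA : ∀ a ∈ s.A, a ≠ 1 → ∀ b ∈ s.A, b ≠ 1 → O a ⊓ centralizer (s.A : Set G) ≤ O b := by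
    intro a ha ha1 b hb hb1
    have hsplit := h.split hb hb1
    have hCA : centralizer (s.A : Set G) ≤ normalizer ((O a ⊓ centralizer (s.A : Set G) : Subgroup G) : Set G) :=
      fun c hc => FourKey.normalizer_inf_normalizer_le ⟨hOinv a
        ((centralizer_le (Set.singleton_subset_iff.2 ha) : centralizer (s.A : Set G) ≤ _) hc),
        Subgroup.le_normalizer hc⟩
    set N := O a ⊓ centralizer (s.A : Set G)
    have hNb : N ≤ centralizer ({b} : Set G) :=
      inf_le_right.trans (centralizer_le (Set.singleton_subset_iff.2 hb))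
    set C := centralizer ({b} : Set G)
    have hN' : (N.subgroupOf C).map (proj b) ≤ Cfsg.pPrimeCore 2 (Cq b) := by
      have htop : (centralizer (s.A : Set G)).subgroupOf C ⊔ Cfsg.pPrimeCore 2 ↥C = ⊤ := by
        rw [eq_top_iff]
        intro c _
        have h1 : ((Cfsg.pPrimeCore 2 ↥C) ⊔ (centralizer (s.A : Set G)).subgroupOf C).map C.subtype =
            O b ⊔ (centralizer (s.A : Set G) ⊓ C) := by
          rw [Subgroup.map_sup, subgroupOf_map_subtype]; rfl
        have h2 : (c : G) ∈ O b ⊔ (centralizer (s.A : Set G) ⊓ C) := by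
          rw [inf_eq_left.2 (centralizer_le (Set.singleton_subset_iff.2 hb))]
          exact hsplit c.2
        rw [← h1] at h2
        obtain ⟨c', hc', e⟩ := h2
        rw [sup_comm, ← Subtype.ext e]
        exact hc'
      haveI : ((N.subgroupOf C).map (proj b)).Normal := by
        refine normalizer_eq_top_iff.1 (top_le_iff.1 ?_)
        calc (⊤ : Subgroup (Cq b))
            = ((centralizer (s.A : Set G)).subgroupOf C ⊔ Cfsg.pPrimeCore 2 ↥C).map (proj b) := by
              rw [htop, map_top_of_surjective _ (QuotientGroup.mk'_surjective _)]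
          _ = ((centralizer (s.A : Set G)).subgroupOf C).map (proj b) := by
              rw [Subgroup.map_sup, show (Cfsg.pPrimeCore 2 ↥C).map (proj b) = ⊥ by
                rw [Subgroup.map_eq_bot_iff, QuotientGroup.ker_mk'], sup_bot_eq]
          _ ≤ _ := by
              refine le_trans (map_mono fun c hc => ?_) (le_normalizer_map _)
              refine mem_normalizer_fintype fun w hw => mem_subgroupOf.2 ?_
              exact (mem_normalizer_iff.1 (hCA (mem_subgroupOf.1 hc)) _).1 (mem_subgroupOf.1 hw)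
      refine le_pPrimeCore inferInstance (Nat.Coprime.coprime_dvd_left (card_map_dvd _ _) ?_)
      rw [Nat.card_congr (subgroupOfEquivOfLe hNb).toEquiv]
      exact Nat.Coprime.coprime_dvd_left (card_dvd_of_le inf_le_left) (centralizerPPrimeCore_coprime a)
    intro x hx
    haveI : (Cfsg.pPrimeCore 2 ↥C).Normal := Grp.pPrimeCore_isNormal
    have h1 : proj b ⟨x, hNb hx⟩ ∈ Cfsg.pPrimeCore 2 (Cq b) := hN' (mem_map_of_mem _ (mem_subgroupOf.2 hx))
    rw [pPrimeCore_quotient_eq_bot, mem_bot] at h1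
    exact ⟨_, (QuotientGroup.eq_one_iff _).1 h1, rfl⟩
  have hAab : ∀ a ∈ s.A, ∀ b ∈ s.A, a ≠ 1 → b ≠ 1 → a ≠ b → ∀ x : G, x ∈ centralizer ({a} : Set G) →
      x ∈ centralizer ({b} : Set G) → x ∈ centralizer (s.A : Set G) := by
    intro a ha b hb ha1 hb1 hab x hxa hxb
    refine mem_centralizer_iff.2 fun v hv => ?_
    have ca : Commute a x := (mem_centralizer_singleton_iff.1 hxa).symm
    have cb : Commute b x := (mem_centralizer_singleton_iff.1 hxb).symm
    have hab1 : a * b ≠ 1 := fun e => hab (by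
      rw [eq_inv_of_mul_eq_one_right e, inv_eq_of_mul_eq_one_right (s.sq ha)])
    rcases FourKey.mem_four h.card ha hb ha1 hb1 hab.symm hab1 hv with rfl | rfl | rfl | rfl
    exacts [(Commute.one_left x).eq, ca.eq, cb.eq, (ca.mul_left cb).eq]
  -- the translates meet `C(a)` in the core
  have hVA : ∀ b ∈ s.A, ∀ a ∈ s.A, a ≠ 1 → V (y * b) ⊓ centralizer ({a} : Set G) ≤ O a := by
    intro b hb a ha ha1
    set z := y * b with hzdef
    have hzB : z ∈ B := (hBmem z).2 (Or.inr ⟨b, hb, rfl⟩)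
    set Q := V z
    have hQodd : Odd (Nat.card Q) := Odd.of_dvd_nat (hodd z) (card_dvd_of_le (hV b hb))
    have hAQ : s.A ≤ normalizer (Q : Set G) := fun c hc =>
      hVinv z c (hBz z hzB (mem_sup_left hc)) fun e he => hBz e (mem_sup_left he) (mem_sup_left hc)
    have hsplitC : ∀ e ∈ s.A, e ≠ 1 → ∀ q : G, q ∈ centralizer ({e} : Set G) → ∀ c ∈ s.A, ⁅q, c⁆ ∈ O e := by
      intro e he he1 q hqe c hc
      have h1 : q ∈ ((O e ⊔ centralizer (s.A : Set G) : Subgroup G) : Set G) := h.split he he1 hqe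
      rw [coe_mul_of_right_le_normalizer_left _ _ ((centralizer_le (Set.singleton_subset_iff.2 he)).trans
        (hOinv e))] at h1
      obtain ⟨o, ho, w, hw, rfl⟩ := h1
      have hcn : c * o⁻¹ * c⁻¹ ∈ O e :=
        (mem_normalizer_iff.1 (hOinv e (mem_centralizer_singleton_iff.2 (s.comm hc he))) _).1 ((O e).inv_mem ho)
      rw [show ⁅o * w, c⁆ = o * ((w * c * w⁻¹) * o⁻¹ * c⁻¹) by rw [commutatorElement_def]; group,
        ← mem_centralizer_iff.1 hw c hc, mul_inv_cancel_right]
      exact (O e).mul_mem ho hcn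
    have hkey : FourKey.Hyp s.A Q (fun e => O e ⊓ centralizer ({z} : Set G)) := by
      have hle : ∀ e ∈ s.A, e ≠ 1 → O e ⊓ centralizer ({z} : Set G) ≤ Q := fun e he he1 =>
        le_iSup (fun a : {a : G // a ∈ s.A ∧ a ≠ 1} => O a ⊓ centralizer ({z} : Set G)) ⟨e, he, he1⟩
      refine ⟨fun M hM => iSup_le fun e => hM e e.2.1 e.2.2, fun e he he1 => le_inf (hle e he he1)
        (inf_le_left.trans (map_subtype_le _)), hAQ, fun e he he1 q hq hqe c hc => ?_, fun e he he1 => ?_,
        fun e he he1 e' he' he'1 x hx => ⟨hOA e he he1 e' he' he'1 ⟨hx.1.1, hx.2⟩, hx.1.2⟩⟩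
      · refine ⟨hsplitC e he he1 q hqe c hc, ?_⟩
        have hqz : q ∈ centralizer ({z} : Set G) := (map_subtype_le _) (hV b hb hq)
        have hcz : c ∈ centralizer ({z} : Set G) := hBz z hzB (mem_sup_left hc)
        rw [commutatorElement_def]
        exact Subgroup.mul_mem _ (Subgroup.mul_mem _ (Subgroup.mul_mem _ hqz hcz) (Subgroup.inv_mem _ hqz))
          (Subgroup.inv_mem _ hcz)
      · refine fun c hc => FourKey.normalizer_inf_normalizer_le ⟨hOinv e ?_, Subgroup.le_normalizer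
          ((map_subtype_le _) (hV b hb hc.1))⟩
        exact (centralizer_le (Set.singleton_subset_iff.2 he) : centralizer (s.A : Set G) ≤ _) hc.2
    have hfix := FourKey.inf_centralizer_le s.elem h.card hQodd hkey a ha ha1
    rintro q ⟨hq, hqa⟩
    set K := Q ⊓ centralizer ({a} : Set G)
    have hAK : s.A ≤ normalizer (K : Set G) := fun c hc => FourKey.normalizer_inf_normalizer_le
      ⟨hAQ hc, Subgroup.le_normalizer (mem_centralizer_singleton_iff.2 (s.comm hc ha))⟩
    have hKodd : Odd (Nat.card K) := Odd.of_dvd_nat hQodd (card_dvd_of_le inf_le_left)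
    have hdec := (commutator_sup_fixed s.A K hAK (by
      rw [h.card, show (4 : ℕ) = 2 ^ 2 from rfl]
      exact (Nat.coprime_two_left.2 hKodd).pow_left 2)
      (Or.inl (Group.isSolvable_of_comm fun u v => Subtype.ext (s.comm u.2 v.2)))).ge
    refine (hdec.trans (sup_le ?_ ?_)) (⟨hq, hqa⟩ : q ∈ K)
    · rw [commutator_le]
      exact fun k hk c hc => hsplitC a ha ha1 k hk.2 c hc
    · rintro k ⟨hk, hkA⟩
      exact (hfix ⟨hk.1, hkA⟩).1
  have hbal : ∀ u ∈ B, u ≠ 1 → ∀ v ∈ B, v ≠ 1 → θ u ⊓ centralizer ({v} : Set G) ≤ θ v := by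
    intro u hu hu1 v hv hv1
    rcases eq_or_ne u v with rfl | huv
    · exact inf_le_left
    by_cases huA : u ∈ s.A
    · rw [hθA u huA]
      by_cases hvA : v ∈ s.A
      · rw [hθA v hvA]
        rintro x ⟨hx, hxv⟩
        exact hOA u huA hu1 v hvA hv1 ⟨hx, hAab u huA v hvA hu1 hv1 huv x ((map_subtype_le _) hx) hxv⟩
      · rw [hθy v hvA]
        exact le_iSup (fun a : {a : G // a ∈ s.A ∧ a ≠ 1} => O a ⊓ centralizer ({v} : Set G)) ⟨u, huA, hu1⟩
    · obtain ⟨b, hb, rfl⟩ := ((hBmem u).1 hu).resolve_left huA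
      rw [hθy _ huA]
      by_cases hvA : v ∈ s.A
      · rw [hθA v hvA]; exact hVA b hb v hvA hv1
      · obtain ⟨c, hc, rfl⟩ := ((hBmem v).1 hv).resolve_left hvA
        rw [hθy _ hvA]
        rintro x ⟨hx, hxv⟩
        have hxu : x ∈ centralizer ({y * b} : Set G) := (map_subtype_le _) (hV b hb hx)
        have hd : b⁻¹ * c ∈ s.A := mul_mem (inv_mem hb) hc
        have hd1 : b⁻¹ * c ≠ 1 := fun e => huv (by rw [inv_mul_eq_one.1 e])
        have hxd : x ∈ centralizer ({b⁻¹ * c} : Set G) := mem_centralizer_singleton_iff.2 (by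
          have c1 : Commute x (y * b) := mem_centralizer_singleton_iff.1 hxu
          have c2 : Commute x (y * c) := mem_centralizer_singleton_iff.1 hxv
          have c3 := c1.inv_right.mul_right c2
          rw [show (y * b)⁻¹ * (y * c) = b⁻¹ * c by group] at c3
          exact c3.eq)
        exact le_iSup (fun a : {a : G // a ∈ s.A ∧ a ≠ 1} => O a ⊓ centralizer ({y * c} : Set G))
          ⟨_, hd, hd1⟩ ⟨hVA b hb _ hd hd1 ⟨hx, hxd⟩, hxv⟩
  have hrank : 2 ^ 3 ≤ Nat.card B := by
    have h1 : 2 * Nat.card s.A ∣ Nat.card B := by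
      rw [← card_mul_relIndex (le_sup_left : s.A ≤ B), mul_comm]
      refine Nat.mul_dvd_mul_left _ ?_
      obtain ⟨k, hk⟩ := IsPGroup.iff_card.1 (s.S.isPGroup'.to_le hBS)
      obtain ⟨i, -, hi⟩ := (Nat.dvd_prime_pow Nat.prime_two).1 (hk ▸ (show s.A.relIndex B ∣ Nat.card B from
        Dvd.intro_left _ (card_mul_relIndex le_sup_left)))
      rcases i with _ | i
      · exfalso
        rw [pow_zero, Subgroup.relIndex_eq_one] at hi
        exact hyA (hi (mem_sup_right (mem_zpowers y)))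
      · rw [hi, pow_succ']; exact Dvd.intro _ rfl
    have h2 := Nat.le_of_dvd Nat.card_pos h1
    rw [h.card] at h2
    exact h2
  obtain ⟨hWodd, -⟩ := S0217.result (p := 2) B hBc hB2 hrank θ hθC
    (fun z hz hz1 h2 => Nat.not_even_iff_odd.2 (hθodd z hz hz1) (even_iff_two_dvd.2 h2)) hθinv
    (fun z hz hz1 => Invol.Bender.solvable_of_odd (hθodd z hz hz1)) hbal
  set W := ⨆ b : {b : G // b ∈ B ∧ b ≠ 1}, θ b
  have hOW : ∀ a ∈ s.A, a ≠ 1 → O a ≤ W := fun a ha ha1 => by
    rw [← hθA a ha]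
    exact le_iSup (fun b : {b : G // b ∈ B ∧ b ≠ 1} => θ b) ⟨a, mem_sup_left ha, ha1⟩
  have hWeq : W = ⨆ a : {a : G // a ∈ s.A ∧ a ≠ 1}, O a := by
    refine le_antisymm (iSup_le fun b => ?_) (iSup_le fun a => hOW a a.2.1 a.2.2)
    by_cases hbA : (b : G) ∈ s.A
    · rw [hθA _ hbA]
      exact le_iSup (fun a : {a : G // a ∈ s.A ∧ a ≠ 1} => O a) ⟨b, hbA, b.2.2⟩
    · rw [hθy _ hbA]
      exact iSup_le fun a => inf_le_left.trans (le_iSup (fun a : {a : G // a ∈ s.A ∧ a ≠ 1} => O a) a)
  haveI := s.simple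
  by_cases hW : W = ⊥
  · have e := h.eq_top_of_centralizers (M := normalizer (s.A : Set G)) fun a ha ha1 x hx => by
      have h1 := h.split ha ha1 hx
      rw [show Cfsg.centralizerPPrimeCore 2 a = ⊥ from le_bot_iff.1 ((hOW a ha ha1).trans hW.le), bot_sup_eq] at h1
      exact centralizer_le_normalizer _ h1
    haveI := normalizer_eq_top_iff.1 e
    rcases (inferInstance : s.A.Normal).eq_bot_or_eq_top with e' | e'
    · exact s.ne_bot e'
    · exact hyA (e' ▸ mem_top y)
  · have e := h.eq_top_of_centralizers (M := normalizer (W : Set G)) fun a ha ha1 =>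
      (h.split ha ha1).trans (sup_le ((hOW a ha ha1).trans Subgroup.le_normalizer) fun c hc => by
        rw [mem_normalizer_iff_smul, hWeq, ← Grp.map_conj_eq_smul, Subgroup.map_iSup]
        refine iSup_congr fun e => ?_
        rw [Grp.map_conj_eq_smul, mem_normalizer_iff_smul.1 (hOinv e
          ((centralizer_le (Set.singleton_subset_iff.2 e.2.1) : centralizer (s.A : Set G) ≤ _) hc))])
    haveI := normalizer_eq_top_iff.1 e
    rcases (inferInstance : W.Normal).eq_bot_or_eq_top with e' | e'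
    · exact hW e'
    · rw [e', Subgroup.card_top] at hWodd
      exact hWodd s.two_dvd

end Cfsg.Agent.Fus.Gold
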