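import Cfsg.Agent.Lib.Fus.Goldschmidt.FourCountLocal
import Cfsg.Agent.Lib.Fus.Goldschmidt.FourClimb
import Cfsg.Agent.Lib.Fus.Goldschmidt.FourGood
import Cfsg.Agent.Lib.Fus.Goldschmidt.FourFrame

/-!
# The counting case: `S = P T` of order 64

The grid of a frame with elementary `T`, and the contradiction from the component at its involution.
-/

set_option autoImplicit false
set_option linter.style.haveILetI false
set_option linter.unusedSectionVars false
set_option maxHeartbeats 1600000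

namespace Cfsg.Agent.Fus.Gold

open Subgroup

universe u

variable {G : Type u} [Group G] [Finite G] {s : Setup G}

/-- A simple nonabelian group has an element of the normaliser of an abelian Sylow 2-subgroup not centralising
it. -/
theorem exists_normalizer_moving {L : Type u} [Group L] [Finite L] [IsSimpleGroup L] (hL : ¬ IsMulCommutative L)
    (T : Sylow 2 L) (hT : (T : Subgroup L) ≠ ⊥)
    (hab : ∀ a ∈ (T : Subgroup L), ∀ b ∈ (T : Subgroup L), a * b = b * a) :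
    ∃ k ∈ normalizer ((T : Subgroup L) : Set L), k ∉ centralizer ((T : Subgroup L) : Set L) := by
  haveI : Fact (Nat.Prime 2) := ⟨Nat.prime_two⟩
  by_contra hne
  push Not at hne
  have hle : normalizer ((T : Subgroup L) : Set L) ≤ centralizer ((T : Subgroup L) : Set L) := hne
  have hc := MonoidHom.ker_transferSylow_isComplement' T hle
  rcases ((MonoidHom.normal_ker (MonoidHom.transferSylow T hle))).eq_bot_or_eq_top with e | e
  · rw [e] at hc
    have htop : (T : Subgroup L) = ⊤ := Subgroup.isComplement'_bot_left.1 hc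
    exact hL ⟨⟨fun a b => hab a (htop ▸ mem_top a) b (htop ▸ mem_top b)⟩⟩
  · rw [e] at hc
    exact hT (Subgroup.isComplement'_top_left.1 hc)

namespace Grid

variable {P T : Subgroup G} (h : Four s) (r : Grid s P T)
include h r

/-- The contradiction. -/
theorem false_of_fourType (hsp : Split s) {y : G} (hy : y ∈ P) (hyA : y ∉ s.A) (hfour : FourType s y) :
    False := by
  classical
  haveI : Fact (Nat.Prime 2) := ⟨Nat.prime_two⟩
  -- the counts
  obtain ⟨n, -, hn⟩ := r.exists_n h hsp hy hyA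
  have hnt : ∀ t ∈ T, t ∉ s.A → ∀ a ∈ s.A, a ≠ 1 → Nat.card ↥(co a ⊓ centralizer ({t} : Set G)) =
      n * Nat.card ↥(cz s ⊓ centralizer ({t} : Set G)) := by
    intro t ht htA
    obtain ⟨n', -, hn'⟩ := r.symm.exists_n h hsp ht htA
    rw [r.same_n h hsp hy hyA ht htA hn hn']
    exact hn'
  have hk := r.kappa_eq h hsp hy hyA hn hnt
  obtain ⟨⟨a, ha⟩, ha'⟩ := s.A.ne_bot_iff_exists_ne_one.1 s.ne_bot
  have ha1 : a ≠ 1 := fun e => ha' (Subtype.ext e)
  obtain ⟨x₀, -, -, g₀, hg₀, -, -, -, hfix₀, -⟩ := r.fixP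
  set b := g₀ * a * g₀⁻¹ with hb'
  have hb : b ∈ s.A := (mem_normalizer_iff.1 hg₀ a).1 ha
  have hb1 : b ≠ 1 := fun e => ha1 (conj_eq_one_iff.1 e)
  have hab : a ≠ b := fun e => ha1 (hfix₀ a ha e.symm)
  have hcount := r.local_count h hsp hy hyA hk hn ha ha1 hb hb1 hab
  -- the quotient
  set H := centralizer ({y} : Set G) with hH
  have hAH : s.A ≤ H := r.A_le_cent h hsp hy
  have hPH : P ≤ H := r.P_le_cent h hy
  have himA : ∀ w : Cq y, w ∈ imA s.A y ↔ ∃ v ∈ s.A, projY y v = w := by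
    intro w
    constructor
    · rintro ⟨⟨v, hv⟩, hvA, rfl⟩
      exact ⟨v, hvA, projY_eq hv⟩
    · rintro ⟨v, hv, rfl⟩
      exact ⟨⟨v, hAH hv⟩, hv, (projY_eq (hAH hv)).symm⟩
  have inj : ∀ v ∈ s.A, ∀ v' ∈ s.A, projY y v = projY y v' → v = v' := fun v hv v' hv' e => by
    have h1 := Count.eq_one_of_odd (co_odd y) (s.sq (mul_mem hv hv'))
      ((projY_eq_iff (hAH hv) (hAH hv') (s.sq hv')).1 e)
    rw [← mul_one v, ← s.sq hv', ← mul_assoc, h1, one_mul]
  set Ab := imA s.A y with hAb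
  have hAbcard : Nat.card ↥Ab = 4 := by
    rw [← h.card]
    symm
    refine Nat.card_congr (Equiv.ofBijective
      (fun v : ↥s.A => (⟨projY y v, (himA _).2 ⟨v, v.2, rfl⟩⟩ : ↥Ab))
      ⟨fun v v' e => Subtype.ext (inj v v.2 v' v'.2 (congrArg Subtype.val e)), fun w => ?_⟩)
    obtain ⟨v, hv, e⟩ := (himA _).1 w.2
    exact ⟨⟨v, hv⟩, Subtype.ext e⟩
  have hAbcomm : ∀ w ∈ Ab, ∀ w' ∈ Ab, w * w' = w' * w := by
    intro w hw w' hw'
    obtain ⟨v, hv, rfl⟩ := (himA w).1 hw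
    obtain ⟨v', hv', rfl⟩ := (himA w').1 hw'
    rw [← projY_mul (hAH hv) (hAH hv'), ← projY_mul (hAH hv') (hAH hv), s.comm hv hv']
  have hAb2 : IsPGroup 2 ↥Ab :=
    IsPGroup.of_card (n := 2) (by rw [hAbcard]; norm_num)
  -- a Sylow subgroup of the quotient
  obtain ⟨Q, hQ⟩ := ((r.P_two h).comap_subtype : IsPGroup 2 ↥(P.subgroupOf H)).exists_le_sylow
  have hQP : (Q : Subgroup H) = P.subgroupOf H := (eq_of_le_of_card_ge hQ (by
    rw [show Subgroup.comap H.subtype P = P.subgroupOf H from rfl, Nat.card_congr (Subgroup.subgroupOfEquivOfLe hPH).toEquiv, r.cardP,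
      ← card_map_of_injective (f := H.subtype) H.subtype_injective]
    exact r.cardH h hy hyA (Q.isPGroup'.map _) (map_subtype_le _))).symm
  set PX : Sylow 2 (Cq y) := Q.mapSurjective (QuotientGroup.mk'_surjective _) with hPX
  have hPXmem : ∀ w, w ∈ (PX : Subgroup (Cq y)) → ∃ p ∈ P, projY y p = w := by
    intro w hw
    rw [hPX, Sylow.coe_mapSurjective, hQP] at hw
    obtain ⟨p, hp, rfl⟩ := hw
    exact ⟨p, hp, projY_eq p.2⟩
  have hclosed : ∀ w ∈ Ab, ∀ g : Cq y, g * w * g⁻¹ ∈ (PX : Subgroup (Cq y)) → g * w * g⁻¹ ∈ Ab := by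
    intro w hw g hg
    obtain ⟨v, hv, rfl⟩ := (himA w).1 hw
    obtain ⟨c, hc, rfl⟩ := projY_surj g
    rcases eq_or_ne v 1 with rfl | hv1
    · rw [projY_one, mul_one, mul_inv_cancel]; exact one_mem _
    obtain ⟨p, hp, e⟩ := hPXmem _ hg
    rw [← projY_conj hc (hAH hv)] at e ⊢
    have hcv : c * v * c⁻¹ ∈ H := mul_mem (mul_mem hc (hAH hv)) (inv_mem hc)
    obtain ⟨o, -, hoe⟩ := Count.conj_of_coset (co_odd y) (r.sqP p hp)
      (aCl_sq (aCl_conj (mem_aCl hv hv1) c))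
      ((projY_eq_iff hcv (hPH hp) (r.sqP p hp)).1 e.symm)
    have hp' : p ∈ aCl s := by
      have h1 := aCl_conj (aCl_conj (mem_aCl hv hv1) c) o⁻¹
      rwa [← hoe, show o⁻¹ * (o * p * o⁻¹) * o⁻¹⁻¹ = p by group] at h1
    exact (himA _).2 ⟨p, aCl_mem_A hp' (r.P_le hp), e⟩
  -- semiregularity
  have hreg : ∀ g ∈ normalizer (Ab : Set (Cq y)), ∀ v ∈ s.A, v ≠ 1 → g * projY y v = projY y v * g →
      g ∈ centralizer (Ab : Set (Cq y)) := by
    intro g hg v hv hv1 hgv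
    refine mem_centralizer_iff.2 fun w hw => ?_
    obtain ⟨u, hu, rfl⟩ := (himA w).1 hw
    refine (r.semiregular h hsp hy (fun u' hu' => ?_) hv hv1 hgv u hu).symm
    obtain ⟨v', hv', e⟩ := (himA _).1 ((mem_normalizer_iff.1 hg _).1 ((himA _).2 ⟨u', hu', rfl⟩))
    exact ⟨v', hv', e.symm⟩
  -- the component
  obtain ⟨K, hK, hKs, hKnc, hAK, TK, hTK⟩ := hfour.comp
  haveI := hKs
  set ab := projY y a with hab'
  have habAb : ab ∈ Ab := (himA _).2 ⟨a, ha, rfl⟩
  have hab1 : ab ≠ 1 := fun e => ha1 (inj a ha 1 (one_mem _) (by rw [projY_one]; exact e))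
  haveI hKn : K.Normal := by
    refine ⟨fun c hc g => ?_⟩
    by_contra hne
    have hgn : g ∉ normalizer (K : Set (Cq y)) := fun hg => hne ((mem_normalizer_iff.1 hg c).1 hc)
    have hcomm : ∀ v ∈ K, ∀ w ∈ K, v * (g * w * g⁻¹) = g * w * g⁻¹ * v := fun v hv w hw => by
      have h1 := Grp.component_conj_commute hK (g := g) (h := 1) (by simpa using hgn) hv hw
      simpa using h1.eq
    set v := g * ab * g⁻¹ with hv
    have hv2 : v * v = 1 := by
      rw [hv, show g * ab * g⁻¹ * (g * ab * g⁻¹) = g * (ab * ab) * g⁻¹ by group,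
        hab', ← projY_mul (hAH ha) (hAH ha), s.sq ha, projY_one]
      group
    have hvn : zpowers v ≤ normalizer (Ab : Set (Cq y)) := zpowers_le.2 (mem_normalizer_fintype fun w hw => by
      rwa [← hcomm w (hAK hw) ab (hAK habAb), mul_inv_cancel_right])
    have hR : IsPGroup 2 ↥(zpowers v ⊔ Ab) :=
      (Count.isPGroup_zpowers_pow (k := 1) (by rw [pow_one, pow_two, hv2])).to_sup_of_normal_right' hAb2 hvn
    obtain ⟨e, he⟩ := Invol.exists_conj_subset_sylow hR PX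
    have heN : e ∈ normalizer (Ab : Set (Cq y)) := mem_normalizer_fintype fun w hw =>
      hclosed w hw e (he w (mem_sup_right hw))
    have hev : e * v * e⁻¹ ∈ Ab := by
      have h1 := he v (mem_sup_left (mem_zpowers v))
      rw [hv, show e * (g * ab * g⁻¹) * e⁻¹ = e * g * ab * (e * g)⁻¹ by group] at h1 ⊢
      exact hclosed ab habAb (e * g) h1
    have hvK : v ∈ K := hAK ((mem_normalizer_iff.1 heN v).2 hev)
    have hz : (⟨v, hvK⟩ : ↥K) ∈ center ↥K := mem_center_iff.2 fun w => Subtype.ext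
      (hcomm w w.2 ab (hAK habAb))
    rw [Transfer.CentralFour.center_eq_bot hKnc, mem_bot] at hz
    exact hab1 (conj_eq_one_iff.1 (congrArg Subtype.val hz))
  -- `X = K C(Ab)`
  have hTKmem : ∀ w : ↥K, w ∈ (TK : Subgroup ↥K) ↔ (w : Cq y) ∈ Ab := fun w => by rw [hTK]; exact mem_subgroupOf
  have hTKcard : Nat.card ↥(TK : Subgroup ↥K) = 4 := by
    rw [hTK, Nat.card_congr (Subgroup.subgroupOfEquivOfLe hAK).toEquiv, hAbcard]
  have haK : (⟨ab, hAK habAb⟩ : ↥K) ∈ (TK : Subgroup ↥K) := (hTKmem _).2 habAb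
  obtain ⟨k, hkN, hkC⟩ := exists_normalizer_moving hKnc TK
    (fun e => by rw [e, Subgroup.card_bot] at hTKcard; omega)
    (fun v hv w hw => Subtype.ext (hAbcomm _ ((hTKmem v).1 hv) _ ((hTKmem w).1 hw)))
  have hmapTK : (TK : Subgroup ↥K).map K.subtype = Ab := by
    rw [hTK, subgroupOf_map_subtype, inf_eq_left.2 hAK]
  have hkAb : (k : Cq y) ∈ normalizer (Ab : Set (Cq y)) := mem_normalizer_fintype fun w hw => by
    have h1 := (mem_normalizer_iff.1 hkN ⟨w, hAK hw⟩).1 ((hTKmem _).2 hw)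
    exact (hTKmem _).1 h1
  have hkab : (k : Cq y) * ab ≠ ab * k := fun e => hkC (mem_centralizer_iff.2 fun w hw => Subtype.ext
    (mem_centralizer_iff.1 (hreg _ hkAb a ha ha1 e) _ ((hTKmem w).1 hw)))
  obtain ⟨a₁, ha₁, hk1⟩ := (himA _).1 ((mem_normalizer_iff.1 hkAb ab).1 habAb)
  obtain ⟨a₂, ha₂, hk2⟩ := (himA _).1 ((mem_normalizer_iff.1 (mul_mem hkAb hkAb) ab).1 habAb)
  have ha₁1 : a₁ ≠ 1 := fun e => by
    rw [e, projY_one] at hk1
    exact hab1 (conj_eq_one_iff.1 hk1.symm)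
  have h01 : a ≠ a₁ := fun e => hkab (mul_inv_eq_iff_eq_mul.1 (by rw [← hk1, ← e]))
  have ha₂1 : a₂ ≠ 1 := fun e => by
    rw [e, projY_one] at hk2
    exact hab1 (conj_eq_one_iff.1 hk2.symm)
  have h12 : a₂ ≠ a₁ := fun e => hkab (mul_inv_eq_iff_eq_mul.1 (by
    have h1 : (k : Cq y) * k * ab * ((k : Cq y) * k)⁻¹ = k * ab * (k : Cq y)⁻¹ := by rw [← hk2, ← hk1, e]
    calc (k : Cq y) * ab * (k : Cq y)⁻¹
        = (k : Cq y)⁻¹ * ((k : Cq y) * k * ab * ((k : Cq y) * k)⁻¹) * k := by group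
      _ = ab := by rw [h1]; group))
  have h02 : a₂ ≠ a := by
    intro e
    -- then `k` fixes `a a₁`
    have hc1 : a * a₁ ∈ s.A := mul_mem ha ha₁
    refine hkab ?_
    have hcab : (k : Cq y) ∈ centralizer (Ab : Set (Cq y)) := by
      refine hreg _ hkAb (a * a₁) hc1 (fun e' => h01 (by
        rw [← mul_one a, ← s.sq ha₁, ← mul_assoc, e', one_mul])) (mul_inv_eq_iff_eq_mul.1 ?_)
      rw [projY_mul (hAH ha) (hAH ha₁)]
      calc (k : Cq y) * (ab * projY y a₁) * (k : Cq y)⁻¹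
          = (k : Cq y) * ab * (k : Cq y)⁻¹ * ((k : Cq y) * projY y a₁ * (k : Cq y)⁻¹) := by group
        _ = projY y a₁ * ((k : Cq y) * k * ab * ((k : Cq y) * k)⁻¹) := by rw [hk1]; group
        _ = projY y a₁ * ab := by rw [← hk2, e]
        _ = ab * projY y a₁ := hAbcomm _ ((himA _).2 ⟨a₁, ha₁, rfl⟩) _ habAb
    exact (mem_centralizer_iff.1 hcab ab habAb).symm
  have hfac : ∀ g : Cq y, ∃ l ∈ K, ∃ z ∈ centralizer (Ab : Set (Cq y)), g = l * z := by
    intro g
    have htop := Sylow.normalizer_sup_eq_top TK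
    rw [hmapTK, sup_comm] at htop
    obtain ⟨l, hl, m, hm, rfl⟩ := Subgroup.mem_sup_of_normal_left.1
      (show g ∈ K ⊔ normalizer (Ab : Set (Cq y)) by rw [htop]; exact mem_top g)
    obtain ⟨v, hv, hmv⟩ := (himA _).1 ((mem_normalizer_iff.1 hm ab).1 habAb)
    have hv1 : v ≠ 1 := fun e => by
      rw [e, projY_one] at hmv
      exact hab1 (conj_eq_one_iff.1 hmv.symm)
    obtain ⟨j, hj, hjK, hjv⟩ : ∃ j ∈ normalizer (Ab : Set (Cq y)), j ∈ K ∧ j * ab * j⁻¹ = projY y v := by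
      rcases h.cases ha ha₁ hv ha1 ha₁1 h01 with e | e | e | e
      · exact absurd e hv1
      · exact ⟨1, one_mem _, one_mem _, by rw [e]; simp [hab']⟩
      · exact ⟨k, hkAb, k.2, by rw [e, hk1]⟩
      · refine ⟨k * k, mul_mem hkAb hkAb, mul_mem k.2 k.2, ?_⟩
        rw [← hk2]
        congr 1
        rcases h.cases ha ha₁ ha₂ ha1 ha₁1 h01 with e' | e' | e' | e'
        exacts [absurd e' ha₂1, absurd e' h02, absurd e' h12, e'.trans e.symm]
    refine ⟨l * j, mul_mem hl hjK, j⁻¹ * m,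
      hreg _ (mul_mem (inv_mem hj) hm) a ha ha1 (mul_inv_eq_iff_eq_mul.1 ?_), by group⟩
    calc j⁻¹ * m * ab * (j⁻¹ * m)⁻¹ = j⁻¹ * (m * ab * m⁻¹) * j := by group
      _ = ab := by rw [← hmv, ← hjv]; group
  -- orbits in `K`
  have horb1 : Count.orb (⊤ : Subgroup (Cq y)) ab = Count.orb K ab := by
    ext w
    constructor
    · rintro ⟨g, -, rfl⟩
      obtain ⟨l, hl, z, hz, rfl⟩ := hfac g
      refine ⟨l, hl, ?_⟩
      rw [show l * z * ab * (l * z)⁻¹ = l * (z * ab * z⁻¹) * l⁻¹ by group,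
        ← mem_centralizer_iff.1 hz ab habAb, mul_inv_cancel_right]
    · rintro ⟨l, -, rfl⟩
      exact ⟨l, mem_top _, rfl⟩
  set bb := projY y b with hbb
  have hbbAb : bb ∈ Ab := (himA _).2 ⟨b, hb, rfl⟩
  have horb2 : Count.orb (centralizer ({ab} : Set (Cq y))) bb =
      Count.orb (K ⊓ centralizer ({ab} : Set (Cq y))) bb := by
    ext w
    constructor
    · rintro ⟨g, hg, rfl⟩
      obtain ⟨l, hl, z, hz, rfl⟩ := hfac g
      have hzc : z ∈ centralizer ({ab} : Set (Cq y)) :=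
        mem_centralizer_singleton_iff.2 (mem_centralizer_iff.1 hz ab habAb).symm
      refine ⟨l, Subgroup.mem_inf.2 ⟨hl, ?_⟩, ?_⟩
      · have h1 := mul_mem hg (inv_mem hzc)
        rwa [mul_inv_cancel_right] at h1
      · rw [show l * z * bb * (l * z)⁻¹ = l * (z * bb * z⁻¹) * l⁻¹ by group,
          ← mem_centralizer_iff.1 hz bb hbbAb, mul_inv_cancel_right]
    · rintro ⟨l, hl, rfl⟩
      exact ⟨l, (Subgroup.mem_inf.1 hl).2, rfl⟩
  rw [horb1, horb2] at hcount
  -- indices in `K`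
  set aK : ↥K := ⟨ab, hAK habAb⟩ with haKdef
  have hcardC : ∀ {J : Subgroup ↥K} {M : Subgroup (Cq y)}, M ≤ K → (∀ w : ↥K, w ∈ J ↔ (w : Cq y) ∈ M) →
      Nat.card ↥J = Nat.card ↥M := fun {J M} hMK hiff =>
    Nat.card_congr { toFun := fun w => ⟨w.1.1, (hiff w.1).1 w.2⟩
                     invFun := fun w => ⟨⟨w.1, hMK w.2⟩, (hiff _).2 w.2⟩
                     left_inv := fun w => rfl
                     right_inv := fun w => rfl }
  have hc1 : Nat.card ↥(centralizer ({aK} : Set ↥K)) = Nat.card ↥(K ⊓ centralizer ({ab} : Set (Cq y))) := by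
    refine hcardC inf_le_left fun w => ?_
    rw [Subgroup.mem_inf, mem_centralizer_singleton_iff, mem_centralizer_singleton_iff, Subtype.ext_iff]
    exact ⟨fun e => ⟨w.2, e⟩, fun e => e.2⟩
  have hc2 : Nat.card ↥(centralizer ((TK : Subgroup ↥K) : Set ↥K)) =
      Nat.card ↥(K ⊓ centralizer ({ab} : Set (Cq y)) ⊓ centralizer ({bb} : Set (Cq y))) := by
    refine hcardC (inf_le_left.trans inf_le_left) fun w => ?_
    rw [Subgroup.mem_inf, Subgroup.mem_inf, mem_centralizer_singleton_iff, mem_centralizer_singleton_iff,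
      mem_centralizer_iff]
    constructor
    · intro hw
      exact ⟨⟨w.2, (congrArg Subtype.val (hw aK haK)).symm⟩,
        (congrArg Subtype.val (hw ⟨bb, hAK hbbAb⟩ ((hTKmem _).2 hbbAb))).symm⟩
    · rintro ⟨⟨-, e1⟩, e2⟩ v hv
      refine Subtype.ext ?_
      obtain ⟨u, hu, e⟩ := (himA _).1 ((hTKmem v).1 hv)
      show (v : Cq y) * w = w * v
      rw [← e]
      rcases h.cases ha hb hu ha1 hb1 hab with e' | e' | e' | e' <;> rw [e']
      · rw [projY_one, one_mul, mul_one]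
      · exact e1.symm
      · exact e2.symm
      · rw [projY_mul (hAH ha) (hAH hb)]
        exact ((show Commute (w : Cq y) ab from e1).mul_right (show Commute (w : Cq y) bb from e2)).symm.eq
  have hp : (Count.orb K ab).ncard = (centralizer ({aK} : Set ↥K)).index := by
    refine Nat.eq_of_mul_eq_mul_right (Nat.card_pos (α := ↥(K ⊓ centralizer ({ab} : Set (Cq y))))) ?_
    rw [Count.orbit_ncard, ← hc1, mul_comm, (centralizer ({aK} : Set ↥K)).card_mul_index]
  have hq : (Count.orb (K ⊓ centralizer ({ab} : Set (Cq y))) bb).ncard =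
      (centralizer ((TK : Subgroup ↥K) : Set ↥K)).relIndex (centralizer ({aK} : Set ↥K)) := by
    refine Nat.eq_of_mul_eq_mul_right
      (Nat.card_pos (α := ↥(K ⊓ centralizer ({ab} : Set (Cq y)) ⊓ centralizer ({bb} : Set (Cq y))))) ?_
    rw [Count.orbit_ncard, ← hc1, ← hc2, mul_comm]
    have hle : centralizer ((TK : Subgroup ↥K) : Set ↥K) ≤ centralizer ({aK} : Set ↥K) :=
      centralizer_le (Set.singleton_subset_iff.2 haK)
    rw [← Nat.card_congr (Subgroup.subgroupOfEquivOfLe hle).toEquiv]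
    exact (Subgroup.card_mul_index _).symm
  rw [hp, hq] at hcount
  exact four_count_false hKnc TK hTKcard haK (fun e => hab1 (congrArg Subtype.val e)) hcount

end Grid

/-- The grid of a frame with elementary `T` and `S = Q`. -/
theorem Frame.grid (h : Four s) (f : Frame s) (hD : Nat.card f.D = 4) (hT : ∀ t ∈ f.T, t * t = 1)
    (hS : (s.S : Subgroup G) = f.Q) : Grid s f.P f.T := by
  have hP16 : Nat.card ↥f.P = 16 := by rw [f.cardP h, hD]
  have hS64 : Nat.card ↥(s.S : Subgroup G) = 64 := by rw [hS, f.cardQ h, hD]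
  have hprod : ∀ g ∈ (s.S : Subgroup G), ∃ p ∈ f.P, ∃ t ∈ f.T, g = p * t := by
    intro g hg
    rw [hS] at hg
    obtain ⟨t, ht, x, hx, e⟩ := f.dec_Q h (inv_mem hg)
    exact ⟨x⁻¹, inv_mem hx, t⁻¹, inv_mem ht, by rw [← inv_inv g, ← e, mul_inv_rev]⟩
  have hbr : ∀ p ∈ f.P, ∀ t ∈ f.T, p * t * p⁻¹ * t⁻¹ ∈ s.A := fun p hp t ht => by
    have := inv_mem (f.br_TP_mem h ht hp)
    rwa [br, show (t * p * t⁻¹ * p⁻¹)⁻¹ = p * t * p⁻¹ * t⁻¹ by group] at this
  have hne : ∀ p ∈ f.P, ∀ t ∈ f.T, p ∉ s.A → t ∉ s.A → p * t ≠ t * p := fun p hp t ht hpA htA e =>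
    f.br_TP_ne h ht htA hp hpA (br_eq_one_iff.2 e.symm)
  have hmax : ∀ x ∈ (s.S : Subgroup G), orderOf x = 2 → x ∉ s.A → ∀ R : Subgroup G, IsPGroup 2 R →
      R ≤ centralizer (s.A : Set G) → R ≤ centralizer ({x} : Set G) → Nat.card R ≤ 16 :=
    fun x hx hx2 hxA R h1 h2 h3 => (f.max x hx hx2 hxA R h1 h2 h3).trans (by rw [hD])
  have hinf : f.P ⊓ f.T = s.A := by rw [inf_comm]; exact f.T_inf
  have hyA : f.y ∉ s.A := f.four.not_mem
  refine ⟨f.A_le_P, f.A_le_T, f.P_le, f.T_le, hinf, hprod, hP16, f.cardT, fun p hp => f.P_sq h hp, hT,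
    hbr, hne, hmax, hS64, ?_, ?_⟩
  · refine ⟨f.y, f.y_mem_P, hyA, f.h, f.h_norm, ?_, f.h_D _ f.y_mem, fun t ht => f.hh_T ht, f.h_fpf,
      f.h_T_fpf⟩
    obtain ⟨k, hk⟩ := f.h_order
    rw [hk]
    exact Odd.pow (by decide)
  -- the frame at an involution of `T`
  obtain ⟨t, ht, htA⟩ := f.exists_not_mem_T h
  have ht2 : orderOf t = 2 :=
    orderOf_eq_prime (by rw [pow_two]; exact hT t ht) fun e => htA (e ▸ one_mem _)
  obtain ⟨a, ha, hfour⟩ := h.exists_fourType ht2 (f.T_le ht) htA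
  set y' := t * a with hy'
  have hy'T : y' ∈ f.T := mul_mem ht (f.A_le_T ha)
  have hy'A : y' ∉ s.A := hfour.not_mem
  have hcent : (s.S : Subgroup G) ⊓ centralizer ({y'} : Set G) = f.T := by
    refine le_antisymm (fun g hg => ?_)
      (le_inf f.T_le fun v hv => mem_centralizer_singleton_iff.2 (f.T_comm v hv y' hy'T))
    obtain ⟨hgS, hgc⟩ := Subgroup.mem_inf.1 hg
    obtain ⟨p, hp, v, hv, rfl⟩ := hprod g hgS
    have hpy : p * y' = y' * p := by
      have h1 : Commute (p * v) y' := mem_centralizer_singleton_iff.1 hgc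
      have h2 := h1.mul_left (show Commute v y' from f.T_comm v hv y' hy'T).inv_left
      rwa [mul_inv_cancel_right] at h2
    refine mul_mem (f.A_le_T (by_contra fun hpA => hne p hp y' hy'T hpA hy'A hpy)) hv
  have hSN : (s.S : Subgroup G) ≤ normalizer (f.T : Set G) := fun g hg => by
    obtain ⟨p, hp, v, hv, rfl⟩ := hprod g hg
    refine mul_mem (mem_normalizer_fintype fun w hw => ?_) (le_normalizer hv)
    have := mul_mem (f.A_le_T (hbr p hp w hw)) hw
    rwa [inv_mul_cancel_right] at this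
  have hQ' : (s.S : Subgroup G) ⊓ normalizer (f.T : Set G) = s.S := inf_eq_left.2 hSN
  obtain ⟨D', g, hyD', hD'S, hAD', hP', hg3, hgA, hgP', hgfix, hgD'⟩ := FourType.decomp h hfour
  obtain ⟨f', hf'y, hf'P⟩ := frame_of_decomp h hfour hyD' hD'S hAD' hP' hg3 hgA hgP' hgfix hgD'
    (fun x hx hx2 hxA R h1 h2 h3 => by rw [hcent, f.cardT]; exact hmax x hx hx2 hxA R h1 h2 h3)
    (fun R h1 _ _ => by
      haveI : Fact (Nat.Prime 2) := ⟨Nat.prime_two⟩
      rw [hcent, hQ']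
      obtain ⟨Q, hQ⟩ := h1.exists_le_sylow
      exact (card_le_of_le hQ).trans (le_of_eq (Nat.card_congr (Q.equiv s.S).toEquiv)))
  rw [hcent] at hf'P
  have hnQ : f'.h ∈ normalizer ((s.S : Subgroup G) : Set G) := by
    have := f'.h_Q
    rwa [show (s.A ⊔ f'.D : Subgroup G) = f.T from hf'P, hQ'] at this
  have hnT : f'.h ∈ normalizer (f.T : Set G) := by
    rw [← hf'P]
    refine mem_normalizer_fintype fun v hv => ?_
    obtain ⟨a', ha', d, hd, rfl⟩ := f'.dec h hv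
    rw [show f'.h * (a' * d) * f'.h⁻¹ = f'.h * a' * f'.h⁻¹ * (f'.h * d * f'.h⁻¹) by group,
      f'.h_D d hd, mul_inv_cancel_right]
    exact mul_mem (mem_sup_left (f'.hh_A ha')) (mem_sup_right hd)
  have hfixP : ∀ p ∈ f.P, f'.h * p * f'.h⁻¹ ∈ f.P := by
    intro p hp
    have hS' : f'.h * p * f'.h⁻¹ ∈ (s.S : Subgroup G) := (mem_normalizer_iff.1 hnQ p).1 (f.P_le hp)
    obtain ⟨q, hq, v, hv, e⟩ := hprod _ hS'
    by_cases hvA : v ∈ s.A
    · rw [e]; exact mul_mem hq (f.A_le_P hvA)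
    by_cases hqA : q ∈ s.A
    · exfalso
      have h1 : p ∈ f.T := (mem_normalizer_iff.1 hnT p).2 (e ▸ mul_mem (f.A_le_T hqA) hv)
      have h2 : p ∈ s.A := hinf ▸ ⟨hp, h1⟩
      have h3 := f'.hh_A h2
      rw [e] at h3
      exact hvA (by simpa using mul_mem (inv_mem hqA) h3)
    exfalso
    refine hne q hq v hv hqA hvA ?_
    have h2 : q * v * (q * v) = 1 := by
      rw [← e, show f'.h * p * f'.h⁻¹ * (f'.h * p * f'.h⁻¹) = f'.h * (p * p) * f'.h⁻¹ by group,
        f.P_sq h hp]; group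
    have h3 := inv_eq_of_mul_eq_one_left h2
    rw [mul_inv_rev, f.P_inv h hq, inv_eq_of_mul_eq_one_left (hT v hv)] at h3
    exact h3.symm
  refine ⟨y', hy'T, hy'A, f'.h, f'.h_norm, ?_, hf'y ▸ f'.h_D _ f'.y_mem, hfixP, f'.h_fpf, ?_⟩
  · obtain ⟨k, hk⟩ := f'.h_order
    rw [hk]
    exact Odd.pow (by decide)
  · intro p hp hmem
    by_contra hpA
    set β := y' * p * y'⁻¹ * p⁻¹ with hβ
    have hβA : β ∈ s.A := f.br_TP_mem h hy'T hp
    refine f.br_TP_ne h hy'T hy'A hp hpA (f'.h_fpf β hβA ?_)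
    set α := f'.h * p * f'.h⁻¹ * p⁻¹ with hα
    have hpα : f'.h * p * f'.h⁻¹ = α * p := by rw [hα, inv_mul_cancel_right]
    have hy'h : f'.h * y' * f'.h⁻¹ = y' := mul_inv_eq_iff_eq_mul.2 (hf'y ▸ f'.h_D _ f'.y_mem)
    calc f'.h * β * f'.h⁻¹ = (f'.h * y' * f'.h⁻¹) * (f'.h * p * f'.h⁻¹) * (f'.h * y' * f'.h⁻¹)⁻¹ *
          (f'.h * p * f'.h⁻¹)⁻¹ := by rw [hβ]; group
      _ = y' * α * p * y'⁻¹ * p⁻¹ * α⁻¹ := by rw [hy'h, hpα]; group
      _ = α * β * α⁻¹ := by rw [h.commute_A (f.T_le hy'T) hmem, hβ]; group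
      _ = β := by rw [s.comm hmem hβA, mul_inv_cancel_right]

/-- The counting case is impossible. -/
theorem Frame.false_of_equal (h : Four s) (f : Frame s) (hD : Nat.card f.D = 4) (hT : ∀ t ∈ f.T, t * t = 1)
    (hS : (s.S : Subgroup G) = f.Q) : False :=
  (f.grid h hD hT hS).false_of_fourType h (fun _ ha ha1 => h.split ha ha1) f.y_mem_P f.four.not_mem f.four

end Cfsg.Agent.Fus.Gold
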