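import Cfsg.Agent.Lib.Fus.Goldschmidt.FourSwap
import Cfsg.Agent.Lib.Fus.Goldschmidt.FourGood
import Cfsg.Agent.Lib.Fus.Goldschmidt.FourCount

/-!
# A strongly closed subgroup of order four is a Sylow 2-subgroup

An involution of `S` outside `A` with largest centraliser (and then largest normaliser of the centraliser)
in `S` gives a frame; both possible orders of `D` are contradictory.
-/

set_option autoImplicit false
set_option linter.style.haveILetI false

namespace Cfsg.Agent.Fus.Gold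

open Subgroup

universe u

variable {G : Type u} [Group G] [Finite G] {s : Setup G}

/-- The centraliser in `S` of an involution outside `A` has no element of order four with square in `A`. -/
theorem Four.sq_eq_one (h : Four s) {x : G} (hxS : x ∈ (s.S : Subgroup G)) (hx2 : orderOf x = 2) (hxA : x ∉ s.A)
    {z : G} (hz : z ∈ (s.S : Subgroup G)) (hzx : z * x = x * z) (hzz : z * z ∈ s.A) : z * z = 1 := by
  obtain ⟨a, ha, hy⟩ := h.exists_fourType hx2 hxS hxA
  obtain ⟨D, g, -, hDS, hAD, hP, -⟩ := FourType.decomp h hy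
  have hzy : z * (x * a) = x * a * z := by
    rw [← mul_assoc, hzx, mul_assoc, h.commute_A hz ha, ← mul_assoc]
  have hzP : z ∈ ((s.A ⊔ D : Subgroup G) : Set G) := by
    rw [SetLike.mem_coe, hP]
    exact ⟨hz, mem_centralizer_singleton_iff.2 hzy⟩
  rw [coe_mul_of_right_le_normalizer_left _ _ (hDS.trans s.sylow_le_normalizer)] at hzP
  obtain ⟨b, hb, d, hd, rfl⟩ := hzP
  have e : b * d * (b * d) = d * d := by
    rw [show b * d * (b * d) = b * (d * b) * d by group, h.commute_A (hDS hd) hb,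
      show b * (b * d) * d = b * b * (d * d) by group, s.sq hb, one_mul]
  show b * d * (b * d) = 1
  rw [e] at hzz ⊢
  exact mem_bot.1 (hAD ▸ ⟨hzz, D.mul_mem hd hd⟩)

/-- A frame at an involution maximal in both orders. -/
theorem Four.exists_frame (h : Four s) {x : G} (hxS : x ∈ (s.S : Subgroup G)) (hx2 : orderOf x = 2) (hxA : x ∉ s.A)
    (hmax : ∀ x' ∈ (s.S : Subgroup G), orderOf x' = 2 → x' ∉ s.A →
      Nat.card ↥((s.S : Subgroup G) ⊓ centralizer ({x'} : Set G)) ≤
        Nat.card ↥((s.S : Subgroup G) ⊓ centralizer ({x} : Set G)))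
    (hmax2 : ∀ R : Subgroup G, IsPGroup 2 R → R ≤ centralizer (s.A : Set G) →
      R ≤ normalizer (((s.S : Subgroup G) ⊓ centralizer ({x} : Set G) : Subgroup G) : Set G) →
      Nat.card R ≤ Nat.card ↥((s.S : Subgroup G) ⊓
        normalizer (((s.S : Subgroup G) ⊓ centralizer ({x} : Set G) : Subgroup G) : Set G))) :
    ∃ f : Frame s, f.P = (s.S : Subgroup G) ⊓ centralizer ({x} : Set G) := by
  obtain ⟨a, ha, hy⟩ := h.exists_fourType hx2 hxS hxA
  have hPx : (s.S : Subgroup G) ⊓ centralizer ({x * a} : Set G) = (s.S : Subgroup G) ⊓ centralizer ({x} : Set G) := by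
    ext z
    simp only [mem_inf, mem_centralizer_singleton_iff]
    refine and_congr_right fun hz => ⟨fun e => ?_, fun e => ?_⟩
    · calc z * x = z * (x * a) * a⁻¹ := by group
        _ = x * a * z * a⁻¹ := by rw [e]
        _ = x * (a * z * a⁻¹) := by group
        _ = x * z := by rw [← h.commute_A hz ha, mul_inv_cancel_right]
    · rw [← mul_assoc, e, mul_assoc, h.commute_A hz ha, ← mul_assoc]
  obtain ⟨D, g, hyD, hDS, hAD, hP, hg3, hgA, hgP, hfpf, hgD⟩ := FourType.decomp h hy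
  obtain ⟨f, -, hf⟩ := frame_of_decomp h hy hyD hDS hAD hP hg3 hgA hgP hfpf hgD (by
    rw [hPx]
    intro x' hx'S hx'2 hx'A R hR hRC hRx
    -- `R A ⟨x'⟩` moves into `S`
    have hcomm : ∀ z ∈ R ⊔ s.A, z * x' = x' * z := by
      intro z hz
      have : R ⊔ s.A ≤ centralizer ({x'} : Set G) := sup_le hRx fun b hb =>
        mem_centralizer_singleton_iff.2 (h.commute_A hx'S hb).symm
      exact mem_centralizer_singleton_iff.1 (this hz)
    have h2 : IsPGroup 2 ↥(R ⊔ s.A : Subgroup G) :=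
      hR.to_sup_of_normal_right' (Grp.elemAb_isPGroup s.elem) (hRC.trans (centralizer_le_normalizer _))
    have h2' : IsPGroup 2 ↥((R ⊔ s.A) ⊔ zpowers x' : Subgroup G) := by
      refine h2.to_sup_of_normal_right' (IsPGroup.of_card (n := 1) (by rw [Nat.card_zpowers, hx'2, pow_one])) ?_
      refine le_trans (fun z hz => ?_) (centralizer_le_normalizer _)
      refine mem_centralizer_iff.2 ?_
      rintro _ ⟨i, rfl⟩
      exact ((show Commute z x' from hcomm z hz).zpow_right i).eq.symm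
    obtain ⟨c, -, hcR⟩ := s.conj_into h2' (le_sup_right.trans le_sup_left)
    have hx'' : c * x' * c⁻¹ ∈ (s.S : Subgroup G) := hcR _ (mem_sup_right (mem_zpowers x'))
    refine le_trans ?_ (hmax _ hx'' ?_ (s.conj_not_mem hx'S hx'A c))
    · rw [← card_map_of_injective (K := R) (f := (MulAut.conj c).toMonoidHom) (MulAut.conj c).injective]
      refine card_le_of_le ?_
      rintro _ ⟨r, hr, rfl⟩
      refine ⟨hcR r (mem_sup_left (mem_sup_left hr)), mem_centralizer_singleton_iff.2 ?_⟩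
      show c * r * c⁻¹ * (c * x' * c⁻¹) = c * x' * c⁻¹ * (c * r * c⁻¹)
      rw [show c * r * c⁻¹ * (c * x' * c⁻¹) = c * (r * x') * c⁻¹ by group,
        mem_centralizer_singleton_iff.1 (hRx hr)]
      group
    · exact ((MulAut.conj c).orderOf_eq x').trans hx'2) (by rw [hPx]; exact hmax2)
  exact ⟨f, hf.trans hPx⟩

/-- `|A| = 4` and no strongly embedded subgroup: `S = A`. -/
theorem Four.sylow_eq (h : Four s) : (s.S : Subgroup G) = s.A := by
  classical
  haveI : Fact (Nat.Prime 2) := ⟨Nat.prime_two⟩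
  by_contra hne
  obtain ⟨x₀, hx₀S, hx₀2, hx₀A⟩ : ∃ x ∈ (s.S : Subgroup G), orderOf x = 2 ∧ x ∉ s.A := by
    by_contra hno
    push Not at hno
    exact hne (h.no_outside fun x hx hxx => by
      by_cases hx1 : x = 1
      · exact hx1 ▸ one_mem _
      · exact hno x hx (orderOf_eq_prime (by rw [pow_two, hxx]) hx1))
  set S := (s.S : Subgroup G) with hSdef
  let J : G → Prop := fun x => x ∈ S ∧ orderOf x = 2 ∧ x ∉ s.A
  let c₁ : G → ℕ := fun x => Nat.card ↥(S ⊓ centralizer ({x} : Set G))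
  let c₂ : G → ℕ := fun x => Nat.card ↥(S ⊓ normalizer ((S ⊓ centralizer ({x} : Set G) : Subgroup G) : Set G))
  obtain ⟨x₁, hx₁, hmax₁⟩ := Set.exists_max_image {x | J x} c₁ (Set.toFinite _) ⟨x₀, hx₀S, hx₀2, hx₀A⟩
  obtain ⟨x, ⟨⟨hxS, hx2, hxA⟩, hxc⟩, hmax₂⟩ :=
    Set.exists_max_image {x | J x ∧ c₁ x = c₁ x₁} c₂ (Set.toFinite _) ⟨x₁, hx₁, rfl⟩
  have hmax : ∀ x' ∈ S, orderOf x' = 2 → x' ∉ s.A → c₁ x' ≤ c₁ x := fun x' a b c =>
    hxc ▸ hmax₁ x' ⟨a, b, c⟩
  have hmax2 : ∀ R : Subgroup G, IsPGroup 2 R → R ≤ centralizer (s.A : Set G) →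
      R ≤ normalizer ((S ⊓ centralizer ({x} : Set G) : Subgroup G) : Set G) → Nat.card R ≤ c₂ x := by
    intro R hR hRC hRN
    set P := S ⊓ centralizer ({x} : Set G) with hPdef
    have h2 : IsPGroup 2 ↥(R ⊔ P : Subgroup G) :=
      hR.to_sup_of_normal_right' (s.S.isPGroup'.to_le inf_le_left) hRN
    obtain ⟨c, -, hcR⟩ := s.conj_into h2 (le_trans (le_inf s.closed.1 fun b hb =>
      mem_centralizer_singleton_iff.2 (h.commute_A hxS hb).symm) le_sup_right)
    have hxP : x ∈ P := ⟨hxS, mem_centralizer_singleton_iff.2 rfl⟩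
    have hx' : J (c * x * c⁻¹) := ⟨hcR _ (mem_sup_right hxP), ((MulAut.conj c).orderOf_eq x).trans hx2,
      s.conj_not_mem hxS hxA c⟩
    let φ := (MulAut.conj c).toMonoidHom
    have hP' : P.map φ = S ⊓ centralizer ({c * x * c⁻¹} : Set G) := by
      refine eq_of_le_of_card_ge ?_ ?_
      · rintro _ ⟨p, hp, rfl⟩
        refine ⟨hcR p (mem_sup_right hp), mem_centralizer_singleton_iff.2 ?_⟩
        show c * p * c⁻¹ * (c * x * c⁻¹) = c * x * c⁻¹ * (c * p * c⁻¹)
        rw [show c * p * c⁻¹ * (c * x * c⁻¹) = c * (p * x) * c⁻¹ by group,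
          mem_centralizer_singleton_iff.1 hp.2]
        group
      · rw [card_map_of_injective (f := φ) (MulAut.conj c).injective]
        exact hmax _ hx'.1 hx'.2.1 hx'.2.2
    have he : c₁ (c * x * c⁻¹) = c₁ x₁ := by
      show Nat.card ↥(S ⊓ centralizer ({c * x * c⁻¹} : Set G)) = _
      rw [← hP', card_map_of_injective (f := φ) (MulAut.conj c).injective]
      exact hxc
    refine le_trans ?_ (hmax₂ _ ⟨hx', he⟩)
    rw [← card_map_of_injective (f := φ) (K := R) (MulAut.conj c).injective]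
    refine card_le_of_le ?_
    rintro _ ⟨r, hr, rfl⟩
    refine ⟨hcR r (mem_sup_left hr), ?_⟩
    rw [← hP']
    exact le_normalizer_map φ ⟨r, hRN hr, rfl⟩
  obtain ⟨f, hf⟩ := h.exists_frame hxS hx2 hxA hmax hmax2
  rcases f.cardD with hD | hD
  · refine Frame.false_of_two h f hD (fun x hxS hx2 hxA z hz hzx => h.sq_eq_one hxS hx2 hxA hz hzx)
      fun x' hx'S hx'2 hx'A h8 hm2 => h.exists_frame hx'S hx'2 hx'A (fun x'' a b c => ?_) hm2
    refine (hmax x'' a b c).trans (le_of_eq ?_)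
    show Nat.card ↥(S ⊓ centralizer ({x} : Set G)) = _
    rw [h8, ← hf, f.cardP h, hD]
  · have hT := Frame.elem_of_four h f hD fun x hxS hx2 hxA z hz hzx => h.sq_eq_one hxS hx2 hxA hz hzx
    exact Frame.false_of_equal h f hD hT (Frame.sylow_eq_Q f h hD hT)

end Cfsg.Agent.Fus.Gold
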