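import Cfsg.Agent.Lib.Fus.Goldschmidt.SingleLocal

/-!
# Two unitary components seen from `C(A)` (for section 4 of the note on S1169)

`f : C(A) → X` is the map to one `C(a)/O(C(a))`, `M` the preimage in `C(A)` of the component of another point.
Either `M` meets the Sylow subgroup in the Sylow subgroup of the first component, or the squares of `S ∩ M`
centralise that component.
-/

set_option autoImplicit false
set_option linter.unusedSectionVars false
set_option linter.style.haveILetI false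

namespace Cfsg.Agent.Fus.Gold.Single

open Subgroup Cfsg.Agent.Grp

universe u v

/-- A `2`-element congruent modulo a normal subgroup to an element of odd order lies in it. -/
theorem mem_of_mul_mem {H : Type v} [Group H] {M : Subgroup H} [M.Normal] {w n : H} {i : ℕ} (hw : w ^ 2 ^ i = 1)
    (hn : Odd (orderOf n)) (h : w * n ∈ M) : w ∈ M := by
  have h1 : (QuotientGroup.mk w : H ⧸ M) = (QuotientGroup.mk n)⁻¹ := by
    rw [eq_inv_iff_mul_eq_one, ← QuotientGroup.mk_mul]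
    exact (QuotientGroup.eq_one_iff _).2 h
  have h2 : orderOf (QuotientGroup.mk w : H ⧸ M) ∣ 2 ^ i :=
    orderOf_dvd_of_pow_eq_one (by rw [← QuotientGroup.mk_pow, hw, QuotientGroup.mk_one])
  have h3 : orderOf (QuotientGroup.mk w : H ⧸ M) ∣ orderOf n := by
    rw [h1, orderOf_inv]
    exact orderOf_map_dvd (QuotientGroup.mk' M) n
  exact (QuotientGroup.eq_one_iff w).1 (orderOf_eq_one_iff.1 (Nat.eq_one_of_dvd_coprimes
    (Nat.Coprime.pow_left i (Nat.coprime_two_left.2 hn)) h2 h3))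

theorem cross {H : Type v} [Group H] [Finite H] {X : Type u} [Group X] [Finite X] {Ab : Subgroup X}
    {T : Sylow 2 X} {K : Subgroup X} (d : Data X Ab T K)
    (hu : UnitSylow ((T : Subgroup X) ⊓ K) (Ab ⊓ K) K) (f : H →* X) (hker : ∀ n : H, f n = 1 → Odd (orderOf n))
    (hnorm : ∀ h : H, f h ∈ normalizer (K : Set X)) (hcen : ∀ h : H, ∀ x ∈ Ab, f h * x = x * f h)
    (hlift : ∀ x : X, (∀ z ∈ Ab, x * z = z * x) → ∃ h : H, f h = x) (S : Subgroup H) (hS : IsPGroup 2 S)
    (hST : S.map f = (T : Subgroup X)) (M : Subgroup H) [M.Normal]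
    (hM : Nat.card ↥(S ⊓ M) = 64) (hsq : ∀ t ∈ S ⊓ M, f (t * t) ∈ Ab) :
    S ⊓ M = S ⊓ K.comap f ∨ ∀ t ∈ S ⊓ M, f (t * t) ∈ centralizer (K : Set X) := by
  classical
  haveI : Fact (Nat.Prime 2) := ⟨Nat.prime_two⟩
  obtain ⟨x, hxK, hx5, hxn, hxE, hfix⟩ := hu.five
  set E := Ab ⊓ K with hE
  set P := (T : Subgroup X) ⊓ K with hP
  set M1 := K.comap f with hM1
  haveI : M1.Normal := ⟨fun m hm h => mem_comap.2 (by
    rw [map_mul, map_mul, map_inv]
    exact (mem_normalizer_iff.1 (hnorm h) _).1 hm)⟩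
  -- `f` is injective on `S`
  have hinjS : ∀ a ∈ S, ∀ b ∈ S, f a = f b → a = b := by
    intro a ha b hb h
    have h1 : f (a⁻¹ * b) = 1 := by rw [map_mul, map_inv, h, inv_mul_cancel]
    obtain ⟨i, hi⟩ := IsPGroup.iff_orderOf.1 hS ⟨_, S.mul_mem (S.inv_mem ha) hb⟩
    rw [Subgroup.orderOf_mk] at hi
    have h2 := hker _ h1
    rw [hi] at h2
    rcases i with _ | i
    · rw [pow_zero, orderOf_eq_one_iff, inv_mul_eq_one] at hi
      exact hi
    · exact absurd h2 (by simp [Nat.even_pow])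
  have hlift1 : ∀ y ∈ P, ∃ u ∈ S ⊓ M1, f u = y := by
    intro y hy
    obtain ⟨u, huS, rfl⟩ := (hST.ge hy.1 : y ∈ S.map f)
    exact ⟨u, ⟨huS, hy.2⟩, rfl⟩
  have hfS : ∀ u ∈ S, f u ∈ (T : Subgroup X) := fun u hu => hST.le (mem_map_of_mem f hu)
  have key : ∀ q ∈ M1 ⊓ M, f q ∈ P → ∃ w ∈ S ⊓ M1 ⊓ M, f w = f q := by
    intro q hq hqP
    obtain ⟨w, hw, hwq⟩ := hlift1 _ hqP
    obtain ⟨i, hi⟩ := hS ⟨w, hw.1⟩
    refine ⟨w, ⟨hw, mem_of_mul_mem (n := w⁻¹ * q) (i := i) (congrArg Subtype.val hi :) (hker _ ?_)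
      (by rw [mul_inv_cancel_left]; exact hq.2)⟩, hwq⟩
    rw [map_mul, map_inv, hwq, inv_mul_cancel]
  obtain ⟨h, hh⟩ := hlift x fun z hz => by
    obtain ⟨b, hb, e, he, rfl⟩ := mem_sup_comm (d.sup_eq.ge hz) fun u hu v hv => d.loc.comm hu.1 hv.1
    have c1 : Commute x b := mem_centralizer_iff.1 hb.2 x hxK
    have c2 : Commute x e := mul_inv_eq_iff_eq_mul.1 (hxE e he)
    exact (c1.mul_right c2).eq
  have hhM1 : h ∈ M1 := mem_comap.2 (hh ▸ hxK)
  set N := (S ⊓ M1 ⊓ M).map f with hN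
  have hNP : N ≤ P := by
    rintro _ ⟨u, hu, rfl⟩
    exact ⟨hfS u hu.1.1, hu.1.2⟩
  have hEP : E ≤ P := d.E_le
  set U := N ⊔ E with hU
  have hUinv : ∀ y ∈ U, x * y * x⁻¹ ∈ U := by
    have h1 : U.map (MulAut.conj x).toMonoidHom ≤ U := by
      rw [hU, Subgroup.map_sup]
      refine sup_le ?_ ?_
      · rintro _ ⟨_, ⟨u, hu, rfl⟩, rfl⟩
        show x * f u * x⁻¹ ∈ U
        have h2 : f (h * u * h⁻¹) = x * f u * x⁻¹ := by rw [map_mul, map_mul, map_inv, hh]
        obtain ⟨w, hw, hwe⟩ := key (h * u * h⁻¹)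
          ⟨Subgroup.Normal.conj_mem inferInstance u hu.1.2 h, Subgroup.Normal.conj_mem inferInstance u hu.2 h⟩
          (h2 ▸ (mem_normalizer_iff.1 hxn _).1 (hNP ⟨u, hu, rfl⟩))
        exact mem_sup_left ⟨w, hw, hwe.trans h2⟩
      · rintro _ ⟨z, hz, rfl⟩
        show x * z * x⁻¹ ∈ U
        rw [hxE z hz]
        exact mem_sup_right hz
    exact fun y hy => h1 ⟨y, hy, rfl⟩
  rcases eq_or_eq hEP hu.card d.four hx5 hxE hfix (le_sup_right : E ≤ U) (sup_le hNP hEP) hUinv with hUE | hUP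
  · right
    -- the commutators with the Sylow subgroup of `K` lie in `E`
    have hNE : ∀ u ∈ S ⊓ M1 ⊓ M, f u ∈ E := fun u hu => hUE.le (mem_sup_left ⟨u, hu, rfl⟩)
    have hEc : ∀ e ∈ E, ∀ y ∈ P, y * e = e * y := fun e he y hy => d.commute_E hy.1 he
    intro t ht
    set s := f t with hs
    have hsT : s ∈ (T : Subgroup X) := hfS t ht.1
    have hsP : ∀ y ∈ P, s * y * s⁻¹ ∈ P := fun y hy =>
      ⟨(T : Subgroup X).mul_mem ((T : Subgroup X).mul_mem hsT hy.1) ((T : Subgroup X).inv_mem hsT),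
        (mem_normalizer_iff.1 (d.norm hsT) y).1 hy.2⟩
    have hφE : ∀ y ∈ P, s * y * s⁻¹ * y⁻¹ ∈ E := by
      intro y hy
      obtain ⟨u, hu, rfl⟩ := hlift1 y hy
      have h1 : t * u * t⁻¹ * u⁻¹ ∈ S ⊓ M1 ⊓ M := ⟨⟨S.mul_mem (S.mul_mem (S.mul_mem ht.1 hu.1) (S.inv_mem ht.1))
        (S.inv_mem hu.1), M1.mul_mem (Subgroup.Normal.conj_mem inferInstance u hu.2 t) (M1.inv_mem hu.2)⟩, by
        rw [show t * u * t⁻¹ * u⁻¹ = t * (u * t⁻¹ * u⁻¹) by group]
        exact M.mul_mem ht.2 (Subgroup.Normal.conj_mem inferInstance _ (M.inv_mem ht.2) u)⟩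
      have h2 := hNE _ h1
      rwa [map_mul, map_mul, map_mul, map_inv, map_inv] at h2
    -- the conjugate by the element of order five
    set q := h * t * h⁻¹ * t⁻¹ with hqdef
    have hqM : q ∈ M1 ⊓ M := by
      refine ⟨?_, M.mul_mem (Subgroup.Normal.conj_mem inferInstance t ht.2 h) (M.inv_mem ht.2)⟩
      rw [hqdef, show h * t * h⁻¹ * t⁻¹ = h * (t * h⁻¹ * t⁻¹) by group]
      exact M1.mul_mem hhM1 (Subgroup.Normal.conj_mem inferInstance _ (M1.inv_mem hhM1) t)
    set r := f q with hr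
    have hrK : r ∈ K := hqM.1
    have hrs : x * s * x⁻¹ = r * s := by
      rw [hr, hqdef, hs, map_mul, map_mul, map_mul, map_inv, map_inv, hh]
      group
    have hsn : s ∈ normalizer (P : Set X) := mem_normalizer_fintype hsP
    have hrn : r ∈ normalizer (P : Set X) := by
      have h1 := mul_mem (mul_mem (mul_mem hxn hsn) (inv_mem hxn)) (inv_mem hsn)
      rwa [hrs, mul_inv_cancel_right] at h1
    have hrE : ∀ e ∈ E, r * e = e * r := fun e he => hcen q e he.1
    have hψE : ∀ y ∈ P, r * y * r⁻¹ * y⁻¹ ∈ E := by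
      intro y hy
      obtain ⟨u, hu, rfl⟩ := hlift1 y hy
      have h2 : f (q * u * q⁻¹ * u⁻¹) = r * f u * r⁻¹ * (f u)⁻¹ := by
        rw [map_mul, map_mul, map_mul, map_inv, map_inv]
      obtain ⟨w, hw, hwe⟩ := key (q * u * q⁻¹ * u⁻¹)
        ⟨M1.mul_mem (Subgroup.Normal.conj_mem inferInstance u hu.2 q) (M1.inv_mem hu.2), by
          rw [show q * u * q⁻¹ * u⁻¹ = q * (u * q⁻¹ * u⁻¹) by group]
          exact M.mul_mem hqM.2 (Subgroup.Normal.conj_mem inferInstance _ (M.inv_mem hqM.2) u)⟩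
        (h2 ▸ P.mul_mem ((mem_normalizer_iff.1 hrn _).1 hy) (P.inv_mem hy))
      rw [← h2, ← hwe]
      exact hNE w hw
    -- an odd power of `r` is central, so `r` centralises `P`
    have hrc : ∀ y ∈ P, r * y = y * r := by
      intro y hy
      set c := r * y * r⁻¹ * y⁻¹ with hc
      have hcE : c ∈ E := hψE y hy
      have hiter : ∀ n : ℕ, r ^ n * y * (r ^ n)⁻¹ = c ^ n * y := by
        intro n
        induction n with
        | zero => simp
        | succ n ih =>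
          have h1 : r * c ^ n * r⁻¹ = c ^ n := by rw [hrE _ (E.pow_mem hcE n), mul_inv_cancel_right]
          calc r ^ (n + 1) * y * (r ^ (n + 1))⁻¹ = r * (r ^ n * y * (r ^ n)⁻¹) * r⁻¹ := by rw [pow_succ']; group
            _ = (r * c ^ n * r⁻¹) * (r * y * r⁻¹) := by rw [ih]; group
            _ = c ^ n * (c * y) := by rw [h1, show r * y * r⁻¹ = c * y from (inv_mul_cancel_right _ y).symm]
            _ = c ^ (n + 1) * y := by rw [pow_succ]; exact (mul_assoc _ _ _).symm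
      set k := ordCompl[2] (orderOf r) with hk
      have hkodd : Odd k := by
        rw [← Nat.not_even_iff_odd, even_iff_two_dvd]
        exact Nat.not_dvd_ordCompl Nat.prime_two (orderOf_pos r).ne'
      have hrkT : r ^ k ∈ P := by
        obtain ⟨P₀, hP₀⟩ := exists_sylow_component (T := T) d.comp
        refine ⟨?_, K.pow_mem hrK k⟩
        set rk : ↥K := ⟨r ^ k, K.pow_mem hrK k⟩ with hrk
        have hp : IsPGroup 2 ↥(zpowers rk) := by
          intro z
          obtain ⟨i, hi⟩ := mem_zpowers_iff.1 z.2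
          refine ⟨(orderOf r).factorization 2, Subtype.ext (Subtype.ext ?_)⟩
          show ((z : ↥K) : X) ^ 2 ^ (orderOf r).factorization 2 = 1
          rw [← hi, Subgroup.coe_zpow, ← zpow_natCast, ← zpow_mul, mul_comm, zpow_mul, zpow_natCast,
            show (rk : X) = r ^ k from rfl, ← pow_mul, mul_comm k, hk, Nat.ordProj_mul_ordCompl_eq_self,
            pow_orderOf_eq_one, one_zpow]
        have hn : zpowers rk ≤ normalizer ((P₀ : Subgroup ↥K) : Set ↥K) := by
          refine zpowers_le.2 (mem_normalizer_fintype fun z hz => ?_)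
          rw [SetLike.mem_coe, hP₀, mem_subgroupOf] at hz ⊢
          exact ((mem_normalizer_iff.1 (pow_mem hrn k) _).1 ⟨hz, z.2⟩).1
        have h1 := P₀.3 (hp.to_sup_of_normal_right' P₀.isPGroup' hn) le_sup_right
        have h2 : rk ∈ (P₀ : Subgroup ↥K) := h1 ▸ mem_sup_left (mem_zpowers _)
        rw [hP₀, mem_subgroupOf] at h2
        exact h2
      have hrkE : r ^ k ∈ E := by
        have h1 : f (q ^ k) = r ^ k := map_pow f q k
        obtain ⟨w, hw, hwe⟩ := key (q ^ k) ((M1 ⊓ M).pow_mem hqM k) (h1 ▸ hrkT)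
        rw [← h1, ← hwe]
        exact hNE w hw
      have h1 := hiter k
      rw [← hEc _ hrkE y hy, mul_inv_cancel_right, right_eq_mul] at h1
      have hc1 : c = 1 := by
        obtain ⟨j, hj⟩ := hkodd
        rwa [hj, pow_succ, pow_mul, pow_two, d.loc.sq hcE.1, one_pow, one_mul] at h1
      rwa [hc, mul_inv_eq_one, mul_inv_eq_iff_eq_mul] at hc1
    let φ : ↥P →* X :=
      { toFun := fun y => s * y * s⁻¹ * (y : X)⁻¹
        map_one' := by simp
        map_mul' := fun y z => by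
          have hz := hφE z z.2
          calc s * ((y : X) * z) * s⁻¹ * ((y : X) * z)⁻¹
              = s * y * s⁻¹ * (s * z * s⁻¹ * (z : X)⁻¹) * (y : X)⁻¹ := by group
            _ = s * y * s⁻¹ * ((s * z * s⁻¹ * (z : X)⁻¹) * (y : X)⁻¹) := by group
            _ = s * y * s⁻¹ * ((y : X)⁻¹ * (s * z * s⁻¹ * (z : X)⁻¹)) := by rw [hEc _ hz _ (P.inv_mem y.2)]
            _ = _ := by group }
    have hs1 : ∀ y ∈ P, s * y = y * s := by
      have h1 := equivariant_trivial hu d.four φ (fun y hy => by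
        show s * (y : X) * s⁻¹ * (y : X)⁻¹ = 1
        rw [d.commute_E hsT hy, mul_inv_cancel_right, mul_inv_cancel]) hx5 hxn hxE hfix (fun y => by
        set w := x * (y : X) * x⁻¹ with hw
        have hwP : w ∈ P := (mem_normalizer_iff.1 hxn _).1 y.2
        show s * w * s⁻¹ * w⁻¹ = s * (y : X) * s⁻¹ * (y : X)⁻¹
        have h2 : x * (s * (y : X) * s⁻¹ * (y : X)⁻¹) * x⁻¹ = s * (y : X) * s⁻¹ * (y : X)⁻¹ := hxE _ (hφE y y.2)
        rw [← h2, show x * (s * (y : X) * s⁻¹ * (y : X)⁻¹) * x⁻¹ = (x * s * x⁻¹) * w * (x * s * x⁻¹)⁻¹ * w⁻¹ by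
          rw [hw]; group, hrs, show r * s * w * (r * s)⁻¹ = r * (s * w * s⁻¹) * r⁻¹ by group,
          hrc _ (hsP w hwP), mul_inv_cancel_right])
      intro y hy
      exact mul_inv_eq_iff_eq_mul.1 (mul_inv_eq_one.1 (h1 ⟨y, hy⟩))
    have h5 := d.sq_centralizes hu hsT hs1 (by rw [hs, ← map_mul]; exact hsq t ht)
    rwa [map_mul]
  · left
    have hPN : P ≤ N := by
      have hEN : E ≤ N := by
        intro e he
        obtain ⟨y, hy, rfl⟩ := hu.sqrt e he
        obtain ⟨a, ha, b, hb, rfl⟩ := mem_sup_comm (hUP.ge hy : y ∈ N ⊔ E)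
          fun u hu v hv => d.commute_E (hNP hu).1 hv
        rw [show a * b * (a * b) = a * (b * a) * b by group, ← d.commute_E (hNP ha).1 hb,
          show a * (a * b) * b = a * a * (b * b) by group, d.loc.sq hb.1, mul_one]
        exact N.mul_mem ha ha
      rw [← hUP]
      exact sup_le le_rfl hEN
    have h1 : S ⊓ M1 ≤ S ⊓ M := by
      intro u hu
      obtain ⟨w, hw, hwu⟩ := hPN ⟨hfS u hu.1, hu.2⟩
      exact ⟨hu.1, hinjS w hw.1.1 u hu.1 hwu ▸ hw.2⟩
    have h2 : Nat.card ↥(S ⊓ M1) = 64 := by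
      rw [← hu.card]
      exact Nat.card_congr (Equiv.ofBijective (fun u => (⟨f u, hfS u u.2.1, u.2.2⟩ : ↥P))
        ⟨fun u w e => Subtype.ext (hinjS u u.2.1 w w.2.1 (congrArg Subtype.val e)), fun y => by
          obtain ⟨u, hu, hy⟩ := hlift1 y y.2
          exact ⟨⟨u, hu⟩, Subtype.ext hy⟩⟩)
    exact (eq_of_le_of_card_ge h1 (le_of_eq (hM.trans h2.symm))).symm

end Cfsg.Agent.Fus.Gold.Single
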