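import Cfsg.Agent.Lib.Fus.Goldschmidt.Lift
import Cfsg.Agent.Lib.Fus.Goldschmidt.Complement
import Cfsg.Agent.Lib.Fus.Goldschmidt.SingleCross
import Cfsg.Agent.Lib.Grp.PComponents

/-!
# `A` of order eight with seven singleton factors: `S = A` (section 4 of the note on S1169)

For each `a ∈ A#` the component with fixed part `⟨a⟩` has a four-group as Sylow subgroup, and then all squares
of `S` lying in `A` lie in `⟨a⟩`, or the Sylow subgroup of `PSU(3, 4)`.  Two points of the second kind are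
contradictory, and two of the first kind leave no square of `S` in `A`.
-/

set_option autoImplicit false
set_option linter.unusedSectionVars false
set_option linter.style.haveILetI false

namespace Cfsg.Agent.Fus.Gold

open Subgroup Cfsg.Agent.Grp

universe u

variable {G : Type u} [Group G] [Finite G] (s : Setup G)

namespace Single

theorem eq_or_of_mem_zpowers {a x : G} (ha : a ∈ s.A) (hx : x ∈ zpowers a) : x = 1 ∨ x = a := by
  obtain ⟨i, rfl⟩ := mem_zpowers_iff.1 hx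
  rcases Int.even_or_odd i with ⟨j, rfl⟩ | ⟨j, rfl⟩
  · left; rw [zpow_add, ← (Commute.refl a).mul_zpow, s.sq ha, one_zpow]
  · right; rw [zpow_add, zpow_mul, zpow_ofNat, pow_two, s.sq ha, one_zpow, one_mul, zpow_one]

/-- `S` centralises `A`. -/
theorem le_centralizer (hodd : ∀ g ∈ normalizer (s.A : Set G), (∀ x ∈ s.A, g * g * x * (g * g)⁻¹ = x) →
    ∀ x ∈ s.A, g * x * g⁻¹ = x) : (s.S : Subgroup G) ≤ centralizer (s.A : Set G) := by
  have key : ∀ (k : ℕ) (g : G), g ∈ (s.S : Subgroup G) → g ^ 2 ^ k = 1 → ∀ x ∈ s.A, g * x * g⁻¹ = x := by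
    intro k
    induction k with
    | zero => intro g _ hg x _; rw [pow_zero, pow_one] at hg; simp [hg]
    | succ k ih =>
      intro g hg hg1
      refine hodd g (s.sylow_le_normalizer hg) (ih (g * g) (mul_mem hg hg) ?_)
      rwa [← pow_two, ← pow_mul, ← pow_succ']
  intro g hg
  obtain ⟨k, hk⟩ := s.S.isPGroup' ⟨g, hg⟩
  exact mem_centralizer_iff.2 fun x hx =>
    (mul_inv_eq_iff_eq_mul.1 (key k g hg (congrArg Subtype.val hk :) x hx)).symm

section Point

variable {a : G} (ha : a ∈ s.A) (ha1 : a ≠ 1) (hSA : (s.S : Subgroup G) ≤ centralizer (s.A : Set G))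
include ha ha1

theorem le_C : centralizer (s.A : Set G) ≤ centralizer ({a} : Set G) :=
  Subgroup.centralizer_le (Set.singleton_subset_iff.2 ha)

/-- The map of `C(A)` to `C(a)/O(C(a))`. -/
def fA : ↥(centralizer (s.A : Set G)) →* Cq a := (proj a).comp (Subgroup.inclusion (le_C s ha ha1))

theorem fA_apply {x : G} (hx : x ∈ centralizer (s.A : Set G)) :
    fA s ha ha1 ⟨x, hx⟩ = proj a ⟨x, le_C s ha ha1 hx⟩ := rfl

theorem fA_ker (n : ↥(centralizer (s.A : Set G))) (h : fA s ha ha1 n = 1) : Odd (orderOf n) := by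
  have h1 := (QuotientGroup.eq_one_iff (Subgroup.inclusion (le_C s ha ha1) n)).1 h
  rw [← orderOf_injective _ (Subgroup.inclusion_injective (le_C s ha ha1)) n]
  exact (Nat.coprime_two_left.1 (pPrimeCore_coprime (p := 2)).symm).of_dvd_nat
    (Subgroup.orderOf_dvd_natCard _ h1)

theorem mem_imA {y : Cq a} : y ∈ imA s.A a ↔ ∃ (x : G) (hx : x ∈ s.A), proj a ⟨x, s.le_centralizer ha hx⟩ = y := by
  constructor
  · rintro ⟨⟨x, hxC⟩, hx, rfl⟩
    exact ⟨x, hx, rfl⟩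
  · rintro ⟨x, hx, rfl⟩
    exact mem_map_of_mem _ (mem_subgroupOf.2 hx)

theorem proj_commute {x : G} (hx : x ∈ s.A) {h : G} (hh : h ∈ centralizer (s.A : Set G)) :
    proj a ⟨h, le_C s ha ha1 hh⟩ * proj a ⟨x, s.le_centralizer ha hx⟩ =
      proj a ⟨x, s.le_centralizer ha hx⟩ * proj a ⟨h, le_C s ha ha1 hh⟩ := by
  rw [← map_mul, ← map_mul]
  exact congrArg _ (Subtype.ext (mem_centralizer_iff.1 hh x hx).symm)

theorem mem_dPart_iff {K : Subgroup (Cq a)} {x : G} (hx : x ∈ s.A) :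
    x ∈ dPart s.A a K ↔ proj a ⟨x, s.le_centralizer ha hx⟩ ∈ centralizer (K : Set (Cq a)) :=
  ⟨fun h => (mem_pre.1 h.2).2, fun h => ⟨hx, mem_pre.2 ⟨_, h⟩⟩⟩

/-- `C(A)` fixes a component which `A` moves. -/
theorem fA_mem_normalizer {K : Subgroup (Cq a)} (hK : Moved s.A a K) (h : ↥(centralizer (s.A : Set G))) :
    fA s ha ha1 h ∈ normalizer (K : Set (Cq a)) := by
  set σ := fA s ha ha1 h
  set K' := K.map (MulAut.conj σ).toMonoidHom with hK'
  have hd : dPart s.A a K' = dPart s.A a K := by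
    ext x
    by_cases hx : x ∈ s.A
    swap
    · exact ⟨fun hh => absurd hh.1 hx, fun hh => absurd hh.1 hx⟩
    rw [mem_dPart_iff s ha ha1 hx, mem_dPart_iff s ha ha1 hx, mem_centralizer_iff, mem_centralizer_iff]
    set y := proj a ⟨x, s.le_centralizer ha hx⟩
    have hc : σ * y = y * σ := proj_commute s ha ha1 hx h.2
    constructor
    · intro hh k hk
      have h1 := hh _ (show σ * k * σ⁻¹ ∈ K' from ⟨k, hk, rfl⟩)
      calc k * y = σ⁻¹ * (σ * k * σ⁻¹ * (σ * y)) := by group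
        _ = σ⁻¹ * (σ * k * σ⁻¹ * y * σ) := by rw [hc]; group
        _ = σ⁻¹ * (y * σ) * k := by rw [h1]; group
        _ = σ⁻¹ * (σ * y) * k := by rw [hc]
        _ = y * k := by group
    · intro hh _ hk'
      obtain ⟨k, hk, rfl⟩ := hk'
      have h1 := hh k hk
      show σ * k * σ⁻¹ * y = y * (σ * k * σ⁻¹)
      calc σ * k * σ⁻¹ * y = σ * k * σ⁻¹ * (y * σ) * σ⁻¹ := by group
        _ = σ * (k * y) * σ⁻¹ := by rw [← hc]; group
        _ = (σ * y) * k * σ⁻¹ := by rw [h1]; group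
        _ = _ := by rw [hc]; group
  have hM' : Moved s.A a K' := ⟨IsComponent.map_iso (MulAut.conj σ) hK.1, by rw [hd]; exact hK.2⟩
  exact conj_eq_iff.1 (eq_of_dPart s ha ha1 hM' hK hd)

include hSA

/-- The Sylow subgroup of `C(a)/O(C(a))` coming from `S`. -/
theorem exists_sylow : ∃ T : Sylow 2 (Cq a),
    ((s.S : Subgroup G).subgroupOf (centralizer (s.A : Set G))).map (fA s ha ha1) = (T : Subgroup (Cq a)) := by
  haveI : Fact (Nat.Prime 2) := ⟨Nat.prime_two⟩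
  refine ⟨(s.S.subtype (hSA.trans (le_C s ha ha1))).mapSurjective
    (f := proj a) (QuotientGroup.mk'_surjective _), ?_⟩
  rw [Sylow.coe_mapSurjective, Sylow.coe_subtype]
  ext y
  constructor
  · rintro ⟨u, hu, rfl⟩
    exact ⟨Subgroup.inclusion (le_C s ha ha1) u, hu, rfl⟩
  · rintro ⟨⟨x, hxC⟩, hx, rfl⟩
    exact ⟨⟨x, hSA hx⟩, hx, rfl⟩

variable (h8 : Nat.card s.A = 8) {K : Subgroup (Cq a)} (hK : Moved s.A a K) (hD : dPart s.A a K = zpowers a)
include h8 hK hD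

theorem ePart_facts : ePart s.A a K ⊓ dPart s.A a K = ⊥ ∧ Nat.card ↥(ePart s.A a K) = 4 := by
  have hD2 : Nat.card ↥(dPart s.A a K) = 2 := by rw [hD, Nat.card_zpowers, s.orderOf_eq ha ha1]
  have hb : ePart s.A a K ⊓ dPart s.A a K = ⊥ := by
    by_contra h
    have h1 := (defect s ha ha1 hK h).1
    rw [h8, hD2] at h1
    omega
  refine ⟨hb, ?_⟩
  have hn : ePart s.A a K ≤ normalizer (dPart s.A a K : Set G) := fun e he => mem_normalizer_fintype fun d hd => by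
    rw [SetLike.mem_coe] at hd ⊢
    rwa [s.comm (ePart_le _ _ _ he) (dPart_le _ _ _ hd), mul_inv_cancel_right]
  have h1 := card_sup_mul_card_inf (H := ePart s.A a K) (N := dPart s.A a K) hn
  rw [sup_comm, sup_eq s ha ha1 hK.1, hb, card_bot, mul_one, h8, hD2] at h1
  omega

theorem data {T : Sylow 2 (Cq a)}
    (hT : ((s.S : Subgroup G).subgroupOf (centralizer (s.A : Set G))).map (fA s ha ha1) = (T : Subgroup (Cq a))) :
    Data (Cq a) (imA s.A a) T K := by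
  haveI : Fact (Nat.Prime 2) := ⟨Nat.prime_two⟩
  have hmem : ∀ t ∈ (T : Subgroup (Cq a)), ∃ u : ↥(centralizer (s.A : Set G)), (u : G) ∈ (s.S : Subgroup G) ∧
      fA s ha ha1 u = t := fun t ht => by
    obtain ⟨u, hu, e⟩ := hT.ge ht
    exact ⟨u, hu, e⟩
  have hle : imA s.A a ≤ T := by
    intro y hy
    obtain ⟨x, hx, rfl⟩ := (mem_imA s ha ha1).1 hy
    exact hT.le ⟨⟨x, hSA (s.closed.1 hx)⟩, s.closed.1 hx, rfl⟩
  obtain ⟨hfree, h4⟩ := ePart_facts s ha ha1 hSA h8 hK hD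
  refine ⟨localHyp s ha ha1, hle, hK.1, fun t ht y hy => ?_, fun t ht => ?_, ?_, ?_⟩
  · obtain ⟨u, -, rfl⟩ := hmem t ht
    obtain ⟨x, hx, rfl⟩ := (mem_imA s ha ha1).1 hy
    exact proj_commute s ha ha1 hx u.2
  · obtain ⟨u, -, rfl⟩ := hmem t ht
    exact fA_mem_normalizer s ha ha1 hK u
  · rw [← h4]
    refine (Nat.card_eq_of_bijective (fun e : ↥(ePart s.A a K) =>
      (⟨proj a ⟨e, s.le_centralizer ha e.2.1⟩, (mem_imA s ha ha1).2 ⟨e, e.2.1, rfl⟩, (mem_pre.1 e.2.2).2⟩ :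
        ↥(imA s.A a ⊓ K))) ⟨fun e e' h => ?_, fun y => ?_⟩).symm
    · have h1 : proj a ⟨e, s.le_centralizer ha e.2.1⟩ = proj a ⟨e', s.le_centralizer ha e'.2.1⟩ :=
        congrArg Subtype.val h
      have h2 := (QuotientGroup.eq (s := Cfsg.pPrimeCore 2 ↥(centralizer ({a} : Set G)))).1 h1
      have h3 : (e : G)⁻¹ * e' = 1 := by
        by_contra hne
        have h4 := s.orderOf_eq (s.A.mul_mem (s.A.inv_mem e.2.1) e'.2.1) hne
        have h5 := Subgroup.orderOf_dvd_natCard _ h2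
        rw [← Subgroup.orderOf_coe, Subgroup.coe_mul, Subgroup.coe_inv, h4] at h5
        exact (Nat.prime_two.coprime_iff_not_dvd.1 (pPrimeCore_coprime (p := 2)).symm) h5
      exact Subtype.ext (inv_mul_eq_one.1 h3)
    · obtain ⟨x, hx, hxy⟩ := (mem_imA s ha ha1).1 y.2.1
      exact ⟨⟨x, hx, mem_pre.2 ⟨_, hxy ▸ y.2.2⟩⟩, Subtype.ext hxy⟩
  · rw [eq_bot_iff]
    rintro y ⟨⟨hy1, hy2⟩, hy3⟩
    obtain ⟨x, hx, rfl⟩ := (mem_imA s ha ha1).1 hy1
    have h1 : x ∈ ePart s.A a K ⊓ dPart s.A a K :=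
      ⟨⟨hx, mem_pre.2 ⟨_, hy2⟩⟩, (mem_dPart_iff s ha ha1 hx).2 hy3⟩
    rw [hfree, mem_bot] at h1
    subst h1
    exact mem_bot.2 (map_one _)

/-- At a point with a four-group, the squares lying in `A` are in `⟨a⟩`. -/
theorem four_squares {T : Sylow 2 (Cq a)}
    (hT : ((s.S : Subgroup G).subgroupOf (centralizer (s.A : Set G))).map (fA s ha ha1) = (T : Subgroup (Cq a)))
    (hfour : (T : Subgroup (Cq a)) ⊓ K = imA s.A a ⊓ K) {x : G}
    (hx : x ∈ s.A ⊓ Subgroup.closure ((fun y => y * y) '' ((s.S : Subgroup G) : Set G))) : x ∈ zpowers a := by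
  have d := data s ha ha1 hSA h8 hK hD hT
  rw [← hD]
  refine ⟨hx.1, ?_⟩
  refine ((Subgroup.closure_le _).2 ?_) hx.2
  rintro _ ⟨t, ht, rfl⟩
  refine mem_pre.2 ⟨le_C s ha ha1 (mul_mem (hSA ht) (hSA ht)), ?_⟩
  set u := fA s ha ha1 ⟨t, hSA ht⟩
  have huT : u ∈ (T : Subgroup (Cq a)) := hT.le ⟨⟨t, hSA ht⟩, ht, rfl⟩
  obtain ⟨e, he, hec⟩ := d.four_decomp hfour huT
  have h1 : (e * u) * (e * u) = u * u := by
    rw [show e * u * (e * u) = e * (u * e) * u by group, d.commute_E huT he,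
      show e * (e * u) * u = e * e * (u * u) by group, d.loc.sq he.1, one_mul]
  have h2 : u * u ∈ centralizer (K : Set (Cq a)) := h1 ▸ mul_mem hec hec
  rwa [show u = proj a ⟨t, le_C s ha ha1 (hSA ht)⟩ from rfl, ← map_mul] at h2

end Point

/-- Two points with the Sylow subgroup of `PSU(3, 4)` have one moved part. -/
theorem unit_unit (hSA : (s.S : Subgroup G) ≤ centralizer (s.A : Set G)) (h8 : Nat.card s.A = 8) {a b : G}
    (ha : a ∈ s.A) (ha1 : a ≠ 1) (hb : b ∈ s.A) (hb1 : b ≠ 1) {Ka : Subgroup (Cq a)} (hKa : Moved s.A a Ka)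
    (hDa : dPart s.A a Ka = zpowers a) {Kb : Subgroup (Cq b)} (hKb : Moved s.A b Kb)
    (hDb : dPart s.A b Kb = zpowers b) {Ta : Sylow 2 (Cq a)} {Tb : Sylow 2 (Cq b)}
    (hTa : ((s.S : Subgroup G).subgroupOf (centralizer (s.A : Set G))).map (fA s ha ha1) = (Ta : Subgroup (Cq a)))
    (hTb : ((s.S : Subgroup G).subgroupOf (centralizer (s.A : Set G))).map (fA s hb hb1) = (Tb : Subgroup (Cq b)))
    (hua : UnitSylow ((Ta : Subgroup (Cq a)) ⊓ Ka) (imA s.A a ⊓ Ka) Ka)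
    (hub : UnitSylow ((Tb : Subgroup (Cq b)) ⊓ Kb) (imA s.A b ⊓ Kb) Kb) :
    ePart s.A a Ka = ePart s.A b Kb := by
  classical
  haveI : Fact (Nat.Prime 2) := ⟨Nat.prime_two⟩
  set H := centralizer (s.A : Set G) with hH
  have dA := data s ha ha1 hSA h8 hKa hDa hTa
  have hSH : IsPGroup 2 ↥((s.S : Subgroup G).subgroupOf H) :=
    s.S.isPGroup'.comap_of_injective _ H.subtype_injective
  haveI : (Kb.comap (fA s hb hb1)).Normal := ⟨fun m hm g => mem_comap.2 (by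
    rw [map_mul, map_mul, map_inv]
    exact (mem_normalizer_iff.1 (fA_mem_normalizer s hb hb1 hKb g) _).1 hm)⟩
  -- `S ∩ M` against the Sylow subgroup of the component at `b`
  have hbij : ∀ y ∈ (Tb : Subgroup (Cq b)) ⊓ Kb,
      ∃ u ∈ (s.S : Subgroup G).subgroupOf H ⊓ Kb.comap (fA s hb hb1), fA s hb hb1 u = y := by
    intro y hy
    obtain ⟨u, hu, rfl⟩ := hTb.ge hy.1
    exact ⟨u, ⟨hu, hy.2⟩, rfl⟩
  have hinj : ∀ u v : ↥H, (u : G) ∈ (s.S : Subgroup G) → (v : G) ∈ (s.S : Subgroup G) →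
      fA s hb hb1 u = fA s hb hb1 v → u = v := by
    intro u v hu hv h
    have h1 : fA s hb hb1 (u⁻¹ * v) = 1 := by rw [map_mul, map_inv, h, inv_mul_cancel]
    obtain ⟨i, hi⟩ := IsPGroup.iff_orderOf.1 hSH ⟨u⁻¹ * v, mul_mem (inv_mem hu) hv⟩
    rw [Subgroup.orderOf_mk] at hi
    have h2 := fA_ker s hb hb1 _ h1
    rw [hi] at h2
    rcases i with _ | i
    · rw [pow_zero, orderOf_eq_one_iff, inv_mul_eq_one] at hi
      exact hi
    · exact absurd h2 (by simp [Nat.even_pow])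
  have hM : Nat.card ↥((s.S : Subgroup G).subgroupOf H ⊓ Kb.comap (fA s hb hb1)) = 64 := by
    rw [← hub.card]
    exact Nat.card_congr (Equiv.ofBijective
      (fun u => (⟨fA s hb hb1 u, hTb.le (mem_map_of_mem _ u.2.1), u.2.2⟩ : ↥((Tb : Subgroup (Cq b)) ⊓ Kb)))
      ⟨fun u v e => Subtype.ext (hinj u v u.2.1 v.2.1 (congrArg Subtype.val e)), fun y => by
        obtain ⟨u, hu, hy⟩ := hbij y y.2
        exact ⟨⟨u, hu⟩, Subtype.ext hy⟩⟩)
  -- squares of `S ∩ M` lie in `A`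
  have hsq : ∀ t ∈ (s.S : Subgroup G).subgroupOf H ⊓ Kb.comap (fA s hb hb1), ((t * t : ↥H) : G) ∈ s.A := by
    intro t ht
    obtain ⟨x, hx, hxe⟩ := (mem_imA s hb hb1).1 (hub.sq _ ⟨hTb.le (mem_map_of_mem _ ht.1), ht.2⟩).1
    have h1 := hinj ⟨x, hSA (s.closed.1 hx)⟩ (t * t) (s.closed.1 hx) (mul_mem ht.1 ht.1)
      (by rw [map_mul]; exact hxe)
    rw [← h1]
    exact hx
  rcases cross dA hua (fA s ha ha1) (fA_ker s ha ha1) (fA_mem_normalizer s ha ha1 hKa)
    (fun h y hy => by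
      obtain ⟨x, hx, rfl⟩ := (mem_imA s ha ha1).1 hy
      exact proj_commute s ha ha1 hx h.2)
    (fun y hy => by
      have hp : IsPGroup 2 ↥(s.A.subgroupOf (centralizer ({a} : Set G))) :=
        (elemAb_isPGroup s.elem).comap_of_injective _ (subtype_injective _)
      have h1 := map_centralizer_pGroup hp
      have h2 : y ∈ centralizer (imA s.A a : Set (Cq a)) := mem_centralizer_iff.2 fun z hz => (hy z hz).symm
      rw [show imA s.A a = (s.A.subgroupOf (centralizer ({a} : Set G))).map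
        (QuotientGroup.mk' (Cfsg.pPrimeCore 2 ↥(centralizer ({a} : Set G)))) from rfl, ← h1] at h2
      obtain ⟨c, hc, rfl⟩ := h2
      exact ⟨⟨c, mem_centralizer_iff.2 fun x hx =>
        congrArg Subtype.val (mem_centralizer_iff.1 hc ⟨x, s.le_centralizer ha hx⟩ hx)⟩, rfl⟩)
    _ hSH hTa (Kb.comap (fA s hb hb1)) hM
    (fun t ht => (mem_imA s ha ha1).2 ⟨_, hsq t ht, rfl⟩) with he | he
  · have hmem : ∀ x (hx : x ∈ s.A), (proj a ⟨x, s.le_centralizer ha hx⟩ ∈ Ka ↔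
        proj b ⟨x, s.le_centralizer hb hx⟩ ∈ Kb) := by
      intro x hx
      have hxS := s.closed.1 hx
      constructor
      · intro h
        have h1 : (⟨x, hSA hxS⟩ : ↥H) ∈ (s.S : Subgroup G).subgroupOf H ⊓ Ka.comap (fA s ha ha1) := ⟨hxS, h⟩
        rw [← he] at h1
        exact h1.2
      · intro h
        have h1 : (⟨x, hSA hxS⟩ : ↥H) ∈ (s.S : Subgroup G).subgroupOf H ⊓ Kb.comap (fA s hb hb1) := ⟨hxS, h⟩
        rw [he] at h1
        exact h1.2
    ext x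
    constructor
    · rintro ⟨hx, hxK⟩
      exact ⟨hx, mem_pre.2 ⟨_, (hmem x hx).1 (mem_pre.1 hxK).2⟩⟩
    · rintro ⟨hx, hxK⟩
      exact ⟨hx, mem_pre.2 ⟨_, (hmem x hx).2 (mem_pre.1 hxK).2⟩⟩
  · exfalso
    have hle : ePart s.A b Kb ≤ dPart s.A a Ka := by
      intro e hemem
      obtain ⟨he0, heK⟩ := hemem
      obtain ⟨y, hy, hye⟩ := hub.sqrt (proj b ⟨e, s.le_centralizer hb he0⟩)
        ⟨(mem_imA s hb hb1).2 ⟨e, he0, rfl⟩, (mem_pre.1 heK).2⟩
      obtain ⟨u, hu, rfl⟩ := hbij y hy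
      have h1 := hinj (u * u) ⟨e, hSA (s.closed.1 he0)⟩ (mul_mem hu.1 hu.1) (s.closed.1 he0)
        (by rw [map_mul]; exact hye)
      have h2 := he u hu
      rw [h1] at h2
      exact (mem_dPart_iff s ha ha1 he0).2 h2
    have h1 := card_le_of_le hle
    rw [(ePart_facts s hb hb1 hSA h8 hKb hDb).2, hDa, Nat.card_zpowers, s.orderOf_eq ha ha1] at h1
    omega

end Single

open Single

/-- `A` of order eight, every point the fixed part of a component: `S = A`. -/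
theorem single (h8 : Nat.card s.A = 8) (hfac : ∀ v ∈ s.A, v ≠ 1 → ∃ K, Moved s.A v K ∧ dPart s.A v K = zpowers v)
    (hinj : ∀ a ∈ s.A, a ≠ 1 → ∀ b ∈ s.A, b ≠ 1 → ∀ K K', Moved s.A a K → Moved s.A b K' →
      ePart s.A a K = ePart s.A b K' → a = b)
    (hodd : ∀ g ∈ normalizer (s.A : Set G), (∀ x ∈ s.A, g * g * x * (g * g)⁻¹ = x) → ∀ x ∈ s.A, g * x * g⁻¹ = x) :
    (s.S : Subgroup G) = s.A := by
  classical
  have hSA := le_centralizer s hodd
  -- the two kinds of points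
  set Q := s.A ⊓ Subgroup.closure ((fun y => y * y) '' ((s.S : Subgroup G) : Set G)) with hQ
  let U : G → Prop := fun v => ∃ (hv : v ∈ s.A) (hv1 : v ≠ 1) (K : Subgroup (Cq v)) (T : Sylow 2 (Cq v)),
    Moved s.A v K ∧ dPart s.A v K = zpowers v ∧
    ((s.S : Subgroup G).subgroupOf (centralizer (s.A : Set G))).map (fA s hv hv1) = (T : Subgroup (Cq v)) ∧
    UnitSylow ((T : Subgroup (Cq v)) ⊓ K) (imA s.A v ⊓ K) K
  have hdich : ∀ v ∈ s.A, v ≠ 1 → (∀ x ∈ Q, x = 1 ∨ x = v) ∨ U v := by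
    intro v hv hv1
    obtain ⟨K, hK, hD⟩ := hfac v hv hv1
    obtain ⟨T, hT⟩ := exists_sylow s hv hv1 hSA
    rcases (data s hv hv1 hSA h8 hK hD hT).four_or_unit with h | h
    · exact Or.inl fun x hx => eq_or_of_mem_zpowers s hv (four_squares s hv hv1 hSA h8 hK hD hT h hx)
    · exact Or.inr ⟨hv, hv1, K, T, hK, hD, hT, h⟩
  have huniq : ∀ v w, U v → U w → v = w := by
    rintro v w ⟨hv, hv1, K, T, hK, hD, hT, hu⟩ ⟨hw, hw1, K', T', hK', hD', hT', hu'⟩
    exact hinj v hv hv1 w hw hw1 K K' hK hK' (unit_unit s hSA h8 hv hv1 hw hw1 hK hD hK' hD' hT hT' hu hu')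
  -- three points
  obtain ⟨a, ha, ha1⟩ : ∃ a ∈ s.A, a ≠ 1 := by
    obtain ⟨⟨a, ha⟩, ha1⟩ := s.A.ne_bot_iff_exists_ne_one.1 s.ne_bot
    exact ⟨a, ha, fun e => ha1 (Subtype.ext e)⟩
  obtain ⟨b, hb, hb1, hab⟩ : ∃ b ∈ s.A, b ≠ 1 ∧ a ≠ b := by
    by_contra hno
    push Not at hno
    have hle : s.A ≤ zpowers a := fun x hx => by
      by_cases hx1 : x = 1
      · exact hx1 ▸ one_mem _
      · exact hno x hx hx1 ▸ mem_zpowers a
    have h1 := card_le_of_le hle
    rw [h8, Nat.card_zpowers, s.orderOf_eq ha ha1] at h1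
    omega
  have hc : a * b ∈ s.A := mul_mem ha hb
  have hc1 : a * b ≠ 1 := fun h => hab (by
    rw [eq_inv_of_mul_eq_one_left h, inv_eq_of_mul_eq_one_right (s.sq hb)])
  have hca : a ≠ a * b := fun h => hb1 (left_eq_mul.1 h)
  have hcb : b ≠ a * b := fun h => ha1 (right_eq_mul.1 h)
  refine eq_of_squares s hSA hodd ?_
  rw [eq_bot_iff]
  intro x hx
  refine mem_bot.2 (by_contra fun hx1 => ?_)
  rcases hdich a ha ha1 with hA | hA <;> rcases hdich b hb hb1 with hB | hB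
  · exact hab (((hA x hx).resolve_left hx1).symm.trans ((hB x hx).resolve_left hx1))
  · rcases hdich _ hc hc1 with hC | hC
    · exact hca (((hA x hx).resolve_left hx1).symm.trans ((hC x hx).resolve_left hx1))
    · exact hcb (huniq b _ hB hC)
  · rcases hdich _ hc hc1 with hC | hC
    · exact hcb (((hB x hx).resolve_left hx1).symm.trans ((hC x hx).resolve_left hx1))
    · exact hca (huniq a _ hA hC)
  · exact hab (huniq a b hA hB)

end Cfsg.Agent.Fus.Gold
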