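import Cfsg.Agent.Lib.Fus.Goldschmidt.Factors
import Cfsg.Agent.Lib.Fus.Goldschmidt.FourMain
import Cfsg.Agent.Lib.Fus.Goldschmidt.Single
import Cfsg.Agent.Lib.Fus.Goldschmidt.Bender

/-!
# Goldschmidt's theorem for simple groups

`conclusion_all`: in a simple non-abelian group an elementary abelian strongly closed subgroup `A` of a Sylow
2-subgroup `S` consists of all involutions of `S` and one, is central in `S`, has all its involutions
conjugate in `N(A)`, and `S = A` or there is a strongly embedded subgroup.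
-/

set_option autoImplicit false
set_option linter.style.haveILetI false

namespace Cfsg.Agent.Fus.Gold

open Subgroup

universe u

variable {G : Type u} [Group G] [Finite G]

/-- The case split for `|A| ≥ 8`. -/
theorem dichotomy (s : Setup G) (h8 : 8 ≤ Nat.card s.A) : (∃ H : Subgroup G, Cfsg.IsStronglyEmbedded H) ∨
    (Nat.card s.A = 8 ∧ ∀ v ∈ s.A, v ≠ 1 → ∃ K, Moved s.A v K ∧ dPart s.A v K = zpowers v) :=
  (se_or_eight s h8).imp_right fun h => ⟨h.card, h.fac⟩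

/-- In the minimal situation: strongly embedded, or `S = A` with transitive normaliser. -/
theorem Setup.se_or_eq (s : Setup G) : (∃ H : Subgroup G, Cfsg.IsStronglyEmbedded H) ∨
    ((s.S : Subgroup G) = s.A ∧ ∀ a ∈ s.A, ∀ b ∈ s.A, a ≠ 1 → b ≠ 1 →
      ∃ g ∈ normalizer (s.A : Set G), g * a * g⁻¹ = b) := by
  classical
  haveI : Fact (Nat.Prime 2) := ⟨Nat.prime_two⟩
  by_cases hse : ∃ H : Subgroup G, Cfsg.IsStronglyEmbedded H
  · exact Or.inl hse
  rcases Nat.lt_or_ge (Nat.card s.A) 8 with hlt | h8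
  · obtain ⟨k, hk⟩ := IsPGroup.iff_card.1 (Grp.elemAb_isPGroup s.elem)
    have h4 := s.four_le
    have hk' : k < 3 := (Nat.pow_lt_pow_iff_right (le_refl 2)).1 (by rw [← hk]; exact hlt)
    have h : Four s := ⟨by interval_cases k <;> simp_all, hse⟩
    exact Or.inr ⟨h.sylow_eq, fun a ha b hb ha1 hb1 => h.transitive ha hb ha1 hb1⟩
  · exact (se_or_eight s h8).imp_right fun h => ⟨single s h.card h.fac h.inj h.odd, h.trans⟩

/-- `N(A)` controls the fusion of strongly closed elementary subgroups. -/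
theorem exists_conj_eq_of_closed (S : Sylow 2 G) {A : Subgroup G} (hA : Cfsg.IsElementaryAbelian 2 A)
    (hsc : Cfsg.IsStronglyClosed A (S : Subgroup G)) {x g : G} (hx : x ∈ (S : Subgroup G))
    (hg : g * x * g⁻¹ ∈ (S : Subgroup G)) : ∃ n ∈ normalizer (A : Set G), n * x * n⁻¹ = g * x * g⁻¹ := by
  haveI : Fact (Nat.Prime 2) := ⟨Nat.prime_two⟩
  obtain ⟨T, hAT, hctl⟩ := S2791.result S A hA.1 hsc
  obtain ⟨k, hk⟩ := MulAction.exists_smul_eq G T S
  have hmem : ∀ y, y ∈ (T : Subgroup G) ↔ k * y * k⁻¹ ∈ (S : Subgroup G) := fun y => by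
    rw [← hk, Sylow.coe_subgroup_smul, ← Grp.map_conj_eq_smul]
    exact (Subgroup.mem_map_iff_mem (f := (MulAut.conj k).toMonoidHom) (MulAut.conj k).injective).symm
  have hkN : k ∈ normalizer (A : Set G) :=
    mem_normalizer_fintype fun a ha => hsc.2 a ha k ((hmem a).1 (hAT ha))
  have hT : ∀ y ∈ (S : Subgroup G), k⁻¹ * y * k ∈ (T : Subgroup G) := fun y hy => (hmem _).2 (by
    rwa [show k * (k⁻¹ * y * k) * k⁻¹ = y by group])
  obtain ⟨-, hstep⟩ := hctl {k⁻¹ * x * k} (Set.singleton_subset_iff.2 (hT x hx))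
  obtain ⟨m, hm, hmeq⟩ := hstep (k⁻¹ * g * k) (by
    rintro _ ⟨_, rfl, rfl⟩
    show k⁻¹ * g * k * (k⁻¹ * x * k) * (k⁻¹ * g * k)⁻¹ ∈ (T : Subgroup G)
    rw [show k⁻¹ * g * k * (k⁻¹ * x * k) * (k⁻¹ * g * k)⁻¹ = k⁻¹ * (g * x * g⁻¹) * k by group]
    exact hT _ hg)
  refine ⟨k * m * k⁻¹, mul_mem (mul_mem hkN hm) (inv_mem hkN), ?_⟩
  have h1 := hmeq _ rfl
  calc k * m * k⁻¹ * x * (k * m * k⁻¹)⁻¹ = k * (m * (k⁻¹ * x * k) * m⁻¹) * k⁻¹ := by group
    _ = k * (k⁻¹ * g * k * (k⁻¹ * x * k) * (k⁻¹ * g * k)⁻¹) * k⁻¹ := by rw [h1]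
    _ = _ := by group

/-- The conclusion for `G` when it holds for all smaller simple groups. -/
theorem conclusion_of_ih [IsSimpleGroup G] (hG : ¬ IsMulCommutative G)
    (ih : ∀ (L : Type u) [Group L] [Finite L], Nat.card L < Nat.card G → IsSimpleGroup L →
      ¬ IsMulCommutative L → Conclusion L) : Conclusion G := by
  intro S A hne hA hsc
  obtain ⟨B, ⟨hBA, hBne, hBsc⟩, hmin⟩ := Set.exists_min_image
    {B : Subgroup G | B ≤ A ∧ B ≠ ⊥ ∧ Cfsg.IsStronglyClosed B (S : Subgroup G)} (fun B => Nat.card B)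
    (Set.toFinite _) ⟨A, le_rfl, hne, hsc⟩
  have hB : Cfsg.IsElementaryAbelian 2 B := Grp.elemAb_mono hA hBA
  have hirr : ∀ C : Subgroup G, C ≤ B → (∀ g ∈ normalizer (B : Set G), ∀ c ∈ C, g * c * g⁻¹ ∈ C) →
      C = ⊥ ∨ C = B := fun C hCB hinv => by
    refine or_iff_not_imp_left.2 fun hC => eq_of_le_of_card_ge hCB (hmin C ⟨hCB.trans hBA, hC,
      hCB.trans hBsc.1, fun x hx g hg => ?_⟩)
    obtain ⟨n, hn, hnx⟩ := exists_conj_eq_of_closed S hB hBsc (hBsc.1 (hCB hx)) hg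
    exact hnx ▸ hinv n hn x hx
  let s : Setup G := ⟨S, B, inferInstance, hG, hBne, hB, hBsc, hirr, ih⟩
  have hres : ((S : Subgroup G) = B ∨ ∃ H : Subgroup G, Cfsg.IsStronglyEmbedded H) ∧
      (∀ x ∈ (S : Subgroup G), x * x = 1 → x ∈ B) ∧ (S : Subgroup G) ≤ centralizer (B : Set G) ∧
      ∀ a ∈ B, ∀ b ∈ B, a ≠ 1 → b ≠ 1 → ∃ g ∈ normalizer (B : Set G), g * a * g⁻¹ = b := by
    rcases s.se_or_eq with ⟨H, hH⟩ | ⟨he, htr⟩
    · exact ⟨Or.inr ⟨H, hH⟩, conclusion_of_se hG S B hBne hB hBsc hH⟩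
    · exact ⟨Or.inl he, fun x hx _ => he.le hx, fun x hx => mem_centralizer_iff.2 fun b hb =>
        Grp.elemAb_comm hB b hb x (he.le hx), htr⟩
  obtain rfl : A = B := le_antisymm (fun a ha => hres.2.1 a (hsc.1 ha) (by rw [← pow_two]; exact hA.2 a ha)) hBA
  exact hres

/-- The induction: every finite simple non-abelian group satisfies the conclusion. -/
theorem conclusion_all (L : Type u) [Group L] [Finite L] (hsimp : IsSimpleGroup L)
    (hL : ¬ IsMulCommutative L) : Conclusion L := by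
  suffices h : ∀ (n : ℕ) (L : Type u) [Group L] [Finite L], Nat.card L < n → IsSimpleGroup L →
      ¬ IsMulCommutative L → Conclusion L from h _ L (Nat.lt_succ_self _) hsimp hL
  intro n
  induction n with
  | zero => intro L _ _ h; exact absurd h (Nat.not_lt_zero _)
  | succ n ih =>
    intro L _ _ hlt hs hL
    haveI := hs
    exact conclusion_of_ih hL fun M _ _ hM => ih M (lt_of_lt_of_le hM (Nat.le_of_lt_succ hlt))

end Cfsg.Agent.Fus.Gold
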