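import Cfsg.Agent.Lib.Fus.Goldschmidt.Local
import Cfsg.Agent.Lib.Block.KBalance
import Cfsg.Agent.Lib.Grp.LBalance
import Cfsg.Agent.Lib.Grp.ComponentSplit

/-!
# Strongly closed abelian 2-subgroups: the local statements pulled back to the group

The statements about `C(a)/O(C(a))` with the image of `A` are rewritten as statements about the parts
`dPart`, `ePart` of `A`, and the components at different elements of `A` are compared by L-balance.
-/

set_option autoImplicit false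
set_option linter.style.haveILetI false
set_option linter.unusedSectionVars false

namespace Cfsg.Agent.Fus.Gold

open Subgroup Cfsg.Agent.Grp
open scoped commutatorElement Pointwise

universe u

section Generic

variable {X : Type u} [Group X] [Finite X]

/-- A component of a group without odd core is generated by its 2-elements. -/
theorem pRes_component (hO : Cfsg.pPrimeCore 2 X = ⊥) {K : Subgroup X} (hK : Cfsg.IsComponent K) :
    pRes 2 K = K := by
  haveI : Fact (Nat.Prime 2) := ⟨Nat.prime_two⟩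
  haveI : ((pRes 2 K).subgroupOf K).Normal :=
    (normal_subgroupOf_iff_le_normalizer (pRes_le K)).mpr (le_normalizer_pRes K)
  refine le_antisymm (pRes_le K) ?_
  rcases IsQuasisimple.eq_top_or_le_center hK.2 ((pRes 2 K).subgroupOf K) with e | e
  · exact subgroupOf_eq_top.mp e
  · exfalso
    obtain ⟨T⟩ : Nonempty (Sylow 2 K) := Sylow.nonempty
    refine T.not_dvd_index ((component_dvd_index hO hK _ e).trans (index_dvd_of_le ?_))
    rintro ⟨z, hz⟩ hzT
    refine mem_subgroupOf.mpr (mem_pRes hz ?_)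
    have := (T.isPGroup'.to_le (zpowers_le.mpr hzT)).map K.subtype
    rwa [MonoidHom.map_zpowers] at this

/-- The preimage of a component under a surjection with odd kernel: the 2-elements lie in the 2-layer. -/
theorem pElement_mem_pLayer_comap {H : Type u} [Group H] [Finite H] (φ : H →* X)
    (hker : ¬ 2 ∣ Nat.card φ.ker) (hφ : Function.Surjective φ) {K : Subgroup X} (hK : Cfsg.IsComponent K)
    {x : H} (hx : φ x ∈ K) (hxp : IsPGroup 2 (zpowers x)) : x ∈ Cfsg.pLayer 2 H := by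
  haveI : Fact (Nat.Prime 2) := ⟨Nat.prime_two⟩
  set M := K.comap φ
  let f : ↥M →* ↥K := (φ.comp M.subtype).codRestrict K fun m => m.2
  have hf : Function.Surjective f := fun k => by
    obtain ⟨m, hm⟩ := hφ k
    exact ⟨⟨m, show φ m ∈ K by rw [hm]; exact k.2⟩, Subtype.ext hm⟩
  refine pElement_mem_pLayer M.subtype (by rw [range_subtype]; exact hK.1.comap φ) f.ker ?_ ?_
    ⟨⟨x, hx⟩, rfl⟩ hxp
  · let e := QuotientGroup.quotientKerEquivOfSurjective f hf
    haveI : Nontrivial (↥M ⧸ f.ker) := by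
      haveI := IsQuasisimple.nontrivial hK.2
      exact e.toEquiv.nontrivial
    exact IsQuasisimple.of_surjective hK.2 (f := e.symm.toMonoidHom) e.symm.surjective
  · refine (Nat.prime_two.coprime_iff_not_dvd.mpr fun h => hker (h.trans ?_)).symm
    rw [← card_map_of_injective (f := M.subtype) M.subtype_injective]
    refine card_dvd_of_le ?_
    rintro _ ⟨m, hm, rfl⟩
    exact congrArg Subtype.val (hm : f m = 1)

/-- A group generated by its 2-elements has no proper normal supplement to an odd normal subgroup. -/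
theorem eq_top_of_map_eq_top {M K : Type u} [Group M] [Finite M] [Group K] (f : M →* K)
    (hker : ¬ 2 ∣ Nat.card f.ker) (hgen : ∀ W : Subgroup M, (∀ x : M, IsPGroup 2 (zpowers x) → x ∈ W) → W = ⊤)
    (N : Subgroup M) [N.Normal] (h : N.map f = ⊤) : N = ⊤ := by
  haveI : Fact (Nat.Prime 2) := ⟨Nat.prime_two⟩
  refine hgen N fun x hx => pElement_mem_of_sup (W := N) (O := f.ker)
    (Nat.prime_two.coprime_iff_not_dvd.mpr hker).symm ?_ hx
  rw [← comap_map_eq, h, comap_top]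
  exact mem_top x

end Generic

section Lift

variable {G : Type u} [Group G] [Finite G] (s : Setup G) {a : G} (ha : a ∈ s.A) (ha1 : a ≠ 1)
include ha ha1

theorem proj_inj {x : G} (hx : x ∈ s.A) (h : x ∈ centralizer ({a} : Set G))
    (h1 : proj a ⟨x, h⟩ = 1) : x = 1 :=
  congrArg Subtype.val (pow_eq_one_coprime (p := 2) (k := 1)
    (by rw [pow_one]; exact Subtype.ext (s.pow_two_eq hx))
    (pPrimeCore_coprime.coprime_dvd_left (Subgroup.orderOf_dvd_natCard _ ((QuotientGroup.eq_one_iff _).mp h1))))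

theorem mem_dPart_iff {K : Subgroup (Cq a)} {x : G} (hx : x ∈ s.A) :
    x ∈ dPart s.A a K ↔ proj a ⟨x, s.le_centralizer ha hx⟩ ∈ centralizer (K : Set (Cq a)) :=
  ⟨fun h => (mem_pre.mp h.2).2, fun h => ⟨hx, mem_pre.mpr ⟨s.le_centralizer ha hx, h⟩⟩⟩

theorem mem_ePart_iff {K : Subgroup (Cq a)} {x : G} (hx : x ∈ s.A) :
    x ∈ ePart s.A a K ↔ proj a ⟨x, s.le_centralizer ha hx⟩ ∈ K :=
  ⟨fun h => (mem_pre.mp h.2).2, fun h => ⟨hx, mem_pre.mpr ⟨s.le_centralizer ha hx, h⟩⟩⟩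

theorem mem_imA {y : Cq a} :
    y ∈ imA s.A a ↔ ∃ x : G, ∃ hx : x ∈ s.A, proj a ⟨x, s.le_centralizer ha hx⟩ = y := by
  constructor
  · rintro ⟨x, hx, rfl⟩
    exact ⟨x, mem_subgroupOf.mp hx, rfl⟩
  · rintro ⟨x, hx, rfl⟩
    exact ⟨_, mem_subgroupOf.mpr hx, rfl⟩

/-- Subgroups of the image of `A` and of `A` correspond. -/
theorem map_inf_pre (L : Subgroup (Cq a)) :
    ((s.A ⊓ pre a L).subgroupOf (centralizer ({a} : Set G))).map (proj a) = imA s.A a ⊓ L := by
  ext y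
  constructor
  · rintro ⟨x, hx, rfl⟩
    refine ⟨⟨x, mem_subgroupOf.mpr (mem_subgroupOf.mp hx).1, rfl⟩, ?_⟩
    exact (mem_pre.mp (mem_subgroupOf.mp hx).2).2
  · rintro ⟨⟨x, hx, rfl⟩, hL⟩
    exact ⟨x, mem_subgroupOf.mpr ⟨mem_subgroupOf.mp hx, mem_pre.mpr ⟨x.2, hL⟩⟩, rfl⟩

theorem card_inf_pre (L : Subgroup (Cq a)) :
    Nat.card ↥(imA s.A a ⊓ L) = Nat.card ↥(s.A ⊓ pre a L) := by
  haveI : Fact (Nat.Prime 2) := ⟨Nat.prime_two⟩
  haveI : (Cfsg.pPrimeCore 2 ↥(centralizer ({a} : Set G))).Normal := pPrimeCore_isNormal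
  rw [← map_inf_pre s ha ha1 L]
  exact (Block.KBalance.image_elemAb (elemAb_mono s.elem inf_le_left)).2
    (inf_le_left.trans (s.le_centralizer ha))

theorem card_imA : Nat.card ↥(imA s.A a) = Nat.card s.A := by
  haveI : Fact (Nat.Prime 2) := ⟨Nat.prime_two⟩
  haveI : (Cfsg.pPrimeCore 2 ↥(centralizer ({a} : Set G))).Normal := pPrimeCore_isNormal
  exact (Block.KBalance.image_elemAb s.elem).2 (s.le_centralizer ha)

theorem map_centralizer_le {B : Subgroup G} (hB : B ≤ s.A) :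
    centralizer (((B.subgroupOf (centralizer ({a} : Set G))).map (proj a) : Subgroup (Cq a)) : Set (Cq a)) ≤
      ((centralizer (B : Set G)).subgroupOf (centralizer ({a} : Set G))).map (proj a) := by
  haveI : Fact (Nat.Prime 2) := ⟨Nat.prime_two⟩
  have hP : IsPGroup 2 ↥(B.subgroupOf (centralizer ({a} : Set G))) :=
    (elemAb_isPGroup (elemAb_mono s.elem hB)).comap_subtype
  rw [← map_centralizer_pGroup hP]
  refine map_mono fun x hx => mem_subgroupOf.mpr (mem_centralizer_iff.mpr fun b hb => ?_)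
  exact congrArg Subtype.val (mem_centralizer_iff.mp hx ⟨b, s.le_centralizer ha (hB hb)⟩ hb)

theorem map_normalizer_le :
    normalizer (imA s.A a : Set (Cq a)) ≤
      ((normalizer (s.A : Set G)).subgroupOf (centralizer ({a} : Set G))).map (proj a) := by
  haveI : Fact (Nat.Prime 2) := ⟨Nat.prime_two⟩
  have hP : IsPGroup 2 ↥(s.A.subgroupOf (centralizer ({a} : Set G))) :=
    (elemAb_isPGroup s.elem).comap_subtype
  rw [imA, ← map_normalizer_pGroup hP]
  refine map_mono fun x hx => mem_subgroupOf.mpr (mem_normalizer_fintype fun b hb => ?_)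
  exact mem_subgroupOf.mp ((mem_normalizer_iff.mp hx ⟨b, s.le_centralizer ha hb⟩).mp (mem_subgroupOf.mpr hb))

theorem map_mem_normalizer {g : G} (hg : g ∈ normalizer (s.A : Set G)) (hga : g ∈ centralizer ({a} : Set G)) :
    proj a ⟨g, hga⟩ ∈ normalizer (imA s.A a : Set (Cq a)) := by
  refine mem_normalizer_fintype fun y hy => ?_
  obtain ⟨x, hx, rfl⟩ := (mem_imA s ha ha1).mp hy
  exact ⟨⟨g, hga⟩ * ⟨x, s.le_centralizer ha hx⟩ * ⟨g, hga⟩⁻¹,
    mem_subgroupOf.mpr ((mem_normalizer_iff.mp hg x).mp hx), by rw [map_mul, map_mul, map_inv]⟩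

/-- The hypotheses of the local statements hold in `C(a)/O(C(a))`. -/
theorem localHyp : LocalHyp (Cq a) (imA s.A a) := by
  haveI : Fact (Nat.Prime 2) := ⟨Nat.prime_two⟩
  haveI hn : (Cfsg.pPrimeCore 2 ↥(centralizer ({a} : Set G))).Normal := pPrimeCore_isNormal
  refine ⟨pPrimeCore_quotient_bot, (Block.KBalance.image_elemAb s.elem).1, ?_, ?_⟩
  · intro T hT hAT y hy g hg
    set C := centralizer ({a} : Set G)
    set P := T.comap (proj a)
    have hAP : s.A.subgroupOf C ≤ P := fun x hx => hAT ⟨x, hx, rfl⟩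
    have hAp : IsPGroup 2 ↥(s.A.subgroupOf C) := (elemAb_isPGroup s.elem).comap_subtype
    have hAp' : IsPGroup 2 ↥((s.A.subgroupOf C).subgroupOf P) := hAp.comap_subtype
    obtain ⟨Q, hQ⟩ := hAp'.exists_le_sylow
    let f : ↥P →* ↥T := ((proj a).comp P.subtype).codRestrict T fun p => p.2
    have hf : Function.Surjective f := fun t => by
      obtain ⟨p, hp⟩ := QuotientGroup.mk'_surjective _ (t : Cq a)
      exact ⟨⟨p, show proj a p ∈ T by rw [hp]; exact t.2⟩, Subtype.ext hp⟩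
    have hQT : ((Q.mapSurjective hf : Sylow 2 ↥T) : Subgroup ↥T) = ⊤ := by
      exact ((Q.mapSurjective hf).3 (IsPGroup.of_equiv hT Subgroup.topEquiv.symm) le_top).symm
    set Q' : Subgroup G := (Q : Subgroup ↥P).map (C.subtype.comp P.subtype)
    have hQ'p : IsPGroup 2 Q' := Q.isPGroup'.map _
    have hAQ : s.A ≤ Q' := fun x hx =>
      ⟨⟨⟨x, s.le_centralizer ha hx⟩, hAP (mem_subgroupOf.mpr hx)⟩, hQ (mem_subgroupOf.mpr (mem_subgroupOf.mpr hx)), rfl⟩
    -- `T` normalises the image of `A`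
    have hTN : T ≤ normalizer (imA s.A a : Set (Cq a)) := by
      intro t ht
      obtain ⟨q, hq, hqt⟩ := (hQT ▸ mem_top (⟨t, ht⟩ : ↥T) : (⟨t, ht⟩ : ↥T) ∈ ((Q.mapSurjective hf : Sylow 2 ↥T) : Subgroup ↥T))
      have hqN : ((q : ↥C) : G) ∈ normalizer (s.A : Set G) := mem_normalizer_fintype fun x hx =>
        s.closed_in hQ'p hAQ hx (Q'.mul_mem (Q'.mul_mem ⟨q, hq, rfl⟩ (hAQ hx)) (Q'.inv_mem ⟨q, hq, rfl⟩))
      have := map_mem_normalizer s ha ha1 hqN (q : ↥C).2
      rwa [show proj a ⟨((q : ↥C) : G), (q : ↥C).2⟩ = t from congrArg Subtype.val hqt] at this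
    obtain ⟨x, hx, rfl⟩ := (mem_imA s ha ha1).mp hy
    obtain ⟨g, rfl⟩ := QuotientGroup.mk'_surjective _ g
    set xc : ↥C := ⟨x, s.le_centralizer ha hx⟩
    have hz : g * xc * g⁻¹ ∈ P := by
      show proj a (g * xc * g⁻¹) ∈ T
      simpa using hg
    set z : ↥P := ⟨g * xc * g⁻¹, hz⟩
    have hzp : IsPGroup 2 ↥(zpowers z) := by
      have h2 : z ^ 2 = 1 := Subtype.ext (Subtype.ext (by
        simp only [z, xc, SubmonoidClass.coe_pow, Subgroup.coe_mul, Subgroup.coe_inv, OneMemClass.coe_one, pow_two]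
        rw [show (g : G) * x * (g : G)⁻¹ * ((g : G) * x * (g : G)⁻¹) = g * (x * x) * (g : G)⁻¹ by group, s.sq hx]
        simp))
      rintro ⟨_, i, rfl⟩
      refine ⟨1, Subtype.ext ?_⟩
      simp only [pow_one, SubmonoidClass.coe_pow, OneMemClass.coe_one]
      rw [← zpow_natCast, ← zpow_mul, mul_comm, zpow_mul, zpow_natCast, h2, one_zpow]
    obtain ⟨R, hR⟩ := hzp.exists_le_sylow
    obtain ⟨h, hh⟩ := MulAction.exists_smul_eq ↥P R Q
    have hzQ : h * z * h⁻¹ ∈ (Q : Subgroup ↥P) := by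
      rw [← hh, Sylow.coe_subgroup_smul, ← Grp.map_conj_eq_smul]
      exact ⟨z, hR (mem_zpowers z), rfl⟩
    have hA : ((h : ↥C) : G) * ((g : G) * x * (g : G)⁻¹) * ((h : ↥C) : G)⁻¹ ∈ s.A := by
      rw [show ((h : ↥C) : G) * ((g : G) * x * (g : G)⁻¹) * ((h : ↥C) : G)⁻¹ =
        ((h : ↥C) : G) * g * x * (((h : ↥C) : G) * g)⁻¹ by group]
      refine s.closed_in hQ'p hAQ hx ⟨_, hzQ, ?_⟩
      simp [z, xc]; group
    have h3 : proj a (h : ↥C) * (proj a g * proj a xc * (proj a g)⁻¹) * (proj a (h : ↥C))⁻¹ ∈ imA s.A a :=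
      ⟨(h : ↥C) * (g * xc * g⁻¹) * (h : ↥C)⁻¹, mem_subgroupOf.mpr hA, by simp⟩
    exact (mem_normalizer_iff.mp (hTN h.2) _).mpr h3
  · intro K hK
    refine s.ih _ (lt_of_le_of_lt ?_ (s.card_centralizer_lt ha ha1)) hK.2.2 fun hc => ?_
    · exact (Nat.le_of_dvd Nat.card_pos (card_quotient_dvd_card _)).trans
        ((card_le_card_group _).trans (Nat.le_of_dvd Nat.card_pos (card_quotient_dvd_card _)))
    · refine IsQuasisimple.center_ne_top hK.2 (eq_top_iff.mpr ?_)
      rw [← hK.2.1.commutator_eq_top, _root_.commutator_def, commutator_le]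
      intro x _ y _
      refine (QuotientGroup.eq_one_iff _).mp (show QuotientGroup.mk' (center ↥K) ⁅x, y⁆ = 1 from ?_)
      rw [map_commutatorElement, commutatorElement_eq_one_iff_mul_comm]
      exact hc.is_comm.comm _ _

theorem mem_dPart {K : Subgroup (Cq a)} : a ∈ dPart s.A a K := by
  refine (mem_dPart_iff s ha ha1 ha).mpr (mem_centralizer_iff.mpr fun k _ => ?_)
  obtain ⟨c, rfl⟩ := QuotientGroup.mk'_surjective _ k
  rw [← map_mul, ← map_mul]
  exact congrArg _ (Subtype.ext (mem_centralizer_singleton_iff.mp c.2))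

theorem sup_eq {K : Subgroup (Cq a)} (hK : Cfsg.IsComponent K) : dPart s.A a K ⊔ ePart s.A a K = s.A := by
  refine le_antisymm (sup_le inf_le_left inf_le_left) fun x hx => ?_
  have h1 : proj a ⟨x, s.le_centralizer ha hx⟩ ∈ imA s.A a := ⟨_, mem_subgroupOf.mpr hx, rfl⟩
  rw [← local_sup (localHyp s ha ha1) hK, ← map_inf_pre s ha ha1, ← map_inf_pre s ha ha1, ← Subgroup.map_sup] at h1
  obtain ⟨y, hy, hyx⟩ := h1
  have hle : (dPart s.A a K).subgroupOf (centralizer ({a} : Set G)) ⊔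
      (ePart s.A a K).subgroupOf (centralizer ({a} : Set G)) ≤
        (dPart s.A a K ⊔ ePart s.A a K).subgroupOf (centralizer ({a} : Set G)) :=
    sup_le (comap_mono le_sup_left) (comap_mono le_sup_right)
  have hy' : (y : G) ∈ dPart s.A a K ⊔ ePart s.A a K := mem_subgroupOf.mp (hle hy)
  have hyA : (y : G) ∈ s.A := (sup_le inf_le_left inf_le_left : dPart s.A a K ⊔ ePart s.A a K ≤ s.A) hy'
  have h2 : (y : G)⁻¹ * x = 1 := proj_inj s ha ha1 (s.A.mul_mem (s.A.inv_mem hyA) hx)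
    (mul_mem (inv_mem y.2) (s.le_centralizer ha hx)) (by
      rw [show (⟨(y : G)⁻¹ * x, _⟩ : ↥(centralizer ({a} : Set G))) = y⁻¹ * ⟨x, s.le_centralizer ha hx⟩ from
        Subtype.ext rfl, map_mul, map_inv, hyx, inv_mul_cancel])
  rwa [← inv_mul_eq_one.mp h2]

theorem not_le_centralizer {K : Subgroup (Cq a)} (hK : Moved s.A a K) :
    ¬ imA s.A a ≤ centralizer (K : Set (Cq a)) := fun h =>
  hK.2 fun _ hx => (mem_dPart_iff s ha ha1 hx).mpr (h ⟨_, mem_subgroupOf.mpr hx, rfl⟩)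

theorem four {K : Subgroup (Cq a)} (hK : Moved s.A a K) : 4 * Nat.card ↥(dPart s.A a K) ≤ Nat.card s.A := by
  have h := local_four (localHyp s ha ha1) hK.1 (not_le_centralizer s ha ha1 hK)
  rwa [card_inf_pre s ha ha1, card_imA s ha ha1] at h

theorem orth {K K' : Subgroup (Cq a)} (hK : Cfsg.IsComponent K) (hK' : Cfsg.IsComponent K') (hne : K ≠ K') :
    ePart s.A a K' ≤ dPart s.A a K :=
  inf_le_inf_left _ (pre_mono a (IsComponent.commute hK' hK hne.symm))

theorem eq_of_dPart {K K' : Subgroup (Cq a)} (hK : Moved s.A a K) (hK' : Moved s.A a K')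
    (h : dPart s.A a K = dPart s.A a K') : K = K' := by
  by_contra hne
  exact hK'.2 ((sup_eq s ha ha1 hK'.1).ge.trans
    (sup_le le_rfl ((orth s ha ha1 hK.1 hK'.1 hne).trans h.le)))

theorem factor {K : Subgroup (Cq a)} (hK : Moved s.A a K) :
    ∃ E : Subgroup G, E ≤ ePart s.A a K ∧ E ⊓ dPart s.A a K = ⊥ ∧ dPart s.A a K ⊔ E = s.A ∧
      ∀ x ∈ E, ∀ y ∈ E, x ≠ 1 → y ≠ 1 → ∃ g ∈ normalizer (s.A : Set G),
        (∀ d ∈ dPart s.A a K, g * d * g⁻¹ = d) ∧ (∀ v ∈ E, g * v * g⁻¹ ∈ E) ∧ g * x * g⁻¹ = y := by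
  obtain ⟨E0, hE0, hdisj, hsup, htr⟩ := local_factor (localHyp s ha ha1) hK.1 (not_le_centralizer s ha ha1 hK)
  set E := s.A ⊓ pre a E0
  have hmemE : ∀ {x : G} (hx : x ∈ s.A), x ∈ E ↔ proj a ⟨x, s.le_centralizer ha hx⟩ ∈ E0 := fun {x} hx =>
    ⟨fun h => (mem_pre.mp h.2).2, fun h => ⟨hx, mem_pre.mpr ⟨s.le_centralizer ha hx, h⟩⟩⟩
  refine ⟨E, inf_le_inf_left _ (pre_mono a (hE0.trans inf_le_right)), ?_, ?_, ?_⟩
  · rw [eq_bot_iff]
    rintro x ⟨hxE, hxD⟩
    have h1 : proj a ⟨x, s.le_centralizer ha hxE.1⟩ ∈ E0 ⊓ centralizer (K : Set (Cq a)) :=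
      ⟨(hmemE hxE.1).mp hxE, (mem_dPart_iff s ha ha1 hxE.1).mp hxD⟩
    rw [hdisj] at h1
    exact proj_inj s ha ha1 hxE.1 _ h1
  · refine le_antisymm (sup_le inf_le_left inf_le_left) fun x hx => ?_
    have h1 : proj a ⟨x, s.le_centralizer ha hx⟩ ∈ imA s.A a := ⟨_, mem_subgroupOf.mpr hx, rfl⟩
    rw [← hsup, ← map_inf_pre s ha ha1,
      show E0 = imA s.A a ⊓ E0 from (inf_eq_right.mpr (hE0.trans inf_le_left)).symm,
      ← map_inf_pre s ha ha1, ← Subgroup.map_sup] at h1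
    obtain ⟨y, hy, hyx⟩ := h1
    have hle : (dPart s.A a K).subgroupOf (centralizer ({a} : Set G)) ⊔
        E.subgroupOf (centralizer ({a} : Set G)) ≤ (dPart s.A a K ⊔ E).subgroupOf (centralizer ({a} : Set G)) :=
      sup_le (comap_mono le_sup_left) (comap_mono le_sup_right)
    have hy' : (y : G) ∈ dPart s.A a K ⊔ E := mem_subgroupOf.mp (hle hy)
    have hyA : (y : G) ∈ s.A := (sup_le inf_le_left inf_le_left : dPart s.A a K ⊔ E ≤ s.A) hy'
    have h2 : (y : G)⁻¹ * x = 1 := proj_inj s ha ha1 (s.A.mul_mem (s.A.inv_mem hyA) hx)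
      (mul_mem (inv_mem y.2) (s.le_centralizer ha hx)) (by
        rw [show (⟨(y : G)⁻¹ * x, _⟩ : ↥(centralizer ({a} : Set G))) = y⁻¹ * ⟨x, s.le_centralizer ha hx⟩ from
          Subtype.ext rfl, map_mul, map_inv, hyx, inv_mul_cancel])
    rwa [← inv_mul_eq_one.mp h2]
  · intro x hx y hy hx1 hy1
    obtain ⟨k, hkK, hkN, hkE, hkxy⟩ := htr _ ((hmemE hx.1).mp hx) _ ((hmemE hy.1).mp hy)
      (fun h => hx1 (proj_inj s ha ha1 hx.1 _ h)) (fun h => hy1 (proj_inj s ha ha1 hy.1 _ h))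
    obtain ⟨⟨g, hga⟩, hg, rfl⟩ := map_normalizer_le s ha ha1 hkN
    have hgN : g ∈ normalizer (s.A : Set G) := mem_subgroupOf.mp hg
    have hconj : ∀ {z : G} (hz : z ∈ s.A), proj a ⟨g * z * g⁻¹, s.le_centralizer ha ((mem_normalizer_iff.mp hgN z).mp hz)⟩ =
        proj a ⟨g, hga⟩ * proj a ⟨z, s.le_centralizer ha hz⟩ * (proj a ⟨g, hga⟩)⁻¹ := fun {z} hz => by
      rw [← map_inv, ← map_mul, ← map_mul]; rfl
    have hinj : ∀ {u v : G} (hu : u ∈ s.A) (hv : v ∈ s.A),
        proj a ⟨u, s.le_centralizer ha hu⟩ = proj a ⟨v, s.le_centralizer ha hv⟩ → u = v := fun {u v} hu hv h => by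
      have h2 := proj_inj s ha ha1 (s.A.mul_mem (s.A.inv_mem hu) hv)
        (mul_mem (inv_mem (s.le_centralizer ha hu)) (s.le_centralizer ha hv)) (by
        rw [show (⟨u⁻¹ * v, _⟩ : ↥(centralizer ({a} : Set G))) =
          (⟨u, s.le_centralizer ha hu⟩ : ↥(centralizer ({a} : Set G)))⁻¹ * ⟨v, s.le_centralizer ha hv⟩ from
            Subtype.ext rfl, map_mul, map_inv, h, inv_mul_cancel])
      exact inv_mul_eq_one.mp h2
    refine ⟨g, hgN, fun d hd => ?_, fun v hv => ?_, ?_⟩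
    · refine hinj ((mem_normalizer_iff.mp hgN d).mp hd.1) hd.1 ?_
      rw [hconj hd.1, mem_centralizer_iff.mp ((mem_dPart_iff s ha ha1 hd.1).mp hd) _ hkK, mul_inv_cancel_right]
    · have hvA := (mem_normalizer_iff.mp hgN v).mp hv.1
      refine (hmemE hvA).mpr ?_
      rw [hconj hv.1]
      exact hkE _ ((hmemE hv.1).mp hv)
    · refine hinj ((mem_normalizer_iff.mp hgN x).mp hx.1) hy.1 ?_
      rw [hconj hx.1]
      exact hkxy

theorem defect {K : Subgroup (Cq a)} (hK : Moved s.A a K) (hz : ePart s.A a K ⊓ dPart s.A a K ≠ ⊥) :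
    Nat.card s.A = 8 * Nat.card ↥(dPart s.A a K) ∧ Nat.card ↥(ePart s.A a K ⊓ dPart s.A a K) ≤ 4 ∧
      ∀ g ∈ normalizer (s.A : Set G), (∀ d ∈ dPart s.A a K, g * d * g⁻¹ = d) →
        (∀ x ∈ s.A, g * g * x * (g * g)⁻¹ * x⁻¹ ∈ dPart s.A a K) →
          ∀ x ∈ s.A, g * x * g⁻¹ * x⁻¹ ∈ dPart s.A a K := by
  have heq : ePart s.A a K ⊓ dPart s.A a K = s.A ⊓ pre a (K ⊓ centralizer (K : Set (Cq a))) := by
    ext x
    constructor
    · rintro ⟨hE, hD⟩
      exact ⟨hE.1, mem_pre.mpr ⟨s.le_centralizer ha hE.1, (mem_ePart_iff s ha ha1 hE.1).mp hE,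
        (mem_dPart_iff s ha ha1 hE.1).mp hD⟩⟩
    · rintro ⟨hx, h⟩
      exact ⟨(mem_ePart_iff s ha ha1 hx).mpr (mem_pre.mp h).2.1, (mem_dPart_iff s ha ha1 hx).mpr (mem_pre.mp h).2.2⟩
  have hz' : imA s.A a ⊓ K ⊓ centralizer (K : Set (Cq a)) ≠ ⊥ := by
    intro e
    refine hz ?_
    rw [← Subgroup.card_eq_one, heq, ← card_inf_pre s ha ha1, ← inf_assoc, e, card_bot]
  obtain ⟨h1, h2, h3⟩ := local_defect (localHyp s ha ha1) hK.1 (not_le_centralizer s ha ha1 hK) hz'
  rw [card_inf_pre s ha ha1, card_imA s ha ha1] at h1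
  rw [inf_assoc, card_inf_pre s ha ha1, ← heq] at h2
  refine ⟨h1, h2, fun g hgN hfix hsq x hx => ?_⟩
  have hga : g ∈ centralizer ({a} : Set G) :=
    mem_centralizer_singleton_iff.mpr (mul_inv_eq_iff_eq_mul.mp (hfix a (mem_dPart s ha ha1)))
  have hxA : g * x * g⁻¹ * x⁻¹ ∈ s.A := s.A.mul_mem ((mem_normalizer_iff.mp hgN x).mp hx) (s.A.inv_mem hx)
  refine (mem_dPart_iff s ha ha1 hxA).mpr ?_
  have h4 := h3 (proj a ⟨g, hga⟩) (map_mem_normalizer s ha ha1 hgN hga) ?_ ?_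
    (proj a ⟨x, s.le_centralizer ha hx⟩) ⟨_, mem_subgroupOf.mpr hx, rfl⟩
  · rwa [show (⟨g * x * g⁻¹ * x⁻¹, s.le_centralizer ha hxA⟩ : ↥(centralizer ({a} : Set G))) =
      ⟨g, hga⟩ * ⟨x, s.le_centralizer ha hx⟩ * ⟨g, hga⟩⁻¹ * ⟨x, s.le_centralizer ha hx⟩⁻¹ from rfl,
      map_mul, map_mul, map_mul, map_inv, map_inv]
  · rintro y hy
    rw [← map_inf_pre s ha ha1] at hy
    obtain ⟨d, hd, rfl⟩ := hy
    rw [← map_inv, ← map_mul, ← map_mul]
    exact congrArg _ (Subtype.ext (hfix _ (mem_subgroupOf.mp hd)))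
  · intro y hy
    obtain ⟨z, hz, rfl⟩ := (mem_imA s ha ha1).mp hy
    obtain ⟨hc, this⟩ := mem_pre.mp (hsq z hz).2
    rw [show (⟨g * g * z * (g * g)⁻¹ * z⁻¹, hc⟩ : ↥(centralizer ({a} : Set G))) =
      ⟨g, hga⟩ * ⟨g, hga⟩ * ⟨z, s.le_centralizer ha hz⟩ * (⟨g, hga⟩ * ⟨g, hga⟩)⁻¹ * ⟨z, s.le_centralizer ha hz⟩⁻¹
      from rfl] at this
    simp only [map_mul, map_inv] at this ⊢
    exact this

theorem nest {K : Subgroup (Cq a)} (hK : Moved s.A a K) {b : G} (hb : b ∈ dPart s.A a K) (hb1 : b ≠ 1) :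
    ∃ K' : Subgroup (Cq b), Moved s.A b K' ∧ ePart s.A a K ≤ ePart s.A b K' ∧
      dPart s.A b K' ≤ dPart s.A a K := by
  classical
  haveI : Fact (Nat.Prime 2) := ⟨Nat.prime_two⟩
  have hbA : b ∈ s.A := hb.1
  set C := centralizer ({a} : Set G) with hC
  set bc : ↥C := ⟨b, s.le_centralizer ha hbA⟩
  -- the group `H = C(a) ∩ C(b)` over the centralizer of the image of `b`
  set Hs : Subgroup ↥C := centralizer ({bc} : Set ↥C)
  set Cb : Subgroup (Cq a) := centralizer ({proj a bc} : Set (Cq a))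
  have hHs : Hs.map (proj a) = Cb := by
    have hP : IsPGroup 2 ↥(zpowers bc) := by
      have hAp : IsPGroup 2 ↥(s.A.subgroupOf C) := (elemAb_isPGroup s.elem).comap_subtype
      exact hAp.to_le (zpowers_le.mpr (mem_subgroupOf.mpr hbA))
    show (centralizer ({bc} : Set ↥C)).map (proj a) = centralizer ({proj a bc} : Set (Cq a))
    rw [centralizer_singleton_eq_zpowers bc, centralizer_singleton_eq_zpowers (proj a bc), ← MonoidHom.map_zpowers]
    exact map_centralizer_pGroup hP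
  let φ : ↥Hs →* ↥Cb := ((proj a).comp Hs.subtype).codRestrict Cb fun h => hHs ▸ ⟨h, h.2, rfl⟩
  have hφ : Function.Surjective φ := by
    rintro ⟨y, hy⟩
    rw [← hHs] at hy
    obtain ⟨h, hh, rfl⟩ := hy
    exact ⟨⟨h, hh⟩, rfl⟩
  have hkerodd : ¬ 2 ∣ Nat.card φ.ker := by
    intro h
    refine pPrimeCore_not_dvd (p := 2) (G := ↥C) (h.trans ?_)
    rw [← card_map_of_injective Hs.subtype_injective]
    refine card_dvd_of_le ?_
    rintro _ ⟨m, hm, rfl⟩
    exact (QuotientGroup.eq_one_iff _).mp (congrArg Subtype.val (hm : φ m = 1))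
  have hKC : K ≤ Cb := fun k hk => mem_centralizer_singleton_iff.mpr
    (mem_centralizer_iff.mp ((mem_dPart_iff s ha ha1 hbA).mp hb) k hk)
  set K₀ : Subgroup ↥Cb := K.subgroupOf Cb
  have hK₀ : Cfsg.IsComponent K₀ := IsComponent.subgroupOf hK.1 hKC
  -- into `C(b)`
  let ψ : ↥Hs →* ↥(centralizer ({b} : Set G)) := (C.subtype.comp Hs.subtype).codRestrict _ fun h =>
    mem_centralizer_singleton_iff.mpr (congrArg Subtype.val (mem_centralizer_singleton_iff.mp h.2))
  set M : Subgroup ↥Hs := pRes 2 (K₀.comap φ)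
  set J : Subgroup (Cq b) := M.map ((proj b).comp ψ)
  -- lands in the layer, by L-balance
  have hJlayer : J ≤ Cfsg.layer (Cq b) := by
    rw [← pLayer_map, map_le_iff_le_comap]
    refine (closure_le _).mpr ?_
    rintro x ⟨hx, hxp⟩
    refine ⟨ψ x, ?_, rfl⟩
    set ac : ↥(centralizer ({b} : Set G)) := ⟨a, s.le_centralizer hbA ha⟩
    have hAp : IsPGroup 2 ↥(s.A.subgroupOf (centralizer ({b} : Set G))) := (elemAb_isPGroup s.elem).comap_subtype
    have hR : IsPGroup 2 ↥(zpowers ac) := hAp.to_le (zpowers_le.mpr (show (ac : G) ∈ s.A from ha))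
    refine lBalance hR ?_
    let ψ' : ↥Hs →* ↥(centralizer ((zpowers ac : Subgroup _) : Set ↥(centralizer ({b} : Set G)))) :=
      ψ.codRestrict _ fun h => by
        rw [← centralizer_singleton_eq_zpowers]
        exact mem_centralizer_singleton_iff.mpr (Subtype.ext (mem_centralizer_singleton_iff.mp (h : ↥C).2))
    have hψ' : Function.Surjective ψ' := by
      rintro ⟨⟨g, hgb⟩, hg⟩
      rw [← centralizer_singleton_eq_zpowers] at hg
      have hga : g ∈ C := mem_centralizer_singleton_iff.mpr (congrArg Subtype.val (mem_centralizer_singleton_iff.mp hg))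
      exact ⟨⟨⟨g, hga⟩, mem_centralizer_singleton_iff.mpr (Subtype.ext (mem_centralizer_singleton_iff.mp hgb))⟩, rfl⟩
    exact ⟨ψ' x, pLayer_map_le ψ' (by rw [MonoidHom.range_eq_top.mpr hψ']; exact Normal.isSubnormal inferInstance)
      ⟨x, pElement_mem_pLayer_comap φ hkerodd hφ hK₀ hx hxp, rfl⟩, rfl⟩
  -- `M` maps onto `K`
  set θ : ↥Hs →* Cq a := (proj a).comp Hs.subtype
  have hMK : M.map θ = K := by
    refine le_antisymm ?_ ?_
    · rintro _ ⟨m, hm, rfl⟩
      exact mem_subgroupOf.mp (mem_comap.mp (pRes_le _ hm))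
    · conv_lhs => rw [← pRes_component pPrimeCore_quotient_bot hK.1]
      refine (closure_le _).mpr ?_
      rintro k ⟨hk, hkp⟩
      have hkp' : IsPGroup 2 ↥(zpowers (⟨k, hKC hk⟩ : ↥Cb)) := by
        refine IsPGroup.of_injective hkp ((Cb.subtype.comp (zpowers (⟨k, hKC hk⟩ : ↥Cb)).subtype).codRestrict _
          fun y => ?_) fun u v huv => Subtype.ext (Subtype.ext (congrArg Subtype.val huv :))
        obtain ⟨n, hn⟩ := y.2
        exact ⟨n, by simp [← hn]⟩
      obtain ⟨x, hxk⟩ := hφ ⟨k, hKC hk⟩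
      obtain ⟨m, ⟨i, hmi⟩, hmp, hfm⟩ := exists_pElement_lift φ (y := x) (hxk ▸ hkp')
      refine ⟨m, mem_pRes (mem_comap.mpr ?_) hmp, congrArg Subtype.val (hfm.trans hxk)⟩
      rw [hfm, hxk]
      exact mem_subgroupOf.mpr hk
  have hgen : ∀ W : Subgroup ↥M, (∀ x : ↥M, IsPGroup 2 ↥(zpowers x) → x ∈ W) → W = ⊤ := by
    intro W hW
    have hle : M ≤ W.map M.subtype := by
      refine (closure_le _).mpr ?_
      rintro x ⟨hx, hxp⟩
      refine ⟨⟨x, mem_pRes hx hxp⟩, hW _ ?_, rfl⟩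
      refine IsPGroup.of_injective hxp ((M.subtype.comp (zpowers (⟨x, mem_pRes hx hxp⟩ : ↥M)).subtype).codRestrict _
        fun y => ?_) fun u v huv => Subtype.ext (Subtype.ext (congrArg Subtype.val huv :))
      obtain ⟨n, hn⟩ := y.2
      exact ⟨n, by simp [← hn]⟩
    refine eq_top_iff.mpr fun x _ => ?_
    obtain ⟨w, hw, hwx⟩ := hle x.2
    rwa [show x = w from (Subtype.ext hwx).symm]
  let f : ↥M →* ↥K := (θ.comp M.subtype).codRestrict K fun m => hMK ▸ ⟨m, m.2, rfl⟩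
  have hf : Function.Surjective f := by
    rintro ⟨k, hk⟩
    rw [← hMK] at hk
    obtain ⟨w, hw, rfl⟩ := hk
    exact ⟨⟨w, hw⟩, rfl⟩
  have hfodd : ¬ 2 ∣ Nat.card f.ker := by
    intro h
    refine hkerodd (h.trans ?_)
    rw [← card_map_of_injective M.subtype_injective]
    refine card_dvd_of_le ?_
    rintro _ ⟨w, hw, rfl⟩
    exact Subtype.ext (congrArg Subtype.val (MonoidHom.mem_ker.mp hw) :)
  -- perfect
  have hMperf : ⁅M, M⁆ = M := by
    have h1 : Subgroup.map f (⁅(⊤ : Subgroup ↥M), (⊤ : Subgroup ↥M)⁆) = ⊤ := by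
      have hKp : Group.IsPerfect ↥K := hK.1.2.1
      rw [map_commutator, map_top_of_surjective f hf, ← _root_.commutator_def, hKp.commutator_eq_top]
    have h2 := eq_top_of_map_eq_top f hfodd hgen (⁅(⊤ : Subgroup ↥M), (⊤ : Subgroup ↥M)⁆) h1
    have h3 := congrArg (map M.subtype) h2
    rwa [map_commutator, ← MonoidHom.range_eq_map, range_subtype] at h3
  have hJperf : ⁅J, J⁆ = J := by rw [← map_commutator, hMperf]
  -- a normal subgroup of `M` is everything or central in `K`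
  have hdich : ∀ N : Subgroup ↥M, N.Normal → N = ⊤ ∨ N.map f ≤ center ↥K := by
    intro N hN
    haveI := hN
    haveI : (N.map f).Normal := Normal.map hN f hf
    rcases IsQuasisimple.eq_top_or_le_center hK.1.2 (N.map f) with e | e
    · exact Or.inl (eq_top_of_map_eq_top f hfodd hgen N e)
    · exact Or.inr e
  -- a component that `J` does not centralise
  have hcase : ∀ L : Subgroup (Cq b), Cfsg.IsComponent L → ¬ J ≤ centralizer (L : Set (Cq b)) →
      dPart s.A b L ≤ dPart s.A a K := by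
    intro L hL hJL x hx
    have hxA : x ∈ s.A := hx.1
    set xa : Cq a := proj a ⟨x, s.le_centralizer ha hxA⟩
    have hxK : xa ∈ normalizer (K : Set (Cq a)) :=
      local_normalizes (localHyp s ha ha1) hK.1 ⟨_, mem_subgroupOf.mpr hxA, rfl⟩
    set xh : ↥Hs := ⟨⟨x, s.le_centralizer ha hxA⟩,
      mem_centralizer_singleton_iff.mpr (Subtype.ext (s.comm hxA hbA))⟩
    have hxM : ∀ y ∈ M, xh * y * xh⁻¹ ∈ M := by
      intro y hy
      have hle : pRes 2 (K₀.comap φ) ≤ M.comap (MulAut.conj xh).toMonoidHom := by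
        refine (closure_le _).mpr ?_
        rintro w ⟨hw, hwp⟩
        show xh * w * xh⁻¹ ∈ M
        refine mem_pRes (mem_comap.mpr (mem_subgroupOf.mpr ?_)) ?_
        · show θ (xh * w * xh⁻¹) ∈ K
          rw [map_mul, map_mul, map_inv]
          exact (mem_normalizer_iff.mp hxK _).mp (mem_subgroupOf.mp hw)
        · have := hwp.map (MulAut.conj xh).toMonoidHom
          rwa [MonoidHom.map_zpowers] at this
      exact hle hy
    set N : Subgroup ↥M := (centralizer (L : Set (Cq b))).comap (((proj b).comp ψ).comp M.subtype)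
    have hJN : ∀ j ∈ J, j ∈ normalizer (L : Set (Cq b)) := fun j hj => ComponentSplit.layer_le_normalizer hL (hJlayer hj)
    have hNn : N.Normal := ⟨fun n hn m => mem_comap.mpr (by
      rw [map_mul, map_mul, map_inv]
      exact conj_mem_centralizer (hJN _ ⟨m, m.2, rfl⟩) (mem_comap.mp hn))⟩
    have hNZ : N.map f ≤ center ↥K := by
      refine (hdich N hNn).resolve_left fun e => hJL ?_
      rintro _ ⟨m, hm, rfl⟩
      exact mem_comap.mp (e.ge (mem_top (⟨m, hm⟩ : ↥M)))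
    refine (mem_dPart_iff s ha ha1 hxA).mpr ?_
    have hcent : ∀ k ∈ K, xa * k = k * xa := by
      refine (mulAut_ker_iff_centralizes hK.1 hxK).mpr ?_
      rintro ⟨k, hk⟩
      obtain ⟨⟨m, hm⟩, hmk⟩ := hf ⟨k, hk⟩
      have hk' : θ m = k := congrArg Subtype.val hmk
      set y : ↥M := ⟨xh * m * xh⁻¹ * m⁻¹, M.mul_mem (hxM m hm) (M.inv_mem hm)⟩
      have hy : y ∈ N := by
        have hxb : proj b (ψ xh) ∈ centralizer (L : Set (Cq b)) := (mem_dPart_iff s hbA hb1 hxA).mp hx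
        show proj b (ψ (xh * m * xh⁻¹ * m⁻¹)) ∈ centralizer (L : Set (Cq b))
        simp only [map_mul, map_inv, mul_assoc]
        have := (centralizer (L : Set (Cq b))).mul_mem hxb
          (conj_mem_centralizer (hJN _ ⟨m, hm, rfl⟩) ((centralizer (L : Set (Cq b))).inv_mem hxb))
        simpa only [MonoidHom.comp_apply, mul_assoc] using this
      have hc := hNZ ⟨y, hy, rfl⟩
      rwa [show f y = (K.normalizerMonoidHom ⟨xa, hxK⟩) ⟨k, hk⟩ * (⟨k, hk⟩ : ↥K)⁻¹ from Subtype.ext (by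
          show θ (xh * m * xh⁻¹ * m⁻¹) = xa * k * xa⁻¹ * k⁻¹
          rw [map_mul, map_mul, map_mul, map_inv, map_inv, hk']
          rfl)] at hc
    exact mem_centralizer_iff.mpr fun k hk => (hcent k hk).symm
  -- there is such a component
  obtain ⟨L, hL, hJL⟩ : ∃ L : Subgroup (Cq b), Cfsg.IsComponent L ∧ ¬ J ≤ centralizer (L : Set (Cq b)) := by
    by_contra hall
    push Not at hall
    have hJc : J ≤ centralizer (Cfsg.layer (Cq b) : Set (Cq b)) := by
      have : Cfsg.layer (Cq b) ≤ centralizer (J : Set (Cq b)) :=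
        sSup_le fun L hL => le_centralizer_iff.mp (hall L hL)
      exact le_centralizer_iff.mp this
    have hJ1 : J = ⊥ := by
      rw [← hJperf, commutator_eq_bot_iff_le_centralizer]
      exact hJc.trans (centralizer_le hJlayer)
    have hall1 : ∀ m : ↥M, ((proj b).comp ψ) m = 1 := fun m => mem_bot.mp (hJ1 ▸ ⟨m, m.2, rfl⟩)
    set N : Subgroup ↥M := (((proj b).comp ψ).comp M.subtype).ker
    have hodd : ¬ 2 ∣ Nat.card N := by
      intro h
      refine pPrimeCore_not_dvd (p := 2) (G := ↥(centralizer ({b} : Set G))) (h.trans ?_)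
      have hψi : Function.Injective (ψ.comp M.subtype) := fun u v huv =>
        Subtype.ext (Subtype.ext (Subtype.ext (congrArg Subtype.val huv :)))
      rw [← card_map_of_injective hψi]
      refine card_dvd_of_le ?_
      rintro _ ⟨w, hw, rfl⟩
      exact (QuotientGroup.eq_one_iff _).mp hw
    refine hodd ?_
    rw [show N = ⊤ from eq_top_iff.mpr fun m _ => hall1 m, card_top]
    have h2 : 2 ∣ Nat.card K := by
      have := component_dvd_index (p := 2) pPrimeCore_quotient_bot hK.1 ⊥ bot_le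
      rwa [index_bot] at this
    exact h2.trans (card_dvd_of_surjective f hf)
  have hsub : dPart s.A b L ≤ dPart s.A a K := hcase L hL hJL
  have hmoved : Moved s.A b L := ⟨hL, fun h => hK.2 (h.trans hsub)⟩
  have hothers : ∀ L' : Subgroup (Cq b), Cfsg.IsComponent L' → L' ≠ L → J ≤ centralizer (L' : Set (Cq b)) := by
    intro L' hL' hne
    by_contra h
    exact hK.2 ((sup_eq s hbA hb1 hL).ge.trans
      (sup_le hsub ((orth s hbA hb1 hL' hL hne).trans (hcase L' hL' h))))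
  -- `J` lies in that component
  set R : Subgroup (Cq b) := ⨆ L' : {L' : Subgroup (Cq b) // Cfsg.IsComponent L' ∧ L' ≠ L}, (L' : Subgroup (Cq b))
  have hRL : R ≤ centralizer (L : Set (Cq b)) := iSup_le fun L' => IsComponent.commute L'.2.1 hL L'.2.2
  have hJR : J ≤ centralizer (R : Set (Cq b)) :=
    le_centralizer_iff.mp (iSup_le fun L' => le_centralizer_iff.mp (hothers L' L'.2.1 L'.2.2))
  have hlayer : Cfsg.layer (Cq b) ≤ L ⊔ R := sSup_le fun L' hL' => by
    rcases eq_or_ne L' L with rfl | hne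
    · exact le_sup_left
    · exact le_sup_of_le_right (le_iSup_of_le ⟨L', hL', hne⟩ le_rfl)
  have hJle : J ≤ L := by
    rw [← hJperf, commutator_le]
    have hdec : ∀ j ∈ J, ∃ l ∈ L, ∃ c ∈ R, c ∈ centralizer (R : Set (Cq b)) ∧ j = l * c := by
      intro j hj
      have h1 := hlayer (hJlayer hj)
      rw [← SetLike.mem_coe, coe_mul_of_right_le_normalizer_left _ _ (hRL.trans (centralizer_le_normalizer _))] at h1
      obtain ⟨l, hl, c, hc, rfl⟩ := Set.mem_mul.mp h1
      refine ⟨l, hl, c, hc, ?_, rfl⟩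
      have hlR : l ∈ centralizer (R : Set (Cq b)) := le_centralizer_iff.mp hRL hl
      simpa using (centralizer (R : Set (Cq b))).mul_mem ((centralizer (R : Set (Cq b))).inv_mem hlR) (hJR hj)
    intro j1 hj1 j2 hj2
    obtain ⟨l1, hl1, c1, hc1, hz1, rfl⟩ := hdec j1 hj1
    obtain ⟨l2, hl2, c2, hc2, hz2, rfl⟩ := hdec j2 hj2
    have e1 : Commute c1 l2 := (mem_centralizer_iff.mp (hRL hc1) l2 hl2).symm
    have e2 : Commute c1 c2 := (mem_centralizer_iff.mp hz1 c2 hc2).symm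
    have e3 : Commute c2 l1 := (mem_centralizer_iff.mp (hRL hc2) l1 hl1).symm
    have e : ⁅l1 * c1, l2 * c2⁆ = ⁅l1, l2⁆ := by
      simp only [commutatorElement_def, mul_inv_rev]
      calc l1 * c1 * (l2 * c2) * (c1⁻¹ * l1⁻¹) * (c2⁻¹ * l2⁻¹)
          = l1 * (c1 * l2) * (c2 * c1⁻¹) * l1⁻¹ * c2⁻¹ * l2⁻¹ := by group
        _ = l1 * (l2 * c1) * (c1⁻¹ * c2) * l1⁻¹ * c2⁻¹ * l2⁻¹ := by rw [e1.eq, e2.symm.inv_right.eq]
        _ = l1 * l2 * (c2 * l1⁻¹) * c2⁻¹ * l2⁻¹ := by group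
        _ = l1 * l2 * (l1⁻¹ * c2) * c2⁻¹ * l2⁻¹ := by rw [e3.inv_right.eq]
        _ = l1 * l2 * l1⁻¹ * l2⁻¹ := by group
    rw [e, commutatorElement_def]
    exact L.mul_mem (L.mul_mem (L.mul_mem hl1 hl2) (L.inv_mem hl1)) (L.inv_mem hl2)
  refine ⟨L, hmoved, fun x hx => ?_, hsub⟩
  refine (mem_ePart_iff s hbA hb1 hx.1).mpr (hJle ?_)
  set xh : ↥Hs := ⟨⟨x, s.le_centralizer ha hx.1⟩,
    mem_centralizer_singleton_iff.mpr (Subtype.ext (s.comm hx.1 hbA))⟩
  refine ⟨xh, mem_pRes (mem_comap.mpr (mem_subgroupOf.mpr ((mem_ePart_iff s ha ha1 hx.1).mp hx))) ?_, rfl⟩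
  have hp : IsPGroup 2 ↥(zpowers x) := (elemAb_isPGroup s.elem).to_le (zpowers_le.mpr hx.1)
  refine IsPGroup.of_injective hp (((C.subtype.comp Hs.subtype).comp (zpowers xh).subtype).codRestrict _
    fun y => ?_) fun u v huv => Subtype.ext (Subtype.ext (Subtype.ext (congrArg Subtype.val huv :)))
  obtain ⟨n, hn⟩ := y.2
  exact ⟨n, by simp [← hn, xh]⟩

theorem conj {g : G} (hg : g ∈ normalizer (s.A : Set G)) {K : Subgroup (Cq a)} (hK : Moved s.A a K) :
    ∃ K' : Subgroup (Cq (g * a * g⁻¹)), Moved s.A (g * a * g⁻¹) K' ∧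
      dPart s.A (g * a * g⁻¹) K' = (dPart s.A a K).map (MulAut.conj g).toMonoidHom ∧
      ePart s.A (g * a * g⁻¹) K' = (ePart s.A a K).map (MulAut.conj g).toMonoidHom := by
  haveI : Fact (Nat.Prime 2) := ⟨Nat.prime_two⟩
  set a' := g * a * g⁻¹
  have hmem : ∀ x : G, x ∈ centralizer ({a} : Set G) → g * x * g⁻¹ ∈ centralizer ({a'} : Set G) := fun x hx => by
    refine mem_centralizer_singleton_iff.mpr ?_
    calc g * x * g⁻¹ * a' = g * (x * a) * g⁻¹ := by simp [a', mul_assoc]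
      _ = g * (a * x) * g⁻¹ := by rw [mem_centralizer_singleton_iff.mp hx]
      _ = a' * (g * x * g⁻¹) := by simp [a', mul_assoc]
  have hmem' : ∀ x : G, x ∈ centralizer ({a'} : Set G) → g⁻¹ * x * g ∈ centralizer ({a} : Set G) := fun x hx => by
    refine mem_centralizer_singleton_iff.mpr ?_
    calc g⁻¹ * x * g * a = g⁻¹ * (x * a') * g := by simp [a', mul_assoc]
      _ = g⁻¹ * (a' * x) * g := by rw [mem_centralizer_singleton_iff.mp hx]
      _ = a * (g⁻¹ * x * g) := by simp [a', mul_assoc]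
  let θ : ↥(centralizer ({a} : Set G)) ≃* ↥(centralizer ({a'} : Set G)) :=
    { toFun := fun x => ⟨g * x * g⁻¹, hmem x x.2⟩
      invFun := fun x => ⟨g⁻¹ * x * g, hmem' x x.2⟩
      left_inv := fun x => Subtype.ext (by simp [mul_assoc])
      right_inv := fun x => Subtype.ext (by simp [mul_assoc])
      map_mul' := fun x y => Subtype.ext (by simp [mul_assoc]) }
  haveI hn : (Cfsg.pPrimeCore 2 ↥(centralizer ({a} : Set G))).Normal := pPrimeCore_isNormal
  haveI hn' : (Cfsg.pPrimeCore 2 ↥(centralizer ({a'} : Set G))).Normal := pPrimeCore_isNormal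
  have hθ : (Cfsg.pPrimeCore 2 ↥(centralizer ({a} : Set G))).map θ.toMonoidHom =
      Cfsg.pPrimeCore 2 ↥(centralizer ({a'} : Set G)) := by
    refine le_antisymm (le_pPrimeCore (hn.map _ θ.surjective) ?_) ?_
    · rw [card_map_of_injective θ.injective]
      exact pPrimeCore_coprime
    · intro y hy
      have h1 : (Cfsg.pPrimeCore 2 ↥(centralizer ({a'} : Set G))).map θ.symm.toMonoidHom ≤
          Cfsg.pPrimeCore 2 ↥(centralizer ({a} : Set G)) := by
        refine le_pPrimeCore (hn'.map _ θ.symm.surjective) ?_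
        rw [card_map_of_injective θ.symm.injective]
        exact pPrimeCore_coprime
      exact ⟨θ.symm y, h1 ⟨y, hy, rfl⟩, θ.apply_symm_apply y⟩
  let ψ : Cq a ≃* Cq a' := QuotientGroup.congr _ _ θ hθ
  have hψ : ∀ (x : G) (hx : x ∈ centralizer ({a} : Set G)),
      ψ (proj a ⟨x, hx⟩) = proj a' ⟨g * x * g⁻¹, hmem x hx⟩ := fun x hx =>
    QuotientGroup.congr_mk _ _ θ hθ ⟨x, hx⟩
  set K' := K.map ψ.toMonoidHom
  have hcen : ∀ y : Cq a, ψ y ∈ centralizer (K' : Set (Cq a')) ↔ y ∈ centralizer (K : Set (Cq a)) := by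
    intro y
    constructor
    · intro h
      refine mem_centralizer_iff.mpr fun k hk => ψ.injective ?_
      rw [map_mul, map_mul]
      exact mem_centralizer_iff.mp h _ ⟨k, hk, rfl⟩
    · intro h
      refine mem_centralizer_iff.mpr ?_
      rintro _ ⟨k, hk, rfl⟩
      show ψ k * ψ y = ψ y * ψ k
      rw [← map_mul, ← map_mul, mem_centralizer_iff.mp h k hk]
  have ha' : a' ∈ s.A := (mem_normalizer_iff.mp hg a).mp ha
  have ha'1 : a' ≠ 1 := fun h => ha1 (conj_eq_one_iff.mp h)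
  have hD : dPart s.A a' K' = (dPart s.A a K).map (MulAut.conj g).toMonoidHom := by
    ext y
    constructor
    · intro hy
      have hyA : g⁻¹ * y * g ∈ s.A := (mem_normalizer_iff''.mp hg y).mp hy.1
      refine ⟨g⁻¹ * y * g, (mem_dPart_iff s ha ha1 hyA).mpr ((hcen _).mp ?_), by simp [mul_assoc]⟩
      rw [hψ]
      have hq := (mem_dPart_iff s ha' ha'1 hy.1).mp hy
      have e : (⟨g * (g⁻¹ * y * g) * g⁻¹, hmem _ (s.le_centralizer ha hyA)⟩ : ↥(centralizer ({a'} : Set G))) =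
          ⟨y, s.le_centralizer ha' hy.1⟩ := Subtype.ext (show g * (g⁻¹ * y * g) * g⁻¹ = y by group)
      rw [e]
      exact hq
    · rintro ⟨x, hx, rfl⟩
      have hxA : g * x * g⁻¹ ∈ s.A := (mem_normalizer_iff.mp hg x).mp hx.1
      refine (mem_dPart_iff s ha' ha'1 hxA).mpr ?_
      rw [← hψ x (s.le_centralizer ha hx.1), hcen]
      exact (mem_dPart_iff s ha ha1 hx.1).mp hx
  have hE : ePart s.A a' K' = (ePart s.A a K).map (MulAut.conj g).toMonoidHom := by
    ext y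
    constructor
    · intro hy
      have hyA : g⁻¹ * y * g ∈ s.A := (mem_normalizer_iff''.mp hg y).mp hy.1
      refine ⟨g⁻¹ * y * g, (mem_ePart_iff s ha ha1 hyA).mpr ?_, by simp [mul_assoc]⟩
      obtain ⟨k, hk, hke⟩ := (mem_ePart_iff s ha' ha'1 hy.1).mp hy
      rwa [show proj a ⟨g⁻¹ * y * g, s.le_centralizer ha hyA⟩ = k from ψ.injective (by
        rw [hψ]
        refine Eq.trans ?_ hke.symm
        congr 1
        exact Subtype.ext (by simp [mul_assoc]))]
    · rintro ⟨x, hx, rfl⟩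
      have hxA : g * x * g⁻¹ ∈ s.A := (mem_normalizer_iff.mp hg x).mp hx.1
      refine (mem_ePart_iff s ha' ha'1 hxA).mpr ?_
      rw [← hψ x (s.le_centralizer ha hx.1)]
      exact ⟨_, (mem_ePart_iff s ha ha1 hx.1).mp hx, rfl⟩
  refine ⟨K', ⟨IsComponent.map_iso ψ hK.1, fun h => hK.2 fun x hx => ?_⟩, hD, hE⟩
  obtain ⟨y, hy, hyx⟩ := hD ▸ h ((mem_normalizer_iff.mp hg x).mp hx)
  rwa [show x = y from (MulAut.conj g).injective hyx.symm]

theorem cover : centralizer ({a} : Set G) ≤ Cfsg.centralizerPPrimeCore 2 a ⊔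
    (⨆ K : {K : Subgroup (Cq a) // Moved s.A a K},
      centralizer (dPart s.A a K.1 : Set G) ⊓ centralizer ({a} : Set G)) ⊔ normalizer (s.A : Set G) := by
  set W := Cfsg.centralizerPPrimeCore 2 a ⊔
    (⨆ K : {K : Subgroup (Cq a) // Moved s.A a K},
      centralizer (dPart s.A a K.1 : Set G) ⊓ centralizer ({a} : Set G)) ⊔ normalizer (s.A : Set G)
  set C := centralizer ({a} : Set G)
  set W' := (W.subgroupOf C).map (proj a)
  have hN : normalizer (imA s.A a : Set (Cq a)) ≤ W' :=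
    (map_normalizer_le s ha ha1).trans (map_mono (comap_mono le_sup_right))
  have hlay : Cfsg.layer (Cq a) ≤ W' := sSup_le fun K hK => by
    by_cases hm : imA s.A a ≤ centralizer (K : Set (Cq a))
    · exact ((le_centralizer_iff.mp hm).trans (centralizer_le_normalizer _)).trans hN
    · have hmv : Moved s.A a K := ⟨hK, fun h => hm (by
        rintro y hy
        obtain ⟨x, hx, rfl⟩ := (mem_imA s ha ha1).mp hy
        exact (mem_dPart_iff s ha ha1 hx).mp (h hx))⟩
      refine le_trans (le_trans ?_ (map_centralizer_le s ha ha1 (dPart_le s.A a K))) (map_mono fun x hx =>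
        mem_subgroupOf.mpr (mem_sup_left (mem_sup_right
          (le_iSup (fun K : {K : Subgroup (Cq a) // Moved s.A a K} =>
            centralizer (dPart s.A a K.1 : Set G) ⊓ C) ⟨K, hmv⟩ ⟨mem_subgroupOf.mp hx, x.2⟩))))
      intro k hk
      refine mem_centralizer_iff.mpr ?_
      rintro _ ⟨d, hd, rfl⟩
      exact (mem_centralizer_iff.mp ((mem_dPart_iff s ha ha1 (mem_subgroupOf.mp hd).1).mp (mem_subgroupOf.mp hd)) k hk).symm
  intro x hx
  have h1 : proj a ⟨x, hx⟩ ∈ W' := (sup_le hlay hN) (local_cover (localHyp s ha ha1) ▸ mem_top _)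
  obtain ⟨w, hw, hwx⟩ := h1
  have h2 : (w : G)⁻¹ * x ∈ Cfsg.centralizerPPrimeCore 2 a :=
    ⟨w⁻¹ * ⟨x, hx⟩, (QuotientGroup.eq_one_iff _).mp (show proj a _ = 1 by
      rw [map_mul, map_inv, hwx, inv_mul_cancel]), rfl⟩
  have h3 := W.mul_mem (mem_subgroupOf.mp hw) (mem_sup_left (mem_sup_left h2) : (w : G)⁻¹ * x ∈ W)
  rwa [mul_inv_cancel_left] at h3

/-- `Y` in the core of `C(a)`: odd, commuting with `b`, then centralises every component at `b` fixed by `a`. -/
theorem core_component {b : G} (hb : b ∈ s.A) (hb1 : b ≠ 1) {K : Subgroup (Cq b)} (hK : Cfsg.IsComponent K)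
    (hfix : a ∈ dPart s.A b K) {x : G} (hx : x ∈ Cfsg.centralizerPPrimeCore 2 a ⊓ centralizer ({b} : Set G)) :
    x ∈ pre b (centralizer (K : Set (Cq b))) := by
  haveI : Fact (Nat.Prime 2) := ⟨Nat.prime_two⟩
  haveI : (Cfsg.pPrimeCore 2 ↥(centralizer ({b} : Set G))).Normal := pPrimeCore_isNormal
  refine mem_pre.mpr ⟨hx.2, ?_⟩
  set ab : ↥(centralizer ({b} : Set G)) := ⟨a, s.le_centralizer hb ha⟩
  have hB : Cfsg.IsElementaryAbelian 2 (zpowers a) := elemAb_mono (B := zpowers a) s.elem (zpowers_le.mpr ha)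
  have hΔ : Cfsg.centralizerPPrimeCore 2 a ≤ Cfsg.signalizerDelta 2 (zpowers a) := le_iInf fun c => by
    obtain ⟨c, hc, hc1⟩ := c
    obtain ⟨i, hi⟩ := mem_zpowers_iff.mp hc
    rcases Int.even_or_odd i with ⟨j, rfl⟩ | ⟨j, rfl⟩
    · rw [zpow_add, ← (Commute.refl a).mul_zpow, s.sq ha, one_zpow] at hi
      exact absurd hi.symm hc1
    · rw [zpow_add, zpow_mul, zpow_ofNat, pow_two, s.sq ha, one_zpow, one_mul, zpow_one] at hi
      subst hi
      exact le_rfl
  have hy := Block.KBalance.image_le_core hB (a := b) (b := ab) (mem_zpowers a) ha1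
    ⟨⟨x, hx.2⟩, mem_subgroupOf.mpr ⟨hΔ hx.1, hx.2⟩, rfl⟩
  refine mem_centralizer_iff.mpr fun k hk => ?_
  refine ((CoreData.ofElement (pPrimeCore_quotient_bot (p := 2)) (proj b ab) ?_).centralizes_of_fixed hK
    (fun l hl => ?_) _ hy k hk).symm
  · rw [← map_pow, show ab ^ 2 = 1 from Subtype.ext (s.pow_two_eq ha), map_one]
  · exact (mem_centralizer_iff.mp ((mem_dPart_iff s hb hb1 ha).mp hfix) l hl).symm

end Lift

end Cfsg.Agent.Fus.Gold
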