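import Cfsg.Prelude.Def_Involutions
import Cfsg.Agent.Lib.Classical.PSUBinaryIff
import Cfsg.Agent.Lib.Classical.BinaryInvolution
import Cfsg.Agent.Lib.Fus.OddTransp.LineBender
import Cfsg.Agent.Lib.Invol.CentInt.Cover
import Cfsg.Agent.Lib.Invol.BenderCover.Models
import Cfsg.Agent.Lib.Invol.GW.Consumers.CentralFour
import Cfsg.Agent.Lib.Invol.GW.Consumers.HallNumbers
import Cfsg.Agent.Lib.Local.CoreConsumers.SimpleBorel
import Cfsg.Agent.Lib.Transfer.SelfCentNoncyclic.Linear
import Cfsg.Agent.Lib.Transfer.ClassThree.Tools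
import Cfsg.Agent.S0483
import Cfsg.Agent.S2798

/-!
# Facts about the models for a strongly closed subgroup of order four

`PSU(3, q)` has a strongly embedded subgroup; in a simple group with one, the Sylow subgroups other than `T`
are permuted regularly by `T`, so an automorphism fixing `T` pointwise is decided by one more of them; a count
which no simple group with a four-group as Sylow subgroup satisfies.
-/

set_option autoImplicit false
set_option linter.style.haveILetI false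
set_option linter.unusedSectionVars false

open scoped Pointwise

namespace Cfsg.Agent.Fus.Gold

open Subgroup
open Cfsg.Agent.Invol

universe u

/-- `PSU(3, q)`, `q ≥ 4` even, has a strongly embedded subgroup. -/
theorem exists_se_of_psu {G : Type u} [Group G] [Finite G] {F : Type} [Field F] [Fintype F] {q : ℕ}
    (hF : Fintype.card F = q ^ 2) (heven : Even q) (h4 : 4 ≤ q) (e : G ≃* Cfsg.PSU 3 F q) :
    ∃ H : Subgroup G, Cfsg.IsStronglyEmbedded H := by
  classical
  haveI : Fact (Nat.Prime 2) := ⟨Nat.prime_two⟩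
  obtain ⟨p, hc⟩ := CharP.exists F
  haveI : Fact p.Prime := ⟨CharP.char_is_prime F p⟩
  obtain rfl : p = 2 := Dickson.p_eq_two p (by rw [hF]; exact heven.pow_of_ne_zero two_ne_zero)
  haveI : IsSimpleGroup (Cfsg.PSU 3 F q) := Fus.UnitTv.isSimpleGroup_psu hF (le_refl 3) (fun h => by omega)
  haveI : IsSimpleGroup G := e.isSimpleGroup
  have hts := BenderCover.torusSylow_psu hF heven h4
  have hone : ∀ s t : Cfsg.PSU 3 F q, orderOf s = 2 → orderOf t = 2 → IsConj s t := fun s t hs ht =>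
    Fus.OTLine.isConj_involutions hts (Invol.mul_self_of_orderOf_two hs)
      (fun h => by rw [h, orderOf_one] at hs; omega) (Invol.mul_self_of_orderOf_two ht)
      (fun h => by rw [h, orderOf_one] at ht; omega)
  obtain ⟨Pb, W, hPb, hidx, hWP, hW2, -, -, -, ⟨a, ha, -, -, ha1, -, -⟩, -⟩ := hts
  let P : Sylow 2 (Cfsg.PSU 3 F q) := hPb.toSylow hidx
  set C := (center (P : Subgroup (Cfsg.PSU 3 F q))).map (P : Subgroup (Cfsg.PSU 3 F q)).subtype
  haveI : Nontrivial ↥(P : Subgroup (Cfsg.PSU 3 F q)) :=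
    ⟨⟨⟨a, hWP ha⟩, 1, fun h => ha1 (congrArg Subtype.val h)⟩⟩
  have hCne : center ↥(P : Subgroup (Cfsg.PSU 3 F q)) ≠ ⊥ := fun h => by
    haveI := P.isPGroup'.center_nontrivial
    rw [h] at this
    exact not_nontrivial _ this
  have hCe : Even (Nat.card C) := by
    rw [card_map_of_injective (P : Subgroup (Cfsg.PSU 3 F q)).subtype_injective]
    obtain ⟨i, hi⟩ := IsPGroup.iff_card.1
      (P.isPGroup'.to_subgroup (center ↥(P : Subgroup (Cfsg.PSU 3 F q))))
    rcases i with _ | i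
    · exact absurd (card_eq_one.1 hi) hCne
    · rw [hi]; exact Nat.even_pow.2 ⟨even_two, i.succ_ne_zero⟩
  have hCtop : C ≠ ⊤ := fun h => by
    have hPt : (P : Subgroup (Cfsg.PSU 3 F q)) = ⊤ := top_le_iff.1 (h ▸ map_subtype_le _)
    obtain ⟨x, y, hxy⟩ := (CentInt.IsBenderGrp.not_comm (X := Cfsg.PSU 3 F q)
      (Or.inr (Or.inl ⟨F, _, _, q, heven, h4, hF, ⟨MulEquiv.refl _⟩⟩)))
    have hx : x ∈ C := h ▸ mem_top x
    obtain ⟨x', hx', rfl⟩ := hx
    exact hxy (congrArg Subtype.val (mem_center_iff.1 hx' ⟨y, hPt ▸ mem_top y⟩)).symm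
  obtain ⟨M, hM⟩ := BinInvol.exists_stronglyEmbedded hone (PSUBin.isBin_center hF P) hCtop hCe
  refine ⟨M.map e.symm.toMonoidHom, fun h => hM.1 ?_, ?_, fun g hg => ?_⟩
  · exact map_injective (f := e.symm.toMonoidHom) e.symm.injective
      (h.trans (map_top_of_surjective _ e.symm.surjective).symm)
  · rw [card_map_of_injective e.symm.injective]; exact hM.2.1
  · have h1 := hM.2.2 (e g) (fun h => hg ⟨e g, h, e.symm_apply_apply g⟩)
    have h2 : (M ⊓ M.map (MulAut.conj (e g)).toMonoidHom).map e.symm.toMonoidHom =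
        M.map e.symm.toMonoidHom ⊓ (M.map e.symm.toMonoidHom).map (MulAut.conj g).toMonoidHom := by
      rw [map_inf _ _ _ e.symm.injective, map_map, map_map]
      congr 2
      refine MonoidHom.ext fun x => ?_
      simp
    rw [← h2, card_map_of_injective e.symm.injective]
    exact h1

section Regular

variable {L : Type u} [Group L] [Finite L] [IsSimpleGroup L]

/-- With a strongly embedded subgroup, `T` acts freely on the other Sylow 2-subgroups and there are `|T|`. -/
theorem regular_of_se (hL : ¬ IsMulCommutative L) {H : Subgroup L} (hH : Cfsg.IsStronglyEmbedded H)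
    (T : Sylow 2 L) :
    (∀ Q : Sylow 2 L, Q ≠ T → ∀ t ∈ (T : Subgroup L), t • Q = Q → t = 1) ∧
      (∀ Q₁ Q₂ : Sylow 2 L, Q₁ ≠ T → Q₂ ≠ T → ∃ t ∈ (T : Subgroup L), t • Q₁ = Q₂) ∧
      ∃ Q : Sylow 2 L, Q ≠ T := by
  classical
  haveI : Fact (Nat.Prime 2) := ⟨Nat.prime_two⟩
  have hsp : Cfsg.IsStronglyPEmbedded 2 H := isStronglyPEmbedded_iff.2
    ⟨even_iff_two_dvd.1 hH.2.1, hH.1, fun g hg hd =>
      Nat.not_even_iff_odd.2 (hH.2.2 g hg) (even_iff_two_dvd.2 hd)⟩
  have h2 : 2 ∣ Nat.card L := (even_iff_two_dvd.1 hH.2.1).trans (card_subgroup_dvd_card H)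
  obtain ⟨-, hmax, hidx⟩ := CoreConsumers.simple_borel hL h2 (S2798.result _ hsp)
  obtain ⟨hd2, hne, P, hP⟩ := hsp
  have hHP : H = normalizer ((P : Subgroup L) : Set L) := hmax P H hne
    (Fus.normalizer_le_of_kGeneratedCore P.isPGroup' hP le_rfl (P.ne_bot_of_dvd_card h2))
  have hTI : ∀ Q Q' : Sylow 2 L, ∀ z ∈ (Q : Subgroup L), z ∈ (Q' : Subgroup L) → orderOf z = 2 → Q = Q' := by
    intro Q Q' z hz hz' hz2
    obtain ⟨g, rfl⟩ := MulAction.exists_smul_eq L P Q
    obtain ⟨k, rfl⟩ := MulAction.exists_smul_eq L P Q'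
    rw [Sylow.coe_subgroup_smul] at hz hz'
    obtain ⟨y, hy, rfl⟩ := hz
    obtain ⟨y', hy', e'⟩ := hz'
    change k * y' * k⁻¹ = g * y * g⁻¹ at e'
    change orderOf (g * y * g⁻¹) = 2 at hz2
    have hm : k⁻¹ * g ∈ H := by
      by_contra hm
      refine Nat.not_even_iff_odd.2 (hH.2.2 _ hm) (even_iff_two_dvd.2 (dvd_card_of_mem (z := y') ?_ ?_))
      · rw [← hz2, ← e', Invol.orderOf_conj_eq]
      · refine mem_inf.2 ⟨hHP ▸ le_normalizer hy', y, hHP ▸ le_normalizer hy, ?_⟩
        show k⁻¹ * g * y * (k⁻¹ * g)⁻¹ = y'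
        calc k⁻¹ * g * y * (k⁻¹ * g)⁻¹ = k⁻¹ * (g * y * g⁻¹) * k := by group
          _ = y' := by rw [← e']; group
    rw [hHP] at hm
    have h := congrArg (k • ·) (Sylow.smul_eq_iff_mem_normalizer.2 hm)
    simpa [← mul_smul] using h
  have hfree : ∀ Q : Sylow 2 L, Q ≠ T → ∀ t ∈ (T : Subgroup L), t • Q = Q → t = 1 := by
    intro Q hQ t ht htQ
    by_contra ht1
    obtain ⟨i, hi⟩ := IsPGroup.iff_orderOf.1 T.isPGroup' ⟨t, ht⟩
    rw [Subgroup.orderOf_mk] at hi
    rcases i with _ | i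
    · exact ht1 (orderOf_eq_one_iff.1 hi)
    set z := t ^ 2 ^ i with hz
    have hz2 : orderOf z = 2 := by
      rw [hz, orderOf_pow' _ (pow_ne_zero _ two_ne_zero), hi, Nat.gcd_eq_right ⟨2, pow_succ 2 i⟩, pow_succ',
        Nat.mul_div_cancel _ (Nat.two_pow_pos i)]
    have hzN : z ∈ normalizer ((Q : Subgroup L) : Set L) :=
      pow_mem (Sylow.smul_eq_iff_mem_normalizer.1 htQ) _
    have hzQ : z ∈ (Q : Subgroup L) := by
      have hp : IsPGroup 2 (zpowers z) := IsPGroup.of_card (n := 1) (by rw [Nat.card_zpowers, hz2, pow_one])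
      have hle := Q.3 (hp.to_sup_of_normal_right' Q.isPGroup' (zpowers_le.2 hzN)) le_sup_right
      exact hle ▸ mem_sup_left (mem_zpowers z)
    exact hQ (hTI Q T z hzQ (pow_mem ht _) hz2)
  have hcard : Nat.card (Sylow 2 L) = Nat.card ↥(T : Subgroup L) + 1 := by
    rw [Sylow.card_eq_index_normalizer T]; exact hidx T
  have hex : ∃ Q : Sylow 2 L, Q ≠ T := by
    haveI : Nontrivial (Sylow 2 L) := Finite.one_lt_card_iff_nontrivial.1 (by
      rw [hcard]; have := Nat.card_pos (α := ↥(T : Subgroup L)); omega)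
    exact exists_ne T
  refine ⟨hfree, fun Q₁ Q₂ h₁ h₂ => ?_, hex⟩
  have hTfix : ∀ t ∈ (T : Subgroup L), t • T = T := fun t ht =>
    Sylow.smul_eq_iff_mem_normalizer.2 (le_normalizer ht)
  let f : ↥(T : Subgroup L) → {Q : Sylow 2 L // Q ≠ T} := fun t => ⟨(t : L) • Q₁, fun h =>
    h₁ (smul_left_cancel (t : L) (h.trans (hTfix t t.2).symm))⟩
  have hinj : Function.Injective f := fun t t' htt => by
    have h : (t : L) • Q₁ = (t' : L) • Q₁ := congrArg Subtype.val htt
    have h' : ((t' : L)⁻¹ * t) • Q₁ = Q₁ := by rw [mul_smul, h, inv_smul_smul]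
    exact Subtype.ext (inv_mul_eq_one.1 (hfree Q₁ h₁ _ (mul_mem (inv_mem t'.2) t.2) h')).symm
  have hbij : Function.Bijective f := by
    haveI : Fintype (Sylow 2 L) := Fintype.ofFinite _
    haveI : Fintype ↥(T : Subgroup L) := Fintype.ofFinite _
    rw [Fintype.bijective_iff_injective_and_card]
    refine ⟨hinj, ?_⟩
    rw [Fintype.card_subtype_compl, Fintype.card_subtype_eq, ← Nat.card_eq_fintype_card,
      ← Nat.card_eq_fintype_card, hcard, Nat.add_sub_cancel]
  obtain ⟨t, ht⟩ := hbij.2 ⟨Q₂, h₂⟩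
  exact ⟨t, t.2, congrArg Subtype.val ht⟩

/-- An automorphism fixing `T` pointwise and one more Sylow subgroup is trivial. -/
theorem eq_one_of_fix_point (hL : ¬ IsMulCommutative L) {H : Subgroup L} (hH : Cfsg.IsStronglyEmbedded H)
    (T : Sylow 2 L) (f : MulAut L) (hfix : ∀ t ∈ (T : Subgroup L), f t = t) (Q : Sylow 2 L) (hQ : Q ≠ T)
    (hfQ : (Q : Subgroup L).map f.toMonoidHom = (Q : Subgroup L)) : f = 1 := by
  classical
  haveI : Fact (Nat.Prime 2) := ⟨Nat.prime_two⟩
  obtain ⟨-, htr, -⟩ := regular_of_se hL hH T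
  have hfT : (T : Subgroup L).map f.toMonoidHom = (T : Subgroup L) := by
    ext x
    exact ⟨by rintro ⟨t, ht, rfl⟩; rw [show f.toMonoidHom t = f t from rfl, hfix t ht]; exact ht,
      fun hx => ⟨x, hx, hfix x hx⟩⟩
  have hmap : ∀ (g : L) (R : Sylow 2 L), (R : Subgroup L).map f.toMonoidHom = R →
      ((g • R : Sylow 2 L) : Subgroup L).map f.toMonoidHom = ((f g • R : Sylow 2 L) : Subgroup L) := by
    intro g R hR
    rw [Sylow.coe_subgroup_smul, Sylow.coe_subgroup_smul, ← Grp.map_conj_eq_smul, ← Grp.map_conj_eq_smul]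
    conv_rhs => rw [← hR]
    rw [map_map, map_map]
    congr 1
    refine MonoidHom.ext fun x => ?_
    simp
  have hall : ∀ R : Sylow 2 L, (R : Subgroup L).map f.toMonoidHom = R := by
    intro R
    by_cases hR : R = T
    · rw [hR, hfT]
    obtain ⟨t, ht, rfl⟩ := htr Q R hQ hR
    rw [hmap t Q hfQ, hfix t ht]
  have hker : ∀ g : L, g⁻¹ * f g ∈ (MulAction.toPermHom L (Sylow 2 L)).ker := by
    intro g
    refine MonoidHom.mem_ker.2 (Equiv.ext fun R => ?_)
    show (g⁻¹ * f g) • R = R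
    have h : f g • R = g • R := Sylow.ext ((hmap g R (hall R)).symm.trans (hall (g • R)))
    rw [mul_smul, h, inv_smul_smul]
  have hk : (MulAction.toPermHom L (Sylow 2 L)).ker = ⊥ :=
    (inferInstance : ((MulAction.toPermHom L (Sylow 2 L)).ker).Normal).eq_bot_or_eq_top.resolve_right fun h => by
      refine hQ ?_
      obtain ⟨g, hg⟩ := MulAction.exists_smul_eq L Q T
      have h1 : MulAction.toPermHom L (Sylow 2 L) g = 1 := MonoidHom.mem_ker.1 (h ▸ mem_top g)
      rw [← hg]
      exact (congrArg (fun σ : Equiv.Perm (Sylow 2 L) => σ Q) h1).symm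
  refine MulEquiv.ext fun g => ?_
  have h := hker g
  rw [hk, mem_bot, inv_mul_eq_one] at h
  exact h.symm

/-- An automorphism of odd order fixing `T` pointwise is trivial. -/
theorem eq_one_of_fix_sylow_se (hL : ¬ IsMulCommutative L) {H : Subgroup L} (hH : Cfsg.IsStronglyEmbedded H)
    (T : Sylow 2 L) (f : MulAut L) (hf : Odd (orderOf f)) (hfix : ∀ t ∈ (T : Subgroup L), f t = t) : f = 1 := by
  classical
  haveI : Fact (Nat.Prime 2) := ⟨Nat.prime_two⟩
  obtain ⟨hfree, htr, Q, hQ⟩ := regular_of_se hL hH T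
  refine eq_one_of_fix_point hL hH T f hfix Q hQ ?_
  set Q' : Sylow 2 L := Q.mapSurjective (f := f.toMonoidHom) f.surjective with hQ'
  have hQ'T : Q' ≠ T := fun h => hQ (Sylow.ext (map_injective (f := f.toMonoidHom) f.injective (by
    rw [← Sylow.coe_mapSurjective f.surjective Q, ← hQ', h]
    ext x
    exact ⟨fun hx => ⟨x, hx, hfix x hx⟩, by rintro ⟨t, ht, rfl⟩; exact (hfix t ht).symm ▸ ht⟩)))
  obtain ⟨t, ht, htQ⟩ := htr Q Q' hQ hQ'T
  have hbase : (Q : Subgroup L).map f.toMonoidHom = ((t • Q : Sylow 2 L) : Subgroup L) := by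
    rw [htQ, hQ']; exact (Sylow.coe_mapSurjective _ _).symm
  have hpow : ∀ k : ℕ, (Q : Subgroup L).map (f ^ k).toMonoidHom = ((t ^ k • Q : Sylow 2 L) : Subgroup L) := by
    intro k
    induction k with
    | zero => rw [pow_zero, pow_zero, one_smul]; exact map_id _
    | succ k ih =>
      rw [pow_succ', pow_succ, show (f * f ^ k).toMonoidHom = f.toMonoidHom.comp (f ^ k).toMonoidHom from rfl,
        ← map_map, ih, mul_smul, Sylow.coe_subgroup_smul, Sylow.coe_subgroup_smul, ← Grp.map_conj_eq_smul,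
        ← Grp.map_conj_eq_smul, map_map]
      rw [show ((t • Q : Sylow 2 L) : Subgroup L) = (Q : Subgroup L).map f.toMonoidHom from hbase.symm, map_map]
      congr 1
      refine MonoidHom.ext fun x => ?_
      simp [← map_pow, MulAut.conj_apply, map_mul, map_inv, hfix _ (pow_mem ht k), hfix t ht]
  have hm := hpow (orderOf f)
  rw [pow_orderOf_eq_one] at hm
  have htm : t ^ orderOf f = 1 := hfree Q hQ _ (pow_mem ht _) (Sylow.ext (hm.symm.trans (map_id _)))
  have ht1 : t = 1 := by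
    obtain ⟨i, hi⟩ := IsPGroup.iff_orderOf.1 T.isPGroup' ⟨t, ht⟩
    rw [Subgroup.orderOf_mk] at hi
    exact orderOf_eq_one_iff.1 (Nat.eq_one_of_dvd_coprimes (Nat.Coprime.pow_left i (Nat.coprime_two_left.2 hf))
      (hi ▸ dvd_rfl) (orderOf_dvd_of_pow_eq_one htm))
  rw [hbase, ht1, one_smul]

end Regular

/-- In `PSU(3, 4)` an automorphism of odd order fixing a Sylow 2-subgroup pointwise is trivial. -/
theorem eq_one_of_fix_sylow {L : Type u} [Group L] [Finite L] [IsSimpleGroup L] {F : Type} [Field F] [Fintype F]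
    (hF : Fintype.card F = 4 ^ 2) (e : L ≃* Cfsg.PSU 3 F 4) (T : Sylow 2 L) (f : MulAut L) (hf : Odd (orderOf f))
    (hfix : ∀ t ∈ (T : Subgroup L), f t = t) : f = 1 := by
  obtain ⟨H, hH⟩ := exists_se_of_psu hF (by decide) le_rfl e
  have hL : ¬ IsMulCommutative L := fun hc => by
    obtain ⟨a, b, hab⟩ := CentInt.IsBenderGrp.not_comm (X := Cfsg.PSU 3 F 4)
      (Or.inr (Or.inl ⟨F, _, _, 4, by decide, le_rfl, hF, ⟨MulEquiv.refl _⟩⟩))
    exact hab (e.symm.injective (by rw [map_mul, map_mul]; exact hc.is_comm.comm _ _))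
  exact eq_one_of_fix_sylow_se hL hH T f hf hfix

/-- No simple group with four-group Sylow subgroup satisfies this count. -/
theorem four_count_false {L : Type u} [Group L] [Finite L] [IsSimpleGroup L] (hL : ¬ IsMulCommutative L)
    (T : Sylow 2 L) (hT : Nat.card ↥(T : Subgroup L) = 4) {a : L} (ha : a ∈ (T : Subgroup L)) (ha1 : a ≠ 1)
    (hcount : (centralizer ({a} : Set L)).index =
      3 * ((centralizer ((T : Subgroup L) : Set L)).relIndex (centralizer ({a} : Set L))) ^ 2) : False := by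
  classical
  haveI : Fact (Nat.Prime 2) := ⟨Nat.prime_two⟩
  have hx2 : ∀ x : ↥(T : Subgroup L), x ^ 2 = 1 := fun x => by
    have h4 : orderOf x ∣ 2 ^ 2 := by
      have h := orderOf_dvd_natCard x; rw [hT] at h; exact h.trans (dvd_of_eq (by norm_num))
    obtain ⟨k, hk, hkx⟩ := (Nat.dvd_prime_pow Nat.prime_two).1 h4
    rcases (show k ≤ 1 ∨ k = 2 by omega) with h | rfl
    · exact orderOf_dvd_iff_pow_eq_one.1 (hkx ▸ (pow_dvd_pow 2 h).trans (dvd_of_eq (pow_one 2)))
    · exfalso
      haveI : IsCyclic ↥(T : Subgroup L) := isCyclic_of_orderOf_eq_card x (by rw [hkx, hT]; norm_num)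
      exact hL ⟨⟨IsSimpleGroup.comm_iff_isSolvable.2 (Transfer.ClassThree.isSolvable_of_cyclic_sylow_two T)⟩⟩
  haveI : IsKleinFour ↥(T : Subgroup L) := ⟨hT, by
    refine ((Nat.dvd_prime Nat.prime_two).1 (Monoid.exponent_dvd_of_forall_pow_eq_one hx2)).resolve_left
      fun h => ha1 ?_
    have := Monoid.pow_exponent_eq_one (⟨a, ha⟩ : ↥(T : Subgroup L))
    rw [h, pow_one] at this
    exact congrArg Subtype.val this⟩
  have ha2 : orderOf a = 2 := orderOf_eq_prime (congrArg Subtype.val (hx2 ⟨a, ha⟩)) ha1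
  rcases GW.CentralFour.simple_model (fun {X} _ _ _ T m hm hT => Cfsg.Agent.S0483.result T m hm hT) hL T le_rfl
      GW.HallNumbers.dihedral_of_klein with ⟨F, iF, jF, hodd, h3, ⟨e⟩⟩ | ⟨⟨e⟩⟩
  · obtain ⟨p, hc⟩ := CharP.exists F
    haveI : Fact p.Prime := ⟨CharP.char_is_prime F p⟩
    obtain ⟨hc1, hc3⟩ := Transfer.SelfCentNoncyclic.card_centralizer_involution p hodd
      (g := e a) (by rw [MulEquiv.orderOf_eq, ha2])
    have hC : Nat.card (centralizer ({a} : Set L)) = Nat.card (centralizer ({e a} : Set _)) := by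
      refine Nat.card_congr (e.toEquiv.subtypeEquiv fun x => ?_)
      show x ∈ centralizer {a} ↔ e x ∈ centralizer {e a}
      rw [mem_centralizer_singleton_iff, mem_centralizer_singleton_iff, ← map_mul, ← map_mul,
        EmbeddingLike.apply_eq_iff_eq]
    set q := Fintype.card F with hq
    set C := Nat.card (centralizer ({a} : Set L))
    have hCq : C + 1 = q ∨ C = q + 1 := by
      obtain ⟨m, hm⟩ := hodd
      rcases (show q % 4 = 1 ∨ q % 4 = 3 by omega) with h | h
      · left; rw [hC, hc1 h]; omega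
      · right; rw [hC, hc3 h]
    have hco : Nat.Coprime q C := by
      rcases hCq with h | h
      · rw [← h]; exact Nat.coprime_self_add_left.2 (Nat.coprime_one_left C) |>.symm |>.symm
      · rw [h]; exact Nat.coprime_self_add_right.2 (Nat.coprime_one_right q)
    have hqL : q ∣ Nat.card L := by
      have h := Classical.natCard_PSL_mul (F := F) 2 (by norm_num)
      rw [Lie.SympWreath.natCard_SL2, ← Nat.card_congr e.toEquiv, ← hq] at h
      refine (Nat.Coprime.dvd_of_dvd_mul_left ?_ (Dvd.intro _ h.symm))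
      refine (Nat.Coprime.coprime_dvd_right (Nat.gcd_dvd_left _ _) ?_)
      exact Nat.coprime_two_right.2 hodd
    rw [← (centralizer ({a} : Set L)).card_mul_index, hcount] at hqL
    have h1 : q ∣ 3 * _ := hco.dvd_of_dvd_mul_left hqL
    have h2 : q ∣ 3 := by
      refine Nat.Coprime.dvd_of_dvd_mul_right (Nat.Coprime.pow_right 2 (hco.coprime_dvd_right ?_)) h1
      exact relIndex_dvd_card _ _
    have := Nat.le_of_dvd (by norm_num) h2
    omega
  · have h8 : 8 ∣ Nat.card L := by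
      rw [Nat.card_congr e.toEquiv, nat_card_alternatingGroup, Nat.card_fin]
      exact ⟨315, rfl⟩
    have h1 : Nat.Coprime 8 (T : Subgroup L).index :=
      Nat.Coprime.pow_left 3 ((Nat.Prime.coprime_iff_not_dvd Nat.prime_two).2 T.not_dvd_index)
    rw [← (T : Subgroup L).card_mul_index, hT] at h8
    have := Nat.le_of_dvd (by norm_num) (h1.dvd_of_dvd_mul_right h8)
    omega

end Cfsg.Agent.Fus.Gold
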