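import Mathlib
import Cfsg.Prelude.Def_Balance
import Cfsg.Prelude.Def_EvenTechniques
import Cfsg.Prelude.Def_TwoFusion
import Cfsg.Prelude.Def_Involutions
import Cfsg.Agent.Lib.Grp.BalanceReduction
import Cfsg.Agent.Lib.Invol.GW.Consumers.CentralFour
import Cfsg.Agent.Lib.Invol.StronglyClosedControl
import Cfsg.Agent.Lib.Transfer.CentralFour.Pair
import Cfsg.Agent.S2791
import Cfsg.Agent.S0215

/-!
# Strongly closed elementary abelian 2-subgroups: setting of the induction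

The data used in the proof of Goldschmidt's theorem: the statement proved by induction on the order,
the minimal counterexample setting, and the parts of `A` at a component of `C(a)/O(C(a))`.
-/

set_option autoImplicit false
set_option linter.style.haveILetI false

namespace Cfsg.Agent.Fus.Gold

open Subgroup

universe u

/-- What is proved by induction on the order about simple groups. -/
def Conclusion (G : Type u) [Group G] : Prop :=
  ∀ (S : Sylow 2 G) (A : Subgroup G), A ≠ ⊥ → Cfsg.IsElementaryAbelian 2 A →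
    Cfsg.IsStronglyClosed A (S : Subgroup G) →
    ((S : Subgroup G) = A ∨ ∃ H : Subgroup G, Cfsg.IsStronglyEmbedded H) ∧
      (∀ s ∈ (S : Subgroup G), s * s = 1 → s ∈ A) ∧
      (S : Subgroup G) ≤ centralizer (A : Set G) ∧
      ∀ a ∈ A, ∀ b ∈ A, a ≠ 1 → b ≠ 1 → ∃ g ∈ normalizer (A : Set G), g * a * g⁻¹ = b

/-- Hypotheses on `X = C(a)/O(C(a))` with the image of `A`. -/
structure LocalHyp (X : Type u) [Group X] (Ab : Subgroup X) : Prop where
  core : Cfsg.pPrimeCore 2 X = ⊥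
  elem : Cfsg.IsElementaryAbelian 2 Ab
  closed : ∀ T : Subgroup X, IsPGroup 2 T → Ab ≤ T → ∀ x ∈ Ab, ∀ g : X,
    g * x * g⁻¹ ∈ T → g * x * g⁻¹ ∈ Ab
  comp : ∀ K : Subgroup X, Cfsg.IsComponent K → Conclusion (↥K ⧸ center ↥K)

variable {G : Type u} [Group G]

/-- `C(a)/O(C(a))`. -/
abbrev Cq (a : G) : Type u :=
  ↥(centralizer ({a} : Set G)) ⧸ Cfsg.pPrimeCore 2 ↥(centralizer ({a} : Set G))

/-- The projection of `C(a)`. -/
abbrev proj (a : G) : ↥(centralizer ({a} : Set G)) →* Cq a :=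
  QuotientGroup.mk' (Cfsg.pPrimeCore 2 ↥(centralizer ({a} : Set G)))

/-- Preimage in `G` of a subgroup of `C(a)/O(C(a))`. -/
def pre (a : G) (K : Subgroup (Cq a)) : Subgroup G :=
  (K.comap (proj a)).map (centralizer ({a} : Set G)).subtype

theorem mem_pre {a : G} {K : Subgroup (Cq a)} {x : G} :
    x ∈ pre a K ↔ ∃ h : x ∈ centralizer ({a} : Set G), proj a ⟨x, h⟩ ∈ K := by
  constructor
  · rintro ⟨y, hy, rfl⟩
    exact ⟨y.2, hy⟩
  · rintro ⟨h, hx⟩
    exact ⟨⟨x, h⟩, hx, rfl⟩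

theorem pre_le (a : G) (K : Subgroup (Cq a)) : pre a K ≤ centralizer ({a} : Set G) :=
  map_subtype_le _

theorem pre_mono (a : G) {K L : Subgroup (Cq a)} (h : K ≤ L) : pre a K ≤ pre a L :=
  map_mono (comap_mono h)

/-- The image of `A` in `C(a)/O(C(a))`. -/
def imA (A : Subgroup G) (a : G) : Subgroup (Cq a) :=
  (A.subgroupOf (centralizer ({a} : Set G))).map (proj a)

/-- The elements of `A` centralising the component `K` of `C(a)/O(C(a))`. -/
def dPart (A : Subgroup G) (a : G) (K : Subgroup (Cq a)) : Subgroup G :=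
  A ⊓ pre a (centralizer (K : Set (Cq a)))

/-- The elements of `A` with image in `K`. -/
def ePart (A : Subgroup G) (a : G) (K : Subgroup (Cq a)) : Subgroup G :=
  A ⊓ pre a K

/-- `K` is a component of `C(a)/O(C(a))` which `A` does not centralise. -/
def Moved (A : Subgroup G) (a : G) (K : Subgroup (Cq a)) : Prop :=
  Cfsg.IsComponent K ∧ ¬ A ≤ dPart A a K

theorem dPart_le (A : Subgroup G) (a : G) (K : Subgroup (Cq a)) : dPart A a K ≤ A := inf_le_left

theorem ePart_le (A : Subgroup G) (a : G) (K : Subgroup (Cq a)) : ePart A a K ≤ A := inf_le_left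

/-- The setting: a simple group with a minimal invariant elementary strongly closed subgroup `A`, all
smaller simple groups satisfying the conclusion. -/
structure Setup (G : Type u) [Group G] [Finite G] where
  S : Sylow 2 G
  A : Subgroup G
  simple : IsSimpleGroup G
  nonab : ¬ IsMulCommutative G
  ne_bot : A ≠ ⊥
  elem : Cfsg.IsElementaryAbelian 2 A
  closed : Cfsg.IsStronglyClosed A (S : Subgroup G)
  irred : ∀ B : Subgroup G, B ≤ A →
    (∀ g ∈ normalizer (A : Set G), ∀ b ∈ B, g * b * g⁻¹ ∈ B) → B = ⊥ ∨ B = A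
  ih : ∀ (L : Type u) [Group L] [Finite L], Nat.card L < Nat.card G → IsSimpleGroup L →
    ¬ IsMulCommutative L → Conclusion L

namespace Setup

variable [Finite G] (s : Setup G)

include s

theorem comm {x y : G} (hx : x ∈ s.A) (hy : y ∈ s.A) : x * y = y * x :=
  Grp.elemAb_comm s.elem x hx y hy

theorem sq {x : G} (hx : x ∈ s.A) : x * x = 1 := by rw [← pow_two]; exact s.elem.2 x hx

theorem orderOf_eq {x : G} (hx : x ∈ s.A) (h1 : x ≠ 1) : orderOf x = 2 :=
  orderOf_eq_prime (s.elem.2 x hx) h1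

theorem le_centralizer {a : G} (ha : a ∈ s.A) : s.A ≤ centralizer ({a} : Set G) := fun _ hx =>
  mem_centralizer_singleton_iff.2 (s.comm hx ha)

theorem pow_two_eq {x : G} (hx : x ∈ s.A) : x ^ 2 = 1 := s.elem.2 x hx

theorem two_dvd : 2 ∣ Nat.card G := by
  obtain ⟨⟨x, hx⟩, hx1⟩ := s.A.ne_bot_iff_exists_ne_one.1 s.ne_bot
  exact s.orderOf_eq hx (fun h => hx1 (Subtype.ext h)) ▸ orderOf_dvd_natCard x

theorem core_eq_bot : Cfsg.pPrimeCore 2 G = ⊥ := by
  haveI := s.simple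
  exact Invol.GW.CentralFour.pPrimeCore_eq_bot s.two_dvd

theorem sylow_le_normalizer : (s.S : Subgroup G) ≤ normalizer (s.A : Set G) :=
  Invol.sylow_le_normalizer_stronglyClosed s.closed

/-- `A` is strongly closed in every 2-subgroup containing it. -/
theorem closed_in {T : Subgroup G} (hT : IsPGroup 2 T) (hAT : s.A ≤ T) {x : G} (hx : x ∈ s.A) {g : G}
    (hg : g * x * g⁻¹ ∈ T) : g * x * g⁻¹ ∈ s.A := by
  haveI : Fact (Nat.Prime 2) := ⟨Nat.prime_two⟩
  obtain ⟨P, hP⟩ := hT.exists_le_sylow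
  obtain ⟨h, hh⟩ := MulAction.exists_smul_eq G P s.S
  have hmem : ∀ t ∈ T, h * t * h⁻¹ ∈ (s.S : Subgroup G) := fun t ht => by
    rw [← hh, Sylow.coe_subgroup_smul, ← Grp.map_conj_eq_smul]
    exact ⟨t, hP ht, rfl⟩
  have hA : ∀ a ∈ s.A, h * a * h⁻¹ ∈ s.A := fun a ha => s.closed.2 a ha h (hmem a (hAT ha))
  have hN : h ∈ normalizer (s.A : Set G) := mem_normalizer_fintype hA
  have h1 : h * g * x * (h * g)⁻¹ ∈ s.A := s.closed.2 x hx (h * g) (by
    rw [show h * g * x * (h * g)⁻¹ = h * (g * x * g⁻¹) * h⁻¹ by group]; exact hmem _ hg)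
  refine (mem_normalizer_iff.1 hN _).2 ?_
  rw [show h * (g * x * g⁻¹) * h⁻¹ = h * g * x * (h * g)⁻¹ by group]; exact h1

/-- `N(A)` controls the fusion of the subsets of `S`. -/
theorem control {X : Set G} (hX : X ⊆ (s.S : Subgroup G)) {g : G}
    (hg : ∀ x ∈ X, g * x * g⁻¹ ∈ (s.S : Subgroup G)) :
    ∃ n ∈ normalizer (s.A : Set G), ∀ x ∈ X, n * x * n⁻¹ = g * x * g⁻¹ := by
  haveI : Fact (Nat.Prime 2) := ⟨Nat.prime_two⟩
  obtain ⟨T, hAT, hctl⟩ := S2791.result s.S s.A s.elem.1 s.closed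
  obtain ⟨k, hk⟩ := MulAction.exists_smul_eq G s.S T
  have hmem : ∀ y ∈ (s.S : Subgroup G), k * y * k⁻¹ ∈ (T : Subgroup G) := fun y hy => by
    rw [← hk, Sylow.coe_subgroup_smul, ← Grp.map_conj_eq_smul]
    exact ⟨y, hy, rfl⟩
  have hkA : ∀ a ∈ s.A, k * a * k⁻¹ ∈ s.A := fun a ha =>
    s.closed_in T.isPGroup' hAT ha (hmem a (s.closed.1 ha))
  have hkN : k ∈ normalizer (s.A : Set G) := mem_normalizer_fintype hkA
  obtain ⟨-, hstep⟩ := hctl ((fun y => k * y * k⁻¹) '' X) (by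
    rintro _ ⟨y, hy, rfl⟩; exact hmem y (hX hy))
  obtain ⟨m, hm, hmeq⟩ := hstep (k * g * k⁻¹) (by
    rintro _ ⟨_, ⟨y, hy, rfl⟩, rfl⟩
    show k * g * k⁻¹ * (k * y * k⁻¹) * (k * g * k⁻¹)⁻¹ ∈ (T : Subgroup G)
    rw [show k * g * k⁻¹ * (k * y * k⁻¹) * (k * g * k⁻¹)⁻¹ = k * (g * y * g⁻¹) * k⁻¹ by group]
    exact hmem _ (hg y hy))
  refine ⟨k⁻¹ * m * k, mul_mem (mul_mem (inv_mem hkN) hm) hkN, fun y hy => ?_⟩
  have h1 := hmeq _ ⟨y, hy, rfl⟩
  calc k⁻¹ * m * k * y * (k⁻¹ * m * k)⁻¹ = k⁻¹ * (m * (k * y * k⁻¹) * m⁻¹) * k := by group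
    _ = k⁻¹ * (k * g * k⁻¹ * (k * y * k⁻¹) * (k * g * k⁻¹)⁻¹) * k := by rw [h1]
    _ = _ := by group

/-- No isolated involution: `|A| ≥ 4`. -/
theorem four_le : 4 ≤ Nat.card s.A := by
  haveI : Fact (Nat.Prime 2) := ⟨Nat.prime_two⟩
  obtain ⟨k, hk⟩ := IsPGroup.iff_card.1 (Grp.elemAb_isPGroup s.elem)
  rcases Nat.lt_or_ge k 2 with h | h
  swap
  · calc 4 = 2 ^ 2 := rfl
      _ ≤ 2 ^ k := Nat.pow_le_pow_right two_pos h
      _ = _ := hk.symm
  exfalso
  obtain ⟨⟨u, hu⟩, hu1⟩ := s.A.ne_bot_iff_exists_ne_one.1 s.ne_bot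
  have hu1' : u ≠ 1 := fun h => hu1 (Subtype.ext h)
  have hA : s.A = zpowers u := by
    refine (eq_of_le_of_card_ge (zpowers_le.2 hu) ?_).symm
    rw [Nat.card_zpowers, s.orderOf_eq hu hu1', hk]
    exact le_trans (Nat.pow_le_pow_right two_pos (Nat.le_of_lt_succ h)) le_rfl
  have hiso : ∀ g : G, g * u * g⁻¹ ∈ (s.S : Subgroup G) → g * u * g⁻¹ = u := by
    intro g hg
    have h1 := s.closed.2 u hu g hg
    rw [hA] at h1
    obtain ⟨i, hi⟩ := mem_zpowers_iff.1 h1
    rcases Int.even_or_odd i with ⟨j, rfl⟩ | ⟨j, rfl⟩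
    · rw [zpow_add, ← (Commute.refl u).mul_zpow, s.sq hu, one_zpow] at hi
      exact absurd (conj_eq_one_iff.1 hi.symm) hu1'
    · rw [zpow_add, zpow_mul, zpow_ofNat, pow_two, s.sq hu, one_zpow, one_mul, zpow_one] at hi
      exact hi.symm
  obtain ⟨N, hN, hodd, hc⟩ := S0215.result s.S u (s.orderOf_eq hu hu1') (s.closed.1 hu) hiso
  haveI := s.simple
  have hNb : N = ⊥ := hN.eq_bot_or_eq_top.resolve_right fun e => by
    rw [e, Subgroup.card_top] at hodd
    exact (Nat.not_even_iff_odd.2 hodd) (even_iff_two_dvd.2 s.two_dvd)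
  have hz : u ∈ center G := mem_center_iff.2 fun g => by
    have h1 := hc g
    rw [hNb, mem_bot, mul_inv_eq_one, mul_inv_eq_iff_eq_mul] at h1
    exact h1.symm
  rw [Transfer.CentralFour.center_eq_bot s.nonab] at hz
  exact hu1' (mem_bot.1 hz)

theorem card_centralizer_lt {a : G} (ha : a ∈ s.A) (h1 : a ≠ 1) :
    Nat.card ↥(centralizer ({a} : Set G)) < Nat.card G := by
  haveI := s.simple
  refine lt_of_le_of_ne (card_le_card_group _) fun h => h1 ?_
  have hz : a ∈ center G := mem_center_iff.2 fun g =>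
    mem_centralizer_singleton_iff.1 ((card_eq_iff_eq_top _).1 h ▸ mem_top g)
  rw [Transfer.CentralFour.center_eq_bot s.nonab] at hz
  exact mem_bot.1 hz

end Setup

end Cfsg.Agent.Fus.Gold
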