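import Cfsg.Agent.Lib.Fus.Goldschmidt.Lift
import Cfsg.Agent.Lib.Invol.StrongClosed.Balance
import Cfsg.Agent.S1174

/-!
# Strongly closed abelian 2-subgroups: the balanced functor and strong embedding
-/

set_option autoImplicit false
set_option linter.style.haveILetI false

namespace Cfsg.Agent.Fus.Gold

open Subgroup Cfsg.Agent.Grp

universe u

variable {G : Type u} [Group G] [Finite G]

/-- A proper subgroup containing the centralizers of the involutions of `A` gives strong embedding. -/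
theorem se_of_proper (s : Setup G) {M : Subgroup G} (hM : M ≠ ⊤)
    (h : ∀ a ∈ s.A, a ≠ 1 → centralizer ({a} : Set G) ≤ M) : ∃ H : Subgroup G, Cfsg.IsStronglyEmbedded H := by
  haveI := s.simple
  refine S1174.result s.S s.A s.ne_bot s.closed fun e => hM (top_le_iff.mp (e ▸ iSup_le fun t => ?_))
  refine h t t.2.1 fun h1 => ?_
  have := t.2.2
  rw [h1, orderOf_one] at this
  exact absurd this (by norm_num)

theorem normalizer_ne_top_of_odd (s : Setup G) {W : Subgroup G} (hW : W ≠ ⊥) (hodd : Odd (Nat.card W)) :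
    normalizer (W : Set G) ≠ ⊤ := by
  haveI := s.simple
  intro e
  haveI : W.Normal := normalizer_eq_top_iff.mp e
  rw [(inferInstance : W.Normal).eq_bot_or_eq_top.resolve_left hW, card_top] at hodd
  exact Nat.not_even_iff_odd.mpr hodd (even_iff_two_dvd.mpr s.two_dvd)

/-- The balanced functor: strong embedding, or all `Δ(B)` are trivial. -/
theorem engine (s : Setup G) {r : ℕ} (hr : 1 ≤ r)
    (hA : 2 ^ (r + 2) ≤ Nat.card s.A)
    (hsmall : ∀ a ∈ s.A, a ≠ 1 → ∀ K, Moved s.A a K → Nat.card s.A < 2 ^ r * Nat.card ↥(dPart s.A a K))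
    (hgen : ∀ a ∈ s.A, a ≠ 1 → ∀ K, Moved s.A a K → 2 ^ (r + 1) ≤ Nat.card ↥(dPart s.A a K)) :
    (∃ H : Subgroup G, Cfsg.IsStronglyEmbedded H) ∨
      ∀ B : Subgroup G, B ≤ s.A → 2 ^ r ≤ Nat.card B → Cfsg.signalizerDelta 2 B = ⊥ := by
  haveI : Fact (Nat.Prime 2) := ⟨Nat.prime_two⟩
  have hbal : Cfsg.IsKBalancedWrt 2 r s.A := by
    refine Invol.StrongClosed.kBalancedWrt_of_kernels (by omega) s.elem fun a ha ha1 K hK B hB hBc => ?_
    have hkill : ∀ b ∈ B, b ≠ 1 → b ∈ dPart s.A a K →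
        ∃ b : ↥(centralizer ({a} : Set G)), (b : G) ∈ B ∧ (b : G) ≠ 1 ∧
          ∀ x ∈ K, (QuotientGroup.mk b) * x = x * (QuotientGroup.mk b) := fun b hb hb1 hbd =>
      ⟨⟨b, s.le_centralizer ha (hB hb)⟩, hb, hb1, fun x hx =>
        (mem_centralizer_iff.mp ((mem_dPart_iff s ha ha1 (hB hb)).mp hbd) x hx).symm⟩
    by_cases hm : Moved s.A a K
    · have hne : B ⊓ dPart s.A a K ≠ ⊥ := by
        intro e
        have hdis : Disjoint B (dPart s.A a K) := disjoint_iff.mpr e
        have hle : Nat.card B * Nat.card ↥(dPart s.A a K) ≤ Nat.card s.A := by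
          rw [← Nat.card_prod]
          refine Nat.card_le_card_of_injective (fun p => (⟨(p.1 : G) * p.2, s.A.mul_mem (hB p.1.2) p.2.2.1⟩ : ↥s.A)) ?_
          intro p q h
          have := mul_injective_of_disjoint hdis (a₁ := p) (a₂ := q) (congrArg Subtype.val h)
          exact this
        rw [hBc] at hle
        exact absurd hle (not_le.mpr (hsmall a ha ha1 K hm))
      obtain ⟨⟨b, hb⟩, hb1⟩ := (B ⊓ dPart s.A a K).ne_bot_iff_exists_ne_one.mp hne
      exact hkill b hb.1 (fun h => hb1 (Subtype.ext h)) hb.2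
    · have hB1 : B ≠ ⊥ := ne_bot_of_card (p := 2) (n := r) (by omega) hBc.ge
      obtain ⟨⟨b, hb⟩, hb1⟩ := B.ne_bot_iff_exists_ne_one.mp hB1
      exact hkill b hb (fun h => hb1 (Subtype.ext h)) (not_not.mp (fun h => hm ⟨hK, h⟩) (hB hb))
  obtain ⟨W, hWodd, hWN, hWC, hWΔ, hWO⟩ := Invol.StrongClosed.exists_functor (by omega) s.elem hA hbal
  by_cases hW : W = ⊥
  · exact Or.inr fun B hB hBc => le_bot_iff.mp (hW ▸ hWΔ B hB hBc)
  · refine Or.inl (se_of_proper s (normalizer_ne_top_of_odd s hW hWodd) fun a ha ha1 => ?_)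
    refine (cover s ha ha1).trans (sup_le (sup_le (hWO a ha ha1) (iSup_le fun K => ?_)) hWN)
    exact inf_le_left.trans (hWC _ (dPart_le _ _ _) (hgen a ha ha1 K K.2))

/-- If no element of `A` moves a component, there is a strongly embedded subgroup. -/
theorem se_of_no_moved (s : Setup G) (hA : 8 ≤ Nat.card s.A)
    (hno : ∀ a ∈ s.A, a ≠ 1 → ∀ K, ¬ Moved s.A a K) : ∃ H : Subgroup G, Cfsg.IsStronglyEmbedded H := by
  haveI : Fact (Nat.Prime 2) := ⟨Nat.prime_two⟩
  rcases engine s le_rfl (by simpa using hA) (fun a ha h1 K hK => absurd hK (hno a ha h1 K))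
    (fun a ha h1 K hK => absurd hK (hno a ha h1 K)) with h | h
  · exact h
  haveI := s.simple
  refine se_of_proper s (M := normalizer (s.A : Set G)) (fun e => ?_) fun a ha ha1 => ?_
  · haveI : s.A.Normal := normalizer_eq_top_iff.mp e
    have htop := (inferInstance : s.A.Normal).eq_bot_or_eq_top.resolve_left s.ne_bot
    exact s.nonab ⟨⟨fun x y => s.comm (htop ▸ mem_top x) (htop ▸ mem_top y)⟩⟩
  · refine (cover s ha ha1).trans (sup_le (sup_le ?_ (iSup_le fun K => absurd K.2 (hno a ha ha1 K))) le_rfl)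
    have hc : Nat.card ↥(zpowers a) = 2 := by rw [Nat.card_zpowers, s.orderOf_eq ha ha1]
    refine le_trans (le_trans ?_ (h (zpowers a) (zpowers_le.mpr ha) (by simp [hc])).le) bot_le
    refine le_iInf fun c => ?_
    obtain ⟨c, hc', hc1⟩ := c
    obtain ⟨i, hi⟩ := mem_zpowers_iff.mp hc'
    rcases Int.even_or_odd i with ⟨j, rfl⟩ | ⟨j, rfl⟩
    · rw [zpow_add, ← (Commute.refl a).mul_zpow, s.sq ha, one_zpow] at hi
      exact absurd hi.symm hc1
    · rw [zpow_add, zpow_mul, zpow_ofNat, pow_two, s.sq ha, one_zpow, one_mul, zpow_one] at hi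
      subst hi
      exact le_rfl

end Cfsg.Agent.Fus.Gold
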