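import Cfsg.Agent.Lib.Fus.Goldschmidt.Lift
import Cfsg.Agent.Lib.Fus.Goldschmidt.Engine
import Cfsg.Agent.Lib.Block.KBalance
import Cfsg.Agent.Lib.Grp.Signalizer

/-!
# Several blocks: a strongly embedded subgroup

For a block `(D, E)` let `N` be the normal closure of `E` in `C(D)`.  The subgroup generated by these `N` is
normalised by every `C(a)`, `a ∈ A#`; two of them commute, so it is proper.
-/

set_option autoImplicit false
set_option linter.style.haveILetI false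

namespace Cfsg.Agent.Fus.Gold

open Subgroup Cfsg.Agent.Grp
open scoped Pointwise commutatorElement

universe u

variable {G : Type u} [Group G] [Finite G]

/-- The normal closure of `E` in `C(D)`. -/
def blockN (p : Subgroup G × Subgroup G) : Subgroup G :=
  closure {x | ∃ c ∈ centralizer (p.1 : Set G), ∃ e ∈ p.2, c * e * c⁻¹ = x}

theorem blk_conj_mem {p : Subgroup G × Subgroup G} {c e : G} (hc : c ∈ centralizer (p.1 : Set G)) (he : e ∈ p.2) :
    c * e * c⁻¹ ∈ blockN p :=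
  subset_closure ⟨c, hc, e, he, rfl⟩

theorem le_blockN (p : Subgroup G × Subgroup G) : p.2 ≤ blockN p := fun e he =>
  by simpa using blk_conj_mem (p := p) (one_mem _) he

theorem blk_mem_normalizer {N : Subgroup G} {g : G} (h : ∀ x ∈ N, g * x * g⁻¹ ∈ N) :
    g ∈ normalizer (N : Set G) :=
  mem_normalizer_fintype h

theorem blk_mem_normalizer_of_closure {s : Set G} {g : G} (h : ∀ x ∈ s, g * x * g⁻¹ ∈ closure s) :
    g ∈ normalizer (closure s : Set G) := by
  refine blk_mem_normalizer fun x hx => ?_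
  refine closure_induction (p := fun x _ => g * x * g⁻¹ ∈ closure s) h ?_ ?_ ?_ hx
  · simp
  · intro a b _ _ ha hb
    simpa [mul_assoc] using mul_mem ha hb
  · intro a _ ha
    simpa [mul_assoc] using inv_mem ha

theorem centralizer_le_normalizer_blockN (p : Subgroup G × Subgroup G) :
    centralizer (p.1 : Set G) ≤ normalizer (blockN p : Set G) := by
  intro g hg
  refine blk_mem_normalizer_of_closure ?_
  rintro _ ⟨c, hc, e, he, rfl⟩
  rw [show g * (c * e * c⁻¹) * g⁻¹ = (g * c) * e * (g * c)⁻¹ by group]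
  exact blk_conj_mem (mul_mem hg hc) he

theorem blk_card_le_sup {D E : Subgroup G} (h : D ⊓ E = ⊥) :
    Nat.card D * Nat.card E ≤ Nat.card ↥(D ⊔ E) := by
  rw [← Nat.card_prod]
  refine Nat.card_le_card_of_injective
    (fun v : ↥D × ↥E => (⟨v.1 * v.2, mul_mem_sup v.1.2 v.2.2⟩ : ↥(D ⊔ E))) fun a b e => ?_
  exact mul_injective_of_disjoint (disjoint_iff.2 h) (congrArg Subtype.val e)

theorem blk_normalizes_centralizer {K : Subgroup G} {g : G} (hg : g ∈ normalizer (K : Set G)) :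
    g ∈ normalizer (centralizer (K : Set G) : Set G) := by
  refine blk_mem_normalizer fun x hx => mem_centralizer_iff.2 fun k hk => ?_
  have h1 : g⁻¹ * k * g ∈ K := by simpa using (mem_normalizer_iff.1 (inv_mem hg) k).1 hk
  calc k * (g * x * g⁻¹) = g * ((g⁻¹ * k * g) * x) * g⁻¹ := by group
    _ = g * (x * (g⁻¹ * k * g)) * g⁻¹ := by rw [mem_centralizer_iff.1 hx _ h1]
    _ = g * x * g⁻¹ * k := by group

namespace Setup

variable (s : Setup G)

/-- A conjugate of a part of `A` inside `H ⊇ A` is moved into `A` by an element of `H`. -/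
theorem exists_conj_into {H : Subgroup G} (hAH : s.A ≤ H) {W : Subgroup G} (hW : W ≤ s.A) {g : G}
    (hg : ∀ x ∈ W, g * x * g⁻¹ ∈ H) :
    ∃ h ∈ H, ∀ x ∈ W, h * g * x * (h * g)⁻¹ ∈ s.A := by
  haveI : Fact (Nat.Prime 2) := ⟨Nat.prime_two⟩
  have hle : W.map (MulAut.conj g).toMonoidHom ≤ H := by
    rintro _ ⟨x, hx, rfl⟩; exact hg x hx
  have hA2 : IsPGroup 2 ↥s.A := Grp.elemAb_isPGroup s.elem
  have hA' : IsPGroup 2 ↥(s.A.subgroupOf H) :=
    hA2.of_injective (subgroupOfEquivOfLe hAH).toMonoidHom (subgroupOfEquivOfLe hAH).injective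
  have hW' : IsPGroup 2 ↥((W.map (MulAut.conj g).toMonoidHom).subgroupOf H) :=
    ((hA2.to_le hW).map _).of_injective (subgroupOfEquivOfLe hle).toMonoidHom (subgroupOfEquivOfLe hle).injective
  obtain ⟨P, hP⟩ := hA'.exists_le_sylow
  obtain ⟨Q, hQ⟩ := hW'.exists_le_sylow
  obtain ⟨h, hh⟩ := MulAction.exists_smul_eq ↥H Q P
  refine ⟨h, h.2, fun x hx => s.closed_in (T := (P : Subgroup ↥H).map H.subtype) (P.isPGroup'.map _) ?_ (hW hx) ?_⟩
  · exact fun a ha => ⟨⟨a, hAH ha⟩, hP (mem_subgroupOf.2 ha), rfl⟩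
  · have hm : (⟨g * x * g⁻¹, hg x hx⟩ : ↥H) ∈ (Q : Subgroup ↥H) := hQ (mem_subgroupOf.2 ⟨x, hx, rfl⟩)
    rw [← hh, Sylow.coe_subgroup_smul, ← Grp.map_conj_eq_smul]
    exact ⟨h * ⟨g * x * g⁻¹, hg x hx⟩ * h⁻¹, ⟨_, hm, rfl⟩, by simp [mul_assoc]⟩

theorem le_centralizer_of_le {D : Subgroup G} (hD : D ≤ s.A) : s.A ≤ centralizer (D : Set G) := fun _ ha =>
  mem_centralizer_iff.2 fun _ hd => s.comm (hD hd) ha

theorem proj_conj {b c x : G} (hc : c ∈ centralizer ({b} : Set G)) (hx : x ∈ centralizer ({b} : Set G)) :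
    proj b ⟨c * x * c⁻¹, mul_mem (mul_mem hc hx) (inv_mem hc)⟩ =
      proj b ⟨c, hc⟩ * proj b ⟨x, hx⟩ * (proj b ⟨c, hc⟩)⁻¹ := by
  rw [← map_inv, ← map_mul, ← map_mul]
  rfl

end Setup

theorem mem_centralizerPPrimeCore_of_proj {b x : G} (hx : x ∈ centralizer ({b} : Set G))
    (h : proj b ⟨x, hx⟩ = 1) : x ∈ Cfsg.centralizerPPrimeCore 2 b :=
  ⟨⟨x, hx⟩, (QuotientGroup.eq_one_iff _).1 h, rfl⟩

theorem proj_eq_one {b x : G} (h : x ∈ Cfsg.centralizerPPrimeCore 2 b) (hx : x ∈ centralizer ({b} : Set G)) :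
    proj b ⟨x, hx⟩ = 1 := by
  obtain ⟨y, hy, rfl⟩ := h
  exact (QuotientGroup.eq_one_iff _).2 hy

theorem pre_conj_mem {b c x : G} {K : Subgroup (Cq b)} (hc : c ∈ centralizer ({b} : Set G))
    (hn : proj b ⟨c, hc⟩ ∈ normalizer (K : Set (Cq b))) (hx : x ∈ pre b K) : c * x * c⁻¹ ∈ pre b K := by
  obtain ⟨hxC, hxK⟩ := mem_pre.1 hx
  refine mem_pre.2 ⟨mul_mem (mul_mem hc hxC) (inv_mem hc), ?_⟩
  rw [Setup.proj_conj hc hxC]
  exact (mem_normalizer_iff.1 hn _).1 hxK

theorem proj_comm_of_mem {b x y : G} {K : Subgroup (Cq b)} (hx : x ∈ pre b K)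
    (hy : y ∈ pre b (centralizer (K : Set (Cq b)))) (hC : ⁅x, y⁆ ∈ centralizer ({b} : Set G)) :
    proj b ⟨⁅x, y⁆, hC⟩ = 1 := by
  obtain ⟨hxC, hxK⟩ := mem_pre.1 hx
  obtain ⟨hyC, hyK⟩ := mem_pre.1 hy
  rw [show (⟨⁅x, y⁆, hC⟩ : ↥(centralizer ({b} : Set G))) = ⁅(⟨x, hxC⟩ : ↥(centralizer ({b} : Set G))), ⟨y, hyC⟩⁆
    from rfl, map_commutatorElement]
  exact commutatorElement_eq_one_iff_mul_comm.2 (mem_centralizer_iff.1 hyK _ hxK)

section Block

variable (s : Setup G) {D E : Subgroup G} (hDA : D ≤ s.A) (hEA : E ≤ s.A) (hint : D ⊓ E = ⊥) (hsup : D ⊔ E = s.A)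

include hDA hEA hint hsup

theorem le_normalizer_of_parts {b : G} (hb : b ∈ s.A) {K : Subgroup (Cq b)} (hd : dPart s.A b K = D)
    (he : ePart s.A b K = E) {a : G} (ha : a ∈ s.A) :
    proj b ⟨a, s.le_centralizer hb ha⟩ ∈ normalizer (K : Set (Cq b)) := by
  have h : s.A ≤ (((normalizer (K : Set (Cq b))).comap (proj b)).map (centralizer ({b} : Set G)).subtype) := by
    rw [← hsup]
    refine sup_le (fun d hdd => ?_) fun e hee => ?_
    · obtain ⟨hdC, hdK⟩ := mem_pre.1 ((hd ▸ hdd : d ∈ dPart s.A b K).2)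
      exact ⟨⟨d, hdC⟩, centralizer_le_normalizer _ hdK, rfl⟩
    · obtain ⟨heC, heK⟩ := mem_pre.1 ((he ▸ hee : e ∈ ePart s.A b K).2)
      exact ⟨⟨e, heC⟩, le_normalizer heK, rfl⟩
  obtain ⟨w, hw, hwa⟩ := h ha
  have : w = ⟨a, s.le_centralizer hb ha⟩ := Subtype.ext hwa
  exact this ▸ hw

/-- The centralizer of a part of index at most two of `D` fixes the component of the block. -/
theorem fixes_component {D' : Subgroup G} (hD' : D' ≤ D) (hidx : Nat.card D ≤ 2 * Nat.card D') {b : G}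
    (hbD : b ∈ D') (hb1 : b ≠ 1) {K : Subgroup (Cq b)} (hK : Moved s.A b K) (hd : dPart s.A b K = D)
    (he : ePart s.A b K = E) {c : G} (hc : c ∈ centralizer (D' : Set G)) (hcb : c ∈ centralizer ({b} : Set G)) :
    proj b ⟨c, hcb⟩ ∈ normalizer (K : Set (Cq b)) := by
  have hbA : b ∈ s.A := hDA (hD' hbD)
  set cb := proj b ⟨c, hcb⟩ with hcbd
  rw [Grp.mem_normalizer_iff_smul]
  by_contra hne
  set K' : Subgroup (Cq b) := MulAut.conj cb • K with hK'
  have hK'c : Cfsg.IsComponent K' := by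
    rw [hK', ← Grp.map_conj_eq_smul]; exact IsComponent.conj hK.1 cb
  have hmemK' : ∀ y, y ∈ K' → cb⁻¹ * y * cb ∈ K := by
    intro y hy
    rw [hK', ← Grp.map_conj_eq_smul] at hy
    obtain ⟨k, hk, rfl⟩ := hy
    simpa [mul_assoc] using hk
  have hDsub : D' ⊔ E ≤ dPart s.A b K' := by
    refine sup_le (fun d hdd => ?_) ?_
    · refine ⟨hDA (hD' hdd), mem_pre.2 ⟨s.le_centralizer hbA (hDA (hD' hdd)), mem_centralizer_iff.2 fun y hy => ?_⟩⟩
      obtain ⟨hdC, hdK⟩ := mem_pre.1 ((hd ▸ hD' hdd : d ∈ dPart s.A b K).2)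
      have hcd : cb * proj b ⟨d, hdC⟩ = proj b ⟨d, hdC⟩ * cb := by
        rw [hcbd, ← map_mul, ← map_mul]
        exact congrArg (proj b) (Subtype.ext (mem_centralizer_iff.1 hc d hdd).symm)
      have h1 := mem_centralizer_iff.1 hdK _ (hmemK' y hy)
      show y * proj b ⟨d, hdC⟩ = proj b ⟨d, hdC⟩ * y
      calc y * proj b ⟨d, hdC⟩ = cb * ((cb⁻¹ * y * cb) * (cb⁻¹ * proj b ⟨d, hdC⟩ * cb)) * cb⁻¹ := by group
        _ = cb * ((cb⁻¹ * y * cb) * proj b ⟨d, hdC⟩) * cb⁻¹ := by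
          rw [show cb⁻¹ * proj b ⟨d, hdC⟩ * cb = proj b ⟨d, hdC⟩ by
            rw [mul_assoc, ← hcd, inv_mul_cancel_left]]
        _ = cb * (proj b ⟨d, hdC⟩ * (cb⁻¹ * y * cb)) * cb⁻¹ := by rw [h1]
        _ = (cb * proj b ⟨d, hdC⟩) * cb⁻¹ * y := by group
        _ = proj b ⟨d, hdC⟩ * y := by rw [hcd, mul_inv_cancel_right]
    · exact he ▸ orth s hbA hb1 hK'c hK.1 hne
  by_cases hm : Moved s.A b K'
  · have h4 := four s hbA hb1 hm
    have hc2 : Nat.card D * Nat.card E = Nat.card s.A := by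
      refine le_antisymm (hsup ▸ blk_card_le_sup hint) ?_
      rw [← Nat.card_prod]
      refine Nat.card_le_card_of_surjective
        (fun v : ↥D × ↥E => (⟨v.1 * v.2, mul_mem (hDA v.1.2) (hEA v.2.2)⟩ : ↥s.A)) ?_
      rintro ⟨a, ha⟩
      rw [← hsup] at ha
      have hDn : D ≤ normalizer (E : Set G) :=
        ((hDA.trans (s.le_centralizer_of_le hEA))).trans (centralizer_le_normalizer _)
      rw [← SetLike.mem_coe, coe_mul_of_left_le_normalizer_right _ _ hDn] at ha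
      obtain ⟨x, hx, y, hy, rfl⟩ := Set.mem_mul.1 ha
      exact ⟨(⟨x, hx⟩, ⟨y, hy⟩), rfl⟩
    have h5 := card_le_of_le hDsub
    have h6 := blk_card_le_sup (D := D') (E := E) (le_bot_iff.1 (hint ▸ inf_le_inf_right _ hD'))
    have h7 : 0 < Nat.card s.A := Nat.card_pos
    nlinarith [Nat.mul_le_mul_right (Nat.card E) hidx]
  · have hA' : s.A ≤ dPart s.A b K' := by
      by_contra h; exact hm ⟨hK'c, h⟩
    set M := pre b (centralizer (K : Set (Cq b))) ⊓ centralizer (D' : Set G) with hM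
    have hAN : s.A ≤ normalizer (M : Set G) := by
      intro a ha
      refine blk_mem_normalizer fun x hx => mem_inf.2 ⟨pre_conj_mem (s.le_centralizer hbA ha)
        (blk_normalizes_centralizer (le_normalizer_of_parts s hDA hEA hint hsup hbA hd he ha)) hx.1, ?_⟩
      have haD := s.le_centralizer_of_le (hD'.trans hDA) ha
      exact mul_mem (mul_mem haD hx.2) (inv_mem haD)
    have hin : ∀ a ∈ s.A, c⁻¹ * a * c⁻¹⁻¹ ∈ M := by
      intro a ha
      obtain ⟨haC, haK⟩ := mem_pre.1 (hA' ha).2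
      refine mem_inf.2 ⟨mem_pre.2 ⟨mul_mem (mul_mem (inv_mem hcb) haC) (inv_mem (inv_mem hcb)), ?_⟩,
        mul_mem (mul_mem (inv_mem hc) (s.le_centralizer_of_le (hD'.trans hDA) ha)) (inv_mem (inv_mem hc))⟩
      rw [Setup.proj_conj (inv_mem hcb) haC, show proj b ⟨c⁻¹, inv_mem hcb⟩ = cb⁻¹ by rw [hcbd, ← map_inv]; rfl]
      refine mem_centralizer_iff.2 fun k hk => ?_
      have hk' : cb * k * cb⁻¹ ∈ K' := by
        rw [hK', ← Grp.map_conj_eq_smul]; exact ⟨k, hk, rfl⟩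
      have h1 := mem_centralizer_iff.1 haK _ hk'
      calc k * (cb⁻¹ * proj b ⟨a, haC⟩ * cb⁻¹⁻¹)
          = cb⁻¹ * ((cb * k * cb⁻¹) * proj b ⟨a, haC⟩) * cb := by group
        _ = cb⁻¹ * (proj b ⟨a, haC⟩ * (cb * k * cb⁻¹)) * cb := by rw [h1]
        _ = cb⁻¹ * proj b ⟨a, haC⟩ * cb⁻¹⁻¹ * k := by group
    obtain ⟨h, hh, hconj⟩ := s.exists_conj_into (H := M ⊔ s.A) le_sup_right le_rfl (g := c⁻¹)
      fun a ha => mem_sup_left (hin a ha)
    have hhN : h ∈ normalizer (M : Set G) := sup_le le_normalizer hAN hh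
    let f : ↥s.A → ↥(s.A ⊓ M) := fun a => ⟨h * c⁻¹ * a * (h * c⁻¹)⁻¹, hconj a a.2, by
      have := (mem_normalizer_iff.1 hhN _).1 (hin a a.2)
      simpa [mul_assoc] using this⟩
    have hf : Function.Injective f := fun x y e => Subtype.ext (by
      have h1 : h * c⁻¹ * (x : G) * (h * c⁻¹)⁻¹ = h * c⁻¹ * y * (h * c⁻¹)⁻¹ := congrArg Subtype.val e
      exact mul_left_cancel (mul_right_cancel h1))
    have hAM : s.A ⊓ M = s.A := eq_of_le_of_card_ge inf_le_left (Nat.card_le_card_of_injective f hf)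
    exact hK.2 fun a ha => ⟨ha, ((hAM.symm ▸ ha : a ∈ s.A ⊓ M).2).1⟩

variable (hmax : ∀ b ∈ D, b ≠ 1 → ∃ K, Moved s.A b K ∧ dPart s.A b K = D ∧ ePart s.A b K = E)

include hmax

/-- The centralizer of a part of index two of `D` normalises the normal closure of `E` in `C(D)`. -/
theorem centralizer_part_le {D' : Subgroup G} (hD' : D' ≤ D) (hidx : Nat.card D ≤ 2 * Nat.card D')
    (hD'1 : D' ≠ ⊥) (hΔ : Cfsg.signalizerDelta 2 D' = ⊥) :
    centralizer (D' : Set G) ≤ normalizer (blockN (D, E) : Set G) ∧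
      blockN (D, E) ≤ centralizer (D : Set G) ∧
      ∀ b ∈ D', b ≠ 1 → ∃ K, Moved s.A b K ∧ dPart s.A b K = D ∧ ePart s.A b K = E ∧ blockN (D, E) ≤ pre b K := by
  choose L hL hLd hLe using hmax
  set U : Subgroup G := centralizer (D' : Set G) ⊓
    ⨅ b : {b : G // b ∈ D' ∧ b ≠ 1}, pre (b : G) (L b (hD' b.2.1) b.2.2) with hU
  have hCb : ∀ c ∈ centralizer (D' : Set G), ∀ b ∈ D', c ∈ centralizer ({b} : Set G) := fun c hc b hb =>
    mem_centralizer_singleton_iff.2 (mem_centralizer_iff.1 hc b hb).symm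
  have hUn : centralizer (D' : Set G) ≤ normalizer (U : Set G) := by
    intro c hc
    refine blk_mem_normalizer fun x hx => mem_inf.2 ⟨mul_mem (mul_mem hc hx.1) (inv_mem hc), mem_iInf.2 fun b => ?_⟩
    exact pre_conj_mem (hCb c hc b b.2.1) (fixes_component s hDA hEA hint hsup hD' hidx b.2.1 b.2.2
      (hL _ _ _) (hLd _ _ _) (hLe _ _ _) hc _) (mem_iInf.1 hx.2 b)
  have hCC : centralizer (D : Set G) ≤ centralizer (D' : Set G) := centralizer_le hD'
  have hEU : E ≤ U := fun e he => ⟨hCC (s.le_centralizer_of_le hDA (hEA he)), mem_iInf.2 fun b =>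
    ((hLe (b : G) (hD' b.2.1) b.2.2).symm ▸ he : e ∈ ePart s.A (b : G) (L b (hD' b.2.1) b.2.2)).2⟩
  have hNU : blockN (D, E) ≤ U := by
    refine (closure_le _).2 ?_
    rintro _ ⟨c, hc, e, he, rfl⟩
    exact (mem_normalizer_iff.1 (hUn (hCC hc)) e).1 (hEU he)
  have hUD : U ≤ centralizer (D : Set G) := by
    intro x hx
    refine mem_centralizer_iff.2 fun d hd => ?_
    have h1 : ⁅x, d⁆ ∈ Cfsg.signalizerDelta 2 D' := by
      refine mem_iInf.2 fun b => ?_
      have hbA := hDA (hD' b.2.1)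
      have hdpre : d ∈ pre (b : G) (centralizer (L b (hD' b.2.1) b.2.2 : Set (Cq (b : G)))) :=
        ((hLd (b : G) (hD' b.2.1) b.2.2).symm ▸ hd : d ∈ dPart s.A (b : G) (L b (hD' b.2.1) b.2.2)).2
      have hC : ⁅x, d⁆ ∈ centralizer ({(b : G)} : Set G) := by
        rw [commutatorElement_def]
        exact mul_mem (mul_mem (mul_mem (hCb x hx.1 b b.2.1) (s.le_centralizer hbA (hDA hd)))
          (inv_mem (hCb x hx.1 b b.2.1))) (inv_mem (s.le_centralizer hbA (hDA hd)))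
      exact mem_centralizerPPrimeCore_of_proj hC (proj_comm_of_mem (mem_iInf.1 hx.2 b) hdpre hC)
    rw [hΔ, mem_bot] at h1
    exact (commutatorElement_eq_one_iff_mul_comm.1 h1).symm
  refine ⟨fun c hc => blk_mem_normalizer_of_closure ?_, hNU.trans hUD, fun b hb hb1 =>
    ⟨L b (hD' hb) hb1, hL _ _ _, hLd _ _ _, hLe _ _ _,
      hNU.trans (inf_le_right.trans (iInf_le_of_le ⟨b, hb, hb1⟩ le_rfl))⟩⟩
  rintro _ ⟨c', hc', e, he, rfl⟩
  set g := c * c' with hg
  have hgU : g * e * g⁻¹ ∈ U := (mem_normalizer_iff.1 (hUn (mul_mem hc (hCC hc'))) e).1 (hEU he)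
  rw [show c * (c' * e * c'⁻¹) * c⁻¹ = g * e * g⁻¹ by rw [hg]; group]
  obtain ⟨h, hh, hconj⟩ := s.exists_conj_into (H := U ⊔ s.A) le_sup_right
    (W := zpowers e) (zpowers_le.2 (hEA he)) (g := g) fun x hx => by
      obtain ⟨i, rfl⟩ := mem_zpowers_iff.1 hx
      rw [← conj_zpow]
      exact mem_sup_left (zpow_mem hgU i)
  have hAC' : s.A ≤ centralizer (D' : Set G) := (s.le_centralizer_of_le hDA).trans hCC
  have hhN : h ∈ normalizer (U : Set G) := sup_le le_normalizer (hAC'.trans hUn) hh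
  have hhD : h ∈ centralizer (D : Set G) := sup_le hUD (s.le_centralizer_of_le hDA) hh
  obtain ⟨⟨b0, hb0⟩, hb01⟩ := D'.ne_bot_iff_exists_ne_one.1 hD'1
  have hb01' : b0 ≠ 1 := fun e' => hb01 (Subtype.ext e')
  have hE : h * g * e * (h * g)⁻¹ ∈ E := by
    have h1 := hconj e (mem_zpowers e)
    have h2 : h * (g * e * g⁻¹) * h⁻¹ ∈ U := (mem_normalizer_iff.1 hhN _).1 hgU
    rw [show h * (g * e * g⁻¹) * h⁻¹ = h * g * e * (h * g)⁻¹ by group] at h2
    rw [← hLe b0 (hD' hb0) hb01']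
    exact ⟨h1, mem_iInf.1 h2.2 ⟨b0, hb0, hb01'⟩⟩
  have := blk_conj_mem (p := (D, E)) (inv_mem hhD) hE
  rwa [show h⁻¹ * (h * g * e * (h * g)⁻¹) * h⁻¹⁻¹ = g * e * g⁻¹ by group] at this

end Block

/-- Several blocks: there is a strongly embedded subgroup. -/
theorem blocks {G : Type u} [Group G] [Finite G] (s : Setup G) {e : ℕ} (he : 2 ≤ e)
    (P : Set (Subgroup G × Subgroup G)) (h3 : 3 ≤ P.ncard) (hcard : (2 ^ e) ^ P.ncard = Nat.card s.A)
    (hA : ∀ p ∈ P, p.1 ≤ s.A ∧ p.2 ≤ s.A ∧ p.1 ⊓ p.2 = ⊥ ∧ p.1 ⊔ p.2 = s.A ∧ Nat.card p.2 = 2 ^ e)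
    (hoth : ∀ p ∈ P, ∀ q ∈ P, p ≠ q → q.2 ≤ p.1)
    (hgen : (⨆ p ∈ P, p.2) = s.A)
    (hmax : ∀ p ∈ P, ∀ b ∈ p.1, b ≠ 1 → ∃ K, Moved s.A b K ∧ dPart s.A b K = p.1 ∧ ePart s.A b K = p.2)
    (hblk : ∀ a ∈ s.A, a ≠ 1 → ∀ K, Moved s.A a K → ∃ p ∈ P, ePart s.A a K ≤ p.2 ∧ p.1 ≤ dPart s.A a K) :
    ∃ H : Subgroup G, Cfsg.IsStronglyEmbedded H := by
  haveI : Fact (Nat.Prime 2) := ⟨Nat.prime_two⟩
  haveI := s.simple
  have hfin : P.Finite := Set.toFinite P
  have hcardD : ∀ p ∈ P, Nat.card p.1 * 2 ^ e = Nat.card s.A := by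
    intro p hp
    obtain ⟨h1, h2, hint, hsup, hc⟩ := hA p hp
    refine le_antisymm (by rw [← hc]; exact hsup ▸ blk_card_le_sup hint) ?_
    rw [← hc, ← Nat.card_prod]
    refine Nat.card_le_card_of_surjective
      (fun v : ↥p.1 × ↥p.2 => (⟨v.1 * v.2, mul_mem (h1 v.1.2) (h2 v.2.2)⟩ : ↥s.A)) ?_
    rintro ⟨a, ha⟩
    rw [← hsup] at ha
    have hDn : p.1 ≤ normalizer (p.2 : Set G) :=
      ((h1.trans (s.le_centralizer_of_le h2))).trans (centralizer_le_normalizer _)
    rw [← SetLike.mem_coe, coe_mul_of_left_le_normalizer_right _ _ hDn] at ha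
    obtain ⟨x, hx, y, hy, rfl⟩ := Set.mem_mul.1 ha
    exact ⟨(⟨x, hx⟩, ⟨y, hy⟩), rfl⟩
  have hA3 : 2 ^ (e + e + e) ≤ Nat.card s.A := by
    rw [← hcard, ← pow_mul]
    refine Nat.pow_le_pow_right two_pos ?_
    calc e + e + e = e * 3 := by ring
      _ ≤ e * P.ncard := Nat.mul_le_mul_left e h3
  have hD2 : ∀ p ∈ P, 2 ^ (e + e) ≤ Nat.card p.1 := by
    intro p hp
    have h1 := hcardD p hp
    refine Nat.le_of_mul_le_mul_right (c := 2 ^ e) ?_ (pow_pos two_pos _)
    rw [h1, ← pow_add]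
    exact hA3
  have hsmall : ∀ a ∈ s.A, a ≠ 1 → ∀ K, Moved s.A a K →
      Nat.card s.A < 2 ^ (e + 1) * Nat.card ↥(dPart s.A a K) := by
    intro a ha ha1 K hK
    obtain ⟨p, hp, -, hle⟩ := hblk a ha ha1 K hK
    have h1 := hcardD p hp
    have h2 := card_le_of_le hle
    have h5 : 0 < Nat.card s.A := Nat.card_pos
    rw [pow_succ]
    nlinarith [Nat.mul_le_mul_right (2 ^ e) h2]
  have hbig : ∀ a ∈ s.A, a ≠ 1 → ∀ K, Moved s.A a K → 2 ^ (e + 1 + 1) ≤ Nat.card ↥(dPart s.A a K) := by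
    intro a ha ha1 K hK
    obtain ⟨p, hp, -, hle⟩ := hblk a ha ha1 K hK
    exact ((Nat.pow_le_pow_right two_pos (by omega)).trans (hD2 p hp)).trans (card_le_of_le hle)
  rcases engine s (r := e + 1) (by omega)
    (le_trans (Nat.pow_le_pow_right two_pos (by omega)) hA3) hsmall hbig with hse | hΔ
  · exact hse
  -- centralizers of large parts of a block
  have hpart : ∀ p ∈ P, ∀ D' : Subgroup G, D' ≤ p.1 → Nat.card p.1 ≤ 2 * Nat.card D' →
      centralizer (D' : Set G) ≤ normalizer (blockN p : Set G) ∧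
        blockN p ≤ centralizer (p.1 : Set G) ∧
        ∀ b ∈ D', b ≠ 1 → ∃ K, Moved s.A b K ∧ dPart s.A b K = p.1 ∧ ePart s.A b K = p.2 ∧ blockN p ≤ pre b K := by
    intro p hp D' hD' hidx
    obtain ⟨h1, h2, hint, hsup, -⟩ := hA p hp
    have hr : 2 ^ (e + 1) ≤ Nat.card D' := by
      have h5 : 2 ^ (e + 2) ≤ Nat.card p.1 := (Nat.pow_le_pow_right two_pos (by omega)).trans (hD2 p hp)
      rw [pow_succ] at h5
      omega
    exact centralizer_part_le s h1 h2 hint hsup (hmax p hp) hD' hidx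
      (ne_bot_of_card (p := 2) (Nat.succ_ne_zero _) hr) (hΔ D' (hD'.trans h1) hr)
  have hfull : ∀ p ∈ P, blockN p ≤ centralizer (p.1 : Set G) ∧
      ∀ b ∈ p.1, b ≠ 1 → ∃ K, Moved s.A b K ∧ dPart s.A b K = p.1 ∧ ePart s.A b K = p.2 ∧ blockN p ≤ pre b K :=
    fun p hp => (hpart p hp p.1 le_rfl (by omega)).2
  have hAn : ∀ p ∈ P, s.A ≤ normalizer (blockN p : Set G) := fun p hp =>
    (s.le_centralizer_of_le (hA p hp).1).trans (centralizer_le_normalizer_blockN p)
  -- two blocks commute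
  have hcomm : ∀ p ∈ P, ∀ q ∈ P, p ≠ q → ∀ x ∈ blockN p, ∀ y ∈ blockN q, x * y = y * x := by
    intro p hp q hq hpq
    obtain ⟨l, hl, hlp, hlq⟩ : ∃ l ∈ P, l ≠ p ∧ l ≠ q := by
      by_contra h
      push_neg at h
      have hsub : P ⊆ {p, q} := fun l hl => by
        by_cases hlp : l = p
        · exact Or.inl hlp
        · exact Or.inr (h l hl hlp)
      have h1 := Set.ncard_le_ncard hsub (Set.toFinite _)
      have h2 := Set.ncard_pair hpq
      omega
    obtain ⟨hl1, hl2, -, -, hlc⟩ := hA l hl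
    obtain ⟨hp1, hp2, hpint, hpsup, hpc⟩ := hA p hp
    have hlDp : l.2 ≤ p.1 := hoth p hp l hl hlp.symm
    have hlDq : l.2 ≤ q.1 := hoth q hq l hl hlq.symm
    have hpDq : p.2 ≤ q.1 := hoth q hq p hp hpq.symm
    set Y := ⁅blockN p, blockN q⁆ with hY
    have hNc : ∀ d ∈ l.2, blockN p ≤ centralizer ({d} : Set G) ∧ blockN q ≤ centralizer ({d} : Set G) :=
      fun d hd => ⟨fun x hx => mem_centralizer_singleton_iff.2 (mem_centralizer_iff.1 ((hfull p hp).1 hx) d (hlDp hd)).symm,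
        fun x hx => mem_centralizer_singleton_iff.2 (mem_centralizer_iff.1 ((hfull q hq).1 hx) d (hlDq hd)).symm⟩
    have hYcore : ∀ d ∈ l.2, d ≠ 1 → Y ≤ Cfsg.centralizerPPrimeCore 2 d := by
      intro d hd hd1
      obtain ⟨Kp, hKp, hKpd, -, hNp⟩ := (hfull p hp).2 d (hlDp hd) hd1
      obtain ⟨Kq, hKq, hKqd, -, hNq⟩ := (hfull q hq).2 d (hlDq hd) hd1
      have hne : Kp ≠ Kq := by
        intro h
        have hD : p.1 = q.1 := by rw [← hKpd, ← hKqd, h]
        have : p.2 ≤ p.1 := hD ▸ hpDq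
        have h4 : Nat.card p.2 = 1 := by
          rw [← inf_eq_right.2 this, hpint, Subgroup.card_bot]
        rw [hpc] at h4
        have h5 : 2 ^ 2 ≤ 2 ^ e := Nat.pow_le_pow_right two_pos he
        omega
      rw [hY, commutator_le]
      intro x hx y hy
      have hC : ⁅x, y⁆ ∈ centralizer ({d} : Set G) := by
        rw [commutatorElement_def]
        exact mul_mem (mul_mem (mul_mem ((hNc d hd).1 hx) ((hNc d hd).2 hy)) (inv_mem ((hNc d hd).1 hx)))
          (inv_mem ((hNc d hd).2 hy))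
      exact mem_centralizerPPrimeCore_of_proj hC (proj_comm_of_mem (hNp hx)
        (pre_mono d (IsComponent.commute hKq.1 hKp.1 hne.symm) (hNq hy)) hC)
    obtain ⟨⟨d0, hd0⟩, hd01⟩ := l.2.ne_bot_iff_exists_ne_one.1
      (ne_bot_of_card (p := 2) (n := e) (by omega) hlc.ge)
    have hd01' : d0 ≠ 1 := fun h => hd01 (Subtype.ext h)
    have hYodd : ¬ 2 ∣ Nat.card Y := fun h => Nat.prime_two.coprime_iff_not_dvd.1
      (centralizerPPrimeCore_coprime (p := 2) d0).symm (h.trans (card_dvd_of_le (hYcore d0 hd0 hd01')))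
    have hAY : s.A ≤ normalizer (Y : Set G) := by
      intro a ha
      rw [mem_normalizer_iff_smul, hY, ← map_conj_eq_smul, map_commutator, map_conj_eq_smul, map_conj_eq_smul,
        mem_normalizer_iff_smul.1 (hAn p hp ha), mem_normalizer_iff_smul.1 (hAn q hq ha)]
    -- `Y` centralises the block `q`
    have hYc : Y ≤ centralizer (blockN q : Set G) := by
      refine le_of_hyperplanes (Grp.elemAb_mono s.elem hp2) (ne_bot_of_card (p := 2) (n := e) (by omega) hpc.ge) Y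
        hYodd (hp2.trans hAY) fun H hH hHi => ?_
      have hHc : 2 ≤ Nat.card H := by
        have h1 := card_mul_relIndex hH
        rw [hHi, hpc] at h1
        have h5 : 2 ^ 2 ≤ 2 ^ e := Nat.pow_le_pow_right two_pos he
        omega
      obtain ⟨⟨u, hu⟩, hu1⟩ := H.ne_bot_iff_exists_ne_one.1
        (ne_bot_of_card (p := 2) (n := 1) one_ne_zero (by simpa using hHc))
      have hu1' : u ≠ 1 := fun h => hu1 (Subtype.ext h)
      rintro y ⟨hyY, hyH⟩
      refine mem_centralizer_iff.2 fun k hk => ?_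
      have hyu : y ∈ centralizer ({u} : Set G) :=
        mem_centralizer_singleton_iff.2 (mem_centralizer_iff.1 hyH u hu).symm
      set B := l.2 ⊔ zpowers u with hB
      have hBA : B ≤ s.A := sup_le hl2 (zpowers_le.2 (hp2 (hH hu)))
      have hBq : B ≤ q.1 := sup_le hlDq (zpowers_le.2 (hpDq (hH hu)))
      have hBc : 2 ^ (e + 1) ≤ Nat.card B := by
        have hd : l.2 ⊓ zpowers u = ⊥ := le_bot_iff.1
          (hpint ▸ inf_le_inf hlDp (zpowers_le.2 (hH hu)))
        have h1 := blk_card_le_sup hd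
        rw [hlc, Nat.card_zpowers, s.orderOf_eq (hp2 (hH hu)) hu1'] at h1
        rw [pow_succ]
        exact h1
      have hz : ⁅k, y⁆ ∈ Cfsg.signalizerDelta 2 B := by
        refine mem_iInf.2 fun b => ?_
        obtain ⟨Kq, hKq, hKqd, -, hNq⟩ := (hfull q hq).2 b (hBq b.2.1) b.2.2
        have hkb : k ∈ centralizer ({(b : G)} : Set G) := pre_le _ _ (hNq hk)
        have hyb : y ∈ centralizer ({(b : G)} : Set G) := by
          refine mem_centralizer_singleton_iff.2 ?_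
          have hle : B ≤ centralizer ({y} : Set G) := sup_le
            (fun d hd => by
              by_cases hd1 : d = 1
              · rw [hd1]; exact one_mem _
              · exact mem_centralizer_singleton_iff.2 (centralizerPPrimeCore_commute (hYcore d hd hd1 hyY)).symm)
            (zpowers_le.2 (mem_centralizer_singleton_iff.2 (mem_centralizer_singleton_iff.1 hyu).symm))
          exact (mem_centralizer_singleton_iff.1 (hle b.2.1)).symm
        have hC : ⁅k, y⁆ ∈ centralizer ({(b : G)} : Set G) := by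
          rw [commutatorElement_def]
          exact mul_mem (mul_mem (mul_mem hkb hyb) (inv_mem hkb)) (inv_mem hyb)
        refine mem_centralizerPPrimeCore_of_proj hC (proj_comm_of_mem (hNq hk) ?_ hC)
        exact core_component s (hl2 hd0) hd01' (hBA b.2.1) b.2.2 hKq.1 (hKqd ▸ hlDq hd0)
          ⟨hYcore d0 hd0 hd01' hyY, hyb⟩
      rw [hΔ B hBA hBc, mem_bot] at hz
      exact commutatorElement_eq_one_iff_mul_comm.1 hz
    have hgenc : blockN q ≤ centralizer (blockN p : Set G) := by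
      refine (closure_le _).2 ?_
      rintro _ ⟨c, hc, v, hv, rfl⟩
      refine mem_centralizer_iff.2 fun x hx => ?_
      set u := c * v * c⁻¹ with hu
      have hu2 : u * u = 1 := by
        rw [hu, show c * v * c⁻¹ * (c * v * c⁻¹) = c * (v * v) * c⁻¹ by group,
          s.sq ((hA q hq).2.1 hv), mul_one, mul_inv_cancel]
      have huN : u ∈ blockN q := blk_conj_mem hc hv
      have hy : ⁅x, u⁆ ∈ Y := commutator_mem_commutator hx huN
      have hyu : u * ⁅x, u⁆ = ⁅x, u⁆ * u := mem_centralizer_iff.1 (hYc hy) u huN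
      have hxu : ⁅x, u⁆ * u = x * u * x⁻¹ := by rw [commutatorElement_def]; group
      have hy2 : ⁅x, u⁆ ^ 2 = 1 := by
        calc ⁅x, u⁆ ^ 2 = ⁅x, u⁆ * ⁅x, u⁆ * (u * u) := by rw [hu2, mul_one, pow_two]
          _ = ⁅x, u⁆ * (⁅x, u⁆ * u) * u := by group
          _ = ⁅x, u⁆ * (u * ⁅x, u⁆) * u := by rw [hyu]
          _ = (⁅x, u⁆ * u) * (⁅x, u⁆ * u) := by group
          _ = x * (u * u) * x⁻¹ := by rw [hxu]; group
          _ = 1 := by rw [hu2, mul_one, mul_inv_cancel]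
      have hy1 : ⁅x, u⁆ = 1 := by
        rcases (Nat.dvd_prime Nat.prime_two).1 (orderOf_dvd_of_pow_eq_one hy2) with h | h
        · exact orderOf_eq_one_iff.1 h
        · exact absurd (h ▸ Subgroup.orderOf_dvd_natCard Y hy) hYodd
      exact commutatorElement_eq_one_iff_mul_comm.1 hy1
    exact fun x hx y hy => mem_centralizer_iff.1 (hgenc hy) x hx
  -- the subgroup generated by the blocks
  set M := ⨆ p : P, blockN (p : Subgroup G × Subgroup G) with hM
  have hconjM : ∀ g : G, (∀ p ∈ P, ∀ x ∈ blockN p, g * x * g⁻¹ ∈ M) → g ∈ normalizer (M : Set G) := by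
    intro g h
    refine blk_mem_normalizer fun x hx => ?_
    refine iSup_induction (C := fun y => g * y * g⁻¹ ∈ M) _ hx (fun p y hy => h _ p.2 y hy) (by simp) ?_
    intro a b ha hb
    simpa [mul_assoc] using mul_mem ha hb
  have hinM : ∀ g : G, (∀ p ∈ P, g ∈ normalizer (blockN p : Set G)) → g ∈ normalizer (M : Set G) := fun g h =>
    hconjM g fun p hp x hx => le_iSup (fun p : P => blockN (p : Subgroup G × Subgroup G)) ⟨p, hp⟩
      ((mem_normalizer_iff.1 (h p hp) x).1 hx)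
  have hNA : normalizer (s.A : Set G) ≤ normalizer (M : Set G) := by
    intro g hg
    refine hconjM g fun p hp x hx => ?_
    obtain ⟨hp1, hp2, hpint, hpsup, hpc⟩ := hA p hp
    obtain ⟨⟨b, hb⟩, hb1⟩ := p.1.ne_bot_iff_exists_ne_one.1
      (ne_bot_of_card (p := 2) (n := e + e) (by omega) (hD2 p hp))
    have hb1' : b ≠ 1 := fun h => hb1 (Subtype.ext h)
    obtain ⟨K, hK, hKd, hKe⟩ := hmax p hp b hb hb1'
    obtain ⟨K', hK', hK'd, hK'e⟩ := conj s (hp1 hb) hb1' hg hK
    obtain ⟨q, hq, hqe, hqd⟩ := hblk _ ((mem_normalizer_iff.1 hg b).1 (hp1 hb))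
      (fun h => hb1' (conj_eq_one_iff.1 h)) K' hK'
    rw [hK'e, hKe] at hqe
    rw [hK'd, hKd] at hqd
    have hc1 : Nat.card ↥(p.2.map (MulAut.conj g).toMonoidHom) = Nat.card p.2 :=
      card_map_of_injective (MulAut.conj g).injective
    have hc2 : Nat.card ↥(p.1.map (MulAut.conj g).toMonoidHom) = Nat.card p.1 :=
      card_map_of_injective (MulAut.conj g).injective
    have hqe' : p.2.map (MulAut.conj g).toMonoidHom = q.2 :=
      eq_of_le_of_card_ge hqe (by rw [(hA q hq).2.2.2.2]; exact (hc1.trans hpc).ge)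
    have hqd' : q.1 = p.1.map (MulAut.conj g).toMonoidHom := by
      refine eq_of_le_of_card_ge hqd (hc2.trans_le ?_)
      have h1 := hcardD p hp
      have h2 := hcardD q hq
      exact le_of_eq (Nat.eq_of_mul_eq_mul_right (pow_pos two_pos e) (h1.trans h2.symm))
    refine le_iSup (fun p : P => blockN (p : Subgroup G × Subgroup G)) ⟨q, hq⟩ ?_
    refine closure_induction (p := fun y _ => g * y * g⁻¹ ∈ blockN q) ?_ (by simp) ?_ ?_ hx
    · rintro _ ⟨c, hc, v, hv, rfl⟩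
      rw [show g * (c * v * c⁻¹) * g⁻¹ = (g * c * g⁻¹) * (g * v * g⁻¹) * (g * c * g⁻¹)⁻¹ by group]
      refine blk_conj_mem ?_ (hqe' ▸ ⟨v, hv, rfl⟩)
      rw [hqd']
      refine mem_centralizer_iff.2 ?_
      rintro _ ⟨w, hw, rfl⟩
      show g * w * g⁻¹ * (g * c * g⁻¹) = g * c * g⁻¹ * (g * w * g⁻¹)
      calc g * w * g⁻¹ * (g * c * g⁻¹) = g * (w * c) * g⁻¹ := by group
        _ = g * (c * w) * g⁻¹ := by rw [mem_centralizer_iff.1 hc w hw]
        _ = g * c * g⁻¹ * (g * w * g⁻¹) := by group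
    · intro a b' _ _ ha hb'
      simpa [mul_assoc] using mul_mem ha hb'
    · intro a _ ha
      simpa [mul_assoc] using inv_mem ha
  have hCD : ∀ q ∈ P, centralizer (q.1 : Set G) ≤ normalizer (M : Set G) := by
    intro q hq c hc
    obtain ⟨hq1, hq2, -, hqsup, -⟩ := hA q hq
    have hcN := centralizer_le_normalizer_blockN q hc
    obtain ⟨h, hh, hconj⟩ := s.exists_conj_into (H := blockN q ⊔ s.A) le_sup_right hq2 (g := c)
      fun v hv => mem_sup_left ((mem_normalizer_iff.1 hcN v).1 (le_blockN q hv))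
    have hhC : h ∈ centralizer (q.1 : Set G) := sup_le (hfull q hq).1 (s.le_centralizer_of_le hq1) hh
    have hhc : h * c ∈ normalizer (s.A : Set G) := by
      refine blk_mem_normalizer fun x hx => ?_
      have hle : s.A ≤ s.A.comap (MulAut.conj (h * c)).toMonoidHom := by
        rw [← hqsup]
        refine sup_le (fun d hd => ?_) (fun v hv => ?_)
        · show h * c * d * (h * c)⁻¹ ∈ q.1 ⊔ q.2
          rw [← mem_centralizer_iff.1 (mul_mem hhC hc) d hd, mul_inv_cancel_right]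
          exact mem_sup_left hd
        · show h * c * v * (h * c)⁻¹ ∈ q.1 ⊔ q.2
          rw [hqsup]
          exact hconj v hv
      exact hle hx
    have hhM : h ∈ normalizer (M : Set G) := sup_le
      ((le_iSup (fun p : P => blockN (p : Subgroup G × Subgroup G)) ⟨q, hq⟩).trans le_normalizer)
      (fun a ha => hinM a fun p hp => hAn p hp ha) hh
    have := mul_mem (inv_mem hhM) (hNA hhc)
    rwa [inv_mul_cancel_left] at this
  have hA1 : s.A ≠ ⊥ := s.ne_bot
  have hCa : ∀ a ∈ s.A, a ≠ 1 → centralizer ({a} : Set G) ≤ normalizer (M : Set G) := by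
    intro a ha ha1
    refine (cover s ha ha1).trans (sup_le (sup_le ?_ (iSup_le fun K => ?_)) hNA)
    · refine le_of_hyperplanes s.elem hA1 _ (fun h => Nat.prime_two.coprime_iff_not_dvd.1
        (centralizerPPrimeCore_coprime (p := 2) a).symm h)
        (invariant_iff.1 fun c hc y hy => centralizerPPrimeCore_conj (s.comm hc ha) hy) fun H hH hHi => ?_
      rintro y ⟨-, hy⟩
      refine hinM y fun p hp => (hpart p hp (p.1 ⊓ H) inf_le_left ?_).1 (centralizer_le inf_le_right hy)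
      have h1 := card_mul_relIndex (inf_le_left : p.1 ⊓ H ≤ p.1)
      rw [inf_relIndex_left] at h1
      have h3' : H.relIndex p.1 ≤ 2 :=
        hHi ▸ relIndex_le_of_le_right (hA p hp).1 (by rw [hHi]; exact two_ne_zero)
      rw [← h1, mul_comm 2]
      exact Nat.mul_le_mul_left _ h3'
    · obtain ⟨q, hq, -, hle⟩ := hblk a ha ha1 K.1 K.2
      exact inf_le_left.trans ((centralizer_le hle).trans (hCD q hq))
  by_cases htop : normalizer (M : Set G) = ⊤
  swap
  · exact se_of_proper s htop hCa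
  exfalso
  haveI := normalizer_eq_top_iff.1 htop
  obtain ⟨p, hp⟩ : P.Nonempty := Set.nonempty_of_ncard_ne_zero (by omega)
  rcases IsSimpleGroup.eq_bot_or_eq_top_of_normal M inferInstance with hb | ht
  · have h1 : p.2 ≤ (⊥ : Subgroup G) :=
      hb ▸ (le_blockN p).trans (le_iSup (fun p : P => blockN (p : Subgroup G × Subgroup G)) ⟨p, hp⟩)
    exact ne_bot_of_card (p := 2) (n := e) (by omega) (hA p hp).2.2.2.2.ge (le_bot_iff.1 h1)
  · have hnorm : normalizer (blockN p : Set G) = ⊤ := by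
      refine top_le_iff.1 (ht ▸ iSup_le fun q => ?_)
      by_cases hqp : (q : Subgroup G × Subgroup G) = p
      · rw [hqp]; exact le_normalizer
      · exact (le_centralizer_iff.1 (fun x hx => mem_centralizer_iff.2 fun y hy =>
          (hcomm p hp q q.2 (Ne.symm hqp) x hx y hy).symm)).trans (centralizer_le_normalizer _)
    haveI := normalizer_eq_top_iff.1 hnorm
    rcases IsSimpleGroup.eq_bot_or_eq_top_of_normal (blockN p) inferInstance with hb | ht'
    · have h1 : p.2 ≤ (⊥ : Subgroup G) := hb ▸ le_blockN p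
      exact ne_bot_of_card (p := 2) (n := e) (by omega) (hA p hp).2.2.2.2.ge (le_bot_iff.1 h1)
    · have h1 : p.1 ≤ center G := fun d hd => mem_center_iff.2 fun g =>
        (mem_centralizer_iff.1 ((hfull p hp).1 (ht'.symm ▸ mem_top g)) d hd).symm
      rw [Transfer.CentralFour.center_eq_bot s.nonab] at h1
      exact ne_bot_of_card (p := 2) (n := e + e) (by omega) (hD2 p hp) (le_bot_iff.1 h1)

end Cfsg.Agent.Fus.Gold
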