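import Mathlib

/-!
# Factors on a strongly closed abelian subgroup: the abstract data, the dichotomy, the block case (for S1169)
-/

set_option autoImplicit false

namespace Cfsg.Agent.Fus.Gold

open Subgroup

universe v w

/-- The maximal factors `(D, E)` as pairs of subgroups of `V`, with the action of the automiser `Γ`. -/
structure CombData {V : Type v} [CommGroup V] {Γ : Type w} [Group Γ] [MulDistribMulAction Γ V]
    (e : ℕ) (F : Set (Subgroup V × Subgroup V)) : Prop where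
  sq : ∀ v : V, v * v = 1
  e2 : 2 ≤ e
  nonempty : F.Nonempty
  irred : ∀ W : Subgroup V, (∀ g : Γ, ∀ v ∈ W, g • v ∈ W) → W = ⊥ ∨ W = ⊤
  noTwo : ∀ Δ : Subgroup Γ, (∀ g : Γ, (∀ v : V, g • v = v) → g ∈ Δ) → Δ.index ≠ 2
  conj : ∀ g : Γ, ∀ p ∈ F, (p.1.map (MulDistribMulAction.toMonoidHom V g), p.2.map (MulDistribMulAction.toMonoidHom V g)) ∈ F
  sup : ∀ p ∈ F, p.1 ⊔ p.2 = ⊤
  disj : ∀ p ∈ F, p.1 ⊓ p.2 = ⊥
  card : ∀ p ∈ F, Nat.card p.2 = 2 ^ e
  ne : ∀ p ∈ F, p.1 ≠ ⊥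
  orbit : ∀ p ∈ F, ∀ q ∈ F, ∃ g : Γ, p.1.map (MulDistribMulAction.toMonoidHom V g) = q.1
  trans : ∀ p ∈ F, ∀ x ∈ p.2, ∀ y ∈ p.2, x ≠ 1 → y ≠ 1 →
    ∃ g : Γ, (∀ d ∈ p.1, g • d = d) ∧ (∀ v ∈ p.2, g • v ∈ p.2) ∧ g • x = y
  orth : ∀ p ∈ F, ∀ q ∈ F, p.1 ≠ q.1 → p.1 ⊓ q.1 ≠ ⊥ → q.2 ≤ p.1
  defect : ∀ p ∈ F, ∀ q ∈ F, p.1 = q.1 → p.2 ≠ q.2 → e = 3 ∧
    (∃ Z : Subgroup V, Z ≤ p.1 ∧ Nat.card Z ≤ 4 ∧ q.2 ≤ p.2 ⊔ Z) ∧
    ∀ g : Γ, (∀ d ∈ p.1, g • d = d) → (∀ v : V, (g • g • v) * v ∈ p.1) → ∀ v : V, (g • v) * v ∈ p.1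

section Basic

variable {V : Type v} [CommGroup V] {Γ : Type w} [Group Γ] [MulDistribMulAction Γ V]

/-- The translate of a subgroup. -/
abbrev mp (g : Γ) (W : Subgroup V) : Subgroup V := W.map (MulDistribMulAction.toMonoidHom V g)

theorem smul_inj (g : Γ) : Function.Injective (MulDistribMulAction.toMonoidHom V g) :=
  MulAction.injective g

theorem mem_mp {g : Γ} {W : Subgroup V} {x : V} : g • x ∈ mp g W ↔ x ∈ W :=
  Subgroup.mem_map_iff_mem (smul_inj g)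

theorem mem_mp_iff {g : Γ} {W : Subgroup V} {x : V} : x ∈ mp g W ↔ g⁻¹ • x ∈ W := by
  rw [← mem_mp (g := g) (W := W) (x := g⁻¹ • x), smul_inv_smul]

theorem mp_mul (g h : Γ) (W : Subgroup V) : mp (g * h) W = mp g (mp h W) := by
  ext x
  rw [mem_mp_iff, mem_mp_iff, mem_mp_iff, mul_inv_rev, mul_smul]

theorem mp_one (W : Subgroup V) : mp (1 : Γ) W = W := by
  ext x
  rw [mem_mp_iff, inv_one, one_smul]

theorem mp_inj (g : Γ) {W W' : Subgroup V} (h : mp g W = mp g W') : W = W' :=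
  Subgroup.map_injective (smul_inj g) h

theorem card_mp (g : Γ) (W : Subgroup V) : Nat.card (mp g W) = Nat.card W :=
  Subgroup.card_map_of_injective (smul_inj g)

theorem mp_eq_of_stable [Finite V] {g : Γ} {W : Subgroup V} (h : ∀ x ∈ W, g • x ∈ W) : mp g W = W :=
  Subgroup.eq_of_le_of_card_ge (by rintro _ ⟨x, hx, rfl⟩; exact h x hx) (card_mp g W).ge

theorem prod_inj {P Q : Subgroup V} (h : P ⊓ Q = ⊥) :
    Function.Injective fun x : ↥P × ↥Q => (x.1 : V) * x.2 := by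
  intro x y e
  have e1 : (y.1 : V)⁻¹ * x.1 = y.2 * (x.2 : V)⁻¹ := by
    rw [inv_mul_eq_iff_eq_mul, ← mul_assoc]
    exact eq_mul_inv_iff_mul_eq.2 e
  have e2 : (y.1 : V)⁻¹ * x.1 = 1 :=
    (mem_bot).1 (h ▸ (show (y.1 : V)⁻¹ * x.1 ∈ P ⊓ Q from
      ⟨P.mul_mem (P.inv_mem y.1.2) x.1.2, e1 ▸ Q.mul_mem y.2.2 (Q.inv_mem x.2.2)⟩))
  have e3 := (inv_mul_eq_one.1 e2).symm
  exact Prod.ext (Subtype.ext e3) (Subtype.ext (mul_left_cancel (e.trans (by rw [e3]))))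

theorem card_sup {P Q : Subgroup V} [Finite V] (h : P ⊓ Q = ⊥) :
    Nat.card ↥(P ⊔ Q) = Nat.card P * Nat.card Q := by
  rw [← Nat.card_prod]
  refine (Nat.card_eq_of_bijective (fun z : ↥P × ↥Q =>
    (⟨(z.1 : V) * z.2, Subgroup.mul_mem_sup z.1.2 z.2.2⟩ : ↥(P ⊔ Q))) ⟨fun x y e => prod_inj h (congrArg Subtype.val e),
      fun z => ?_⟩).symm
  obtain ⟨p, hp, q, hq, e⟩ := Subgroup.mem_sup.1 z.2
  exact ⟨(⟨p, hp⟩, ⟨q, hq⟩), Subtype.ext e⟩

end Basic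

namespace CombData

variable {V : Type v} [CommGroup V] {Γ : Type w} [Group Γ] [MulDistribMulAction Γ V]
  {e : ℕ} {F : Set (Subgroup V × Subgroup V)} (h : CombData (Γ := Γ) e F)
include h

theorem inv_eq (x : V) : x⁻¹ = x := inv_eq_of_mul_eq_one_right (h.sq x)

theorem mul_mul_cancel (x y : V) : x * (x * y) = y := by rw [← mul_assoc, h.sq, one_mul]

theorem eq_one_of_DE {p : Subgroup V × Subgroup V} (hp : p ∈ F) {x : V} (hd : x ∈ p.1) (he : x ∈ p.2) : x = 1 :=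
  mem_bot.1 (h.disj p hp ▸ (⟨hd, he⟩ : x ∈ p.1 ⊓ p.2))

theorem decomp {p : Subgroup V × Subgroup V} (hp : p ∈ F) (x : V) : ∃ a ∈ p.1, ∃ b ∈ p.2, a * b = x :=
  mem_sup.1 (h.sup p hp ▸ mem_top x)

theorem decomp_unique {p : Subgroup V × Subgroup V} (hp : p ∈ F) {a a' b b' : V} (ha : a ∈ p.1) (ha' : a' ∈ p.1)
    (hb : b ∈ p.2) (hb' : b' ∈ p.2) (he : a * b = a' * b') : a = a' ∧ b = b' := by
  have h1 := prod_inj (h.disj p hp) (a₁ := (⟨a, ha⟩, ⟨b, hb⟩)) (a₂ := (⟨a', ha'⟩, ⟨b', hb'⟩)) he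
  exact ⟨congrArg (fun z : ↥p.1 × ↥p.2 => (z.1 : V)) h1, congrArg (fun z : ↥p.1 × ↥p.2 => (z.2 : V)) h1⟩

theorem card_mul [Finite V] {p : Subgroup V × Subgroup V} (hp : p ∈ F) : Nat.card p.1 * 2 ^ e = Nat.card V := by
  rw [← h.card p hp, ← card_sup (h.disj p hp), h.sup p hp, Subgroup.card_top]

theorem card_D [Finite V] {p q : Subgroup V × Subgroup V} (hp : p ∈ F) (hq : q ∈ F) :
    Nat.card p.1 = Nat.card q.1 :=
  Nat.eq_of_mul_eq_mul_right (Nat.two_pow_pos e) ((h.card_mul hp).trans (h.card_mul hq).symm)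

theorem four_le_E {p : Subgroup V × Subgroup V} (hp : p ∈ F) : 4 ≤ Nat.card p.2 := by
  rw [h.card p hp]
  exact le_trans (by norm_num) (Nat.pow_le_pow_right two_pos h.e2)

theorem E_ne {p : Subgroup V × Subgroup V} (hp : p ∈ F) : p.2 ≠ ⊥ := fun e => by
  have := h.four_le_E hp
  rw [e, Subgroup.card_bot] at this
  omega

theorem E_ne_top {p : Subgroup V × Subgroup V} (hp : p ∈ F) : p.2 ≠ ⊤ := fun e =>
  h.ne p hp (by have := h.disj p hp; rwa [e, inf_top_eq] at this)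

theorem two_dvd [Finite V] {W : Subgroup V} (hW : W ≠ ⊥) : 2 ∣ Nat.card W := by
  obtain ⟨⟨x, hx⟩, hx1⟩ := W.ne_bot_iff_exists_ne_one.1 hW
  have ho : orderOf x = 2 := orderOf_eq_prime (by rw [pow_two, h.sq]) fun e => hx1 (Subtype.ext e)
  exact ho ▸ Subgroup.orderOf_dvd_natCard W hx

/-- The elements acting trivially on `D` and stabilising `E` fix the pair. -/
theorem mp_fixer [Finite V] {p : Subgroup V × Subgroup V} {g : Γ} (hd : ∀ d ∈ p.1, g • d = d)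
    (hv : ∀ v ∈ p.2, g • v ∈ p.2) : mp g p.1 = p.1 ∧ mp g p.2 = p.2 :=
  ⟨mp_eq_of_stable fun x hx => by rw [hd x hx]; exact hx, mp_eq_of_stable hv⟩

/-- A subgroup with at most two translates is invariant. -/
theorem stable_of_two [Finite V] {W W' : Subgroup V} (hne : W ≠ W')
    (hall : ∀ g : Γ, (mp g W = W ∨ mp g W = W') ∧ (mp g W' = W ∨ mp g W' = W')) :
    ∀ g : Γ, ∀ x ∈ W, g • x ∈ W := by
  intro g x hx
  by_contra hgx
  have hgW : mp g W = W' := (hall g).1.resolve_left fun e => hgx (e ▸ mem_mp.2 hx)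
  let Δ : Subgroup Γ :=
    { carrier := {a | mp a W = W}
      one_mem' := mp_one W
      mul_mem' := fun {a b} ha hb => by
        show mp (a * b) W = W
        rw [mp_mul, hb, ha]
      inv_mem' := fun {a} ha => by
        show mp a⁻¹ W = W
        conv_lhs => rw [← ha, ← mp_mul, inv_mul_cancel, mp_one] }
  refine h.noTwo Δ (fun a ha => mp_eq_of_stable fun y hy => by rw [ha y]; exact hy)
    (Subgroup.index_eq_two_iff.2 ⟨g, fun b => ?_⟩)
  show Xor (mp (b * g) W = W) (mp b W = W)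
  rw [mp_mul, hgW]
  rcases (hall b).1 with e1 | e1 <;> rcases (hall b).2 with e2 | e2
  · exact absurd (mp_inj b (e1.trans e2.symm)) hne
  · exact Or.inr ⟨e1, fun e => hne (e.symm.trans e2)⟩
  · exact Or.inl ⟨e2, fun e => hne (e.symm.trans e1)⟩
  · exact absurd (mp_inj b (e1.trans e2.symm)) hne

/-- Distinct fixed parts meet pairwise or never. -/
theorem dichotomy [Finite V] :
    (∀ p ∈ F, ∀ q ∈ F, p.1 ≠ q.1 → p.1 ⊓ q.1 ≠ ⊥) ∨ ∀ p ∈ F, ∀ q ∈ F, p.1 ≠ q.1 → p.1 ⊓ q.1 = ⊥ := by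
  -- a fixed part is too small to be met and missed
  have hsmall : ∀ p ∈ F, ∀ q ∈ F, ∀ r ∈ F, p.1 ≠ q.1 → p.1 ⊓ q.1 ≠ ⊥ → p.1 ⊓ r.1 = ⊥ → False := by
    intro p hp q hq r hr hne hmeet hmiss
    have hle := h.orth p hp q hq hne hmeet
    have hpos : 0 < Nat.card p.1 := Nat.card_pos
    have h1 : Nat.card p.1 * Nat.card r.1 ≤ Nat.card p.1 * 2 ^ e := by
      rw [h.card_mul hp, ← card_sup hmiss]
      exact Subgroup.card_le_card_group _
    have h2 : Nat.card p.1 ≤ 2 ^ e := h.card_D hr hp ▸ Nat.le_of_mul_le_mul_left h1 hpos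
    have heq : q.2 = p.1 := Subgroup.eq_of_le_of_card_ge hle (by rw [h.card q hq]; exact h2)
    exact hmeet (by rw [← heq, inf_comm]; exact h.disj q hq)
  by_contra hno
  push Not at hno
  obtain ⟨⟨p, hp, q, hq, hpq, hmiss⟩, ⟨r, hr, s, hs, hrs, hmeet⟩⟩ := hno
  -- meeting pairs are transitive
  have htr : ∀ a ∈ F, ∀ b ∈ F, ∀ c ∈ F, a.1 ≠ b.1 → a.1 ⊓ b.1 ≠ ⊥ → c.1 ≠ b.1 → c.1 ⊓ b.1 ≠ ⊥ → a.1 ⊓ c.1 ≠ ⊥ :=
    fun a ha b hb c hc hab hab' hcb hcb' e => h.E_ne hb (le_bot_iff.1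
      (e ▸ le_inf (h.orth a ha b hb hab hab') (h.orth c hc b hb hcb hcb')))
  by_cases hrp : r.1 = p.1
  · exact hsmall r hr s hs q hq hrs hmeet (by rw [hrp]; exact hmiss)
  by_cases h1 : r.1 ⊓ p.1 = ⊥
  · exact hsmall r hr s hs p hp hrs hmeet h1
  by_cases hrq : r.1 = q.1
  · exact h1 (by rw [hrq, inf_comm]; exact hmiss)
  by_cases h2 : r.1 ⊓ q.1 = ⊥
  · exact hsmall r hr s hs q hq hrs hmeet h2
  exact htr p hp r hr q hq (Ne.symm hrp) (by rwa [inf_comm] at h1) (Ne.symm hrq) (by rwa [inf_comm] at h2) hmiss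

/-- Two factors cannot share nothing but the group. -/
theorem exists_other [Finite V] {p : Subgroup V × Subgroup V} (hp : p ∈ F) : ∃ q ∈ F, q.1 ≠ p.1 := by
  by_contra hno
  push Not at hno
  rcases h.irred p.1 fun g x hx => by
    have hg := hno _ (h.conj g p hp)
    exact hg ▸ mem_mp.2 hx with e | e
  · exact h.ne p hp e
  · exact h.E_ne hp (by have := h.disj p hp; rwa [e, top_inf_eq] at this)

/-- The block case. -/
theorem blocks [Finite V] (hall : ∀ p ∈ F, ∀ q ∈ F, p.1 ≠ q.1 → p.1 ⊓ q.1 ≠ ⊥) :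
    (∀ p ∈ F, ∀ q ∈ F, p.1 = q.1 → p = q) ∧ 3 ≤ F.ncard ∧
      (∀ p ∈ F, ∀ q ∈ F, p ≠ q → q.2 ≤ p.1) ∧ (⨆ p ∈ F, p.2) = ⊤ ∧ (2 ^ e) ^ F.ncard = Nat.card V ∧
      (∀ p ∈ F, p.1 = ⨆ q ∈ F, ⨆ _ : q ≠ p, q.2) := by
  classical
  obtain ⟨p₀, hp₀⟩ := h.nonempty
  -- the meet of all the fixed parts is trivial
  have hR : (⨅ q ∈ F, q.1) = ⊥ := by
    refine (h.irred _ fun g x hx => ?_).resolve_right fun e => ?_
    · simp only [Subgroup.mem_iInf] at hx ⊢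
      intro q hq
      have h1 := hx _ (h.conj g⁻¹ q hq)
      rwa [mem_mp_iff, inv_inv] at h1
    · exact h.E_ne hp₀ (eq_bot_iff.2 fun x hx => mem_bot.2 (h.eq_one_of_DE hp₀
        ((biInf_le (fun q : Subgroup V × Subgroup V => q.1) hp₀) (e ▸ mem_top x)) hx))
  -- the moved part is the meet of the other fixed parts
  have hE : ∀ p ∈ F, p.2 = ⨅ q ∈ F, ⨅ _ : q.1 ≠ p.1, q.1 := by
    intro p hp
    have hle : p.2 ≤ ⨅ q ∈ F, ⨅ _ : q.1 ≠ p.1, q.1 :=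
      le_iInf fun q => le_iInf fun hq => le_iInf fun hne => h.orth q hq p hp hne (hall q hq p hp hne)
    refine le_antisymm hle fun x hx => ?_
    obtain ⟨a, ha, b, hb, rfl⟩ := h.decomp hp x
    have hall' : a ∈ ⨅ q ∈ F, q.1 := by
      simp only [Subgroup.mem_iInf] at hx ⊢
      intro q hq
      by_cases hqp : q.1 = p.1
      · rw [hqp]; exact ha
      · have h2 : b ∈ q.1 := h.orth q hq p hp hqp (hall q hq p hp hqp) hb
        exact (Subgroup.mul_mem_cancel_right _ h2).1 (hx q hq hqp)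
    rw [hR] at hall'
    rw [mem_bot.1 hall', one_mul]; exact hb
  have hinj : ∀ p ∈ F, ∀ q ∈ F, p.1 = q.1 → p = q := fun p hp q hq e =>
    Prod.ext e (by rw [hE p hp, hE q hq, e])
  have hoth : ∀ p ∈ F, ∀ q ∈ F, p ≠ q → q.2 ≤ p.1 := fun p hp q hq hne =>
    h.orth p hp q hq (fun e => hne (hinj p hp q hq e)) (hall p hp q hq fun e => hne (hinj p hp q hq e))
  have hsup : (⨆ p ∈ F, p.2) = ⊤ := by
    refine (h.irred _ fun g x hx => ?_).resolve_left fun e => ?_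
    · have h1 : (⨆ p ∈ F, p.2).map (MulDistribMulAction.toMonoidHom V g) ≤ ⨆ p ∈ F, p.2 := by
        simp only [Subgroup.map_iSup, iSup_le_iff]
        exact fun q hq => le_biSup (fun p : Subgroup V × Subgroup V => p.2) (h.conj g q hq)
      exact h1 (Subgroup.mem_map_of_mem _ hx)
    · exact h.E_ne hp₀ (le_bot_iff.1 (e ▸ le_biSup (fun p : Subgroup V × Subgroup V => p.2) hp₀))
  have hfin : F.Finite := Set.toFinite F
  have hothers : ∀ p ∈ F, p.1 = ⨆ q ∈ F, ⨆ _ : q ≠ p, q.2 := by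
    intro p hp
    have hle : (⨆ q ∈ F, ⨆ _ : q ≠ p, q.2) ≤ p.1 :=
      iSup_le fun q => iSup_le fun hq => iSup_le fun hne => hoth p hp q hq hne.symm
    refine le_antisymm (fun x hx => ?_) hle
    have hx' : x ∈ (⨆ q ∈ F, ⨆ _ : q ≠ p, q.2) ⊔ p.2 := by
      refine (?_ : (⊤ : Subgroup V) ≤ _) (mem_top x)
      rw [← hsup]
      refine iSup_le fun q => iSup_le fun hq => ?_
      by_cases hqp : q = p
      · exact hqp ▸ le_sup_right
      · exact le_sup_of_le_left (le_iSup_of_le q (le_iSup_of_le hq (le_iSup_of_le hqp le_rfl)))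
    obtain ⟨a, ha, b, hb, rfl⟩ := mem_sup.1 hx'
    rw [h.eq_one_of_DE hp ((Subgroup.mul_mem_cancel_left _ (hle ha)).1 hx) hb, mul_one]
    exact ha
  have hcard : ∀ T : Finset (Subgroup V × Subgroup V), (↑T : Set _) ⊆ F →
      Nat.card ↥(⨆ p ∈ T, p.2) = (2 ^ e) ^ T.card := by
    intro T
    induction T using Finset.induction_on with
    | empty => simp
    | @insert p T hpT ih =>
      intro hT
      rw [Finset.coe_insert, Set.insert_subset_iff] at hT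
      rw [Finset.iSup_insert, Finset.card_insert_of_notMem hpT, pow_succ', card_sup ?_, ih hT.2, h.card p hT.1]
      refine eq_bot_iff.2 fun x hx => mem_bot.2 (h.eq_one_of_DE hT.1 ?_ hx.1)
      exact (iSup₂_le fun q hq => hoth p hT.1 q (hT.2 hq) fun e => hpT (e ▸ hq) :
        (⨆ q ∈ T, q.2) ≤ p.1) hx.2
  have hV : (2 ^ e) ^ F.ncard = Nat.card V := by
    rw [Set.ncard_eq_toFinset_card F hfin, ← hcard hfin.toFinset (by simp), ← Subgroup.card_top (G := V)]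
    congr 2
    rw [← hsup]
    simp
  refine ⟨hinj, ?_, hoth, hsup, hV, hothers⟩
  by_contra hlt
  obtain ⟨q, hq, hqp⟩ := h.exists_other hp₀
  have h2 : F.ncard = 2 := by
    have : 2 ≤ F.ncard := by
      rw [← Set.ncard_pair (fun e : p₀ = q => hqp (e ▸ rfl))]
      exact Set.ncard_le_ncard (Set.pair_subset hp₀ hq) hfin
    omega
  have hpair : ∀ r ∈ F, r = p₀ ∨ r = q := fun r hr => by
    have : ({p₀, q} : Set _) = F := Set.eq_of_subset_of_ncard_le (Set.pair_subset hp₀ hq)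
      (by rw [h2, Set.ncard_pair (fun e : p₀ = q => hqp (e ▸ rfl))]) hfin
    rw [← this] at hr
    simpa using hr
  rcases h.irred p₀.1 (h.stable_of_two (Ne.symm hqp) fun g =>
    ⟨(hpair _ (h.conj g p₀ hp₀)).imp (congrArg Prod.fst) (congrArg Prod.fst),
      (hpair _ (h.conj g q hq)).imp (congrArg Prod.fst) (congrArg Prod.fst)⟩) with e | e
  · exact h.ne p₀ hp₀ e
  · exact h.E_ne hp₀ (by have := h.disj p₀ hp₀; rwa [e, top_inf_eq] at this)

end CombData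

end Cfsg.Agent.Fus.Gold
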