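import Cfsg.Agent.Lib.Fus.Goldschmidt.CombBase

/-!
# Factors with pairwise disjoint fixed parts: graphs and inside members, their numbers (for S1169)
-/

set_option autoImplicit false

namespace Cfsg.Agent.Fus.Gold

open Subgroup

universe v w

variable {V : Type v} [CommGroup V]

/-- A fixed part. -/
def IsFixPart (F : Set (Subgroup V × Subgroup V)) (D : Subgroup V) : Prop := ∃ q ∈ F, q.1 = D

/-- A fixed part inside the moved part of `p`. -/
def InsD (F : Set (Subgroup V × Subgroup V)) (p : Subgroup V × Subgroup V) (D : Subgroup V) : Prop :=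
  IsFixPart F D ∧ D ≤ p.2

/-- A fixed part which is a graph seen from `p`. -/
def GrD (F : Set (Subgroup V × Subgroup V)) (p : Subgroup V × Subgroup V) (D : Subgroup V) : Prop :=
  IsFixPart F D ∧ D ≠ p.1 ∧ D ⊓ p.2 = ⊥

/-- The fixed parts meet only trivially. -/
def Disj (F : Set (Subgroup V × Subgroup V)) : Prop := ∀ p ∈ F, ∀ q ∈ F, p.1 ≠ q.1 → p.1 ⊓ q.1 = ⊥

/-- The members inside `p`, as a finite set. -/
noncomputable def insSet [Finite V] (F : Set (Subgroup V × Subgroup V)) (p : Subgroup V × Subgroup V) :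
    Finset (Subgroup V) := (Set.toFinite {D | InsD F p D}).toFinset

/-- The graphs at `p`, as a finite set. -/
noncomputable def grSet [Finite V] (F : Set (Subgroup V × Subgroup V)) (p : Subgroup V × Subgroup V) :
    Finset (Subgroup V) := (Set.toFinite {D | GrD F p D}).toFinset

/-- All fixed parts, as a finite set. -/
noncomputable def fixSet [Finite V] (F : Set (Subgroup V × Subgroup V)) : Finset (Subgroup V) :=
  (Set.toFinite {D | IsFixPart F D}).toFinset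

namespace CombData

variable {Γ : Type w} [Group Γ] [MulDistribMulAction Γ V] {e : ℕ} {F : Set (Subgroup V × Subgroup V)}
  (h : CombData (Γ := Γ) e F)
include h

theorem fix_mp {D : Subgroup V} (hD : IsFixPart F D) (g : Γ) : IsFixPart F (mp g D) := by
  obtain ⟨q, hq, rfl⟩ := hD
  exact ⟨_, h.conj g q hq, rfl⟩

theorem fix_ne {D : Subgroup V} (hD : IsFixPart F D) : D ≠ ⊥ := by
  obtain ⟨q, hq, rfl⟩ := hD
  exact h.ne q hq

theorem card_fix [Finite V] {D : Subgroup V} (hD : IsFixPart F D) {p : Subgroup V × Subgroup V} (hp : p ∈ F) :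
    Nat.card D = Nat.card p.1 := by
  obtain ⟨q, hq, rfl⟩ := hD
  exact h.card_D hq hp

theorem ins_ne {p : Subgroup V × Subgroup V} (hp : p ∈ F) {D : Subgroup V} (hD : InsD F p D) : D ≠ p.1 :=
  fun e => h.ne p hp (le_bot_iff.1 (h.disj p hp ▸ le_inf le_rfl (e ▸ hD.2)))

theorem not_ins_gr {p : Subgroup V × Subgroup V} {D : Subgroup V} (hi : InsD F p D)
    (hg : GrD F p D) : False := h.fix_ne hi.1 (le_bot_iff.1 (hg.2.2 ▸ le_inf le_rfl hi.2))

/-- A fixer of `p` maps `mul` of parts. -/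
theorem smul_parts {a v : V} {g : Γ} (hga : g • a = a) : g • (a * v) = a * g • v := by
  rw [smul_mul', hga]

variable (hdis : Disj F)
include hdis

omit h in
theorem owner {D D' : Subgroup V} (hD : IsFixPart F D) (hD' : IsFixPart F D') {x : V} (hx : x ≠ 1)
    (hxD : x ∈ D) (hxD' : x ∈ D') : D = D' := by
  obtain ⟨q, hq, rfl⟩ := hD
  obtain ⟨q', hq', rfl⟩ := hD'
  exact by_contra fun hne => hx (mem_bot.1 (hdis q hq q' hq' hne ▸ (⟨hxD, hxD'⟩ : x ∈ q.1 ⊓ q'.1)))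

/-- A covered element propagates to its orbit under the fixers. -/
theorem move [Finite V] {p : Subgroup V × Subgroup V} (hp : p ∈ F) {D : Subgroup V} (hD : IsFixPart F D) (hne : D ≠ p.1)
    {a v : V} (ha : a ∈ p.1) (hv : v ∈ p.2) (hx : a * v ∈ D) (hx1 : a * v ≠ 1) {w : V} (hw : w ∈ p.2) (hw1 : w ≠ 1) :
    ∃ g : Γ, mp g p.1 = p.1 ∧ mp g p.2 = p.2 ∧ a * w ∈ mp g D := by
  have hv1 : v ≠ 1 := fun e => hne (owner hdis hD ⟨p, hp, rfl⟩ hx1 hx (by rw [e, mul_one]; exact ha))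
  obtain ⟨g, hgd, hgv, hgvw⟩ := h.trans p hp v hv w hw hv1 hw1
  obtain ⟨h1, h2⟩ := h.mp_fixer hgd hgv
  refine ⟨g, h1, h2, ?_⟩
  rw [← hgvw, ← h.smul_parts (hgd a ha)]
  exact mem_mp.2 hx

theorem ins_or_gr [Finite V] {p : Subgroup V × Subgroup V} (hp : p ∈ F) {D : Subgroup V} (hD : IsFixPart F D)
    (hne : D ≠ p.1) : InsD F p D ∨ GrD F p D := by
  classical
  haveI := Fintype.ofFinite V
  by_cases hbot : D ⊓ p.2 = ⊥
  · exact Or.inr ⟨hD, hne, hbot⟩
  refine Or.inl ⟨hD, by_contra fun hnle => ?_⟩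
  obtain ⟨x, hx, hxE⟩ := SetLike.not_le_iff_exists.1 hnle
  obtain ⟨a, ha, v, hv, rfl⟩ := h.decomp hp x
  have ha1 : a ≠ 1 := fun e => hxE (by rw [e, one_mul]; exact hv)
  have hx1 : a * v ≠ 1 := fun e => hxE (e ▸ one_mem _)
  let Es := Finset.univ.filter fun w : V => w ∈ p.2 ∧ w ≠ 1
  have hown : ∀ w ∈ Es, ∃ k, IsFixPart F k ∧ k ≠ p.1 ∧ a * w ∈ k ∧ k ⊓ p.2 ≠ ⊥ := by
    intro w hw
    simp only [Es, Finset.mem_filter, Finset.mem_univ, true_and] at hw
    obtain ⟨g, hg1, hg2, hk⟩ := h.move hdis hp hD hne ha hv hx hx1 hw.1 hw.2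
    refine ⟨mp g D, h.fix_mp hD g, fun e => hne (mp_inj g (e.trans hg1.symm)), hk, ?_⟩
    intro e
    refine hbot ?_
    have h1 : (D ⊓ p.2).map (MulDistribMulAction.toMonoidHom V g) = ⊥ := by
      rw [Subgroup.map_inf _ _ _ (smul_inj g)]
      show mp g D ⊓ mp g p.2 = ⊥
      rw [hg2]; exact e
    exact (Subgroup.map_eq_bot_iff_of_injective _ (smul_inj g)).1 h1
  choose o ho using hown
  let o' : V → Subgroup V := fun w => if hw : w ∈ Es then o w hw else ⊥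
  have hsum := Finset.card_eq_sum_card_image o' Es
  have heven : 2 ∣ Es.card := by
    rw [hsum]
    refine Finset.dvd_sum fun k hk => ?_
    obtain ⟨w0, hw0, rfl⟩ := Finset.mem_image.1 hk
    obtain ⟨hkf, hkne, hw0D, hkmeet⟩ := ho w0 hw0
    have hk0 : o' w0 = o w0 hw0 := dif_pos hw0
    rw [hk0]
    have hw0E : w0 ∈ p.2 := (Finset.mem_filter.1 hw0).2.1
    have hfib : (Es.filter fun w => o' w = o w0 hw0).card = Nat.card ↥(o w0 hw0 ⊓ p.2) := by
      rw [Nat.card_eq_fintype_card, Fintype.card_subtype]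
      refine Finset.card_bij' (fun w _ => w0 * w) (fun w _ => w0 * w) (fun w hw => ?_) (fun w hw => ?_)
        (fun w _ => h.mul_mul_cancel w0 w) (fun w _ => h.mul_mul_cancel w0 w)
      · obtain ⟨hw, hk'⟩ := Finset.mem_filter.1 hw
        simp only [o', dif_pos hw] at hk'
        refine Finset.mem_filter.2 ⟨Finset.mem_univ _, ?_, mul_mem hw0E (Finset.mem_filter.1 hw).2.1⟩
        have h2 : a * w0 * (a * w) ∈ o w0 hw0 := mul_mem hw0D (hk' ▸ (ho w hw).2.2.1)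
        rwa [mul_mul_mul_comm, h.sq, one_mul] at h2
      · obtain ⟨-, hD', hE⟩ := Finset.mem_filter.1 hw
        have hmem : a * (w0 * w) ∈ o w0 hw0 := by rw [← mul_assoc]; exact mul_mem hw0D hD'
        have hne1 : w0 * w ≠ 1 := fun e => hkne (owner hdis hkf ⟨p, hp, rfl⟩ ha1 (by simpa [e] using hmem) ha)
        have hmemF : w0 * w ∈ Es := Finset.mem_filter.2 ⟨Finset.mem_univ _, mul_mem hw0E hE, hne1⟩
        refine Finset.mem_filter.2 ⟨hmemF, ?_⟩
        simp only [o', dif_pos hmemF]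
        refine owner hdis (ho _ hmemF).1 hkf (fun e => ?_) (ho _ hmemF).2.2.1 hmem
        exact ha1 (h.eq_one_of_DE hp ha (by
          rw [eq_inv_of_mul_eq_one_left e, h.inv_eq]; exact mul_mem hw0E hE))
    rw [hfib]
    exact h.two_dvd hkmeet
  have hEs : Es.card = Nat.card p.2 - 1 := by
    rw [Nat.card_eq_fintype_card, Fintype.card_subtype,
      ← Finset.card_erase_of_mem (a := (1 : V)) (Finset.mem_filter.2 ⟨Finset.mem_univ _, p.2.one_mem⟩)]
    congr 1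
    ext y
    simp [Es, and_comm]
  rw [hEs] at heven
  have := h.two_dvd (h.E_ne hp)
  have := h.four_le_E hp
  omega

theorem gr_surj [Finite V] {p : Subgroup V × Subgroup V} (hp : p ∈ F) {D : Subgroup V} (hD : GrD F p D) {a : V}
    (ha : a ∈ p.1) : ∃ v ∈ p.2, a * v ∈ D := by
  have hd : ∀ x : ↥D, ∃ a : ↥p.1, ∃ v ∈ p.2, (a : V) * v = x := fun x => by
    obtain ⟨a, ha, v, hv, e⟩ := h.decomp hp (x : V)
    exact ⟨⟨a, ha⟩, v, hv, e⟩
  choose f g hg he using hd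
  have hinj : Function.Injective f := fun x y e => by
    have h1 : (x : V) * y ∈ p.2 := by
      rw [← he x, ← he y, e, mul_mul_mul_comm, h.sq, one_mul]; exact mul_mem (hg x) (hg y)
    have h2 : (x : V) * y = 1 := mem_bot.1 (hD.2.2 ▸ (⟨mul_mem x.2 y.2, h1⟩ : (x : V) * y ∈ D ⊓ p.2))
    exact Subtype.ext (by rw [eq_inv_of_mul_eq_one_left h2, h.inv_eq])
  obtain ⟨x, hx⟩ := ((Nat.bijective_iff_injective_and_card f).2 ⟨hinj, h.card_fix hD.1 hp⟩).2 ⟨a, ha⟩
  refine ⟨g x, hg x, ?_⟩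
  have := he x
  rw [hx] at this
  exact this ▸ x.2

omit hdis in
theorem mul_ne_one {p : Subgroup V × Subgroup V} (hp : p ∈ F) {a v : V} (ha : a ∈ p.1) (hv : v ∈ p.2) (ha1 : a ≠ 1) :
    a * v ≠ 1 := fun e => ha1 (h.eq_one_of_DE hp ha (by rw [eq_inv_of_mul_eq_one_left e, h.inv_eq]; exact hv))

/-- Two graphs are exchanged by a fixer. -/
theorem gr_conj [Finite V] {p : Subgroup V × Subgroup V} (hp : p ∈ F) {D D' : Subgroup V} (hD : GrD F p D)
    (hD' : GrD F p D') : ∃ g : Γ, mp g p.1 = p.1 ∧ mp g p.2 = p.2 ∧ mp g D = D' := by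
  obtain ⟨⟨a, ha⟩, ha1⟩ := p.1.ne_bot_iff_exists_ne_one.1 (h.ne p hp)
  have ha' : a ≠ 1 := fun e => ha1 (Subtype.ext e)
  obtain ⟨v, hv, hvD⟩ := h.gr_surj hdis hp hD ha
  obtain ⟨w, hw, hwD⟩ := h.gr_surj hdis hp hD' ha
  have hw1 : w ≠ 1 := fun e => hD'.2.1 (owner hdis hD'.1 ⟨p, hp, rfl⟩ ha' (by simpa [e] using hwD) ha)
  obtain ⟨g, h1, h2, hk⟩ := h.move hdis hp hD.1 hD.2.1 ha hv hvD (h.mul_ne_one hp ha hv ha') hw hw1
  exact ⟨g, h1, h2, owner hdis (h.fix_mp hD.1 g) hD'.1 (h.mul_ne_one hp ha hw ha') hk hwD⟩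

/-- Two inside members are exchanged by a fixer. -/
theorem ins_conj [Finite V] {p : Subgroup V × Subgroup V} (hp : p ∈ F) {D D' : Subgroup V} (hD : InsD F p D)
    (hD' : InsD F p D') : ∃ g : Γ, mp g p.1 = p.1 ∧ mp g p.2 = p.2 ∧ mp g D = D' := by
  obtain ⟨⟨x, hx⟩, hx1⟩ := D.ne_bot_iff_exists_ne_one.1 (h.fix_ne hD.1)
  obtain ⟨⟨y, hy⟩, hy1⟩ := D'.ne_bot_iff_exists_ne_one.1 (h.fix_ne hD'.1)
  have hx' : x ≠ 1 := fun e => hx1 (Subtype.ext e)
  have hy' : y ≠ 1 := fun e => hy1 (Subtype.ext e)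
  obtain ⟨g, hgd, hgv, hgxy⟩ := h.trans p hp x (hD.2 hx) y (hD'.2 hy) hx' hy'
  obtain ⟨h1, h2⟩ := h.mp_fixer hgd hgv
  exact ⟨g, h1, h2, owner hdis (h.fix_mp hD.1 g) hD'.1 hy' (hgxy ▸ mem_mp.2 hx) hy⟩

theorem ins_cover [Finite V] {p : Subgroup V × Subgroup V} (hp : p ∈ F) {D : Subgroup V} (hD : InsD F p D)
    {w : V} (hw : w ∈ p.2) (hw1 : w ≠ 1) : ∃ k, InsD F p k ∧ w ∈ k := by
  obtain ⟨⟨x, hx⟩, hx1⟩ := D.ne_bot_iff_exists_ne_one.1 (h.fix_ne hD.1)
  obtain ⟨g, -, h2, hk⟩ := h.move hdis hp hD.1 (h.ins_ne hp hD) p.1.one_mem (hD.2 hx)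
    (by rw [one_mul]; exact hx) (by rw [one_mul]; exact fun e => hx1 (Subtype.ext e)) hw hw1
  rw [one_mul] at hk
  exact ⟨mp g D, ⟨h.fix_mp hD.1 g, h2 ▸ Subgroup.map_mono hD.2⟩, hk⟩

theorem gr_cover [Finite V] {p : Subgroup V × Subgroup V} (hp : p ∈ F) {D : Subgroup V} (hD : GrD F p D)
    {x : V} (hx : x ∉ p.2) : ∃ k, IsFixPart F k ∧ x ∈ k := by
  obtain ⟨a, ha, w, hw, rfl⟩ := h.decomp hp x
  by_cases hw1 : w = 1
  · exact ⟨p.1, ⟨p, hp, rfl⟩, by rw [hw1, mul_one]; exact ha⟩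
  obtain ⟨v, hv, hvD⟩ := h.gr_surj hdis hp hD ha
  have ha1 : a ≠ 1 := fun e => hx (by rw [e, one_mul]; exact hw)
  obtain ⟨g, -, -, hk⟩ := h.move hdis hp hD.1 hD.2.1 ha hv hvD (h.mul_ne_one hp ha hv ha1) hw hw1
  exact ⟨_, h.fix_mp hD.1 g, hk⟩

/-- Every factor sees inside members and graphs. -/
theorem both [Finite V] {p : Subgroup V × Subgroup V} (hp : p ∈ F) :
    (∃ D, InsD F p D) ∧ ∃ D, GrD F p D := by
  obtain ⟨q, hq, hqp⟩ := h.exists_other hp
  have hfix : IsFixPart F p.1 := ⟨p, hp, rfl⟩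
  refine ⟨by_contra fun hI => ?_, by_contra fun hG => ?_⟩
  · -- the uncovered elements form the moved part
    have hgr : ∀ D, IsFixPart F D → D ≠ p.1 → GrD F p D := fun D hD hne =>
      (h.ins_or_gr hdis hp hD hne).resolve_left fun hi => hI ⟨D, hi⟩
    have hchar : ∀ x, x ∈ p.2 ↔ x = 1 ∨ ¬ ∃ k, IsFixPart F k ∧ x ∈ k := by
      intro x
      refine ⟨fun hx => (em (x = 1)).imp id fun hx1 => ?_, fun hx => by_contra fun hxE => ?_⟩
      · rintro ⟨k, hk, hxk⟩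
        refine hx1 ?_
        by_cases hkp : k = p.1
        · exact h.eq_one_of_DE hp (hkp ▸ hxk) hx
        · exact mem_bot.1 ((hgr k hk hkp).2.2 ▸ (⟨hxk, hx⟩ : x ∈ k ⊓ p.2))
      · rcases hx with rfl | hx
        · exact hxE (one_mem _)
        · exact hx (h.gr_cover hdis hp (hgr q.1 ⟨q, hq, rfl⟩ hqp) hxE)
    rcases h.irred p.2 fun g x hx => by
      rw [hchar] at hx ⊢
      rcases hx with rfl | hx
      · exact Or.inl (smul_one g)
      · refine Or.inr fun ⟨k, hk, hxk⟩ => hx ⟨mp g⁻¹ k, h.fix_mp hk g⁻¹, ?_⟩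
        rw [mem_mp_iff, inv_inv]; exact hxk with e | e
    · exact h.E_ne hp e
    · exact h.E_ne_top hp e
  · -- the covered elements form two subgroups
    have hins : ∀ D, IsFixPart F D → D ≠ p.1 → InsD F p D := fun D hD hne =>
      (h.ins_or_gr hdis hp hD hne).resolve_right fun hg => hG ⟨D, hg⟩
    have hU : ∀ g : Γ, ∀ x, x ∈ p.1 ∨ x ∈ p.2 → g • x ∈ p.1 ∨ g • x ∈ p.2 := by
      intro g x hx
      by_cases hx1 : x = 1
      · exact Or.inl (by rw [hx1, smul_one]; exact one_mem _)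
      obtain ⟨k, hk, hxk⟩ : ∃ k, IsFixPart F k ∧ x ∈ k := by
        rcases hx with hx | hx
        · exact ⟨p.1, hfix, hx⟩
        · obtain ⟨k, hk, hxk⟩ := h.ins_cover hdis hp (hins q.1 ⟨q, hq, rfl⟩ hqp) hx hx1
          exact ⟨k, hk.1, hxk⟩
      by_cases hkp : mp g k = p.1
      · exact Or.inl (hkp ▸ mem_mp.2 hxk)
      · exact Or.inr ((hins _ (h.fix_mp hk g) hkp).2 (mem_mp.2 hxk))
    have hunion : ∀ W : Subgroup V, (∀ x ∈ W, x ∈ p.1 ∨ x ∈ p.2) → W ≤ p.1 ∨ W ≤ p.2 := by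
      intro W hW
      by_contra hno
      rw [not_or] at hno
      obtain ⟨⟨x, hx, hx1⟩, ⟨y, hy, hy2⟩⟩ := hno.imp SetLike.not_le_iff_exists.1 SetLike.not_le_iff_exists.1
      rcases hW _ (mul_mem hx hy) with hm | hm
      · exact hx1 ((p.1.mul_mem_cancel_right ((hW y hy).resolve_right hy2)).1 hm)
      · exact hy2 ((p.2.mul_mem_cancel_left ((hW x hx).resolve_left hx1)).1 hm)
    have hmpU : ∀ (g : Γ) (W : Subgroup V), (W = p.1 ∨ W = p.2) → mp g W ≤ p.1 ∨ mp g W ≤ p.2 := fun g W hW =>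
      hunion _ fun x hx => by
        have h1 := hU g (g⁻¹ • x) (hW.imp (fun (e : W = p.1) => e ▸ mem_mp_iff.1 hx) fun (e : W = p.2) => e ▸ mem_mp_iff.1 hx)
        rwa [smul_inv_smul] at h1
    have hne12 : p.1 ≠ p.2 := fun e => h.ne p hp (by have := h.disj p hp; rwa [← e, inf_idem] at this)
    have hqle : Nat.card p.1 ≤ Nat.card p.2 :=
      h.card_D hq hp ▸ Nat.le_of_dvd Nat.card_pos (card_dvd_of_le (hins q.1 ⟨q, hq, rfl⟩ hqp).2)
    have hinv : ∀ g : Γ, ∀ x ∈ p.2, g • x ∈ p.2 := by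
      rcases hqle.lt_or_eq with hlt | heq
      · intro g x hx
        rcases hmpU g p.2 (Or.inr rfl) with hle | hle
        · have := Nat.le_of_dvd Nat.card_pos (card_dvd_of_le hle)
          rw [card_mp] at this
          omega
        · exact hle (mem_mp.2 hx)
      · refine h.stable_of_two hne12.symm fun g => ⟨?_, ?_⟩
        · rcases hmpU g p.2 (Or.inr rfl) with hle | hle
          · exact Or.inr (eq_of_le_of_card_ge hle (by rw [card_mp, heq]))
          · exact Or.inl (eq_of_le_of_card_ge hle (card_mp g p.2).ge)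
        · rcases hmpU g p.1 (Or.inl rfl) with hle | hle
          · exact Or.inr (eq_of_le_of_card_ge hle (card_mp g p.1).ge)
          · exact Or.inl (eq_of_le_of_card_ge hle (by rw [card_mp, heq]))
    rcases h.irred p.2 hinv with e | e
    · exact h.E_ne hp e
    · exact h.E_ne_top hp e

/-- Every element is covered. -/
theorem cover [Finite V] {x : V} (hx : x ≠ 1) : ∃ k, IsFixPart F k ∧ x ∈ k := by
  obtain ⟨p, hp⟩ := h.nonempty
  obtain ⟨⟨I, hI⟩, ⟨J, hJ⟩⟩ := h.both hdis hp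
  by_cases hxE : x ∈ p.2
  · obtain ⟨k, hk, hxk⟩ := h.ins_cover hdis hp hI hxE hx
    exact ⟨k, hk.1, hxk⟩
  · exact h.gr_cover hdis hp hJ hxE

theorem card_ins [Finite V] {p : Subgroup V × Subgroup V} (hp : p ∈ F) :
    (insSet F p).card * (Nat.card p.1 - 1) = 2 ^ e - 1 := by
  classical
  haveI := Fintype.ofFinite V
  obtain ⟨⟨I, hI⟩, -⟩ := h.both hdis hp
  have hmem : ∀ k, k ∈ insSet F p ↔ InsD F p k := fun k => Set.Finite.mem_toFinset _
  have hpun : ∀ W : Subgroup V, (Finset.univ.filter fun x : V => x ∈ W ∧ x ≠ 1).card = Nat.card W - 1 := fun W => by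
    rw [Nat.card_eq_fintype_card, Fintype.card_subtype,
      ← Finset.card_erase_of_mem (a := (1 : V)) (Finset.mem_filter.2 ⟨Finset.mem_univ _, W.one_mem⟩)]
    congr 1
    ext y
    simp [and_comm]
  rw [← h.card p hp, ← hpun p.2, show (Finset.univ.filter fun x : V => x ∈ p.2 ∧ x ≠ 1) =
    (insSet F p).biUnion fun k => Finset.univ.filter fun x => x ∈ k ∧ x ≠ 1 from ?_, Finset.card_biUnion,
    Finset.sum_congr rfl fun k hk => (hpun k).trans (by rw [h.card_fix ((hmem k).1 hk).1 hp]),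
    Finset.sum_const, smul_eq_mul]
  · intro k hk l hl hkl
    rw [Function.onFun, Finset.disjoint_left]
    intro x hx hx'
    simp only [Finset.mem_filter] at hx hx'
    exact hkl (owner hdis ((hmem k).1 hk).1 ((hmem l).1 hl).1 hx.2.2 hx.2.1 hx'.2.1)
  · ext x
    simp only [Finset.mem_biUnion, Finset.mem_filter, Finset.mem_univ, true_and, hmem]
    exact ⟨fun hx => let ⟨k, hk, hxk⟩ := h.ins_cover hdis hp hI hx.1 hx.2; ⟨k, hk, hxk, hx.2⟩,
      fun ⟨k, hk, hxk, hx⟩ => ⟨hk.2 hxk, hx⟩⟩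

theorem card_gr [Finite V] {p : Subgroup V × Subgroup V} (hp : p ∈ F) : (grSet F p).card = 2 ^ e - 1 := by
  classical
  haveI := Fintype.ofFinite V
  obtain ⟨-, ⟨J, hJ⟩⟩ := h.both hdis hp
  obtain ⟨⟨a, ha⟩, ha1⟩ := p.1.ne_bot_iff_exists_ne_one.1 (h.ne p hp)
  have ha' : a ≠ 1 := fun e => ha1 (Subtype.ext e)
  have hmem : ∀ k, k ∈ grSet F p ↔ GrD F p k := fun k => Set.Finite.mem_toFinset _
  have hex : ∀ k ∈ grSet F p, ∃ v ∈ p.2, a * v ∈ k := fun k hk => h.gr_surj hdis hp ((hmem k).1 hk) ha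
  choose f hfE hfD using hex
  have hpun : (Finset.univ.filter fun x : V => x ∈ p.2 ∧ x ≠ 1).card = Nat.card p.2 - 1 := by
    rw [Nat.card_eq_fintype_card, Fintype.card_subtype,
      ← Finset.card_erase_of_mem (a := (1 : V)) (Finset.mem_filter.2 ⟨Finset.mem_univ _, p.2.one_mem⟩)]
    congr 1
    ext y
    simp [and_comm]
  rw [← h.card p hp, ← hpun]
  refine Finset.card_bij f (fun k hk => Finset.mem_filter.2 ⟨Finset.mem_univ _, hfE k hk, fun e => ?_⟩)
    (fun k hk l hl e => ?_) (fun w hw => ?_)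
  · exact ((hmem k).1 hk).2.1 (owner hdis ((hmem k).1 hk).1 ⟨p, hp, rfl⟩ ha' (by simpa [e] using hfD k hk) ha)
  · exact owner hdis ((hmem k).1 hk).1 ((hmem l).1 hl).1 (h.mul_ne_one hp ha (hfE k hk) ha') (hfD k hk) (e ▸ hfD l hl)
  · simp only [Finset.mem_filter, Finset.mem_univ, true_and] at hw
    obtain ⟨v, hv, hvD⟩ := h.gr_surj hdis hp hJ ha
    obtain ⟨g, h1, h2, hk⟩ := h.move hdis hp hJ.1 hJ.2.1 ha hv hvD (h.mul_ne_one hp ha hv ha') hw.1 hw.2
    have hgr : GrD F p (mp g J) := by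
      refine ⟨h.fix_mp hJ.1 g, fun e => hJ.2.1 (mp_inj g (e.trans h1.symm)), ?_⟩
      conv_lhs => rw [← h2]
      rw [← Subgroup.map_inf _ _ _ (smul_inj g), hJ.2.2, Subgroup.map_bot]
    refine ⟨mp g J, (hmem _).2 hgr, ?_⟩
    by_contra hne
    have h3 := mul_mem (hfD _ ((hmem _).2 hgr)) hk
    rw [mul_mul_mul_comm, h.sq, one_mul] at h3
    have h5 : f (mp g J) ((hmem _).2 hgr) * w ∈ mp g J ⊓ p.2 := ⟨h3, mul_mem (hfE _ _) hw.1⟩
    rw [hgr.2.2] at h5
    have h4 := mem_bot.1 h5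
    exact hne (by rw [eq_inv_of_mul_eq_one_left h4, h.inv_eq])

theorem card_fixSet [Finite V] {p : Subgroup V × Subgroup V} (hp : p ∈ F) :
    (fixSet F).card = 1 + (insSet F p).card + (grSet F p).card := by
  classical
  have hI : ∀ k, k ∈ insSet F p ↔ InsD F p k := fun k => Set.Finite.mem_toFinset _
  have hG : ∀ k, k ∈ grSet F p ↔ GrD F p k := fun k => Set.Finite.mem_toFinset _
  have hA : ∀ k, k ∈ fixSet F ↔ IsFixPart F k := fun k => Set.Finite.mem_toFinset _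
  rw [show fixSet F = insert p.1 (insSet F p ∪ grSet F p) from Finset.ext fun k => ?_, Finset.card_insert_of_notMem,
    Finset.card_union_of_disjoint (Finset.disjoint_left.2 fun k hk hk' => h.not_ins_gr ((hI k).1 hk) ((hG k).1 hk'))]
  · omega
  · rw [Finset.mem_union, hI, hG]
    rintro (hi | hg)
    · exact h.ins_ne hp hi rfl
    · exact hg.2.1 rfl
  · rw [Finset.mem_insert, Finset.mem_union, hI, hG, hA]
    refine ⟨fun hk => ?_, ?_⟩
    · by_cases hkp : k = p.1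
      · exact Or.inl hkp
      · exact Or.inr (h.ins_or_gr hdis hp hk hkp)
    · rintro (rfl | hi | hg)
      exacts [⟨p, hp, rfl⟩, hi.1, hg.1]

end CombData

end Cfsg.Agent.Fus.Gold
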