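import Cfsg.Agent.Lib.Fus.Goldschmidt.CombCount

/-!
# Factors with pairwise disjoint fixed parts: one moved part over each fixed part (for S1169)
-/

set_option autoImplicit false

namespace Cfsg.Agent.Fus.Gold

open Subgroup

universe v w

/-- An invariant complement of a fixed involution, by averaging a projection. -/
theorem exists_stable_complement {V : Type v} [CommGroup V] [Finite V] (hsq : ∀ x : V, x * x = 1)
    (Q : Subgroup (MulAut V)) (hQ : Odd (Nat.card Q)) {v : V} (hv : ∀ q ∈ Q, q v = v) {D E : Subgroup V}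
    (hD : D = zpowers v) (hsup : D ⊔ E = ⊤) (hdisj : D ⊓ E = ⊥) :
    ∃ K : Subgroup V, (∀ q ∈ Q, ∀ x ∈ K, q x ∈ K) ∧ D ⊓ K = ⊥ ∧ D ⊔ K = ⊤ := by
  classical
  haveI : Finite ↥Q := Finite.of_injective (fun x : ↥Q => ((x : MulAut V) : V → V))
    fun x y h => Subtype.ext (MulEquiv.ext (congrFun h))
  haveI := Fintype.ofFinite ↥Q
  have hdec : ∀ x : V, ∃ a : ↥D, ∃ b ∈ E, (a : V) * b = x := fun x => by
    obtain ⟨a, ha, b, hb, e⟩ := mem_sup.1 (hsup ▸ mem_top x)
    exact ⟨⟨a, ha⟩, b, hb, e⟩
  choose π g hg hπ using hdec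
  have huniq : ∀ (x : V) (a b : V), a ∈ D → b ∈ E → a * b = x → (π x : V) = a := by
    intro x a b ha hb he
    have h1 : a⁻¹ * (π x : V) = b * (g x)⁻¹ := by
      rw [inv_mul_eq_iff_eq_mul, ← mul_assoc, he]
      exact eq_mul_inv_iff_mul_eq.2 (hπ x)
    have h2 : a⁻¹ * (π x : V) ∈ D ⊓ E :=
      ⟨D.mul_mem (D.inv_mem ha) (π x).2, h1 ▸ E.mul_mem hb (E.inv_mem (hg x))⟩
    rw [hdisj, mem_bot, inv_mul_eq_one] at h2
    exact h2.symm
  have hπmul : ∀ x y : V, π (x * y) = π x * π y := fun x y =>
    Subtype.ext (huniq _ _ _ (mul_mem (π x).2 (π y).2) (mul_mem (hg x) (hg y)) (by rw [Subgroup.coe_mul, mul_mul_mul_comm, hπ, hπ]))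
  let P : V → V := fun x => ∏ q : ↥Q, (π ((q : MulAut V) x) : V)
  have hPD : ∀ x, P x ∈ D := fun x => Subgroup.prod_mem _ fun q _ => (π _).2
  have hPmul : ∀ x y, P (x * y) = P x * P y := fun x y => by
    simp only [P, ← Finset.prod_mul_distrib, map_mul, hπmul, Subgroup.coe_mul]
  have hPid : ∀ x ∈ D, P x = x := by
    intro x hx
    have hfix : ∀ q ∈ Q, q x = x := fun q hq => by
      obtain ⟨i, rfl⟩ := mem_zpowers_iff.1 (hD ▸ hx)
      rw [map_zpow, hv q hq]
    have h1 : ∀ q : ↥Q, (π ((q : MulAut V) x) : V) = x := fun q => by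
      rw [hfix q q.2]
      exact huniq x x 1 hx E.one_mem (mul_one x)
    simp only [P, h1, Finset.prod_const, Finset.card_univ]
    obtain ⟨k, hk⟩ := hQ
    rw [← Nat.card_eq_fintype_card, hk, pow_succ, pow_mul, pow_two, hsq, one_pow, one_mul]
  let K : Subgroup V :=
    { carrier := {x | P x = 1}
      one_mem' := hPid 1 D.one_mem
      mul_mem' := fun {x y} hx hy => by
        show P (x * y) = 1
        rw [hPmul, hx, hy, one_mul]
      inv_mem' := fun {x} hx => by
        rw [show x⁻¹ = x from inv_eq_of_mul_eq_one_right (hsq x)]; exact hx }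
  refine ⟨K, fun q hq x hx => ?_, ?_, ?_⟩
  · show P (q x) = 1
    refine Eq.trans ?_ (hx : P x = 1)
    exact Fintype.prod_equiv (Equiv.mulRight (⟨q, hq⟩ : ↥Q)) _ _ fun r => rfl
  · rw [eq_bot_iff]
    intro x hx
    have h1 : P x = 1 := hx.2
    rw [hPid x hx.1] at h1
    exact mem_bot.2 h1
  · rw [eq_top_iff]
    intro x _
    refine mem_sup.2 ⟨P x, hPD x, P x * x, ?_, by rw [← mul_assoc, hsq, one_mul]⟩
    show P (P x * x) = 1
    rw [hPmul, hPid _ (hPD x), hsq]

theorem index_two_of {V : Type v} [CommGroup V] [Finite V] {D E : Subgroup V} (hsup : D ⊔ E = ⊤)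
    (hdisj : D ⊓ E = ⊥) (hD : Nat.card D = 2) : E.index = 2 := by
  have h := E.card_mul_index
  rw [← Subgroup.card_top (G := V), ← hsup, card_sup hdisj, hD, mul_comm 2] at h
  exact Nat.eq_of_mul_eq_mul_left Nat.card_pos h

/-- Two hyperplanes of a group of order at least eight meet. -/
theorem exists_mem_inf {V : Type v} [CommGroup V] [Finite V] {A B : Subgroup V} (hA : A.index = 2) (hB : B.index = 2)
    (h8 : 8 ≤ Nat.card V) : ∃ x, x ≠ 1 ∧ x ∈ A ∧ x ∈ B := by
  by_contra hno
  push Not at hno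
  have hd : A ⊓ B = ⊥ := eq_bot_iff.2 fun x hx => mem_bot.2 (by_contra fun hx1 => hno x hx1 hx.1 hx.2)
  have h1 := Subgroup.card_le_card_group (A ⊔ B)
  rw [card_sup hd] at h1
  have hA' := A.card_mul_index
  have hB' := B.card_mul_index
  rw [hA] at hA'
  rw [hB] at hB'
  have : Nat.card A = Nat.card B := by omega
  rw [← this] at h1
  nlinarith

namespace CombData

variable {V : Type v} [CommGroup V] {Γ : Type w} [Group Γ] [MulDistribMulAction Γ V]
  {e : ℕ} {F : Set (Subgroup V × Subgroup V)} (h : CombData (Γ := Γ) e F) (hdis : Disj F)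
include h hdis

theorem inj_fst [Finite V] [Finite Γ] : ∀ p ∈ F, ∀ q ∈ F, p.1 = q.1 → p = q := by
  intro p hp q hq hD
  refine Prod.ext hD (by_contra fun hE => ?_)
  obtain ⟨he, ⟨Z, -, hZ4, hqle⟩, h3⟩ := h.defect p hp q hq hD hE
  have hM := h.card_ins hdis hp
  rw [he] at hM
  have hd2 : 2 ∣ Nat.card p.1 := h.two_dvd (h.ne p hp)
  have hdle : Nat.card p.1 ≤ 8 := by
    obtain ⟨⟨I, hI⟩, -⟩ := h.both hdis hp
    have h1 := Nat.le_of_dvd Nat.card_pos (card_dvd_of_le hI.2)
    rw [h.card_fix hI.1 hp, h.card p hp, he] at h1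
    exact h1
  have hdpos : 0 < Nat.card p.1 := Nat.card_pos
  have hd' : Nat.card p.1 = 2 ∨ Nat.card p.1 = 8 := by
    generalize Nat.card p.1 = d at hM hd2 hdle hdpos
    generalize (insSet F p).card = m at hM
    interval_cases d <;> omega
  rcases hd' with hd | hd
  · -- a fixed point
    obtain ⟨v, hv⟩ : ∃ v : V, p.1 = zpowers v ∧ v ≠ 1 := by
      obtain ⟨⟨v, hv⟩, hv1⟩ := p.1.ne_bot_iff_exists_ne_one.1 (h.ne p hp)
      have hv1' : v ≠ 1 := fun e => hv1 (Subtype.ext e)
      refine ⟨v, (eq_of_le_of_card_ge (zpowers_le.2 hv) ?_).symm, hv1'⟩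
      rw [hd, Nat.card_zpowers, orderOf_eq_prime (by rw [pow_two, h.sq]) hv1']
    obtain ⟨hv, hv1⟩ := hv
    have hV : Nat.card V = 16 := by rw [← h.card_mul hp, hd, he]; norm_num
    by_cases hinv : ∃ g : Γ, g • v = v ∧ (∀ x : V, g • g • x = x) ∧ ∃ x : V, g • x ≠ x
    · obtain ⟨g1, hg1v, hg12, x1, hx1⟩ := hinv
      have hsmall : ∀ x : V, g1 • x * x ∈ p.1 := h3 g1 (fun d hd => by
        rw [hv] at hd
        obtain ⟨i, rfl⟩ := mem_zpowers_iff.1 hd
        rw [← MulDistribMulAction.toMonoidHom_apply, map_zpow, MulDistribMulAction.toMonoidHom_apply, hg1v])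
        (fun x => by rw [hg12, h.sq]; exact one_mem _)
      -- the conjugate point
      obtain ⟨g, hg⟩ : ∃ g : Γ, g • v ≠ v := by
        by_contra hc
        push Not at hc
        rcases h.irred p.1 fun g x hx => by
          rw [hv] at hx ⊢
          obtain ⟨i, rfl⟩ := mem_zpowers_iff.1 hx
          rw [← MulDistribMulAction.toMonoidHom_apply, map_zpow, MulDistribMulAction.toMonoidHom_apply, hc g]
          exact zpow_mem (mem_zpowers v) i with e | e
        · exact h.ne p hp e
        · rw [e, Subgroup.card_top, hV] at hd; omega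
      obtain ⟨a, ha, x, hx, hax⟩ := h.decomp hp (g • v)
      have hDv : ∀ y ∈ p.1, y = 1 ∨ y = v := fun y hy => by
        rw [hv] at hy
        obtain ⟨i, rfl⟩ := mem_zpowers_iff.1 hy
        rcases Int.even_or_odd i with ⟨j, rfl⟩ | ⟨j, rfl⟩
        · exact Or.inl (by rw [← two_mul, zpow_mul, zpow_two, h.sq, one_zpow])
        · exact Or.inr (by rw [zpow_add, zpow_mul, zpow_two, h.sq, one_zpow, one_mul, zpow_one])
      have hx1' : x ≠ 1 := fun e => by
        rw [e, mul_one] at hax
        rcases hDv a ha with e1 | e1 <;> rw [e1] at hax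
        · exact hv1 (smul_inj g (by simp [← hax]))
        · exact hg hax.symm
      -- the axis
      let K : Subgroup V :=
        { carrier := {y | g1 • y = y}
          one_mem' := smul_one g1
          mul_mem' := fun {y z} hy hz => by
            show g1 • (y * z) = y * z
            rw [smul_mul', hy, hz]
          inv_mem' := fun {y} hy => by
            show g1 • y⁻¹ = y⁻¹
            rw [smul_inv', hy] }
      have hK : K.index = 2 := by
        refine Subgroup.index_eq_two_iff.2 ⟨x1, fun b => ?_⟩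
        have hcase : ∀ y, g1 • y = y ∨ g1 • y = v * y := fun y =>
          (hDv _ (hsmall y)).imp (fun e => by rw [eq_inv_of_mul_eq_one_left e, h.inv_eq])
            fun e => by rw [← e, mul_assoc, h.sq, mul_one]
        show Xor (g1 • (b * x1) = b * x1) (g1 • b = b)
        have hx1e : g1 • x1 = v * x1 := (hcase x1).resolve_left hx1
        rw [smul_mul', hx1e]
        rcases hcase b with e | e
        · refine Or.inr ⟨e, fun e' => hv1 ?_⟩
          rw [e] at e'
          exact mul_right_cancel ((mul_left_cancel e').trans (one_mul x1).symm)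
        · refine Or.inl ⟨?_, fun e' => hv1 ?_⟩
          · rw [e, mul_mul_mul_comm, h.sq, one_mul]
          · exact mul_right_cancel ((e.symm.trans e').trans (one_mul b).symm)
      obtain ⟨y, hy1, hyE, hyK⟩ := exists_mem_inf (index_two_of (h.sup p hp) (h.disj p hp) hd) hK (by omega)
      obtain ⟨k, hkd, hkE, hky⟩ := h.trans p hp y hyE x hx hy1 hx1'
      have hkv : k • v = v := hkd v (hv ▸ mem_zpowers v)
      have hk' : k⁻¹ • v = v := by rw [inv_smul_eq_iff, hkv]
      set s := k * g1 * k⁻¹ with hs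
      have hsv : s • v = v := by rw [hs, mul_smul, mul_smul, hk', hg1v, hkv]
      have hsx : s • x = x := by
        rw [hs, mul_smul, mul_smul, ← hky, inv_smul_smul, (hyK : g1 • y = y)]
      have hs2 : ∀ z : V, s • s • z = z := fun z => by
        rw [hs, mul_smul, mul_smul, mul_smul, mul_smul, inv_smul_smul, hg12, smul_inv_smul]
      have hsw : s • (g • v) = g • v := by
        rw [← hax, smul_mul', hsx]
        rcases hDv a ha with e1 | e1 <;> rw [e1]
        · rw [smul_one]
        · rw [hsv]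
      have hcv : ∀ z : V, s • z * z ∈ p.1 := fun z => by
        have h1 := hsmall (k⁻¹ • z)
        have h2 : k • (g1 • (k⁻¹ • z) * (k⁻¹ • z)) = s • z * z := by
          rw [smul_mul', smul_inv_smul, hs, mul_smul, mul_smul]
        rw [← h2]
        rw [hkd _ h1]
        exact h1
      have hmp : ∀ z ∈ mp g p.1, z = 1 ∨ z = g • v := fun z hz =>
        (hDv _ (mem_mp_iff.1 hz)).imp (fun e => by rw [← smul_inv_smul g z, e, smul_one])
          fun e => by rw [← smul_inv_smul g z, e]
      obtain ⟨-, -, h3'⟩ := h.defect _ (h.conj g p hp) _ (h.conj g q hq)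
        (show mp g p.1 = mp g q.1 by rw [hD]) (show mp g p.2 ≠ mp g q.2 from fun e => hE (mp_inj g e))
      have hw : ∀ z : V, s • z * z ∈ mp g p.1 := h3' s
        (fun z hz => by rcases hmp z hz with rfl | rfl; exacts [smul_one s, hsw])
        (fun z => by rw [hs2, h.sq]; exact one_mem _)
      have hstriv : ∀ z : V, s • z = z := fun z => by
        have h1 : s • z * z = 1 := (hDv _ (hcv z)).resolve_right fun e => by
          rcases hmp _ (hw z) with e' | e'
          · exact hv1 (e.symm.trans e')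
          · exact hg (e'.symm.trans e)
        rw [eq_inv_of_mul_eq_one_left h1, h.inv_eq]
      refine hx1 ?_
      have h1 := hstriv (k • x1)
      rw [hs, mul_smul, mul_smul, inv_smul_smul] at h1
      exact smul_left_cancel k h1
    · -- an odd stabiliser has an invariant complement
      push Not at hinv
      let φ : Γ →* MulAut V := MulDistribMulAction.toMulAut Γ V
      let St : Subgroup Γ := MulAction.stabilizer Γ v
      have hφ : ∀ (g : Γ) (x : V), φ g x = g • x := fun _ _ => rfl
      have hodd : Odd (Nat.card (St.map φ)) := by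
        by_contra hev
        rw [Nat.not_odd_iff_even, even_iff_two_dvd] at hev
        haveI : Fact (Nat.Prime 2) := ⟨Nat.prime_two⟩
        haveI : Finite ↥(St.map φ) := Finite.of_injective (fun x : ↥(St.map φ) => ((x : MulAut V) : V → V))
          fun x y h => Subtype.ext (MulEquiv.ext (congrFun h))
        obtain ⟨⟨q', g, hg, rfl⟩, hord⟩ := exists_prime_orderOf_dvd_card' 2 hev
        rw [← Subgroup.orderOf_coe] at hord
        have hne : φ g ≠ 1 := fun e => by
          change orderOf (φ g) = 2 at hord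
          rw [e, orderOf_one] at hord; omega
        have hg2 : ∀ x : V, g • g • x = x := fun x => by
          have h1 := pow_orderOf_eq_one (φ g)
          change orderOf (φ g) = 2 at hord
          rw [hord, pow_two] at h1
          exact congrArg (fun f : MulAut V => f x) h1
        exact hne (MulEquiv.ext fun x => by rw [hφ]; exact hinv g hg hg2 x)
      obtain ⟨K, hKst, hKD, hKsup⟩ := exists_stable_complement h.sq (St.map φ) hodd
        (fun r hr => by obtain ⟨g, hg, rfl⟩ := hr; exact hg) hv (h.sup p hp) (h.disj p hp)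
      have hfix : ∀ r ∈ F, r.1 = p.1 → r.2 = K := by
        intro r hr hr1
        have hrd : Nat.card r.1 = 2 := hr1 ▸ hd
        obtain ⟨y, hy1, hyE, hyK⟩ := exists_mem_inf (index_two_of (h.sup r hr) (h.disj r hr) hrd)
          (index_two_of hKsup hKD hd) (by omega)
        have hle : r.2 ≤ K := fun x hx => by
          by_cases hx1 : x = 1
          · exact hx1 ▸ one_mem _
          obtain ⟨k, hkd, -, hky⟩ := h.trans r hr y hyE x hx hy1 hx1
          have hkv : k • v = v := hkd v (by rw [hr1, hv]; exact mem_zpowers v)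
          exact hky ▸ hKst (φ k) (Subgroup.mem_map_of_mem φ hkv) y hyK
        refine eq_of_le_of_card_ge hle ?_
        have h1 := card_sup hKD
        rw [hKsup, Subgroup.card_top, hV, hd] at h1
        rw [h.card r hr, he]
        omega
      exact hE ((hfix p hp rfl).trans (hfix q hq hD.symm).symm)
  · -- the moved parts are members
    obtain ⟨⟨I, hI⟩, -⟩ := h.both hdis hp
    obtain ⟨⟨J, hJ⟩, -⟩ := h.both hdis hq
    have hI2 : I = p.2 := eq_of_le_of_card_ge hI.2 (by rw [h.card_fix hI.1 hp, h.card p hp, hd, he]; norm_num)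
    have hJ2 : J = q.2 := eq_of_le_of_card_ge hJ.2 (by rw [h.card_fix hJ.1 hp, h.card q hq, hd, he]; norm_num)
    have hmeet : p.2 ⊓ q.2 ≠ ⊥ := fun e => by
      have h1 := card_sup e
      rw [h.card p hp, h.card q hq, he] at h1
      have h2 : Nat.card ↥(p.2 ⊔ q.2) ≤ Nat.card ↥(p.2 ⊔ Z) :=
        Nat.le_of_dvd Nat.card_pos (card_dvd_of_le (sup_le le_sup_left hqle))
      have h4 : Nat.card ↥(p.2 ⊔ Z) ≤ Nat.card p.2 * Nat.card Z := by
        rw [← Nat.card_prod]
        refine Nat.card_le_card_of_surjective (fun z : ↥p.2 × ↥Z =>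
          (⟨(z.1 : V) * z.2, Subgroup.mul_mem_sup z.1.2 z.2.2⟩ : ↥(p.2 ⊔ Z))) fun z => ?_
        obtain ⟨a, ha, b, hb, e⟩ := Subgroup.mem_sup.1 z.2
        exact ⟨(⟨a, ha⟩, ⟨b, hb⟩), Subtype.ext e⟩
      rw [h.card p hp, he] at h4
      omega
    obtain ⟨⟨x, hx⟩, hx1⟩ := (p.2 ⊓ q.2).ne_bot_iff_exists_ne_one.1 hmeet
    exact hE ((hI2.symm.trans (owner hdis hI.1 hJ.1 (fun e => hx1 (Subtype.ext e))
      (hI2 ▸ hx.1) (hJ2 ▸ hx.2))).trans hJ2)

end CombData

end Cfsg.Agent.Fus.Gold
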