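import Cfsg.Agent.Lib.Fus.Goldschmidt.CombUnique

/-!
# One moved part over each fixed part (for S1169)
-/

set_option autoImplicit false

namespace Cfsg.Agent.Fus.Gold

universe v w

/-- In the combinatorial data of the maximal factors, the fixed part determines the factor. -/
theorem no_defect {V : Type v} [CommGroup V] [Finite V] {Γ : Type w} [Group Γ] [Finite Γ] [MulDistribMulAction Γ V]
    {e : ℕ} {F : Set (Subgroup V × Subgroup V)} (h : CombData (Γ := Γ) e F) :
    ∀ p ∈ F, ∀ q ∈ F, p.1 = q.1 → p = q := by
  rcases h.dichotomy with hall | hdis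
  · exact (h.blocks hall).1
  · exact h.inj_fst hdis

end Cfsg.Agent.Fus.Gold
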