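import Cfsg.Agent.Lib.Fus.Goldschmidt.Basic

/-!
# A strongly closed subgroup of order four: definitions and first facts

`Four s`: `A` has order four and there is no strongly embedded subgroup.  `FourType s y`: an involution outside
`A` whose centraliser has, modulo the core, a simple component with the image of `A` as Sylow 2-subgroup.
`Frame s`: the local structure at a maximal such involution.
-/

set_option autoImplicit false
set_option linter.style.haveILetI false

namespace Cfsg.Agent.Fus.Gold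

open Subgroup
open scoped commutatorElement

universe u

variable {G : Type u} [Group G] [Finite G]

/-- `N(A)` has no subgroup of index two containing `C(A)`. -/
theorem relIndex_ne_two (s : Setup G) {Δ : Subgroup G} (hC : centralizer (s.A : Set G) ≤ Δ) :
    Δ.relIndex (normalizer (s.A : Set G)) ≠ 2 := by
  intro h2
  haveI : Fact (Nat.Prime 2) := ⟨Nat.prime_two⟩
  haveI := s.simple
  set N := normalizer (s.A : Set G)
  haveI hn : (Δ.subgroupOf N).Normal := Subgroup.normal_of_index_eq_two h2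
  have hfoc : focalSubgroup (s.S : Subgroup G) ≤ Δ := by
    rw [focalSubgroup_def, Subgroup.closure_le]
    rintro _ ⟨hg, x, hx, u, rfl⟩
    have hu : u * x⁻¹ * u⁻¹ ∈ (s.S : Subgroup G) := by
      have := (s.S : Subgroup G).mul_mem ((s.S : Subgroup G).inv_mem hx) hg
      rwa [show x⁻¹ * ⁅x, u⁆ = u * x⁻¹ * u⁻¹ by rw [commutatorElement_def]; group] at this
    obtain ⟨n, hn', hnx⟩ := s.control (X := {x⁻¹}) (Set.singleton_subset_iff.2 ((s.S : Subgroup G).inv_mem hx)) (g := u) (by simpa using hu)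
    have hxN : x ∈ N := s.sylow_le_normalizer hx
    have hcomm : ⁅(⟨x, hxN⟩ : N), (⟨n, hn'⟩ : N)⁆ ∈ Δ.subgroupOf N := by
      rw [← QuotientGroup.eq_one_iff, ← QuotientGroup.mk'_apply, map_commutatorElement,
        commutatorElement_eq_one_iff_mul_comm]
      have : IsCyclic (N ⧸ Δ.subgroupOf N) := isCyclic_of_prime_card (p := 2) h2
      exact (IsCyclic.isMulCommutative (α := N ⧸ Δ.subgroupOf N)).is_comm.comm _ _
    show ⁅x, u⁆ ∈ Δ
    rw [commutatorElement_def, show x * u * x⁻¹ * u⁻¹ = x * (u * x⁻¹ * u⁻¹) by group, ← hnx _ rfl,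
      show x * (n * x⁻¹ * n⁻¹) = ⁅x, n⁆ by rw [commutatorElement_def]; group]
    exact mem_subgroupOf.1 hcomm
  have hperf : commutator G = ⊤ := (Invol.GW.CentralFour.perfect_of_simple s.nonab).commutator_eq_top
  have hS : (s.S : Subgroup G) ≤ Δ := by
    refine le_trans ?_ hfoc
    rw [← commutator_inf_eq_focalSubgroup, hperf, top_inf_eq]
  refine s.S.not_dvd_index ?_
  rw [← relIndex_mul_index s.sylow_le_normalizer]
  exact Dvd.dvd.mul_right (dvd_trans h2.symm.dvd (Subgroup.relIndex_dvd_of_le_left N hS)) _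

/-- The hypotheses of the case of order four. -/
structure Four (s : Setup G) : Prop where
  card : Nat.card s.A = 4
  nse : ¬ ∃ H : Subgroup G, Cfsg.IsStronglyEmbedded H

/-- An involution `y` of `S` outside `A` whose centraliser has a component modulo the core with Sylow
2-subgroup the image of `A`. -/
structure FourType (s : Setup G) (y : G) : Prop where
  inv : orderOf y = 2
  mem : y ∈ (s.S : Subgroup G)
  not_mem : y ∉ s.A
  comp : ∃ K : Subgroup (Cq y), Cfsg.IsComponent K ∧ IsSimpleGroup ↥K ∧ ¬ IsMulCommutative ↥K ∧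
    imA s.A y ≤ K ∧ ∃ T : Sylow 2 ↥K, (T : Subgroup ↥K) = (imA s.A y).subgroupOf K

/-- The structure at a maximal involution of four type. -/
structure Frame (s : Setup G) where
  D : Subgroup G
  T : Subgroup G
  y : G
  h : G
  four : FourType s y
  y_mem : y ∈ D
  D_le : D ≤ (s.S : Subgroup G)
  disj : s.A ⊓ D = ⊥
  D_sq : ∀ d ∈ D, d * d = 1
  cardD : Nat.card D = 2 ∨ Nat.card D = 4
  cent : ∀ x ∈ s.A ⊔ D, x ∉ s.A → (s.S : Subgroup G) ⊓ centralizer ({x} : Set G) = s.A ⊔ D
  max : ∀ x ∈ (s.S : Subgroup G), orderOf x = 2 → x ∉ s.A → ∀ R : Subgroup G, IsPGroup 2 R →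
    R ≤ centralizer (s.A : Set G) → R ≤ centralizer ({x} : Set G) → Nat.card R ≤ 4 * Nat.card D
  h_order : ∃ k : ℕ, orderOf h = 3 ^ k
  h_norm : h ∈ normalizer (s.A : Set G)
  h_fpf : ∀ a ∈ s.A, h * a * h⁻¹ = a → a = 1
  h_D : ∀ d ∈ D, h * d = d * h
  h_Q : h ∈ normalizer
    (((s.S : Subgroup G) ⊓ normalizer ((s.A ⊔ D : Subgroup G) : Set G) : Subgroup G) : Set G)
  h_T : h ∈ normalizer (T : Set G)
  sylowQ : ∀ R : Subgroup G, IsPGroup 2 R → R ≤ centralizer (s.A : Set G) →
    R ≤ normalizer ((s.A ⊔ D : Subgroup G) : Set G) →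
    (s.S : Subgroup G) ⊓ normalizer ((s.A ⊔ D : Subgroup G) : Set G) ≤ R →
    R = (s.S : Subgroup G) ⊓ normalizer ((s.A ⊔ D : Subgroup G) : Set G)
  A_le_T : s.A ≤ T
  T_inf : T ⊓ (s.A ⊔ D) = s.A
  T_sup : T ⊔ (s.A ⊔ D) = (s.S : Subgroup G) ⊓ normalizer ((s.A ⊔ D : Subgroup G) : Set G)
  cardT : Nat.card T = 16
  T_comm : ∀ t ∈ T, ∀ t' ∈ T, t * t' = t' * t
  h_T_fpf : ∀ t ∈ T, h * t * h⁻¹ * t⁻¹ ∈ s.A → t ∈ s.A
  sq_mem : ∀ t ∈ T, t * t ∈ s.A
  bracket_mem : ∀ t ∈ T, ∀ d ∈ D, t * d * t⁻¹ * d⁻¹ ∈ s.A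
  bracket_ne : ∀ t ∈ T, t ∉ s.A → ∀ d ∈ D, d ≠ 1 → t * d * t⁻¹ * d⁻¹ ≠ 1

namespace Frame

variable {s : Setup G} (f : Frame s)

/-- The elementary centraliser `A × D`. -/
abbrev P : Subgroup G := s.A ⊔ f.D

/-- The normaliser in `S` of `A × D`. -/
abbrev Q : Subgroup G := (s.S : Subgroup G) ⊓ normalizer ((s.A ⊔ f.D : Subgroup G) : Set G)

end Frame

namespace Four

variable {s : Setup G} (h : Four s)

include h

/-- `N(A)/C(A)` has odd order. -/
theorem odd {g : G} (hg : g ∈ normalizer (s.A : Set G))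
    (h2 : ∀ x ∈ s.A, g * g * x * (g * g)⁻¹ = x) : ∀ x ∈ s.A, g * x * g⁻¹ = x := by
  classical
  by_contra hne
  push Not at hne
  obtain ⟨x₀, hx₀, hne⟩ := hne
  set N := normalizer (s.A : Set G)
  letI : Fintype ↥s.A := Fintype.ofFinite _
  let f : N →* Equiv.Perm ↥s.A :=
    { toFun := fun n =>
        { toFun := fun a => ⟨n * a * (n : G)⁻¹, (mem_normalizer_iff.1 n.2 _).1 a.2⟩
          invFun := fun a => ⟨(n : G)⁻¹ * a * n, (mem_normalizer_iff.1 n.2 _).2 (by
            rw [show (n : G) * ((n : G)⁻¹ * a * n) * (n : G)⁻¹ = a by group]; exact a.2)⟩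
          left_inv := fun a => Subtype.ext (by simp [mul_assoc])
          right_inv := fun a => Subtype.ext (by simp [mul_assoc]) }
      map_one' := Equiv.ext fun a => Subtype.ext (by simp []) 
      map_mul' := fun m n => Equiv.ext fun a => Subtype.ext (by
        simp [mul_assoc]) }
  have fv : ∀ (n : N) (a : ↥s.A), ((f n a : ↥s.A) : G) = n * a * (n : G)⁻¹ := fun n a => by
    rfl
  let σ := f ⟨g, hg⟩
  have hσ : ∀ a : ↥s.A, σ (σ a) = a := fun a => Subtype.ext (by
    rw [fv, fv]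
    calc g * (g * (a : G) * g⁻¹) * g⁻¹ = g * g * a * (g * g)⁻¹ := by group
      _ = _ := h2 a a.2)
  let u : ↥s.A := ⟨x₀, hx₀⟩
  let v : ↥s.A := σ u
  have huv : v ≠ u := fun e => hne (by
    have := congrArg Subtype.val e
    rwa [show ((v : ↥s.A) : G) = g * x₀ * g⁻¹ from fv _ _] at this)
  have hswap : σ = Equiv.swap u v := by
    have hfix : σ (u * v) = u * v := Subtype.ext (by
      have e1 : ((σ (u * v) : ↥s.A) : G) = ((σ u : ↥s.A) : G) * ((σ v : ↥s.A) : G) := by
        rw [fv, fv, fv, Subgroup.coe_mul]; group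
      rw [e1, show σ v = u from hσ u]
      exact s.comm v.2 u.2)
    have hone : σ 1 = 1 := Subtype.ext (by rw [fv]; simp)
    have hu1 : u ≠ 1 := fun e => huv (by show σ u = u; rw [e, hone])
    have hv1 : v ≠ 1 := fun e => hu1 (σ.injective (by rw [hone]; exact e))
    have huv1 : u * v ≠ 1 := fun e => huv (by
      rw [show v = u⁻¹ from eq_inv_of_mul_eq_one_right e]
      exact inv_eq_of_mul_eq_one_right (Subtype.ext (s.sq u.2)))
    have huniv : ({1, u, v, u * v} : Finset ↥s.A) = Finset.univ := by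
      refine Finset.eq_univ_of_card _ ?_
      rw [← Nat.card_eq_fintype_card, h.card]
      rw [Finset.card_insert_of_notMem, Finset.card_insert_of_notMem, Finset.card_pair]
      · intro e; exact hu1 (mul_eq_right.1 e.symm)
      · simp only [Finset.mem_insert, Finset.mem_singleton, not_or]
        exact ⟨huv.symm, fun e => hv1 (mul_eq_left.1 e.symm)⟩
      · simp only [Finset.mem_insert, Finset.mem_singleton, not_or]
        exact ⟨hu1.symm, hv1.symm, huv1.symm⟩
    ext1 a
    have ha : a ∈ ({1, u, v, u * v} : Finset ↥s.A) := huniv ▸ Finset.mem_univ a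
    simp only [Finset.mem_insert, Finset.mem_singleton] at ha
    rcases ha with rfl | rfl | rfl | rfl
    · rw [hone, Equiv.swap_apply_of_ne_of_ne hu1.symm hv1.symm]
    · rw [Equiv.swap_apply_left]
    · rw [Equiv.swap_apply_right, show σ v = u from hσ u]
    · rw [hfix, Equiv.swap_apply_of_ne_of_ne (fun e => hv1 (mul_eq_left.1 e)) (fun e => hu1 (mul_eq_right.1 e))]
  let χ : N →* ℤˣ := (Equiv.Perm.sign).comp f
  have hχ : χ ⟨g, hg⟩ = -1 := by
    show Equiv.Perm.sign σ = -1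
    rw [hswap, Equiv.Perm.sign_swap huv.symm]
  refine relIndex_ne_two s (Δ := χ.ker.map N.subtype) (fun c hc => ?_) ?_
  · have hcN : c ∈ N := mem_normalizer_fintype fun a ha => by
      rwa [← mem_centralizer_iff.1 hc a ha, mul_inv_cancel_right]
    refine ⟨⟨c, hcN⟩, ?_, rfl⟩
    rw [SetLike.mem_coe, MonoidHom.mem_ker]
    show Equiv.Perm.sign (f ⟨c, hcN⟩) = 1
    rw [show f ⟨c, hcN⟩ = 1 from Equiv.ext fun a => Subtype.ext (by
      rw [fv, Equiv.Perm.one_apply, ← mem_centralizer_iff.1 hc a a.2, mul_inv_cancel_right]), map_one]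
  · rw [relIndex, show (χ.ker.map N.subtype).subgroupOf N = χ.ker from comap_map_eq_self_of_injective N.subtype_injective _, Subgroup.index_ker]
    have : χ.range = ⊤ := eq_top_iff.2 fun z _ => by
      rcases Int.units_eq_one_or z with rfl | rfl
      exacts [one_mem _, ⟨_, hχ⟩]
    rw [this, Subgroup.card_top]
    simp

/-- `A` is central in `S`. -/
theorem central : (s.S : Subgroup G) ≤ centralizer (s.A : Set G) := by
  haveI : Fact (Nat.Prime 2) := ⟨Nat.prime_two⟩
  intro x hx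
  obtain ⟨k, hk⟩ := s.S.isPGroup' ⟨x, hx⟩
  have hk' : x ^ 2 ^ k = 1 := congrArg Subtype.val hk
  have main : ∀ i ≤ k, x ^ 2 ^ (k - i) ∈ centralizer (s.A : Set G) := by
    intro i
    induction i with
    | zero => intro _; rw [Nat.sub_zero, hk']; exact one_mem _
    | succ i ih =>
      intro hi
      have hN : x ^ 2 ^ (k - (i + 1)) ∈ normalizer (s.A : Set G) := pow_mem (s.sylow_le_normalizer hx) _
      have h2 : x ^ 2 ^ (k - i) = x ^ 2 ^ (k - (i + 1)) * x ^ 2 ^ (k - (i + 1)) := by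
        rw [← pow_add, ← two_mul, ← pow_succ', show k - (i + 1) + 1 = k - i by omega]
      refine mem_centralizer_iff.2 fun a ha => ?_
      have h1 := h.odd hN (fun b hb => by
        rw [← h2, ← mem_centralizer_iff.1 (ih (by omega)) b hb, mul_inv_cancel_right]) a ha
      exact (mul_inv_eq_iff_eq_mul.1 h1).symm
  simpa using main k le_rfl

/-- `N(A)` is transitive on the involutions of `A`. -/
theorem transitive {a b : G} (ha : a ∈ s.A) (hb : b ∈ s.A) (ha1 : a ≠ 1) (hb1 : b ≠ 1) :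
    ∃ n ∈ normalizer (s.A : Set G), n * a * n⁻¹ = b := by
  classical
  have hmove : ∀ c ∈ s.A, c ≠ 1 → ∃ n ∈ normalizer (s.A : Set G), n * c * n⁻¹ ≠ c := by
    intro c hc hc1
    by_contra hh
    push Not at hh
    rcases s.irred (zpowers c) (zpowers_le.2 hc) (fun g hg v hv => by
      obtain ⟨i, rfl⟩ := mem_zpowers_iff.1 hv
      rw [← conj_zpow, hh g hg]
      exact zpow_mem (mem_zpowers c) i) with e | e
    · exact hc1 (zpowers_eq_bot.1 e)
    · have := h.card
      rw [← e, Nat.card_zpowers, s.orderOf_eq hc hc1] at this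
      omega
  by_contra hh
  push Not at hh
  obtain ⟨n, hn, hna⟩ := hmove a ha ha1
  set a' := n * a * n⁻¹ with ha'
  have ha'A : a' ∈ s.A := (mem_normalizer_iff.1 hn a).1 ha
  have ha'1 : a' ≠ 1 := fun e => ha1 (conj_eq_one_iff.1 e)
  have hab : a' ≠ b := hh n hn
  -- `n` moves `a'` to `a`
  have hfour : ∀ c ∈ s.A, c = 1 ∨ c = a ∨ c = a' ∨ c = a * a' := by
    intro c hc
    letI : Fintype ↥s.A := Fintype.ofFinite _
    have huniv : ({1, ⟨a, ha⟩, ⟨a', ha'A⟩, ⟨a * a', mul_mem ha ha'A⟩} : Finset ↥s.A) = Finset.univ := by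
      refine Finset.eq_univ_of_card _ ?_
      rw [← Nat.card_eq_fintype_card, h.card]
      have e3 : a * a' ≠ 1 := fun e => hna ((eq_inv_of_mul_eq_one_right e).trans
        (inv_eq_of_mul_eq_one_right (s.sq ha)))
      simp [Subtype.ext_iff, ha1.symm, ha'1.symm, e3.symm, hna, hna.symm, ha1, ha'1]
    have hc' : (⟨c, hc⟩ : ↥s.A) ∈ ({1, ⟨a, ha⟩, ⟨a', ha'A⟩, ⟨a * a', mul_mem ha ha'A⟩} : Finset ↥s.A) :=
      huniv ▸ Finset.mem_univ _
    simpa [Subtype.ext_iff] using hc'
  have hb' : b = a * a' := by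
    rcases hfour b hb with e | e | e | e
    · exact absurd e hb1
    · exact absurd (by rw [e]; simp) (hh 1 (one_mem _))
    · exact absurd e.symm hab
    · exact e
  rcases hfour (n * a' * n⁻¹) ((mem_normalizer_iff.1 hn a').1 ha'A) with e | e | e | e
  · exact ha'1 (conj_eq_one_iff.1 e)
  · refine hna (h.odd hn (fun c hc => ?_) a ha)
    have h2a : n * n * a * (n * n)⁻¹ = a := by
      calc n * n * a * (n * n)⁻¹ = n * (n * a * n⁻¹) * n⁻¹ := by group
        _ = a := e
    have h2a' : n * n * a' * (n * n)⁻¹ = a' := by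
      calc n * n * a' * (n * n)⁻¹ = n * (n * n * a * (n * n)⁻¹) * n⁻¹ := by rw [ha']; group
        _ = a' := by rw [h2a]
    rcases hfour c hc with rfl | rfl | rfl | rfl
    · group
    · exact h2a
    · exact h2a'
    · calc n * n * (a * a') * (n * n)⁻¹ = n * n * a * (n * n)⁻¹ * (n * n * a' * (n * n)⁻¹) := by group
        _ = _ := by rw [h2a, h2a']
  · exact hna ((MulAut.conj n).injective (show n * (n * a * n⁻¹) * n⁻¹ = n * a * n⁻¹ from e))
  · exact hh (n * n) (mul_mem hn hn) (by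
      rw [hb', ← e, ha']; group)

/-- `C(a) ∩ N(A) = C(A)`. -/
theorem centralizer_inf_normalizer {a : G} (ha : a ∈ s.A) (ha1 : a ≠ 1) :
    centralizer ({a} : Set G) ⊓ normalizer (s.A : Set G) ≤ centralizer (s.A : Set G) := by
  rintro n ⟨hc, hn⟩
  have hfix : n * a * n⁻¹ = a := mul_inv_eq_iff_eq_mul.2 (mem_centralizer_singleton_iff.1 hc)
  refine mem_centralizer_iff.2 fun x hx => ?_
  refine (mul_inv_eq_iff_eq_mul.1 (h.odd hn (fun v hv => ?_) x hx)).symm
  classical
  -- `n ^ 2` fixes two of the three involutions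
  have hset : ∀ v ∈ s.A, v ≠ 1 → v ≠ a → ∀ w ∈ s.A, w = 1 ∨ w = a ∨ w = v ∨ w = a * v := by
    intro v hv hv1 hva w hw
    letI : Fintype ↥s.A := Fintype.ofFinite _
    have e3 : a * v ≠ 1 := fun e => hva ((eq_inv_of_mul_eq_one_right e).trans
      (inv_eq_of_mul_eq_one_right (s.sq ha)))
    have huniv : ({1, ⟨a, ha⟩, ⟨v, hv⟩, ⟨a * v, mul_mem ha hv⟩} : Finset ↥s.A) = Finset.univ := by
      refine Finset.eq_univ_of_card _ ?_
      rw [← Nat.card_eq_fintype_card, h.card]
      simp [Subtype.ext_iff, ha1.symm, hv1.symm, e3.symm, hva, hva.symm, ha1, hv1]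
    have hc' : (⟨w, hw⟩ : ↥s.A) ∈ ({1, ⟨a, ha⟩, ⟨v, hv⟩, ⟨a * v, mul_mem ha hv⟩} : Finset ↥s.A) :=
      huniv ▸ Finset.mem_univ _
    simpa [Subtype.ext_iff] using hc'
  rcases eq_or_ne v 1 with rfl | hv1
  · group
  rcases eq_or_ne v a with rfl | hva
  · rw [show n * n * v * (n * n)⁻¹ = n * (n * v * n⁻¹) * n⁻¹ by group, hfix, hfix]
  have hnv : n * v * n⁻¹ ∈ s.A := (mem_normalizer_iff.1 hn v).1 hv
  rcases hset v hv hv1 hva _ hnv with e | e | e | e
  · exact absurd (conj_eq_one_iff.1 e) hv1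
  · exact absurd ((MulAut.conj n).injective (show n * v * n⁻¹ = n * a * n⁻¹ by rw [e, hfix])) hva
  · rw [show n * n * v * (n * n)⁻¹ = n * (n * v * n⁻¹) * n⁻¹ by group, e, e]
  · calc n * n * v * (n * n)⁻¹ = n * (n * v * n⁻¹) * n⁻¹ := by group
      _ = n * (a * v) * n⁻¹ := by rw [e]
      _ = n * a * n⁻¹ * (n * v * n⁻¹) := by group
      _ = v := by rw [hfix, e, ← mul_assoc, s.sq ha, one_mul]

end Four

end Cfsg.Agent.Fus.Gold
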