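import Cfsg.Agent.Lib.Fus.Goldschmidt.Defect
import Cfsg.Agent.Lib.Fus.Goldschmidt.Blocks
import Cfsg.Agent.Lib.Fus.Goldschmidt.FourBase
import Cfsg.Agent.Lib.Invol.StrongClosed.Singletons

/-!
# The maximal factors: a strongly embedded subgroup, or order eight

The factors with smallest fixed part in one orbit of `N(A)` satisfy the combinatorial axioms.  If their
fixed parts meet, they form blocks and there is a strongly embedded subgroup; otherwise `|A| = 8` and every
point of `A` is the fixed part of exactly one factor (`Eight`).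
-/

set_option autoImplicit false
set_option linter.style.haveILetI false

namespace Cfsg.Agent.Fus.Gold

open Subgroup

universe u

variable {G : Type u} [Group G] [Finite G]

/-- `A` as a commutative group. -/
@[reducible] def Setup.commA (s : Setup G) : CommGroup ↥s.A :=
  { (inferInstance : Group ↥s.A) with mul_comm := fun x y => Subtype.ext (s.comm x.2 y.2) }

/-- The seven-point configuration. -/
structure Eight (s : Setup G) : Prop where
  card : Nat.card s.A = 8
  fac : ∀ v ∈ s.A, v ≠ 1 → ∃ K, Moved s.A v K ∧ dPart s.A v K = zpowers v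
  inj : ∀ a ∈ s.A, a ≠ 1 → ∀ b ∈ s.A, b ≠ 1 → ∀ K K', Moved s.A a K → Moved s.A b K' →
    ePart s.A a K = ePart s.A b K' → a = b
  odd : ∀ g ∈ normalizer (s.A : Set G), (∀ x ∈ s.A, g * g * x * (g * g)⁻¹ = x) →
    ∀ x ∈ s.A, g * x * g⁻¹ = x
  trans : ∀ a ∈ s.A, ∀ b ∈ s.A, a ≠ 1 → b ≠ 1 → ∃ g ∈ normalizer (s.A : Set G), g * a * g⁻¹ = b

/-- A maximal factor in the orbit of `D₀`. -/
structure IsFac (s : Setup G) (D₀ D E : Subgroup G) : Prop where
  orbit : ∃ g ∈ normalizer (s.A : Set G), D = D₀.map (MulAut.conj g).toMonoidHom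
  src : ∃ a ∈ s.A, a ≠ 1 ∧ ∃ K, Moved s.A a K ∧ dPart s.A a K = D ∧ E ≤ ePart s.A a K
  disj : E ⊓ D = ⊥
  sup : D ⊔ E = s.A
  trans : ∀ x ∈ E, ∀ y ∈ E, x ≠ 1 → y ≠ 1 → ∃ g ∈ normalizer (s.A : Set G),
    (∀ d ∈ D, g * d * g⁻¹ = d) ∧ (∀ v ∈ E, g * v * g⁻¹ ∈ E) ∧ g * x * g⁻¹ = y

variable (s : Setup G)

/-- A conjugate by an element normalising `A`. -/
theorem IsFac.conj {D₀ D E : Subgroup G} (h : IsFac s D₀ D E) {g : G} (hg : g ∈ normalizer (s.A : Set G)) :
    IsFac s D₀ (D.map (MulAut.conj g).toMonoidHom) (E.map (MulAut.conj g).toMonoidHom) := by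
  obtain ⟨a, ha, ha1, K, hK, hD, hE⟩ := h.src
  have hA : s.A.map (MulAut.conj g).toMonoidHom = s.A := by
    refine eq_of_le_of_card_ge ?_ (card_map_of_injective (f := (MulAut.conj g).toMonoidHom) (MulAut.conj g).injective).ge
    rintro _ ⟨x, hx, rfl⟩
    exact (mem_normalizer_iff.1 hg x).1 hx
  refine ⟨?_, ?_, ?_, ?_, ?_⟩
  · obtain ⟨n, hn, rfl⟩ := h.orbit
    refine ⟨g * n, mul_mem hg hn, ?_⟩
    rw [map_map]
    congr 1
    ext x
    show g * (n * x * n⁻¹) * g⁻¹ = g * n * x * (g * n)⁻¹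
    group
  · obtain ⟨K', hK', hD', hE'⟩ := _root_.Cfsg.Agent.Fus.Gold.conj s ha ha1 hg hK
    exact ⟨g * a * g⁻¹, (mem_normalizer_iff.1 hg a).1 ha, fun e => ha1 (conj_eq_one_iff.1 e), K', hK',
      by rw [hD', hD], (map_mono hE).trans hE'.ge⟩
  · rw [← Subgroup.map_inf _ _ _ (MulAut.conj g).injective, h.disj, Subgroup.map_bot]
  · rw [← Subgroup.map_sup, h.sup, hA]
  · rintro _ ⟨x, hx, rfl⟩ _ ⟨y, hy, rfl⟩ hx1 hy1
    obtain ⟨n, hn, hnD, hnE, hnxy⟩ := h.trans x hx y hy (fun e => hx1 (by rw [e, map_one]))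
      fun e => hy1 (by rw [e, map_one])
    refine ⟨g * n * g⁻¹, mul_mem (mul_mem hg hn) (inv_mem hg), ?_, ?_, ?_⟩
    · rintro _ ⟨d, hd, rfl⟩
      show g * n * g⁻¹ * (g * d * g⁻¹) * (g * n * g⁻¹)⁻¹ = g * d * g⁻¹
      conv_rhs => rw [← hnD d hd]
      group
    · rintro _ ⟨v, hv, rfl⟩
      refine ⟨_, hnE v hv, ?_⟩
      show g * (n * v * n⁻¹) * g⁻¹ = g * n * g⁻¹ * (g * v * g⁻¹) * (g * n * g⁻¹)⁻¹
      group
    · show g * n * g⁻¹ * (g * x * g⁻¹) * (g * n * g⁻¹)⁻¹ = g * y * g⁻¹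
      rw [← hnxy]
      group

/-- The same factor seen at another point of its fixed part. -/
theorem exists_at {D : Subgroup G} (hmin : ∀ a ∈ s.A, a ≠ 1 → ∀ K, Moved s.A a K →
    Nat.card D ≤ Nat.card ↥(dPart s.A a K)) {a : G} (ha : a ∈ s.A) (ha1 : a ≠ 1) {K : Subgroup (Cq a)}
    (hK : Moved s.A a K) (hD : dPart s.A a K = D) {b : G} (hb : b ∈ D) (hb1 : b ≠ 1) :
    ∃ K', Moved s.A b K' ∧ dPart s.A b K' = D ∧ ePart s.A a K ≤ ePart s.A b K' := by
  obtain ⟨K', hK', hE, hle⟩ := nest s ha ha1 hK (hD ▸ hb) hb1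
  exact ⟨K', hK', eq_of_le_of_card_ge (hD ▸ hle) (hmin b (dPart_le s.A a K (hD ▸ hb)) hb1
    K' hK'), hE⟩

/-- Factors with meeting, different fixed parts are orthogonal. -/
theorem orth_at {D D' : Subgroup G} (hmin : ∀ a ∈ s.A, a ≠ 1 → ∀ K, Moved s.A a K →
    Nat.card D ≤ Nat.card ↥(dPart s.A a K)) (hmin' : ∀ a ∈ s.A, a ≠ 1 → ∀ K, Moved s.A a K →
    Nat.card D' ≤ Nat.card ↥(dPart s.A a K))
    {a : G} (ha : a ∈ s.A) (ha1 : a ≠ 1) {K : Subgroup (Cq a)} (hK : Moved s.A a K) (hD : dPart s.A a K = D)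
    {a' : G} (ha' : a' ∈ s.A) (ha'1 : a' ≠ 1) {K' : Subgroup (Cq a')} (hK' : Moved s.A a' K')
    (hD' : dPart s.A a' K' = D') (hne : D ≠ D') (hmeet : D ⊓ D' ≠ ⊥) :
    ePart s.A a' K' ≤ D := by
  obtain ⟨⟨b, hb⟩, hb1⟩ := ne_bot_iff_exists_ne_one.1 hmeet
  have hb1' : b ≠ 1 := fun e => hb1 (Subtype.ext e)
  obtain ⟨L, hL, hLD, -⟩ := exists_at s hmin ha ha1 hK hD hb.1 hb1'
  obtain ⟨L', hL', hLD', hLE'⟩ := exists_at s hmin' ha' ha'1 hK' hD' hb.2 hb1'
  exact hLE'.trans (hLD ▸ orth s (dPart_le s.A a K (hD ▸ hb.1)) hb1' hL.1 hL'.1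
    fun e => hne (by rw [← hLD, e, hLD']))

/-- The case of order at least eight: strongly embedded, or the seven-point configuration. -/
theorem se_or_eight (h8 : 8 ≤ Nat.card s.A) : (∃ H : Subgroup G, Cfsg.IsStronglyEmbedded H) ∨ Eight s := by
  classical
  haveI : Fact (Nat.Prime 2) := ⟨Nat.prime_two⟩
  by_cases hno : ∀ a ∈ s.A, a ≠ 1 → ∀ K, ¬ Moved s.A a K
  · exact Or.inl (se_of_no_moved s h8 hno)
  push Not at hno
  obtain ⟨a₁, ha₁, ha₁1, K₁, hK₁⟩ := hno
  -- a smallest fixed part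
  obtain ⟨D₀, ⟨a₀, ha₀, ha₀1, K₀, hK₀, rfl⟩, hmin₀⟩ := Set.exists_min_image
    {D : Subgroup G | ∃ a ∈ s.A, a ≠ 1 ∧ ∃ K, Moved s.A a K ∧ dPart s.A a K = D} (fun D => Nat.card D)
    (Set.toFinite _) ⟨_, a₁, ha₁, ha₁1, K₁, hK₁, rfl⟩
  set D₀ := dPart s.A a₀ K₀ with hD₀
  have hmin : ∀ a ∈ s.A, a ≠ 1 → ∀ K, Moved s.A a K → Nat.card D₀ ≤ Nat.card ↥(dPart s.A a K) :=
    fun a ha ha1 K hK => hmin₀ _ ⟨a, ha, ha1, K, hK, rfl⟩
  obtain ⟨i, hi⟩ := IsPGroup.iff_card.1 (Grp.elemAb_isPGroup s.elem)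
  obtain ⟨j, hj⟩ := IsPGroup.iff_card.1 ((Grp.elemAb_isPGroup s.elem).to_le (dPart_le s.A a₀ K₀))
  have h4 := four s ha₀ ha₀1 hK₀
  rw [← hD₀] at hj h4
  rw [hi, hj] at h4
  have hji : j + 2 ≤ i := (Nat.pow_le_pow_iff_right (le_refl 2)).1 (by rw [pow_add]; linarith)
  set e := i - j with he
  have hAe : Nat.card s.A = Nat.card D₀ * 2 ^ e := by rw [hi, hj, ← pow_add]; congr 1; omega
  have hcardD : ∀ {D E : Subgroup G}, IsFac s D₀ D E → Nat.card D = Nat.card D₀ := fun h => by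
    obtain ⟨g, -, rfl⟩ := h.orbit
    exact card_map_of_injective (MulAut.conj g).injective
  have hDA : ∀ {D E : Subgroup G}, IsFac s D₀ D E → D ≤ s.A := fun h => h.sup ▸ le_sup_left
  have hEA : ∀ {D E : Subgroup G}, IsFac s D₀ D E → E ≤ s.A := fun h => h.sup ▸ le_sup_right
  have hcardE : ∀ {D E : Subgroup G}, IsFac s D₀ D E → Nat.card E = 2 ^ e := by
    intro D E h
    have h1 := Grp.card_sup_mul_card_inf (H := D) (N := E) (((hDA h).trans (fun x hx => mem_centralizer_iff.2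
      fun v hv => s.comm ((hEA h) hv) hx)).trans (centralizer_le_normalizer _))
    rw [h.sup, inf_comm D E, h.disj, Subgroup.card_bot, mul_one, hAe, hcardD h] at h1
    exact (Nat.eq_of_mul_eq_mul_left Nat.card_pos h1).symm
  have hminD : ∀ {D E : Subgroup G}, IsFac s D₀ D E → ∀ a ∈ s.A, a ≠ 1 → ∀ K, Moved s.A a K →
      Nat.card D ≤ Nat.card ↥(dPart s.A a K) := fun h a ha ha1 K hK => hcardD h ▸ hmin a ha ha1 K hK
  -- the data on `V = A`
  letI : CommGroup ↥s.A := s.commA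
  set N := normalizer (s.A : Set G)
  let ι : ↥s.A →* G := s.A.subtype
  let up : Subgroup ↥s.A → Subgroup G := fun W => W.map s.A.subtype
  let dn : Subgroup G → Subgroup ↥s.A := fun W => W.subgroupOf s.A
  have updn : ∀ {W : Subgroup G}, W ≤ s.A → up (dn W) = W := fun hW => map_subgroupOf_eq_of_le hW
  have upinj : Function.Injective up := map_injective s.A.subtype_injective
  have upmap : ∀ (g : ↥N) (W : Subgroup ↥s.A),
      up (mp g W) = (up W).map (MulAut.conj (g : G)).toMonoidHom := by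
    intro g W
    show (W.map _).map _ = (W.map _).map _
    rw [map_map, map_map]
    rfl
  let F : Set (Subgroup ↥s.A × Subgroup ↥s.A) := {p | IsFac s D₀ (up p.1) (up p.2)}
  have hF : ∀ {D E : Subgroup G}, IsFac s D₀ D E → (dn D, dn E) ∈ F := fun h => by
    show IsFac s D₀ (up (dn _)) (up (dn _))
    rwa [updn (hDA h), updn (hEA h)]
  obtain ⟨E₀, hE₀, hE₀d, hE₀s, hE₀t⟩ := factor s ha₀ ha₀1 hK₀
  have hfac₀ : IsFac s D₀ D₀ E₀ := ⟨⟨1, one_mem _, by
    conv_lhs => rw [← Subgroup.map_id D₀]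
    congr 1
    ext x
    show x = 1 * x * 1⁻¹
    group⟩, ⟨a₀, ha₀, ha₀1, K₀, hK₀, rfl, hE₀⟩, hE₀d, hE₀s, hE₀t⟩
  have hconj : ∀ g : ↥N, ∀ p ∈ F, (mp g p.1, mp g p.2) ∈ F := fun g p hp => by
    show IsFac s D₀ (up (mp g p.1)) (up (mp g p.2))
    rw [upmap, upmap]
    exact IsFac.conj s hp g.2
  have hsmul : ∀ (g : ↥N) (v : ↥s.A), ((g • v : ↥s.A) : G) = g * v * (g : G)⁻¹ := fun g v => rfl
  have hirr : ∀ W : Subgroup ↥s.A, (∀ g : ↥N, ∀ v ∈ W, g • v ∈ W) → W = ⊥ ∨ W = ⊤ := by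
    intro W hW
    rcases s.irred (up W) (map_subtype_le _) (fun g hg b hb => by
      obtain ⟨v, hv, rfl⟩ := hb
      exact ⟨(⟨g, hg⟩ : ↥N) • v, hW _ v hv, rfl⟩) with h | h
    · exact Or.inl (upinj (h.trans (Subgroup.map_bot _).symm))
    · exact Or.inr (upinj (h.trans ((MonoidHom.range_eq_map _).symm.trans s.A.range_subtype).symm))
  have hnoTwo : ∀ Δ : Subgroup ↥N, (∀ g : ↥N, (∀ v : ↥s.A, g • v = v) → g ∈ Δ) → Δ.index ≠ 2 := by
    intro Δ hΔ h2
    refine relIndex_ne_two s (Δ := Δ.map N.subtype) (fun c hc => ?_) ?_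
    · have hcN : c ∈ N := centralizer_le_normalizer _ hc
      exact ⟨⟨c, hcN⟩, hΔ _ fun v => Subtype.ext (mul_inv_eq_iff_eq_mul.2
        (mem_centralizer_iff.1 hc v v.2).symm), rfl⟩
    · rw [relIndex, show (Δ.map N.subtype).subgroupOf N = Δ from comap_map_eq_self_of_injective N.subtype_injective _]
      exact h2
  have hC : CombData (Γ := ↥N) e F := by
    refine ⟨fun v => Subtype.ext (s.sq v.2), by omega, ⟨_, hF hfac₀⟩, hirr, hnoTwo, hconj, ?_, ?_, ?_, ?_, ?_, ?_,
      ?_, ?_⟩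
    · intro p hp
      refine upinj ?_
      show (p.1 ⊔ p.2).map _ = (⊤ : Subgroup ↥s.A).map _
      rw [Subgroup.map_sup, ← MonoidHom.range_eq_map, range_subtype]
      exact hp.sup
    · intro p hp
      refine upinj ?_
      show (p.1 ⊓ p.2).map _ = (⊥ : Subgroup ↥s.A).map _
      rw [Subgroup.map_inf _ _ _ s.A.subtype_injective, Subgroup.map_bot, inf_comm]
      exact hp.disj
    · intro p hp
      rw [← card_map_of_injective (K := p.2) s.A.subtype_injective]
      exact hcardE hp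
    · intro p hp hbot
      obtain ⟨a, ha, ha1, K, hK, hD, -⟩ := hp.src
      have := hD ▸ mem_dPart s ha ha1 (K := K)
      rw [hbot] at this
      obtain ⟨x, hx, hxa⟩ := this
      exact ha1 (by rw [← hxa, mem_bot.1 hx, map_one])
    · intro p hp q hq
      obtain ⟨g, hg, hgp⟩ := hp.orbit
      obtain ⟨n, hn, hnq⟩ := hq.orbit
      refine ⟨⟨n * g⁻¹, mul_mem hn (inv_mem hg)⟩, upinj ?_⟩
      rw [upmap, show up q.1 = _ from hnq, show up p.1 = _ from hgp, map_map]
      congr 1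
      ext x
      show n * g⁻¹ * (g * x * g⁻¹) * (n * g⁻¹)⁻¹ = n * x * n⁻¹
      group
    · intro p hp x hx y hy hx1 hy1
      obtain ⟨g, hg, hgD, hgE, hgxy⟩ := hp.trans x ⟨x, hx, rfl⟩ y ⟨y, hy, rfl⟩
        (fun e => hx1 (Subtype.ext e)) (fun e => hy1 (Subtype.ext e))
      refine ⟨⟨g, hg⟩, fun d hd => Subtype.ext (hgD d ⟨d, hd, rfl⟩), fun v hv => ?_, Subtype.ext hgxy⟩
      obtain ⟨w, hw, hwv⟩ := hgE v ⟨v, hv, rfl⟩
      have hwe : w = (⟨g, hg⟩ : ↥N) • v := Subtype.ext hwv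
      exact hwe ▸ hw
    · intro p hp q hq hne hmeet
      obtain ⟨a, ha, ha1, K, hK, hD, -⟩ := hp.src
      obtain ⟨a', ha', ha'1, K', hK', hD', hE'⟩ := hq.src
      refine (map_le_map_iff_of_injective s.A.subtype_injective).1 (hE'.trans ?_)
      exact orth_at s (hminD hp) (hminD hq) ha ha1 hK hD ha' ha'1 hK' hD' (upinj.ne hne) fun e => hmeet (upinj (by
        show (p.1 ⊓ q.1).map _ = (⊥ : Subgroup ↥s.A).map _
        rw [Subgroup.map_inf _ _ _ s.A.subtype_injective, Subgroup.map_bot]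
        exact e))
    · intro p hp q hq heq hne
      obtain ⟨a, ha, ha1, K, hK, hD, hE⟩ := hp.src
      obtain ⟨a', ha', ha'1, K', hK', hD', hE'⟩ := hq.src
      have haD : a' ∈ up p.1 := by rw [heq, ← hD']; exact mem_dPart s ha' ha'1
      obtain ⟨L, hL, hLD, hLE⟩ := exists_at s (hminD hp) ha ha1 hK hD haD ha'1
      obtain rfl : L = K' := eq_of_dPart s ha' ha'1 hL hK' (by rw [hLD, hD', heq])
      have hz : ePart s.A a' L ⊓ dPart s.A a' L ≠ ⊥ := by
        intro hbot
        rw [hD'] at hbot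
        have key : ∀ {r : Subgroup ↥s.A × Subgroup ↥s.A}, r ∈ F → r.1 = q.1 → up r.2 ≤ ePart s.A a' L →
            ePart s.A a' L = up r.2 := by
          intro r hr hrq hle
          refine le_antisymm (fun x hx => ?_) hle
          have hxA : x ∈ ((up r.1 ⊔ up r.2 : Subgroup G) : Set G) := by
            rw [SetLike.mem_coe, hr.sup]; exact hx.1
          rw [coe_mul_of_left_le_normalizer_right _ _ (((hDA hr).trans fun v hv => mem_centralizer_iff.2
            fun w hw => s.comm (hEA hr hw) hv).trans (centralizer_le_normalizer _))] at hxA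
          obtain ⟨d, hd, c, hc, rfl⟩ := hxA
          have hdE : d ∈ ePart s.A a' L := by
            have := (ePart s.A a' L).mul_mem hx ((ePart s.A a' L).inv_mem (hle hc))
            rwa [mul_inv_cancel_right] at this
          have hd1 : d = 1 := mem_bot.1 (hbot.le ⟨hdE, hrq ▸ hd⟩)
          show d * c ∈ up r.2
          rw [hd1, one_mul]; exact hc
        exact hne (upinj ((key hp heq (hE.trans hLE)).symm.trans (key hq rfl hE')))
      obtain ⟨h8D, hZ4, hodd⟩ := defect s ha' ha'1 hK' hz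
      refine ⟨?_, ⟨dn (ePart s.A a' L ⊓ dPart s.A a' L), ?_, ?_, ?_⟩, ?_⟩
      · rw [hD', hcardD hq, hAe, mul_comm] at h8D
        have : 2 ^ e = 2 ^ 3 := Nat.eq_of_mul_eq_mul_right Nat.card_pos h8D
        exact Nat.pow_right_injective (le_refl 2) this
      · rw [hD', heq]
        intro x hx
        obtain ⟨w, hw, hwx⟩ := (mem_subgroupOf.1 hx).2
        exact (Subtype.ext hwx : w = x) ▸ hw
      · rw [Nat.card_congr (subgroupOfEquivOfLe (inf_le_left.trans (ePart_le _ _ _))).toEquiv]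
        exact hZ4
      · intro x hx
        have hxE : (x : G) ∈ ePart s.A a' L := hE' ⟨x, hx, rfl⟩
        obtain ⟨d, hd, c, hc, hdc⟩ := mem_sup.1 ((show p.1 ⊔ p.2 = ⊤ by
          refine upinj ?_
          show (p.1 ⊔ p.2).map _ = (⊤ : Subgroup ↥s.A).map _
          rw [Subgroup.map_sup, ← MonoidHom.range_eq_map, range_subtype]
          exact hp.sup) ▸ mem_top x)
        refine mem_sup.2 ⟨c, hc, d, mem_subgroupOf.2 ⟨?_, ?_⟩, by rw [mul_comm]; exact hdc⟩
        · have hdE := (ePart s.A a' L).mul_mem hxE ((ePart s.A a' L).inv_mem ((hE.trans hLE) ⟨c, hc, rfl⟩))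
          rw [← hdc] at hdE
          simpa using hdE
        · rw [hD', ← heq]; exact ⟨d, hd, rfl⟩
      · intro g hg hg2 v
        have hpe : ∀ {x : G}, x ∈ dPart s.A a' L → ∃ d ∈ p.1, (d : G) = x := fun {x} hx => by
          rw [hD', ← heq] at hx; exact hx
        have h1 := hodd g g.2 (fun d hd => by
          obtain ⟨d', hd', rfl⟩ := hpe hd
          exact congrArg Subtype.val (hg d' hd')) (fun x hx => by
          have h2 : ((g • g • (⟨x, hx⟩ : ↥s.A) * ⟨x, hx⟩ : ↥s.A) : G) ∈ dPart s.A a' L := by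
            rw [hD', ← heq]; exact ⟨_, hg2 ⟨x, hx⟩, rfl⟩
          rw [inv_eq_of_mul_eq_one_right (s.sq hx)]
          convert h2 using 1
          show _ = (g : G) * (g * x * (g : G)⁻¹) * (g : G)⁻¹ * x
          group) v v.2
        rw [inv_eq_of_mul_eq_one_right (s.sq v.2)] at h1
        obtain ⟨d', hd', hde⟩ := hpe h1
        have hde' : d' = g • v * v := Subtype.ext hde
        exact hde' ▸ hd'
  have huniq := no_defect hC
  -- the factor system
  let φ : ↥N →* MulAut ↥s.A := MulDistribMulAction.toMulAut ↥N ↥s.A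
  have hφ : ∀ (g : ↥N) (W : Subgroup ↥s.A), W.map (φ g).toMonoidHom = mp g W := fun g W => rfl
  let stab : F → Subgroup ↥N := fun p =>
    { carrier := {g | (∀ d ∈ p.1.1, g • d = d) ∧ mp g p.1.2 = p.1.2}
      one_mem' := ⟨fun d _ => one_smul _ d, mp_one _⟩
      mul_mem' := fun {g k} hg hk => ⟨fun d hd => by rw [mul_smul, hk.1 d hd, hg.1 d hd],
        by rw [mp_mul, hk.2, hg.2]⟩
      inv_mem' := fun {g} hg => ⟨fun d hd => by
          conv_lhs => rw [← hg.1 d hd]
          exact inv_smul_smul g d,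
        by conv_lhs => rw [← hg.2, ← mp_mul, inv_mul_cancel, mp_one]⟩ }
  let S : Invol.StrongClosed.FacSys ↥s.A F :=
    { X := φ.range
      D := fun p => p.1.1
      E := fun p => p.1.2
      H := fun p => (stab p).map φ
      two := hC.sq
      H_le := fun p => map_le_range _ _
      D_fix := by rintro p _ ⟨g, hg, rfl⟩ x hx; exact hg.1 x hx
      E_stab := by
        rintro p _ ⟨g, hg, rfl⟩ x hx
        have : g • x ∈ mp g p.1.2 := mem_mp.2 hx
        rwa [hg.2] at this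
      E_trans := fun p x hx y hy hx1 hy1 => by
        obtain ⟨g, hg1, hg2, hg3⟩ := hC.trans p.1 p.2 x hx y hy hx1 hy1
        exact ⟨φ g, ⟨g, ⟨hg1, mp_eq_of_stable hg2⟩, rfl⟩, hg3⟩
      compl := fun p => ⟨disjoint_iff.2 (hC.disj p.1 p.2), codisjoint_iff.2 (hC.sup p.1 p.2)⟩
      D_ne := fun p => hC.ne p.1 p.2
      E_ne := fun p => hC.E_ne p.2
      act := by rintro _ ⟨g, rfl⟩ p; exact ⟨⟨_, hconj g p.1 p.2⟩, rfl, rfl⟩
      trans := fun p q => by
        obtain ⟨g, hg⟩ := hC.orbit p.1 p.2 q.1 q.2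
        have h := huniq _ (hconj g p.1 p.2) q.1 q.2 hg
        exact ⟨φ g, ⟨g, rfl⟩, hg.symm, (congrArg Prod.snd h).symm⟩
      ortho := fun p q hpq hmeet => by
        have hD : p.1.1 ≠ q.1.1 := fun h => hpq (Subtype.ext (huniq p.1 p.2 q.1 q.2 h))
        exact ⟨hC.orth q.1 q.2 p.1 p.2 (Ne.symm hD) (by rwa [inf_comm]), hC.orth p.1 p.2 q.1 q.2 hD hmeet⟩
      inj := fun p q h _ => Subtype.ext (huniq p.1 p.2 q.1 q.2 h)
      irr := fun W hW => hirr W fun g v hv => hW (φ g) ⟨g, rfl⟩ ⟨v, hv, rfl⟩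
      no_two := fun Y hY => by
        refine hnoTwo (Y.comap φ.rangeRestrict) (fun g hg => ?_) ?_
        · have : φ.rangeRestrict g = 1 := Subtype.ext (MulEquiv.ext hg)
          rw [mem_comap, this]; exact one_mem _
        · rw [index_comap_of_surjective _ φ.rangeRestrict_surjective]; exact hY }
  haveI : Nonempty F := ⟨⟨_, hF hfac₀⟩⟩
  rcases S.blocks_or_eight h8 with ⟨hoth, hgen, h3⟩ | ⟨hc8, hdis, hsmall, hcov, htr, hoddX⟩
  · -- blocks
    left
    let pr : F → Subgroup G × Subgroup G := fun p => (up p.1.1, up p.1.2)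
    have hpr : Function.Injective pr := fun p q h =>
      Subtype.ext (Prod.ext (upinj (congrArg Prod.fst h)) (upinj (congrArg Prod.snd h)))
    have hinter : ∀ x : ↥s.A, (∀ p : F, x ∈ p.1.1) → x = 1 := by
      intro x hx
      have h : (⨅ p : F, p.1.1) = ⊥ := (hirr _ fun g v hv => ?_).resolve_right fun h => ?_
      · exact mem_bot.1 (h ▸ Subgroup.mem_iInf.2 hx)
      · refine Subgroup.mem_iInf.2 fun p => ?_
        obtain ⟨q, hq, -⟩ := S.act (φ g⁻¹) ⟨_, rfl⟩ p
        have h1 : v ∈ q.1.1 := Subgroup.mem_iInf.1 hv q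
        rw [show q.1.1 = mp g⁻¹ p.1.1 from hq, mem_mp_iff, inv_inv] at h1
        exact h1
      · obtain ⟨p⟩ := ‹Nonempty F›
        refine hC.E_ne p.2 ((eq_bot_iff_forall _).2 fun v hv => hC.eq_one_of_DE p.2 ?_ hv)
        exact Subgroup.mem_iInf.1 (h ▸ mem_top v) p
    have hpow : ∀ t : Finset F, Nat.card ↥(⨆ p ∈ t, p.1.2) = (2 ^ e) ^ t.card := by
      intro t
      induction t using Finset.induction with
      | empty => simp
      | @insert p t hp ih =>
        rw [Finset.iSup_insert, Finset.card_insert_of_notMem hp, pow_succ', ← ih]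
        have hd : p.1.2 ⊓ (⨆ q ∈ t, q.1.2) = ⊥ := by
          rw [eq_bot_iff, ← hC.disj p.1 p.2, inf_comm p.1.1]
          exact inf_le_inf_left _ (iSup₂_le fun q hq => hoth q p fun h => hp (h ▸ hq))
        rw [card_sup hd, hC.card p.1 p.2]
    haveI : Fintype F := Fintype.ofFinite _
    have hfull : ∀ p : F, ∀ b ∈ up p.1.1, b ≠ 1 →
        ∃ L, Moved s.A b L ∧ dPart s.A b L = up p.1.1 ∧ ePart s.A b L = up p.1.2 := by
      intro p b hb hb1
      obtain ⟨a, ha, ha1, K, hK, hD, hE⟩ := p.2.src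
      obtain ⟨L, hL, hLD, hLE⟩ := exists_at s (hminD p.2) ha ha1 hK hD hb hb1
      refine ⟨L, hL, hLD, le_antisymm (fun x hx => ?_) (hE.trans hLE)⟩
      have hbA : b ∈ s.A := map_subtype_le _ hb
      obtain ⟨d, hd, c, hc, hdc⟩ := mem_sup.1 (hC.sup p.1 p.2 ▸ mem_top (⟨x, hx.1⟩ : ↥s.A))
      have hdx : (d : G) * c = x := congrArg Subtype.val hdc
      have hd1 : d = 1 := hinter d fun q => by
        rcases eq_or_ne q p with rfl | hqp
        · exact hd
        have hcq : c ∈ q.1.1 := hoth p q hqp.symm hc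
        obtain ⟨a', ha', ha'1, K', hK', hD', -⟩ := q.2.src
        have hmeet : up q.1.1 ⊓ up p.1.1 ≠ ⊥ := by
          obtain ⟨r, hrp, hrq⟩ : ∃ r : F, r ≠ p ∧ r ≠ q := by
            by_contra hr
            push Not at hr
            have : (Finset.univ : Finset F) ⊆ {p, q} := fun r _ => by
              by_cases hrp : r = p
              · simp [hrp]
              · simp [hr r hrp]
            have h2 := (Finset.card_le_card this).trans Finset.card_le_two
            rw [Finset.card_univ, ← Nat.card_eq_fintype_card] at h2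
            omega
          intro h
          refine hC.E_ne r.2 (upinj (le_antisymm (((le_inf (map_mono (hoth r q hrq)) (map_mono (hoth r p hrp))).trans h.le).trans bot_le) ?_))
          rw [show up ⊥ = ⊥ from Subgroup.map_bot _]; exact bot_le
        have hxq := orth_at s (hminD q.2) (hminD p.2) ha' ha'1 hK' hD' hbA hb1 hL hLD
          (fun h => hqp (hpr (congrArg pr (Subtype.ext (huniq q.1 q.2 p.1 p.2 (upinj h)))))) hmeet hx
        obtain ⟨x', hx', hxe⟩ := hxq
        have hxe' : x' = (⟨x, hx.1⟩ : ↥s.A) := Subtype.ext hxe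
        rw [hxe', ← hdc] at hx'
        simpa using q.1.1.mul_mem hx' (q.1.1.inv_mem hcq)
      refine ⟨c, hc, ?_⟩
      rw [← hdx, hd1]; simp
    refine blocks s (e := e) (by omega) (Set.range pr) ?_ ?_ ?_ ?_ ?_ ?_ ?_
    · rwa [Set.ncard_range_of_injective hpr]
    · rw [Set.ncard_range_of_injective hpr, Nat.card_eq_fintype_card (α := F), ← Finset.card_univ, ← hpow Finset.univ]
      simp only [Finset.mem_univ, iSup_pos]
      show Nat.card ↥(⨆ p, S.E p) = _
      rw [hgen, Subgroup.card_top]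
    · rintro _ ⟨p, rfl⟩
      exact ⟨map_subtype_le _, map_subtype_le _, by rw [inf_comm]; exact p.2.disj, p.2.sup, hcardE p.2⟩
    · rintro _ ⟨p, rfl⟩ _ ⟨q, rfl⟩ hpq
      exact map_mono (hoth q p fun h => hpq (h ▸ rfl))
    · rw [iSup_range]
      show (⨆ p : F, (S.E p).map s.A.subtype) = _
      rw [← Subgroup.map_iSup, hgen, ← MonoidHom.range_eq_map, range_subtype]
    · rintro _ ⟨p, rfl⟩ b hb hb1
      exact hfull p b hb hb1
    · intro a ha ha1 K hK
      by_contra hnot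
      push Not at hnot
      refine hK.2 ?_
      conv_lhs => rw [← range_subtype s.A, MonoidHom.range_eq_map, ← hgen, Subgroup.map_iSup]
      refine iSup_le fun p => ?_
      obtain ⟨a', ha', ha'1, K', hK', hD', hE'⟩ := p.2.src
      have hmeet : dPart s.A a K ⊓ up p.1.1 ≠ ⊥ := by
        intro h
        have h1 := Grp.card_sup_mul_card_inf (H := dPart s.A a K) (N := up p.1.1) (((dPart_le _ _ _).trans
          fun x hx => mem_centralizer_iff.2 fun v hv => s.comm (map_subtype_le _ hv) hx).trans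
          (centralizer_le_normalizer _))
        rw [h, Subgroup.card_bot, mul_one] at h1
        have h2 := card_le_of_le (sup_le (dPart_le s.A a K) (map_subtype_le p.1.1))
        rw [h1, hcardD p.2] at h2
        have h3' : (2 ^ e) ^ 3 ≤ Nat.card s.A := by
          have : Nat.card s.A = (2 ^ e) ^ Nat.card F := by
            rw [Nat.card_eq_fintype_card (α := F), ← Finset.card_univ, ← hpow Finset.univ]
            simp only [Finset.mem_univ, iSup_pos]
            show _ = Nat.card ↥(⨆ p, S.E p)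
            rw [hgen, Subgroup.card_top]
          rw [this]
          exact Nat.pow_le_pow_right (Nat.two_pow_pos e) h3
        have h4' := Nat.mul_le_mul_right (Nat.card D₀) (hmin a ha ha1 K hK)
        have h5 : 4 ≤ 2 ^ e := le_trans (le_of_eq rfl : 4 ≤ 2 ^ 2) (Nat.pow_le_pow_right two_pos (by omega))
        rw [hAe] at h2 h3'
        have h6 : Nat.card D₀ ≤ 2 ^ e := Nat.le_of_mul_le_mul_left (h4'.trans h2) Nat.card_pos
        have h7 : (2 ^ e) ^ 3 ≤ 2 ^ e * 2 ^ e := h3'.trans (Nat.mul_le_mul_right _ h6)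
        nlinarith
      obtain ⟨⟨b, hb⟩, hb1⟩ := ne_bot_iff_exists_ne_one.1 hmeet
      have hb1' : b ≠ 1 := fun h => hb1 (Subtype.ext h)
      obtain ⟨L, hL, hEL, hDL⟩ := nest s ha ha1 hK hb.1 hb1'
      obtain ⟨L', hL', hLD', hLE'⟩ := hfull p b hb.2 hb1'
      by_cases hLL : L = L'
      · subst hLL
        exact absurd (hLD'.ge.trans hDL) (hnot (pr p) ⟨p, rfl⟩ (hEL.trans hLE'.le))
      · exact hLE'.ge.trans ((orth s hb.1.1 hb1' hL.1 hL'.1 hLL).trans hDL)
  · -- seven points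
    right
    have hstab : ∀ (p : F) (x : MulAut ↥s.A), x ∈ S.X → ∀ q : F, S.D q = (S.D p).map x.toMonoidHom →
        S.E q = (S.E p).map x.toMonoidHom := by
      intro p x hx q hq
      obtain ⟨r, hr, hr'⟩ := S.act x hx p
      obtain rfl : r = q := S.D_inj (hr.trans hq.symm)
      exact hr'
    have hD2 : ∀ (p : F) {a : ↥s.A}, a ∈ S.D p → a = 1 ∨ ∀ b ∈ S.D p, b = 1 ∨ b = a := by
      intro p a ha
      refine or_iff_not_imp_left.2 fun ha1 b hb => ?_
      have hle : zpowers a = S.D p := eq_of_le_of_card_ge (zpowers_le.2 ha) (by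
        rw [(hsmall p).1, Nat.card_zpowers, orderOf_eq_prime (by rw [pow_two]; exact hC.sq a) ha1])
      rw [← hle, mem_zpowers_iff_mem_range_orderOf, orderOf_eq_prime (by rw [pow_two]; exact hC.sq a) ha1] at hb
      simp [Finset.range_add_one] at hb
      tauto
    -- two points never share the moved part
    have hinj : ∀ p q : F, S.E p = S.E q → p = q := by
      intro p q hpq
      by_contra hne
      set W := S.E p with hW
      have hout : ∀ v : ↥s.A, v ∉ W → ∃ k, v ∈ S.D k ∧ S.E k = W := by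
        intro v hv
        obtain ⟨a, ha, b, hb, rfl⟩ := S.decomp p v
        have ha1 : a ≠ 1 := fun h => hv (by rwa [h, one_mul])
        by_cases hb1 : b = 1
        · exact ⟨p, by rwa [hb1, mul_one], rfl⟩
        obtain ⟨c, hc, hc1⟩ : ∃ c ∈ S.D q, c ≠ 1 := by
          obtain ⟨⟨c, hc⟩, h⟩ := ne_bot_iff_exists_ne_one.1 (S.D_ne q)
          exact ⟨c, hc, fun h' => h (Subtype.ext h')⟩
        obtain ⟨a', ha', w, hw, hcw⟩ := S.decomp p c
        have ha'1 : a' ≠ 1 := fun h => hc1 (S.eq_one_of_DE hc (by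
          rw [← hpq, ← hcw, h, one_mul]; exact hw))
        obtain rfl : a' = a := ((hD2 p ha).resolve_left ha1 a' ha').resolve_left ha'1
        have hw1 : w ≠ 1 := fun h => by
          rw [h, mul_one] at hcw
          exact hc1 (mem_bot.1 (hdis p q hne ▸ ⟨hcw ▸ ha', hc⟩))
        obtain ⟨x, hx, hxw⟩ := S.E_trans p w hw b hb hw1 hb1
        obtain ⟨k, hk, hk'⟩ := S.act x (S.H_le p hx) q
        refine ⟨k, hk ▸ ⟨c, hc, ?_⟩, ?_⟩
        · show x c = a' * b
          rw [← hcw, map_mul, S.D_fix p x hx a' ha', hxw]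
        · rw [hk', ← hpq]
          refine eq_of_le_of_card_ge ?_ (card_map_of_injective (f := x.toMonoidHom) x.injective).ge
          rintro _ ⟨u, hu, rfl⟩
          exact S.E_stab p x hx u hu
      have hinvW : ∀ g : ↥N, ∀ v ∈ W, g • v ∈ W := by
        intro g v hv
        have hgW : mp g W = W := by
          by_contra hgne
          have hcard : Nat.card ↥(mp g W) = Nat.card ↥W := card_mp g W
          obtain ⟨a, ha, haW⟩ := SetLike.not_le_iff_exists.1 fun h => hgne (eq_of_le_of_card_ge h hcard.ge)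
          obtain ⟨b, hb, hbg⟩ := SetLike.not_le_iff_exists.1 fun h =>
            hgne (eq_of_le_of_card_ge h hcard.le).symm
          have h1 : a * b ∉ W := fun h => haW (by simpa using W.mul_mem h (W.inv_mem hb))
          have h2 : a * b ∉ mp g W := fun h => hbg (by simpa using (mp g W).mul_mem ((mp g W).inv_mem ha) h)
          obtain ⟨k, hk, hkW⟩ := hout _ h1
          obtain ⟨l, hl, hlW⟩ := hout (g⁻¹ • (a * b)) fun h => h2 (mem_mp_iff.2 h)
          obtain ⟨r, hr, hr'⟩ := S.act (φ g) ⟨g, rfl⟩ l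
          have hrk : r = k := by
            by_contra hrk
            have hm : a * b ∈ S.D r ⊓ S.D k :=
              ⟨by rw [hr]; exact ⟨_, hl, show g • g⁻¹ • (a * b) = a * b from smul_inv_smul g _⟩, hk⟩
            rw [hdis r k hrk, mem_bot] at hm
            exact h1 (hm ▸ one_mem W)
          rw [hrk, hkW, hlW] at hr'
          exact hgne hr'.symm
        exact hgW ▸ mem_mp.2 hv
      rcases hirr W hinvW with h | h
      · exact S.E_ne p h
      · exact S.D_ne p ((eq_bot_iff_forall _).2 fun x hx => S.eq_one_of_DE hx (show x ∈ W from h ▸ mem_top x))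
    -- the factor at a point
    have hpoint : ∀ a ∈ s.A, a ≠ 1 → ∃ p : F, up p.1.1 = zpowers a ∧ ∃ K, Moved s.A a K ∧
        dPart s.A a K = zpowers a ∧ ∀ L, Moved s.A a L → ePart s.A a L = up p.1.2 := by
      intro a ha ha1
      obtain ⟨p, hp⟩ := hcov ⟨a, ha⟩ fun h => ha1 (congrArg Subtype.val h)
      have hap : a ∈ up p.1.1 := ⟨_, hp, rfl⟩
      have hpa : up p.1.1 = zpowers a := (eq_of_le_of_card_ge (zpowers_le.2 hap) (by
        rw [card_map_of_injective s.A.subtype_injective, Nat.card_zpowers, s.orderOf_eq ha ha1, (hsmall p).1])).symm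
      obtain ⟨a', ha', ha'1, K', hK', hD', hE'⟩ := p.2.src
      obtain ⟨K, hK, hKD, hKE⟩ := exists_at s (hminD p.2) ha' ha'1 hK' hD' hap ha1
      refine ⟨p, hpa, K, hK, hKD.trans hpa, fun L hL => ?_⟩
      have hLa : ∀ {M : Subgroup (Cq a)}, Moved s.A a M → dPart s.A a M = zpowers a := fun {M} hM => by
        refine (eq_of_le_of_card_ge (zpowers_le.2 (mem_dPart s ha ha1)) ?_).symm
        have h := four s ha ha1 hM
        rw [Nat.card_zpowers, s.orderOf_eq ha ha1]
        omega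
      obtain rfl : L = K := eq_of_dPart s ha ha1 hL hK ((hLa hL).trans (hLa hK).symm)
      have hz : ePart s.A a L ⊓ dPart s.A a L = ⊥ := by
        by_contra hz
        have h := (defect s ha ha1 hL hz).1
        rw [hLa hL, Nat.card_zpowers, s.orderOf_eq ha ha1] at h
        omega
      refine (eq_of_le_of_card_ge (hE'.trans hKE) ?_).symm
      have h := Grp.card_sup_mul_card_inf (H := ePart s.A a L) (N := dPart s.A a L) (((ePart_le _ _ _).trans
        fun x hx => mem_centralizer_iff.2 fun v hv => s.comm ((dPart_le _ _ _) hv) hx).trans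
        (centralizer_le_normalizer _))
      rw [hz, Subgroup.card_bot, mul_one, hLa hL, Nat.card_zpowers, s.orderOf_eq ha ha1] at h
      have h' := card_le_of_le (sup_le (ePart_le s.A a L) (zpowers_le.2 ha))
      rw [card_map_of_injective s.A.subtype_injective, (hsmall p).2]
      omega
    refine ⟨hc8, fun v hv hv1 => ?_, fun a ha ha1 b hb hb1 K K' hK hK' he => ?_, ?_, ?_⟩
    · obtain ⟨p, -, K, hK, hKD, -⟩ := hpoint v hv hv1
      exact ⟨K, hK, hKD⟩
    · obtain ⟨p, hpa, -, -, -, hpE⟩ := hpoint a ha ha1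
      obtain ⟨q, hqb, -, -, -, hqE⟩ := hpoint b hb hb1
      obtain rfl : p = q := hinj p q (upinj ((hpE K hK).symm.trans (he.trans (hqE K' hK'))))
      have hab : a ∈ zpowers b := by rw [← hqb, hpa]; exact mem_zpowers a
      rw [mem_zpowers_iff_mem_range_orderOf, s.orderOf_eq hb hb1] at hab
      simp [Finset.range_add_one] at hab
      tauto
    · intro g hg hg2 x hx
      set y : ↥S.X := ⟨φ ⟨g, hg⟩, _, rfl⟩ with hy
      have hy2 : y ^ 2 = 1 := Subtype.ext (MulEquiv.ext fun v => Subtype.ext (by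
        rw [pow_two]
        show g * (g * (v : G) * g⁻¹) * g⁻¹ = v
        refine Eq.trans ?_ (hg2 v v.2)
        group))
      have hy1 : y = 1 := orderOf_eq_one_iff.1 (Nat.eq_one_of_dvd_coprimes
        (Nat.coprime_two_left.2 hoddX) (orderOf_dvd_of_pow_eq_one hy2) (orderOf_dvd_natCard y))
      exact congrArg Subtype.val (DFunLike.congr_fun (congrArg Subtype.val hy1) (⟨x, hx⟩ : ↥s.A))
    · intro a ha b hb ha1 hb1
      obtain ⟨_, ⟨g, rfl⟩, hgab⟩ := htr ⟨a, ha⟩ ⟨b, hb⟩ (fun h => ha1 (congrArg Subtype.val h))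
        fun h => hb1 (congrArg Subtype.val h)
      exact ⟨g, g.2, congrArg Subtype.val hgab⟩

end Cfsg.Agent.Fus.Gold
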