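import Cfsg.Agent.Lib.Invol.Sylow
import Cfsg.Agent.Lib.Fus.ClosedPair.Base

/-!
# Lemmas for counting conjugates of involutions

Fibres of equal size, orbits under conjugation, the involutions of a coset of a group of odd order, and
the central involution of a dihedral group generated by two involutions.
-/

set_option autoImplicit false
set_option linter.style.haveILetI false
set_option linter.unusedSectionVars false

namespace Cfsg.Agent.Fus.Gold.Count

open Subgroup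

universe u

/-- Fibres of equal size. -/
theorem ncard_fibres {α β : Type*} [Finite α] [Finite β] (s : Set α) (t : Set β) (f : α → β)
    (hf : ∀ x ∈ s, f x ∈ t) {c : ℕ} (hc : ∀ y ∈ t, {x ∈ s | f x = y}.ncard = c) :
    s.ncard = t.ncard * c := by
  classical
  haveI : Fintype α := Fintype.ofFinite α
  haveI : Fintype β := Fintype.ofFinite β
  rw [Set.ncard_eq_toFinset_card', Set.ncard_eq_toFinset_card',
    Finset.card_eq_sum_card_fiberwise (f := f) (t := t.toFinset)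
      (fun x hx => Finset.mem_coe.2 (Set.mem_toFinset.2 (hf x (Set.mem_toFinset.1 hx)))),
    Finset.sum_congr rfl (g := fun _ => c) fun y hy => ?_, Finset.sum_const, smul_eq_mul]
  rw [← hc y (Set.mem_toFinset.1 hy), Set.ncard_eq_toFinset_card']
  congr 1
  ext x
  simp

variable {G : Type u} [Group G] [Finite G]

/-- A disjoint union of sets of equal size. -/
theorem ncard_cover (s I : Set G) (F : G → Set G) (hmem : ∀ x, x ∈ s ↔ ∃ i ∈ I, x ∈ F i)
    (hdisj : ∀ i ∈ I, ∀ j ∈ I, ∀ x, x ∈ F i → x ∈ F j → i = j) {c : ℕ} (hc : ∀ i ∈ I, (F i).ncard = c) :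
    s.ncard = I.ncard * c := by
  classical
  let f : G → G := fun x => if h : ∃ i, i ∈ I ∧ x ∈ F i then h.choose else 1
  have hf : ∀ x ∈ s, f x ∈ I ∧ x ∈ F (f x) := fun x hx => by
    have h : ∃ i, i ∈ I ∧ x ∈ F i := (hmem x).1 hx
    simp only [f, dif_pos h]
    exact h.choose_spec
  refine ncard_fibres s I f (fun x hx => (hf x hx).1) fun i hi => ?_
  rw [← hc i hi]
  congr 1
  ext x
  constructor
  · rintro ⟨hx, rfl⟩
    exact (hf x hx).2
  · intro hx
    have hxs : x ∈ s := (hmem x).2 ⟨i, hi, hx⟩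
    exact ⟨hxs, hdisj _ (hf x hxs).1 _ hi x (hf x hxs).2 hx⟩

/-- The conjugates of `b` under a subgroup. -/
def orb (M : Subgroup G) (b : G) : Set G := {g | ∃ m ∈ M, m * b * m⁻¹ = g}

theorem orbit_ncard (M : Subgroup G) (b : G) :
    (orb M b).ncard * Nat.card ↥(M ⊓ centralizer ({b} : Set G)) = Nat.card M := by
  symm
  rw [← SetLike.coe_sort_coe M, Nat.card_coe_set_eq]
  refine ncard_fibres (M : Set G) (orb M b) (fun m => m * b * m⁻¹) (fun m hm => ⟨m, hm, rfl⟩)
    fun y hy => ?_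
  obtain ⟨m₀, hm₀, rfl⟩ := hy
  rw [← SetLike.coe_sort_coe (M ⊓ centralizer ({b} : Set G)), Nat.card_coe_set_eq,
    ← Set.ncard_image_of_injective ((M ⊓ centralizer ({b} : Set G) : Subgroup G) : Set G)
      (mul_right_injective m₀)]
  congr 1
  ext m
  constructor
  · rintro ⟨hm, e⟩
    refine ⟨m₀⁻¹ * m, Subgroup.mem_inf.2 ⟨mul_mem (inv_mem hm₀) hm, mem_centralizer_singleton_iff.2 ?_⟩,
      by group⟩
    refine mul_inv_eq_iff_eq_mul.1 ?_
    calc m₀⁻¹ * m * b * (m₀⁻¹ * m)⁻¹ = m₀⁻¹ * (m * b * m⁻¹) * m₀ := by group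
      _ = b := by rw [e]; group
  · rintro ⟨c, hc', rfl⟩
    obtain ⟨hc, hcb⟩ := Subgroup.mem_inf.1 hc'
    refine ⟨mul_mem hm₀ hc, ?_⟩
    calc m₀ * c * b * (m₀ * c)⁻¹ = m₀ * (c * b * c⁻¹) * m₀⁻¹ := by group
      _ = m₀ * b * m₀⁻¹ := by rw [mul_inv_eq_iff_eq_mul.2 (mem_centralizer_singleton_iff.1 hcb)]

/-- Conjugation carries sets of the same description onto each other. -/
theorem ncard_conj {p q : G → Prop} (n : G) (h : ∀ g, p g ↔ q (n * g * n⁻¹)) :
    {g | p g}.ncard = {g | q g}.ncard := by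
  rw [← Set.ncard_image_of_injective {g | p g} (MulAut.conj n).injective]
  congr 1
  ext g
  constructor
  · rintro ⟨v, hv, rfl⟩
    exact (h v).1 hv
  · intro hg
    refine ⟨n⁻¹ * g * n, (h _).2 ?_, by show n * (n⁻¹ * g * n) * n⁻¹ = g; group⟩
    rwa [show n * (n⁻¹ * g * n) * n⁻¹ = g by group]

/-- The involutions (and `1`) of the coset `N a`. -/
def invSet (N : Subgroup G) (a : G) : Set G := {g | g * g = 1 ∧ g * a ∈ N}

theorem eq_one_of_odd {N : Subgroup G} (hN : Odd (Nat.card N)) {g : G} (hg : g * g = 1) (hgN : g ∈ N) :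
    g = 1 :=
  orderOf_eq_one_iff.1 (Nat.eq_one_of_dvd_coprimes (Nat.coprime_two_left.2 hN)
    (orderOf_dvd_of_pow_eq_one (by rwa [pow_two])) (Subgroup.orderOf_dvd_natCard N hgN))

theorem conj_of_coset {N : Subgroup G} (hN : Odd (Nat.card N)) {a g : G} (ha : a * a = 1)
    (hg : g * g = 1) (hga : g * a ∈ N) : ∃ n ∈ N, n * a * n⁻¹ = g := by
  obtain ⟨q, hq⟩ := hN
  set m := g * a with hm
  have hga' : g = m * a := by rw [hm, mul_assoc, ha, mul_one]
  have ham : a * m * a⁻¹ = m⁻¹ := by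
    rw [hm, mul_inv_rev, inv_eq_of_mul_eq_one_left ha, inv_eq_of_mul_eq_one_left hg]
    simp [mul_assoc, ha]
  have hpow : m ^ Nat.card N = 1 := orderOf_dvd_iff_pow_eq_one.1 (Subgroup.orderOf_dvd_natCard N hga)
  refine ⟨m ^ (q + 1), pow_mem hga _, ?_⟩
  calc m ^ (q + 1) * a * (m ^ (q + 1))⁻¹ = m ^ (q + 1) * (a * (m ^ (q + 1))⁻¹ * a⁻¹) * a := by group
    _ = m ^ (q + 1) * m ^ (q + 1) * a := by rw [← conj_inv, ← conj_pow, ham, inv_pow, inv_inv]
    _ = g := by
      rw [← pow_add, show q + 1 + (q + 1) = Nat.card N + 1 by omega, pow_succ, hpow, one_mul, ← hga']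

theorem invSet_eq_orb {N : Subgroup G} (hN : Odd (Nat.card N)) {a : G} (ha : a * a = 1)
    (han : a ∈ normalizer (N : Set G)) : invSet N a = orb N a := by
  ext g
  constructor
  · rintro ⟨hg, hga⟩
    exact conj_of_coset hN ha hg hga
  · rintro ⟨n, hn, rfl⟩
    refine ⟨by rw [show n * a * n⁻¹ * (n * a * n⁻¹) = n * (a * a) * n⁻¹ by group, ha]; group, ?_⟩
    rw [show n * a * n⁻¹ * a = n * (a * n⁻¹ * a) by group]
    refine mul_mem hn ?_
    have h := (mem_normalizer_iff.1 han _).1 (inv_mem hn)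
    rwa [inv_eq_of_mul_eq_one_left ha] at h

theorem invSet_ncard {N : Subgroup G} (hN : Odd (Nat.card N)) {a : G} (ha : a * a = 1)
    (han : a ∈ normalizer (N : Set G)) :
    (invSet N a).ncard * Nat.card ↥(N ⊓ centralizer ({a} : Set G)) = Nat.card N := by
  rw [invSet_eq_orb hN ha han]
  exact orbit_ncard N a

/-- A product of an involution with an element of an odd normalised group has odd order only if trivial. -/
theorem odd_coset {N : Subgroup G} {c o : G} (hc : c * c = 1) (hcn : c ∈ normalizer (N : Set G))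
    (ho : o ∈ N) (hodd : Odd (orderOf (c * o))) : c ∈ N := by
  obtain ⟨k, hk⟩ := hodd
  have h2 : c * o * (c * o) ∈ N := by
    rw [show c * o * (c * o) = (c * o * c) * o by group]
    refine mul_mem ?_ ho
    have h := (mem_normalizer_iff.1 hcn o).1 ho
    rwa [inv_eq_of_mul_eq_one_left hc] at h
  have h1 : (c * o * (c * o)) ^ k * (c * o) = 1 := by
    rw [← pow_two, ← pow_mul, ← pow_succ, ← hk, pow_orderOf_eq_one]
  have h3 : c * o ∈ N := by
    rw [show c * o = ((c * o * (c * o)) ^ k)⁻¹ from (inv_eq_of_mul_eq_one_right h1).symm]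
    exact inv_mem (pow_mem h2 k)
  simpa using mul_mem h3 (inv_mem ho)

/-- Powers in a coset of a normalised subgroup. -/
theorem pow_coset {N : Subgroup G} {w o : G} (hw : w ∈ normalizer (N : Set G)) (ho : o ∈ N) :
    ∀ k : ℕ, (o * w) ^ k * (w ^ k)⁻¹ ∈ N
  | 0 => by simp
  | k + 1 => by
    have h := mul_mem ho ((mem_normalizer_iff.1 hw _).1 (pow_coset hw ho k))
    rw [pow_succ', pow_succ']
    rwa [show o * w * (o * w) ^ k * (w * w ^ k)⁻¹ = o * (w * ((o * w) ^ k * (w ^ k)⁻¹) * w⁻¹) by group]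

theorem isPGroup_zpowers_pow {v : G} {k : ℕ} (hv : v ^ 2 ^ k = 1) : IsPGroup 2 (zpowers v) := by
  rintro ⟨w, i, rfl⟩
  exact ⟨k, Subtype.ext (by
    show (v ^ i) ^ (2 ^ k) = 1
    rw [← zpow_natCast, ← zpow_mul, mul_comm, zpow_mul, zpow_natCast, hv, one_zpow])⟩

section Dihedral

variable {x y : G}

theorem mul_pow_inv (hx : x * x = 1) (hy : y * y = 1) (j : ℕ) :
    x * (x * y) ^ j * x = ((x * y) ^ j)⁻¹ ∧ y * (x * y) ^ j * y = ((x * y) ^ j)⁻¹ := by
  have hxi : x⁻¹ = x := inv_eq_of_mul_eq_one_left hx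
  have hyi : y⁻¹ = y := inv_eq_of_mul_eq_one_left hy
  have e : ∀ c : G, c * c = 1 → c * (x * y) * c⁻¹ = (x * y)⁻¹ → c * (x * y) ^ j * c = ((x * y) ^ j)⁻¹ := by
    intro c hc h
    have := conj_pow (i := j) (a := c) (b := x * y)
    rw [h, inv_pow] at this
    rw [this, inv_eq_of_mul_eq_one_left hc]
  refine ⟨e x hx ?_, e y hy ?_⟩
  · rw [mul_inv_rev, hxi, hyi, ← mul_assoc, hx, one_mul]
  · rw [mul_inv_rev, hxi, hyi, ← mul_assoc, mul_assoc (y * x) y y, hy, mul_one]

/-- Two involutions with product of odd order are conjugate. -/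
theorem conj_of_odd (hx : x * x = 1) (hy : y * y = 1) (ho : Odd (orderOf (x * y))) :
    ∃ g : G, g * y * g⁻¹ = x := by
  obtain ⟨k, hk⟩ := ho
  refine ⟨(x * y) ^ (k + 1), ?_⟩
  have h := (mul_pow_inv hx hy (k + 1)).2
  calc (x * y) ^ (k + 1) * y * ((x * y) ^ (k + 1))⁻¹
      = (x * y) ^ (k + 1) * y * (y * (x * y) ^ (k + 1) * y) := by rw [h]
    _ = (x * y) ^ (k + 1) * (y * y) * (x * y) ^ (k + 1) * y := by simp only [mul_assoc]
    _ = (x * y) ^ (k + 1 + (k + 1)) * y := by rw [hy, mul_one, ← pow_add]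
    _ = x * y * y := by
      rw [show k + 1 + (k + 1) = orderOf (x * y) + 1 by omega, pow_succ, pow_orderOf_eq_one, one_mul]
    _ = x := by rw [mul_assoc, hy, mul_one]

/-- The central involution. -/
theorem central_invol (hx : x * x = 1) (hy : y * y = 1) {m : ℕ} (hm : orderOf (x * y) = 2 * m) :
    (x * y) ^ m * (x * y) ^ m = 1 ∧ (x * y) ^ m ≠ 1 ∧ x * (x * y) ^ m = (x * y) ^ m * x ∧
      y * (x * y) ^ m = (x * y) ^ m * y := by
  have h1 : (x * y) ^ m * (x * y) ^ m = 1 := by rw [← pow_add, ← two_mul, ← hm, pow_orderOf_eq_one]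
  have h0 : 0 < m := by
    have := orderOf_pos (x * y)
    omega
  have hi : ((x * y) ^ m)⁻¹ = (x * y) ^ m := inv_eq_of_mul_eq_one_left h1
  refine ⟨h1, fun e => ?_, ?_, ?_⟩
  · have := Nat.le_of_dvd h0 (orderOf_dvd_of_pow_eq_one e)
    omega
  · have h := (mul_pow_inv hx hy m).1
    rw [hi] at h
    calc x * (x * y) ^ m = x * (x * y) ^ m * (x * x) := by rw [hx, mul_one]
      _ = (x * y) ^ m * x := by rw [← mul_assoc, h]
  · have h := (mul_pow_inv hx hy m).2
    rw [hi] at h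
    calc y * (x * y) ^ m = y * (x * y) ^ m * (y * y) := by rw [hy, mul_one]
      _ = (x * y) ^ m * y := by rw [← mul_assoc, h]

/-- For odd `m` the product of `x` with the central involution is conjugate to `y`. -/
theorem odd_half (hx : x * x = 1) (hy : y * y = 1) {m : ℕ} (hm : orderOf (x * y) = 2 * m) (ho : Odd m) :
    (∃ g : G, g * y * g⁻¹ = x * (x * y) ^ m) ∧ x * (x * y) ^ m * (x * (x * y) ^ m) = 1 ∧
      x * (x * y) ^ m * x = (x * y) ^ m ∧ Odd (orderOf (x * (x * y) ^ m * y)) := by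
  obtain ⟨h1, -, hxu, -⟩ := central_invol hx hy hm
  have hj : x * (x * y) ^ m * (x * (x * y) ^ m) = 1 := by
    calc x * (x * y) ^ m * (x * (x * y) ^ m) = x * ((x * y) ^ m * x) * (x * y) ^ m := by group
      _ = x * x * ((x * y) ^ m * (x * y) ^ m) := by rw [← hxu]; group
      _ = 1 := by rw [hx, h1, one_mul]
  have hjy : x * (x * y) ^ m * y = (x * y) ^ (m + 1) := by
    rw [hxu, pow_succ, mul_assoc]
  have hodd : Odd (orderOf (x * (x * y) ^ m * y)) := by
    obtain ⟨k, rfl⟩ := ho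
    refine Odd.of_dvd_nat ⟨k, rfl⟩ (orderOf_dvd_of_pow_eq_one (n := 2 * k + 1) ?_)
    rw [hjy, ← pow_mul, show (2 * k + 1 + 1) * (2 * k + 1) = orderOf (x * y) * (k + 1) by rw [hm]; ring,
      pow_mul, pow_orderOf_eq_one, one_pow]
  obtain ⟨g, hg⟩ := conj_of_odd hj hy hodd
  refine ⟨⟨g, hg⟩, hj, ?_, hodd⟩
  rw [hxu, mul_assoc, hx, mul_one]

/-- For even `m` there is an element of order four with square the central involution, inverted by `x`. -/
theorem even_half (hx : x * x = 1) (hy : y * y = 1) {m : ℕ} (hm : orderOf (x * y) = 2 * m) (he : Even m) :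
    ∃ v : G, v * v = (x * y) ^ m ∧ x * v * x = v⁻¹ := by
  obtain ⟨k, rfl⟩ := he
  exact ⟨(x * y) ^ k, by rw [← pow_add], (mul_pow_inv hx hy k).1⟩

/-- Recognition of the central involution. -/
theorem half_spec {j : G} (hx : x * x = 1) (hy : y * y = 1) (hj : j * j = 1) (hxj : x * j = j * x)
    (hne : x ≠ j) (hyu : y * (x * j) = x * j * y) (hodd : Odd (orderOf (j * y))) :
    ∃ m : ℕ, orderOf (x * y) = 2 * m ∧ Odd m ∧ x * (x * y) ^ m = j := by
  have hu2 : x * j * (x * j) = 1 := by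
    calc x * j * (x * j) = x * (j * x) * j := by group
      _ = 1 := by rw [← hxj, ← mul_assoc, hx, one_mul, hj]
  have hu1 : x * j ≠ 1 := fun e => hne (by
    rw [← mul_one x, ← hj, ← mul_assoc, e, one_mul])
  have hu : orderOf (x * j) = 2 := orderOf_eq_prime (by rw [pow_two]; exact hu2) hu1
  have hjc : Commute (x * j) j := by
    show x * j * j = j * (x * j)
    rw [mul_assoc, hj, mul_one, ← mul_assoc, ← hxj, mul_assoc, hj, mul_one]
  have hc : Commute (x * j) (j * y) := hjc.mul_right hyu.symm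
  have e : x * y = x * j * (j * y) := by rw [mul_assoc, ← mul_assoc j, hj, one_mul]
  set r := orderOf (j * y) with hr
  obtain ⟨k, hk⟩ := hodd
  have hord : orderOf (x * y) = 2 * r := by
    rw [e, hc.orderOf_mul_eq_mul_orderOf_of_coprime, hu]
    rw [hu]
    exact Nat.coprime_two_left.2 ⟨k, hk⟩
  refine ⟨r, hord, ⟨k, hk⟩, ?_⟩
  rw [e, hc.mul_pow, pow_orderOf_eq_one, mul_one, hk, pow_succ, pow_mul, pow_two, hu2, one_pow, one_mul,
    ← mul_assoc, hx, one_mul]

end Dihedral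

/-- Every 2-subgroup of `M` is conjugate into one of largest order. -/
theorem conj_of_max {M Q : Subgroup G} (hQ : IsPGroup 2 Q) (hQM : Q ≤ M)
    (hmax : ∀ R : Subgroup G, IsPGroup 2 R → R ≤ M → Nat.card R ≤ Nat.card Q) {R : Subgroup G}
    (hR : IsPGroup 2 R) (hRM : R ≤ M) : ∃ m ∈ M, ∀ r ∈ R, m * r * m⁻¹ ∈ Q := by
  haveI : Fact (Nat.Prime 2) := ⟨Nat.prime_two⟩
  obtain ⟨P, hP⟩ := (hQ.comap_subtype : IsPGroup 2 ↥(Q.subgroupOf M)).exists_le_sylow
  have hPQ : (P : Subgroup M).map M.subtype = Q := by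
    refine (eq_of_le_of_card_ge (fun v hv => ?_) (hmax _ (P.isPGroup'.map _) (map_subtype_le _))).symm
    exact ⟨⟨v, hQM hv⟩, hP hv, rfl⟩
  obtain ⟨m, hm⟩ := Invol.exists_conj_subset_sylow (hR.comap_subtype : IsPGroup 2 ↥(R.subgroupOf M)) P
  refine ⟨m, m.2, fun r hr => hPQ ▸ ⟨m * ⟨r, hRM hr⟩ * m⁻¹, hm ⟨r, hRM hr⟩ (mem_subgroupOf.2 hr), rfl⟩⟩

end Cfsg.Agent.Fus.Gold.Count
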