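import Cfsg.Agent.Lib.Fus.Goldschmidt.FourBase
import Cfsg.Agent.Lib.Fus.Goldschmidt.FourCountGeneral

/-!
# The grid of two elementary subgroups of order 16

`S = P T` with `P`, `T` elementary of order 16 meeting in `A`, with a non-degenerate commutator into `A`.
The three classes of involutions and the centraliser of an involution of `P` outside `A`.
-/

set_option autoImplicit false
set_option linter.style.haveILetI false
set_option linter.unusedSectionVars false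

namespace Cfsg.Agent.Fus.Gold

open Subgroup

universe u

variable {G : Type u} [Group G] [Finite G]

/-- A symmetric description of the Sylow 2-subgroup of order 64. -/
structure Grid (s : Setup G) (P T : Subgroup G) : Prop where
  le_P : s.A ≤ P
  le_T : s.A ≤ T
  P_le : P ≤ (s.S : Subgroup G)
  T_le : T ≤ (s.S : Subgroup G)
  inf_eq : P ⊓ T = s.A
  prod : ∀ g ∈ (s.S : Subgroup G), ∃ p ∈ P, ∃ t ∈ T, g = p * t
  cardP : Nat.card P = 16
  cardT : Nat.card T = 16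
  sqP : ∀ p ∈ P, p * p = 1
  sqT : ∀ t ∈ T, t * t = 1
  bracket : ∀ p ∈ P, ∀ t ∈ T, p * t * p⁻¹ * t⁻¹ ∈ s.A
  bracket_ne : ∀ p ∈ P, ∀ t ∈ T, p ∉ s.A → t ∉ s.A → p * t ≠ t * p
  max : ∀ x ∈ (s.S : Subgroup G), orderOf x = 2 → x ∉ s.A → ∀ R : Subgroup G, IsPGroup 2 R →
    R ≤ centralizer (s.A : Set G) → R ≤ centralizer ({x} : Set G) → Nat.card R ≤ 16
  cardS : Nat.card ↥(s.S : Subgroup G) = 64
  fixP : ∃ x ∈ P, x ∉ s.A ∧ ∃ g ∈ normalizer (s.A : Set G), Odd (orderOf g) ∧ g * x = x * g ∧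
    (∀ t ∈ T, g * t * g⁻¹ ∈ T) ∧ (∀ a ∈ s.A, g * a * g⁻¹ = a → a = 1) ∧
    ∀ t ∈ T, g * t * g⁻¹ * t⁻¹ ∈ s.A → t ∈ s.A
  fixT : ∃ t ∈ T, t ∉ s.A ∧ ∃ g ∈ normalizer (s.A : Set G), Odd (orderOf g) ∧ g * t = t * g ∧
    (∀ p ∈ P, g * p * g⁻¹ ∈ P) ∧ (∀ a ∈ s.A, g * a * g⁻¹ = a → a = 1) ∧
    ∀ p ∈ P, g * p * g⁻¹ * p⁻¹ ∈ s.A → p ∈ s.A

/-- The conjugates of the involutions of `A`. -/
def aCl (s : Setup G) : Set G := {g | ∃ n : G, ∃ a ∈ s.A, a ≠ 1 ∧ n * a * n⁻¹ = g}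

/-- The conjugates of the elements of `P` outside `A`. -/
def oCl (s : Setup G) (P : Subgroup G) : Set G := {g | ∃ n : G, ∃ x ∈ P, x ∉ s.A ∧ n * x * n⁻¹ = g}

/-- A 2-group containing `A` centralises it. -/
theorem Four.le_centralizer {s : Setup G} (h : Four s) {R : Subgroup G} (hR : IsPGroup 2 R)
    (hAR : s.A ≤ R) : R ≤ centralizer (s.A : Set G) := by
  haveI : Fact (Nat.Prime 2) := ⟨Nat.prime_two⟩
  obtain ⟨k, hk⟩ := Invol.exists_conj_subset_sylow hR s.S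
  have hkA : ∀ a ∈ s.A, k * a * k⁻¹ ∈ s.A := fun a ha => s.closed.2 a ha k (hk a (hAR ha))
  intro r hr
  refine mem_centralizer_iff.2 fun a ha => ?_
  have h1 := mem_centralizer_iff.1 (h.central (hk r hr)) _ (hkA a ha)
  apply (MulAut.conj k).injective
  show k * (a * r) * k⁻¹ = k * (r * a) * k⁻¹
  calc k * (a * r) * k⁻¹ = k * a * k⁻¹ * (k * r * k⁻¹) := by group
    _ = k * r * k⁻¹ * (k * a * k⁻¹) := h1
    _ = _ := by group

/-- Four elements. -/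
theorem Four.cases {s : Setup G} (h : Four s) {a b c : G} (ha : a ∈ s.A) (hb : b ∈ s.A) (hc : c ∈ s.A)
    (ha1 : a ≠ 1) (hb1 : b ≠ 1) (hab : a ≠ b) : c = 1 ∨ c = a ∨ c = b ∨ c = a * b := by
  classical
  letI : Fintype ↥s.A := Fintype.ofFinite _
  have e3 : a * b ≠ 1 := fun e => hab (by rw [← mul_one a, ← s.sq hb, ← mul_assoc, e, one_mul])
  have huniv : ({1, ⟨a, ha⟩, ⟨b, hb⟩, ⟨a * b, mul_mem ha hb⟩} : Finset ↥s.A) = Finset.univ := by
    refine Finset.eq_univ_of_card _ ?_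
    rw [← Nat.card_eq_fintype_card, h.card]
    simp [Subtype.ext_iff, ha1.symm, hb1.symm, e3.symm, hab, ha1, hb1]
  have hc' : (⟨c, hc⟩ : ↥s.A) ∈ ({1, ⟨a, ha⟩, ⟨b, hb⟩, ⟨a * b, mul_mem ha hb⟩} : Finset ↥s.A) :=
    huniv ▸ Finset.mem_univ _
  simpa [Subtype.ext_iff] using hc'

/-- An element of odd order without fixed points on `A` moves any involution of `A` to any other. -/
theorem Four.orbit {s : Setup G} (h : Four s) {g : G} (hg : g ∈ normalizer (s.A : Set G))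
    (hodd : Odd (orderOf g)) (hfix : ∀ a ∈ s.A, g * a * g⁻¹ = a → a = 1) {a b : G} (ha : a ∈ s.A)
    (hb : b ∈ s.A) (ha1 : a ≠ 1) (hb1 : b ≠ 1) : ∃ i : ℕ, g ^ i * a * (g ^ i)⁻¹ = b := by
  set a' := g * a * g⁻¹ with ha'
  have ha'A : a' ∈ s.A := (mem_normalizer_iff.1 hg a).1 ha
  have ha'1 : a' ≠ 1 := fun e => ha1 (conj_eq_one_iff.1 e)
  have hne : a ≠ a' := fun e => ha1 (hfix a ha e.symm)
  set a'' := g * a' * g⁻¹ with ha''
  have ha''A : a'' ∈ s.A := (mem_normalizer_iff.1 hg a').1 ha'A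
  have ha''1 : a'' ≠ 1 := fun e => ha'1 (conj_eq_one_iff.1 e)
  have h2 : a'' ≠ a' := fun e => ha'1 (hfix a' ha'A e)
  have h3 : a'' ≠ a := by
    intro e
    obtain ⟨k, hk⟩ := hodd
    have hsq : ∀ j : ℕ, (g * g) ^ j * a * ((g * g) ^ j)⁻¹ = a := by
      intro j
      induction j with
      | zero => simp
      | succ j ih =>
        calc (g * g) ^ (j + 1) * a * ((g * g) ^ (j + 1))⁻¹
            = g * g * ((g * g) ^ j * a * ((g * g) ^ j)⁻¹) * (g * g)⁻¹ := by simp only [pow_succ', mul_inv_rev, mul_assoc]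
          _ = a'' := by rw [ih, ha'', ha']; group
          _ = a := e
    have := hsq (k + 1)
    rw [← pow_two, ← pow_mul, show 2 * (k + 1) = orderOf g + 1 by omega, pow_succ, pow_orderOf_eq_one,
      one_mul] at this
    exact hne this.symm
  have h4 : a'' = a * a' := by
    rcases h.cases ha ha'A ha''A ha1 ha'1 hne with e | e | e | e
    exacts [absurd e ha''1, absurd e h3, absurd e h2, e]
  rcases h.cases ha ha'A hb ha1 ha'1 hne with e | e | e | e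
  · exact absurd e hb1
  · exact ⟨0, by simp [e]⟩
  · exact ⟨1, by rw [e, pow_one]⟩
  · exact ⟨2, by rw [e, ← h4, ha'', ha', pow_two]; group⟩

/-- `N(S) ≤ N(A)`. -/
theorem Setup.normalizer_sylow_le (s : Setup G) {g : G} (hg : g ∈ normalizer ((s.S : Subgroup G) : Set G)) :
    g ∈ normalizer (s.A : Set G) :=
  mem_normalizer_fintype fun a ha => s.closed.2 a ha g ((mem_normalizer_iff.1 hg a).1 (s.closed.1 ha))

namespace Grid

variable {s : Setup G} {P T : Subgroup G}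

theorem symm (r : Grid s P T) : Grid s T P where
  le_P := r.le_T
  le_T := r.le_P
  P_le := r.T_le
  T_le := r.P_le
  inf_eq := by rw [inf_comm]; exact r.inf_eq
  prod g hg := by
    obtain ⟨p, hp, t, ht, e⟩ := r.prod g⁻¹ (inv_mem hg)
    exact ⟨t⁻¹, inv_mem ht, p⁻¹, inv_mem hp, by rw [← inv_inv g, e, mul_inv_rev]⟩
  cardP := r.cardT
  cardT := r.cardP
  sqP := r.sqT
  sqT := r.sqP
  bracket t ht p hp := by
    have := inv_mem (r.bracket p hp t ht)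
    rwa [show (p * t * p⁻¹ * t⁻¹)⁻¹ = t * p * t⁻¹ * p⁻¹ by group] at this
  bracket_ne t ht p hp h1 h2 e := r.bracket_ne p hp t ht h2 h1 e.symm
  max := r.max
  cardS := r.cardS
  fixP := r.fixT
  fixT := r.fixP

variable (h : Four s) (r : Grid s P T)
include h r

theorem comm_A {g a : G} (hg : g ∈ (s.S : Subgroup G)) (ha : a ∈ s.A) : a * g = g * a :=
  mem_centralizer_iff.1 (h.central hg) a ha

theorem orderOf_eq {p : G} (hp : p ∈ P) (hpA : p ∉ s.A) : orderOf p = 2 :=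
  orderOf_eq_prime (by rw [pow_two]; exact r.sqP p hp) fun e => hpA (e ▸ one_mem _)

theorem conj_mem {t p : G} (ht : t ∈ T) (hp : p ∈ P) : t * p * t⁻¹ ∈ P := by
  have := mul_mem (r.le_P (r.symm.bracket t ht p hp)) hp
  rwa [inv_mul_cancel_right] at this

/-- The involutions of `S`. -/
theorem invol {g : G} (hg : g ∈ (s.S : Subgroup G)) (hg2 : g * g = 1) : g ∈ P ∨ g ∈ T := by
  obtain ⟨p, hp, t, ht, rfl⟩ := r.prod g hg
  by_cases h1 : p ∈ s.A
  · exact Or.inr (mul_mem (r.le_T h1) ht)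
  by_cases h2 : t ∈ s.A
  · exact Or.inl (mul_mem hp (r.le_P h2))
  refine absurd ?_ (r.bracket_ne p hp t ht h1 h2)
  have h3 := inv_eq_of_mul_eq_one_left hg2
  rw [mul_inv_rev, inv_eq_of_mul_eq_one_left (r.sqP p hp), inv_eq_of_mul_eq_one_left (r.sqT t ht)] at h3
  exact h3.symm

theorem cent {x : G} (hx : x ∈ P) (hxA : x ∉ s.A) {g : G} (hg : g ∈ (s.S : Subgroup G))
    (hgx : g * x = x * g) : g ∈ P := by
  obtain ⟨p, hp, t, ht, rfl⟩ := r.prod g hg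
  by_cases h2 : t ∈ s.A
  · exact mul_mem hp (r.le_P h2)
  refine absurd ?_ (r.bracket_ne x hx t ht hxA h2)
  have hpx : Commute p x := by
    show p * x = x * p
    have h3 := inv_eq_of_mul_eq_one_left (r.sqP _ (mul_mem hp hx))
    rw [mul_inv_rev, inv_eq_of_mul_eq_one_left (r.sqP p hp), inv_eq_of_mul_eq_one_left (r.sqP x hx)] at h3
    exact h3.symm
  have h4 : Commute (p⁻¹ * (p * t)) x := hpx.inv_left.mul_left hgx
  rw [inv_mul_cancel_left] at h4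
  exact h4.symm.eq

/-- The commutator with `x` covers `A`. -/
theorem bracket_surj {x : G} (hx : x ∈ P) (hxA : x ∉ s.A) {c : G} (hc : c ∈ s.A) :
    ∃ t ∈ T, t * x * t⁻¹ = c * x := by
  classical
  let f : ↥T →* ↥s.A :=
    { toFun := fun t => ⟨t * x * (t : G)⁻¹ * x⁻¹, r.symm.bracket t t.2 x hx⟩
      map_one' := Subtype.ext (by simp)
      map_mul' := fun t t' => Subtype.ext (by
        have hc := r.symm.bracket t' t'.2 x hx
        show (t : G) * t' * x * ((t : G) * t')⁻¹ * x⁻¹ =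
          (t : G) * x * (t : G)⁻¹ * x⁻¹ * ((t' : G) * x * (t' : G)⁻¹ * x⁻¹)
        calc (t : G) * t' * x * ((t : G) * t')⁻¹ * x⁻¹
            = (t : G) * ((t' : G) * x * (t' : G)⁻¹ * x⁻¹) * (x * (t : G)⁻¹ * x⁻¹) := by group
          _ = (t' : G) * x * (t' : G)⁻¹ * x⁻¹ * ((t : G) * x * (t : G)⁻¹ * x⁻¹) := by
            rw [← r.comm_A h (r.T_le t.2) hc]; group
          _ = _ := s.comm hc (r.symm.bracket t t.2 x hx)) }
  have hker : f.ker = s.A.subgroupOf T := by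
    ext t
    rw [MonoidHom.mem_ker, mem_subgroupOf, Subtype.ext_iff]
    show (t : G) * x * (t : G)⁻¹ * x⁻¹ = 1 ↔ _
    rw [mul_inv_eq_one, mul_inv_eq_iff_eq_mul]
    refine ⟨fun e => by_contra fun hn => r.bracket_ne x hx t t.2 hxA hn e.symm,
      fun ha => r.comm_A h (r.P_le hx) ha⟩
  have hidx := f.ker.card_mul_index
  rw [Subgroup.index_ker, hker, Nat.card_congr (Subgroup.subgroupOfEquivOfLe r.le_T).toEquiv, h.card,
    r.cardT] at hidx
  have htop : f.range = ⊤ := Subgroup.eq_top_of_card_eq _ (by rw [h.card]; omega)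
  obtain ⟨t, ht⟩ := (htop ▸ mem_top (⟨c, hc⟩ : ↥s.A) : (⟨c, hc⟩ : ↥s.A) ∈ f.range)
  refine ⟨t, t.2, ?_⟩
  have := congrArg Subtype.val ht
  show (t : G) * x * (t : G)⁻¹ = c * x
  rw [← show (t : G) * x * (t : G)⁻¹ * x⁻¹ = c from this, inv_mul_cancel_right]

/-- `N(A)` is transitive on `P - A`. -/
theorem conjP {x y : G} (hx : x ∈ P) (hxA : x ∉ s.A) (hy : y ∈ P) (hyA : y ∉ s.A) :
    ∃ n ∈ normalizer (s.A : Set G), n * x * n⁻¹ = y := by
  obtain ⟨t₀, ht₀, ht₀A, g, hgN, hodd, hgt, hgP, -, hgfix⟩ := r.fixT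
  -- the commutator with `t₀` tells the cosets apart
  let ψ : G → G := fun p => t₀ * p * t₀⁻¹ * p⁻¹
  have hψA : ∀ p ∈ P, ψ p ∈ s.A := fun p hp => r.symm.bracket t₀ ht₀ p hp
  have hψeq : ∀ p ∈ P, ∀ q ∈ P, ψ p = ψ q → p * q⁻¹ ∈ s.A := by
    intro p hp q hq e
    by_contra hn
    refine r.bracket_ne _ (mul_mem hp (inv_mem hq)) t₀ ht₀ hn ht₀A (mul_inv_eq_iff_eq_mul.1 ?_).symm
    have hi : (ψ q)⁻¹ = ψ q := inv_eq_of_mul_eq_one_left (s.sq (hψA q hq))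
    calc t₀ * (p * q⁻¹) * t₀⁻¹ = ψ p * p * (q⁻¹ * (ψ q)⁻¹) := by simp only [ψ]; group
      _ = ψ p * p * ((ψ q)⁻¹ * q⁻¹) := by rw [r.comm_A h (r.P_le (inv_mem hq)) (inv_mem (hψA q hq))]
      _ = ψ p * (p * ψ q) * q⁻¹ := by rw [hi]; group
      _ = ψ p * ψ q * (p * q⁻¹) := by rw [← r.comm_A h (r.P_le hp) (hψA q hq)]; group
      _ = p * q⁻¹ := by rw [e, s.sq (hψA q hq), one_mul]
  have hψ1 : ∀ p ∈ P, p ∉ s.A → ψ p ≠ 1 := fun p hp hpA e =>
    r.bracket_ne p hp t₀ ht₀ hpA ht₀A (mul_inv_eq_iff_eq_mul.1 (mul_inv_eq_one.1 e)).symm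
  set x₁ := g * x * g⁻¹ with hx₁
  have hx₁P : x₁ ∈ P := hgP x hx
  have hx₁A : x₁ ∉ s.A := fun e => hxA ((mem_normalizer_iff.1 hgN x).2 e)
  set x₂ := g * x₁ * g⁻¹ with hx₂
  have hx₂P : x₂ ∈ P := hgP _ hx₁P
  have hx₂A : x₂ ∉ s.A := fun e => hx₁A ((mem_normalizer_iff.1 hgN x₁).2 e)
  have hψconj : ∀ p ∈ P, ψ (g * p * g⁻¹) = g * ψ p * g⁻¹ := by
    intro p _
    have e1 : g * t₀ * g⁻¹ = t₀ := mul_inv_eq_iff_eq_mul.2 hgt
    simp only [ψ]
    rw [show g * (t₀ * p * t₀⁻¹ * p⁻¹) * g⁻¹ =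
      g * t₀ * g⁻¹ * (g * p * g⁻¹) * (g * t₀ * g⁻¹)⁻¹ * (g * p * g⁻¹)⁻¹ by group, e1]
  have h01 : ψ x ≠ ψ x₁ := fun e => hxA (hgfix x hx (hψeq _ hx₁P _ hx e.symm))
  have h12 : ψ x₁ ≠ ψ x₂ := fun e => hx₁A (hgfix x₁ hx₁P (hψeq _ hx₂P _ hx₁P e.symm))
  have h02 : ψ x₂ ≠ ψ x := by
    intro e
    obtain ⟨k, hk⟩ := hodd
    have e' : g * g * ψ x * (g * g)⁻¹ = ψ x := by
      calc g * g * ψ x * (g * g)⁻¹ = g * (g * ψ x * g⁻¹) * g⁻¹ := by group
        _ = ψ x₂ := by rw [← hψconj x hx, ← hψconj x₁ hx₁P]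
        _ = ψ x := e
    have hsq : ∀ j : ℕ, (g * g) ^ j * ψ x * ((g * g) ^ j)⁻¹ = ψ x := by
      intro j
      induction j with
      | zero => simp
      | succ j ih =>
        calc (g * g) ^ (j + 1) * ψ x * ((g * g) ^ (j + 1))⁻¹
            = g * g * ((g * g) ^ j * ψ x * ((g * g) ^ j)⁻¹) * (g * g)⁻¹ := by simp only [pow_succ', mul_inv_rev, mul_assoc]
          _ = ψ x := by rw [ih, e']
    have := hsq (k + 1)
    rw [← pow_two, ← pow_mul, show 2 * (k + 1) = orderOf g + 1 by omega, pow_succ, pow_orderOf_eq_one,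
      one_mul, ← hψconj x hx] at this
    exact h01 this.symm
  have hmem : ∀ x' ∈ P, x' ∉ s.A → y * x'⁻¹ ∈ s.A → ∃ t ∈ T, t * x' * t⁻¹ = y := fun x' h1 h2 h3 => by
    obtain ⟨t, ht, e⟩ := r.bracket_surj h h1 h2 h3
    exact ⟨t, ht, by rw [e, inv_mul_cancel_right]⟩
  have hTN : ∀ t ∈ T, t ∈ normalizer (s.A : Set G) := fun t ht => s.sylow_le_normalizer (r.T_le ht)
  have h12m : ψ x₂ = ψ x * ψ x₁ := by
    rcases h.cases (hψA x hx) (hψA x₁ hx₁P) (hψA x₂ hx₂P) (hψ1 x hx hxA) (hψ1 x₁ hx₁P hx₁A) h01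
      with e | e | e | e
    exacts [absurd e (hψ1 x₂ hx₂P hx₂A), absurd e h02, absurd e.symm h12, e]
  rcases h.cases (hψA x hx) (hψA x₁ hx₁P) (hψA y hy) (hψ1 x hx hxA) (hψ1 x₁ hx₁P hx₁A) h01
    with e | e | e | e
  · exact absurd e (hψ1 y hy hyA)
  · obtain ⟨t, ht, e'⟩ := hmem x hx hxA (hψeq y hy x hx e)
    exact ⟨t, hTN t ht, e'⟩
  · obtain ⟨t, ht, e'⟩ := hmem x₁ hx₁P hx₁A (hψeq y hy x₁ hx₁P e)
    exact ⟨t * g, mul_mem (hTN t ht) hgN, by rw [← e', hx₁]; group⟩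
  · obtain ⟨t, ht, e'⟩ := hmem x₂ hx₂P hx₂A (hψeq y hy x₂ hx₂P (by rw [e, h12m]))
    exact ⟨t * g * g, mul_mem (mul_mem (hTN t ht) hgN) hgN, by rw [← e', hx₂, hx₁]; group⟩

/-- `C(x) ∩ N(A)` is transitive on the involutions of `A`. -/
theorem conjA {x a b : G} (hx : x ∈ P) (hxA : x ∉ s.A) (ha : a ∈ s.A) (hb : b ∈ s.A) (ha1 : a ≠ 1)
    (hb1 : b ≠ 1) : ∃ g ∈ normalizer (s.A : Set G), g * x = x * g ∧ g * a * g⁻¹ = b := by
  obtain ⟨x₀, hx₀, hx₀A, g, hgN, hodd, hgx, -, hfix, -⟩ := r.fixP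
  obtain ⟨n, hn, rfl⟩ := r.conjP h hx₀ hx₀A hx hxA
  have hA : ∀ v ∈ s.A, n⁻¹ * v * n ∈ s.A := fun v hv => by
    have := (mem_normalizer_iff.1 (inv_mem hn) v).1 hv
    rwa [inv_inv] at this
  obtain ⟨i, hi⟩ := h.orbit hgN hodd hfix (hA a ha) (hA b hb)
    (fun e => ha1 (by simpa [mul_assoc] using congrArg (fun v => n * v * n⁻¹) e))
    (fun e => hb1 (by simpa [mul_assoc] using congrArg (fun v => n * v * n⁻¹) e))
  refine ⟨n * g ^ i * n⁻¹, mul_mem (mul_mem hn (pow_mem hgN i)) (inv_mem hn), ?_, ?_⟩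
  · have hc : g ^ i * x₀ = x₀ * g ^ i := ((show Commute g x₀ from hgx).pow_left i).eq
    calc n * g ^ i * n⁻¹ * (n * x₀ * n⁻¹) = n * (g ^ i * x₀) * n⁻¹ := by group
      _ = n * (x₀ * g ^ i) * n⁻¹ := by rw [hc]
      _ = _ := by group
  · calc n * g ^ i * n⁻¹ * a * (n * g ^ i * n⁻¹)⁻¹ = n * (g ^ i * (n⁻¹ * a * n) * (g ^ i)⁻¹) * n⁻¹ := by group
      _ = b := by rw [hi]; group

/-- An element of `N(S)` fixes `P`. -/
theorem fix_of_normalizer {m : G} (hm : m ∈ normalizer ((s.S : Subgroup G) : Set G)) :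
    ∀ p ∈ P, m * p * m⁻¹ ∈ P := by
  haveI : Fact (Nat.Prime 2) := ⟨Nat.prime_two⟩
  -- a conjugate of `P` inside `S` is `P` or `T`
  have himg : ∀ g ∈ normalizer ((s.S : Subgroup G) : Set G),
      (∀ p ∈ P, g * p * g⁻¹ ∈ P) ∨ (∀ p ∈ P, g * p * g⁻¹ ∈ T) := by
    intro g hg
    by_contra hn
    push Not at hn
    obtain ⟨⟨p, hp, hp'⟩, q, hq, hq'⟩ := hn
    have hinv : ∀ v ∈ P, g * v * g⁻¹ ∈ P ∨ g * v * g⁻¹ ∈ T := fun v hv =>
      r.invol h ((mem_normalizer_iff.1 hg v).1 (r.P_le hv)) (by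
        rw [show g * v * g⁻¹ * (g * v * g⁻¹) = g * (v * v) * g⁻¹ by group, r.sqP v hv]; group)
    have hpT := (hinv p hp).resolve_left hp'
    have hqP := (hinv q hq).resolve_right hq'
    rcases hinv (p * q) (mul_mem hp hq) with e | e
    · exact hp' (by
        have := mul_mem e (inv_mem hqP)
        rwa [show g * (p * q) * g⁻¹ * (g * q * g⁻¹)⁻¹ = g * p * g⁻¹ by group] at this)
    · exact hq' (by
        have := mul_mem (inv_mem hpT) e
        rwa [show (g * p * g⁻¹)⁻¹ * (g * (p * q) * g⁻¹) = g * q * g⁻¹ by group] at this)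
  -- squares and 2-elements fix `P`
  let Fix : Submonoid G :=
    { carrier := {g | ∀ p ∈ P, g * p * g⁻¹ ∈ P}
      one_mem' := fun p hp => by simpa using hp
      mul_mem' := fun {g g'} h1 h2 p hp => by
        have := h1 _ (h2 p hp)
        rwa [show g * (g' * p * g'⁻¹) * g⁻¹ = g * g' * p * (g * g')⁻¹ by group] at this }
  have hsurj : ∀ g : G, (∀ p ∈ P, g * p * g⁻¹ ∈ T) → ∀ t ∈ T, ∃ p ∈ P, g * p * g⁻¹ = t := by
    intro g hg t ht
    have heq : P.map (MulAut.conj g).toMonoidHom = T := eq_of_le_of_card_ge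
      (by rintro _ ⟨p, hp, rfl⟩; exact hg p hp)
      (by rw [card_map_of_injective (f := (MulAut.conj g).toMonoidHom) (MulAut.conj g).injective, r.cardP,
        r.cardT])
    rw [← heq] at ht
    obtain ⟨p, hp, e⟩ := ht
    exact ⟨p, hp, e⟩
  have hsq : ∀ g ∈ normalizer ((s.S : Subgroup G) : Set G), g * g ∈ Fix := by
    intro g hg p hp
    rcases himg g hg with h1 | h1
    · exact Fix.mul_mem h1 h1 p hp
    · rcases himg _ (mul_mem hg hg) with h2 | h2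
      · exact h2 p hp
      exfalso
      have hle : P ≤ T := fun v hv => by
        obtain ⟨q, hq, e⟩ := hsurj g h1 _ (h2 v hv)
        have : q = g * v * g⁻¹ := (MulAut.conj g).injective (e.trans (by
          show g * g * v * (g * g)⁻¹ = g * (g * v * g⁻¹) * g⁻¹; group))
        have hv' : g * v * g⁻¹ ∈ P ⊓ T := ⟨this ▸ hq, h1 v hv⟩
        rw [r.inf_eq] at hv'
        exact r.le_T ((mem_normalizer_iff.1 (s.normalizer_sylow_le hg) v).2 hv')
      have := card_le_of_le (le_inf le_rfl hle)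
      rw [r.inf_eq, r.cardP, h.card] at this
      omega
  obtain ⟨e, o, ho, hord⟩ := Nat.exists_eq_two_pow_mul_odd (orderOf_pos m).ne'
  obtain ⟨k, rfl⟩ := ho
  -- the odd power lies in `S`
  have h2el : m ^ (2 * k + 1) ∈ (s.S : Subgroup G) := by
    have hp : IsPGroup 2 (zpowers (m ^ (2 * k + 1))) :=
      IsPGroup.of_card (n := e) (by
        rw [Nat.card_zpowers, orderOf_pow_of_dvd (by omega) (hord ▸ dvd_mul_left _ _), hord,
          Nat.mul_div_cancel _ (by omega)])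
    have hle : zpowers (m ^ (2 * k + 1)) ≤ normalizer ((s.S : Subgroup G) : Set G) :=
      zpowers_le.2 (pow_mem hm _)
    have hsup : IsPGroup 2 ↥(zpowers (m ^ (2 * k + 1)) ⊔ (s.S : Subgroup G)) :=
      hp.to_sup_of_normal_right' s.S.isPGroup' hle
    rw [← s.S.is_maximal' hsup le_sup_right]
    exact mem_sup_left (mem_zpowers _)
  have hS : ∀ v ∈ (s.S : Subgroup G), v ∈ Fix := by
    intro v hv p hp
    obtain ⟨p', hp', t, ht, rfl⟩ := r.prod v hv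
    rw [show p' * t * p * (p' * t)⁻¹ = p' * (t * p * t⁻¹) * p'⁻¹ by group]
    exact mul_mem (mul_mem hp' (r.conj_mem h ht hp)) (inv_mem hp')
  have e1 : m = m ^ (2 * k + 1) * ((m ^ k)⁻¹ * (m ^ k)⁻¹) := by
    rw [pow_succ, two_mul, pow_add]; group
  rw [e1]
  exact Fix.mul_mem (hS _ h2el) (hsq _ (inv_mem (pow_mem hm k)))

end Grid

end Cfsg.Agent.Fus.Gold
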