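import Cfsg.Agent.Lib.Fus.Goldschmidt.FourCountBase

/-!
# The three classes of involutions and the centraliser of an involution of `P` outside `A`
-/

set_option autoImplicit false
set_option linter.style.haveILetI false
set_option linter.unusedSectionVars false

namespace Cfsg.Agent.Fus.Gold

open Subgroup

universe u

variable {G : Type u} [Group G] [Finite G] {s : Setup G} {P T : Subgroup G}

theorem aCl_conj {g : G} (hg : g ∈ aCl s) (n : G) : n * g * n⁻¹ ∈ aCl s := by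
  obtain ⟨m, a, ha, ha1, rfl⟩ := hg
  exact ⟨n * m, a, ha, ha1, by group⟩

theorem oCl_conj {g : G} (hg : g ∈ oCl s P) (n : G) : n * g * n⁻¹ ∈ oCl s P := by
  obtain ⟨m, a, ha, ha1, rfl⟩ := hg
  exact ⟨n * m, a, ha, ha1, by group⟩

theorem mem_aCl {a : G} (ha : a ∈ s.A) (ha1 : a ≠ 1) : a ∈ aCl s := ⟨1, a, ha, ha1, by simp⟩

theorem mem_oCl {x : G} (hx : x ∈ P) (hxA : x ∉ s.A) : x ∈ oCl s P := ⟨1, x, hx, hxA, by simp⟩

theorem aCl_sq {g : G} (hg : g ∈ aCl s) : g * g = 1 := by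
  obtain ⟨n, a, ha, -, rfl⟩ := hg
  rw [show n * a * n⁻¹ * (n * a * n⁻¹) = n * (a * a) * n⁻¹ by group, s.sq ha]; group

theorem aCl_ne_one {g : G} (hg : g ∈ aCl s) : g ≠ 1 := by
  obtain ⟨n, a, -, ha1, rfl⟩ := hg
  exact fun e => ha1 (conj_eq_one_iff.1 e)

theorem aCl_mem_A {g : G} (hg : g ∈ aCl s) (hgS : g ∈ (s.S : Subgroup G)) : g ∈ s.A := by
  obtain ⟨n, a, ha, -, rfl⟩ := hg
  exact s.closed.2 a ha n hgS

namespace Grid

variable (h : Four s) (r : Grid s P T)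
include h r

theorem oCl_sq {g : G} (hg : g ∈ oCl s P) : g * g = 1 := by
  obtain ⟨n, x, hx, -, rfl⟩ := hg
  rw [show n * x * n⁻¹ * (n * x * n⁻¹) = n * (x * x) * n⁻¹ by group, r.sqP x hx]; group

theorem oCl_ne_one {g : G} (hg : g ∈ oCl s P) : g ≠ 1 := by
  obtain ⟨n, x, -, hxA, rfl⟩ := hg
  exact fun e => hxA (conj_eq_one_iff.1 e ▸ one_mem _)

/-- No element outside `A` in the class of `A`. -/
theorem oCl_not_A {g : G} (hg : g ∈ oCl s P) (hgA : g ∈ s.A) : False := by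
  obtain ⟨n, x, hx, hxA, rfl⟩ := hg
  refine hxA ?_
  have h1 := s.closed.2 _ hgA n⁻¹
  rw [show n⁻¹ * (n * x * n⁻¹) * n⁻¹⁻¹ = x by group] at h1
  exact h1 (r.P_le hx)

theorem not_both {g : G} (hg : g ∈ oCl s P) (hga : g ∈ aCl s) : False := by
  obtain ⟨n, x, hx, hxA, rfl⟩ := hg
  refine hxA (aCl_mem_A (g := x) ?_ (r.P_le hx))
  have := aCl_conj hga n⁻¹
  rwa [show n⁻¹ * (n * x * n⁻¹) * n⁻¹⁻¹ = x by group] at this

theorem P_le_cent {x : G} (hx : x ∈ P) : P ≤ centralizer ({x} : Set G) := fun p hp => by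
  have hc := inv_eq_of_mul_eq_one_left (r.sqP _ (mul_mem hp hx))
  rw [mul_inv_rev, inv_eq_of_mul_eq_one_left (r.sqP p hp), inv_eq_of_mul_eq_one_left (r.sqP x hx)] at hc
  exact mem_centralizer_singleton_iff.2 hc.symm

theorem P_two : IsPGroup 2 P := s.S.isPGroup'.to_le r.P_le

theorem T_le_normalizer_P {t : G} (ht : t ∈ T) : t ∈ normalizer (P : Set G) :=
  mem_normalizer_fintype fun _ hp => r.conj_mem h ht hp

theorem S_le_normalizer_T : (s.S : Subgroup G) ≤ normalizer (T : Set G) := fun g hg => by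
  obtain ⟨p, hp, t, ht, rfl⟩ := r.prod g hg
  exact mul_mem (mem_normalizer_fintype fun _ ht' => r.symm.conj_mem h hp ht') (le_normalizer ht)

/-- The classes of `P - A` and of `T - A` differ. -/
theorem ne_class {x t : G} (hx : x ∈ P) (hxA : x ∉ s.A) (ht : t ∈ T) (htA : t ∉ s.A) (g : G) :
    g * x * g⁻¹ ≠ t := by
  haveI : Fact (Nat.Prime 2) := ⟨Nat.prime_two⟩
  intro e
  obtain ⟨n, hn, hnx⟩ := s.control (X := {x}) (Set.singleton_subset_iff.2 (r.P_le hx)) (g := g)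
    (by simpa [e] using r.T_le ht)
  have hnx : n * x * n⁻¹ = t := (hnx x rfl).trans e
  -- the image of `P`
  set R := P.map (MulAut.conj n).toMonoidHom with hR
  have hR2 : IsPGroup 2 R := (r.P_two h).map _
  have hRA : R ≤ centralizer (s.A : Set G) := h.le_centralizer hR2 fun a ha =>
    ⟨n⁻¹ * a * n, r.le_P (by
      have := (mem_normalizer_iff.1 (inv_mem hn) a).1 ha
      rwa [inv_inv] at this), by show n * (n⁻¹ * a * n) * n⁻¹ = a; group⟩
  have hRt : R ≤ centralizer ({t} : Set G) := by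
    rintro _ ⟨p, hp, rfl⟩
    refine mem_centralizer_singleton_iff.2 ?_
    rw [← hnx]
    show n * p * n⁻¹ * (n * x * n⁻¹) = n * x * n⁻¹ * (n * p * n⁻¹)
    rw [show n * p * n⁻¹ * (n * x * n⁻¹) = n * (p * x) * n⁻¹ by group,
      mem_centralizer_singleton_iff.1 (r.P_le_cent h hx hp)]
    group
  set M := centralizer (s.A : Set G) ⊓ centralizer ({t} : Set G) with hM
  have hTM : T ≤ M := le_inf (h.le_centralizer (r.symm.P_two h) r.le_T) (r.symm.P_le_cent h ht)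
  obtain ⟨c, hc, hcR⟩ := Count.conj_of_max (r.symm.P_two h) hTM (fun R' h1 h2 => by
    rw [r.cardT]
    exact r.max t (r.T_le ht) (r.symm.orderOf_eq h ht htA) htA R' h1 (h2.trans inf_le_left)
      (h2.trans inf_le_right)) hR2 (le_inf hRA hRt)
  set n' := c * n with hn'
  have hn'N : n' ∈ normalizer (s.A : Set G) := mul_mem (mem_normalizer_fintype fun a ha => by
    rwa [← mem_centralizer_iff.1 hc.1 a ha, mul_inv_cancel_right]) hn
  have hn'P : ∀ p ∈ P, n' * p * n'⁻¹ ∈ T := fun p hp => by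
    have := hcR _ ⟨p, hp, rfl⟩
    rwa [show c * (MulAut.conj n).toMonoidHom p * c⁻¹ = n' * p * n'⁻¹ by
      show c * (n * p * n⁻¹) * c⁻¹ = _; rw [hn']; group] at this
  -- the image of `S`
  set R2 := (s.S : Subgroup G).map (MulAut.conj n').toMonoidHom with hR2'
  have hR22 : IsPGroup 2 R2 := s.S.isPGroup'.map _
  have hAS : s.A ≤ R2 := fun a ha => ⟨n'⁻¹ * a * n', s.closed.1 (by
      have := (mem_normalizer_iff.1 (inv_mem hn'N) a).1 ha
      rwa [inv_inv] at this), by show n' * (n'⁻¹ * a * n') * n'⁻¹ = a; group⟩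
  have hmapT : P.map (MulAut.conj n').toMonoidHom = T := eq_of_le_of_card_ge
    (by rintro _ ⟨p, hp, rfl⟩; exact hn'P p hp)
    (by rw [card_map_of_injective (f := (MulAut.conj n').toMonoidHom) (MulAut.conj n').injective, r.cardP,
      r.cardT])
  have hR2N : R2 ≤ centralizer (s.A : Set G) ⊓ normalizer (T : Set G) := by
    refine le_inf (h.le_centralizer hR22 hAS) ?_
    rintro _ ⟨v, hv, rfl⟩
    refine mem_normalizer_fintype fun t' ht' => ?_
    rw [← hmapT] at ht'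
    obtain ⟨p, hp, rfl⟩ := ht'
    have hvp : v * p * v⁻¹ ∈ P := (mem_normalizer_iff.1 (r.symm.S_le_normalizer_T h hv) p).1 hp
    have := hn'P _ hvp
    rwa [show n' * (v * p * v⁻¹) * n'⁻¹ =
      n' * v * n'⁻¹ * (n' * p * n'⁻¹) * (n' * v * n'⁻¹)⁻¹ by group] at this
  obtain ⟨d, hd, hdR⟩ := Count.conj_of_max s.S.isPGroup'
    (le_inf h.central (r.S_le_normalizer_T h)) (fun R' h1 _ => by
      obtain ⟨Q, hQ⟩ := h1.exists_le_sylow
      exact (card_le_of_le hQ).trans (le_of_eq (Nat.card_congr (Q.equiv s.S).toEquiv))) hR22 hR2N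
  have hmS : d * n' ∈ normalizer ((s.S : Subgroup G) : Set G) := mem_normalizer_fintype fun v hv => by
    have := hdR _ ⟨v, hv, rfl⟩
    rwa [show d * (MulAut.conj n').toMonoidHom v * d⁻¹ = d * n' * v * (d * n')⁻¹ by
      show d * (n' * v * n'⁻¹) * d⁻¹ = _; group] at this
  have h1 := r.fix_of_normalizer h hmS x hx
  rw [show d * n' * x * (d * n')⁻¹ = d * (n' * x * n'⁻¹) * d⁻¹ by group] at h1
  have h2 : d * (n' * x * n'⁻¹) * d⁻¹ ∈ T := (mem_normalizer_iff.1 hd.2 _).1 (hn'P x hx)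
  have h3 : d * (n' * x * n'⁻¹) * d⁻¹ ∈ s.A := r.inf_eq ▸ ⟨h1, h2⟩
  have hdN : d ∈ normalizer (s.A : Set G) := mem_normalizer_fintype fun a ha => by
    rwa [← mem_centralizer_iff.1 hd.1 a ha, mul_inv_cancel_right]
  exact hxA ((mem_normalizer_iff.1 hn'N x).2 ((mem_normalizer_iff.1 hdN _).2 h3))

theorem oCl_disjoint {g : G} (hP : g ∈ oCl s P) (hT : g ∈ oCl s T) : False := by
  obtain ⟨n, x, hx, hxA, rfl⟩ := hP
  obtain ⟨m, t, ht, htA, e⟩ := hT
  exact r.ne_class h hx hxA ht htA (m⁻¹ * n) (by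
    calc m⁻¹ * n * x * (m⁻¹ * n)⁻¹ = m⁻¹ * (n * x * n⁻¹) * m := by group
      _ = t := by rw [← e]; group)

/-- An element of the class of `P - A` in `S` lies in `P`. -/
theorem oCl_mem_P {g : G} (hg : g ∈ oCl s P) (hgS : g ∈ (s.S : Subgroup G)) : g ∈ P ∧ g ∉ s.A := by
  refine ⟨(r.invol h hgS (r.oCl_sq h hg)).resolve_right fun hT => ?_, fun hA => r.oCl_not_A h hg hA⟩
  by_cases hA : g ∈ s.A
  · exact r.oCl_not_A h hg hA
  · exact r.oCl_disjoint h hg (mem_oCl hT hA)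

/-- A 2-subgroup of the centraliser of `x` has order at most 16. -/
theorem cardH {x : G} (hx : x ∈ P) (hxA : x ∉ s.A) {R : Subgroup G} (hR : IsPGroup 2 R)
    (hRH : R ≤ centralizer ({x} : Set G)) : Nat.card R ≤ 16 := by
  haveI : Fact (Nat.Prime 2) := ⟨Nat.prime_two⟩
  set M := centralizer ({x} : Set G)
  have hPM : P ≤ M := r.P_le_cent h hx
  obtain ⟨Q, hQ⟩ := ((r.P_two h).comap_subtype : IsPGroup 2 ↥(P.subgroupOf M)).exists_le_sylow
  suffices hQP : (Q : Subgroup M) = P.subgroupOf M by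
    obtain ⟨m, hm⟩ := Invol.exists_conj_subset_sylow (hR.comap_subtype : IsPGroup 2 ↥(R.subgroupOf M)) Q
    calc Nat.card R ≤ Nat.card ↥P := by
          refine Nat.card_le_card_of_injective
            (fun v => (⟨(m : G) * v * (m : G)⁻¹, ?_⟩ : ↥P)) (fun v w e => ?_)
          · have := hm ⟨v, hRH v.2⟩ (mem_subgroupOf.2 v.2)
            have h2 : m * ⟨v, hRH v.2⟩ * m⁻¹ ∈ (Q : Subgroup M) := this
            rw [hQP] at h2
            exact h2
          · exact Subtype.ext ((MulAut.conj (m : G)).injective (congrArg Subtype.val e))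
      _ = 16 := r.cardP
  by_contra hne
  have hlt : P.subgroupOf M < (Q : Subgroup M) := lt_of_le_of_ne hQ (Ne.symm hne)
  haveI : Group.IsNilpotent ↥(Q : Subgroup M) := Q.isPGroup'.isNilpotent
  obtain ⟨w, hwQ, hwN, hwP⟩ : ∃ w ∈ (Q : Subgroup M), w ∈ normalizer ((P.subgroupOf M) : Set M) ∧
      w ∉ P.subgroupOf M := by
    have hlt' : (P.subgroupOf M).subgroupOf (Q : Subgroup M) < ⊤ := lt_top_iff_ne_top.2 fun e =>
      hlt.2 (subgroupOf_eq_top.1 e)
    obtain ⟨w, hw, hwn⟩ := SetLike.exists_of_lt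
      (normalizerCondition_of_isNilpotent (G := ↥(Q : Subgroup M)) _ hlt')
    refine ⟨w, w.2, mem_normalizer_fintype fun v hv => ?_, fun e => hwn (mem_subgroupOf.2 e)⟩
    exact (mem_normalizer_iff.1 hw ⟨v, hQ hv⟩).1 (mem_subgroupOf.2 hv)
  have hwA : ∀ a ∈ s.A, (w : G) * a * (w : G)⁻¹ ∈ s.A := fun a ha => s.closed.2 a ha _
    (r.P_le ((mem_normalizer_iff.1 hwN ⟨a, hPM (r.le_P ha)⟩).1 (mem_subgroupOf.2 (r.le_P ha))))
  set R' := zpowers (w : G) ⊔ P with hR'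
  have hR'le : R' ≤ (Q : Subgroup M).map M.subtype :=
    sup_le (zpowers_le.2 ⟨w, hwQ, rfl⟩) fun p hp => ⟨⟨p, hPM hp⟩, hQ (mem_subgroupOf.2 hp), rfl⟩
  have hR'2 : IsPGroup 2 R' := (Q.isPGroup'.map _).to_le hR'le
  have h16 := r.max x (r.P_le hx) (r.orderOf_eq h hx hxA) hxA R' hR'2
    (h.le_centralizer hR'2 (r.le_P.trans le_sup_right)) (hR'le.trans (map_subtype_le _))
  have heq : P = R' := eq_of_le_of_card_ge le_sup_right (by rw [r.cardP]; exact h16)
  exact hwP (mem_subgroupOf.2 (heq.symm ▸ mem_sup_left (mem_zpowers _) : (w : G) ∈ P))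

/-- A 2-subgroup of the centraliser of `x` is conjugate there into `P`. -/
theorem conjH {x : G} (hx : x ∈ P) (hxA : x ∉ s.A) {R : Subgroup G} (hR : IsPGroup 2 R)
    (hRH : R ≤ centralizer ({x} : Set G)) :
    ∃ m ∈ centralizer ({x} : Set G), ∀ v ∈ R, m * v * m⁻¹ ∈ P :=
  Count.conj_of_max (r.P_two h) (r.P_le_cent h hx) (fun R' h1 h2 => by
    rw [r.cardP]; exact r.cardH h hx hxA h1 h2) hR hRH

/-- An involution of the centraliser of `x` is conjugate there into `P`. -/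
theorem involH {x : G} (hx : x ∈ P) (hxA : x ∉ s.A) {v : G} (hv : v * v = 1) (hvx : v * x = x * v) :
    ∃ m ∈ centralizer ({x} : Set G), m * v * m⁻¹ ∈ P := by
  haveI : Fact (Nat.Prime 2) := ⟨Nat.prime_two⟩
  have h2 : IsPGroup 2 (zpowers v) := Count.isPGroup_zpowers_pow (k := 1) (by rw [pow_one, pow_two, hv])
  obtain ⟨m, hm, hmv⟩ := r.conjH h hx hxA h2 (zpowers_le.2 (mem_centralizer_singleton_iff.2 hvx))
  exact ⟨m, hm, hmv v (mem_zpowers v)⟩

/-- No element of order four centralises an element of the class of `P - A`. -/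
theorem no_four {u v : G} (hu : u ∈ oCl s P) (hvu : v * u = u * v) (hv : (v * v) * (v * v) = 1) :
    v * v = 1 := by
  haveI : Fact (Nat.Prime 2) := ⟨Nat.prime_two⟩
  obtain ⟨n, x, hx, hxA, rfl⟩ := hu
  set v' := n⁻¹ * v * n with hv'
  have hv'x : v' * x = x * v' := by
    rw [hv']
    calc n⁻¹ * v * n * x = n⁻¹ * (v * (n * x * n⁻¹)) * n := by group
      _ = n⁻¹ * (n * x * n⁻¹ * v) * n := by rw [hvu]
      _ = _ := by group
  have h4 : v' ^ (2 ^ 2) = 1 := by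
    rw [show (2 : ℕ) ^ 2 = 4 from rfl, show v' ^ 4 = n⁻¹ * ((v * v) * (v * v)) * n by
      rw [hv']; simp [pow_succ, mul_assoc], hv]
    group
  obtain ⟨m, -, hmv⟩ := r.conjH h hx hxA (Count.isPGroup_zpowers_pow h4)
    (zpowers_le.2 (mem_centralizer_singleton_iff.2 hv'x))
  have h1 := r.sqP _ (hmv v' (mem_zpowers v'))
  calc v * v = n * m⁻¹ * ((m * v' * m⁻¹) * (m * v' * m⁻¹)) * (n * m⁻¹)⁻¹ := by rw [hv']; group
    _ = 1 := by rw [h1]; group

/-- The class of `A` in the centraliser of `x` is one class there. -/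
theorem aCl_H {x a : G} (hx : x ∈ P) (hxA : x ∉ s.A) (ha : a ∈ s.A) (ha1 : a ≠ 1) {g : G}
    (hg : g ∈ aCl s) (hgx : g * x = x * g) :
    ∃ m, m * x = x * m ∧ m * a * m⁻¹ = g := by
  obtain ⟨m, hm, hmg⟩ := r.involH h hx hxA (aCl_sq hg) hgx
  have hA := aCl_mem_A (aCl_conj hg m) (r.P_le hmg)
  obtain ⟨k, -, hkx, hk⟩ := r.conjA h hx hxA ha hA ha1 (fun e => aCl_ne_one hg (conj_eq_one_iff.1 e))
  refine ⟨m⁻¹ * k, ?_, ?_⟩
  · have hmx : Commute m x := mem_centralizer_singleton_iff.1 hm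
    exact (hmx.inv_left.mul_left hkx).eq
  · calc m⁻¹ * k * a * (m⁻¹ * k)⁻¹ = m⁻¹ * (k * a * k⁻¹) * m := by group
      _ = g := by rw [hk]; group

end Grid

end Cfsg.Agent.Fus.Gold
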