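import Cfsg.Agent.Lib.Fus.Goldschmidt.FourCountClasses
import Cfsg.Agent.Lib.Fus.ClosedProduct.Disjoint

/-!
# The centraliser of `A` modulo its core

The image of `T` in `C(A)/A O(C(A))` is normal: its conjugates commute with those of `P`, and the centraliser
of an involution of `P` there has a normal 2-complement.  Hence the conjugates of `T - A` in `C(a)` lie in
the cosets `O(C(a)) t`.
-/

set_option autoImplicit false
set_option linter.style.haveILetI false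
set_option linter.unusedSectionVars false
set_option maxHeartbeats 800000

namespace Cfsg.Agent.Fus.Gold

open Subgroup
open scoped commutatorElement

universe u

variable {G : Type u} [Group G] [Finite G]

/-- `O(C(a))`. -/
abbrev co (a : G) : Subgroup G := Cfsg.centralizerPPrimeCore 2 a

/-- `O(C(A))`. -/
def cz (s : Setup G) : Subgroup G :=
  (Cfsg.pPrimeCore 2 ↥(centralizer (s.A : Set G))).map (centralizer (s.A : Set G)).subtype

/-- Each `C(a)` splits over `O(C(a))`. -/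
def Split (s : Setup G) : Prop :=
  ∀ a ∈ s.A, a ≠ 1 → centralizer ({a} : Set G) ≤ co a ⊔ centralizer (s.A : Set G)

theorem co_odd (a : G) : Odd (Nat.card ↥(co a)) := by
  haveI : Fact (Nat.Prime 2) := ⟨Nat.prime_two⟩
  exact Nat.coprime_two_right.1 (Grp.centralizerPPrimeCore_coprime a)

theorem co_le (a : G) : co a ≤ centralizer ({a} : Set G) := map_subtype_le _

theorem le_normalizer_co {a : G} : centralizer ({a} : Set G) ≤ normalizer (co a : Set G) := fun _ hc =>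
  mem_normalizer_fintype fun _ hy => Grp.centralizerPPrimeCore_conj (mem_centralizer_singleton_iff.1 hc) hy

theorem co_conj {a y : G} (n : G) (hy : y ∈ co a) : n * y * n⁻¹ ∈ co (n * a * n⁻¹) := by
  refine Grp.le_centralizerPPrimeCore (N := (co a).map (MulAut.conj n).toMonoidHom)
    ?_ ?_ ?_ ⟨y, hy, rfl⟩
  · rintro _ ⟨w, hw, rfl⟩
    exact ((show Commute w a from Grp.centralizerPPrimeCore_commute hw).map (MulAut.conj n).toMonoidHom).eq
  · rintro c hc _ ⟨w, hw, rfl⟩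
    refine ⟨(n⁻¹ * c * n) * w * (n⁻¹ * c * n)⁻¹, Grp.centralizerPPrimeCore_conj ?_ hw, by simp [mul_assoc]⟩
    calc n⁻¹ * c * n * a = n⁻¹ * (c * (n * a * n⁻¹)) * n := by group
      _ = n⁻¹ * (n * a * n⁻¹ * c) * n := by rw [hc]
      _ = a * (n⁻¹ * c * n) := by group
  · rw [card_map_of_injective (MulAut.conj n).injective]
    exact Nat.coprime_two_right.2 (co_odd a)

/-- Commuting strongly closed subgroups meeting trivially: when the automisers of the Sylow subgroup fixing an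
element of the first are trivial, the second is normal modulo the core. -/
theorem closed_invariant {W : Type u} [Group W] [Finite W] (hO : Cfsg.pPrimeCore 2 W = ⊥) (PW : Sylow 2 W)
    {R₁ R₂ : Subgroup W} (h₁ : Cfsg.IsStronglyClosed R₁ (PW : Subgroup W))
    (h₂ : Cfsg.IsStronglyClosed R₂ (PW : Subgroup W)) (hc : ∀ a ∈ R₁, ∀ b ∈ R₂, a * b = b * a)
    (hd : R₁ ⊓ R₂ = ⊥) (hab : ∀ w ∈ (PW : Subgroup W), ∀ w' ∈ (PW : Subgroup W), w * w' = w' * w)
    {x : W} (hx : x ∈ R₁)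
    (hN : ∀ c : W, c * x = x * c → (∀ u ∈ (PW : Subgroup W), c * u * c⁻¹ ∈ (PW : Subgroup W)) →
      ∀ u ∈ (PW : Subgroup W), c * u = u * c) (g : W) {b : W} (hb : b ∈ R₂) : g * b * g⁻¹ ∈ R₂ := by
  haveI : Fact (Nat.Prime 2) := ⟨Nat.prime_two⟩
  set CW := centralizer ({x} : Set W) with hCW
  set NT := normalClosure (R₂ : Set W) with hNT
  haveI : NT.Normal := normalClosure_normal
  have hNTC : NT ≤ CW := by
    refine (closure_le _).2 ?_
    intro w hw
    obtain ⟨v, hv, hc'⟩ := Group.mem_conjugatesOfSet_iff.1 hw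
    obtain ⟨k, rfl⟩ := _root_.isConj_iff.1 hc'
    have h := ClosedProduct.commute_aux _ _ rfl PW R₁ R₂ h₁ h₂ hc hd x hx v hv k
    rw [hO, mem_bot, commutatorElement_eq_one_iff_mul_comm] at h
    exact mem_centralizer_singleton_iff.2 h.symm
  let PC : Sylow 2 ↥CW := PW.subtype fun w hw => mem_centralizer_singleton_iff.2 (hab w hw x (h₁.1 hx))
  have hburn : normalizer ((PC : Subgroup ↥CW) : Set ↥CW) ≤ centralizer ((PC : Subgroup ↥CW) : Set ↥CW) := by
    intro c hc'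
    refine mem_centralizer_iff.2 fun u hu => Subtype.ext ?_
    refine (hN c (mem_centralizer_singleton_iff.1 c.2) (fun v hv => ?_) u hu).symm
    have h := (mem_normalizer_iff.1 hc'
      ⟨v, mem_centralizer_singleton_iff.2 (hab v hv x (h₁.1 hx))⟩).1 hv
    exact h
  obtain ⟨K₀, hK₀n, hcompl⟩ : ∃ K : Subgroup ↥CW, K.Normal ∧ IsComplement' K (PC : Subgroup ↥CW) :=
    ⟨_, MonoidHom.normal_ker (MonoidHom.transferSylow PC hburn),
      MonoidHom.ker_transferSylow_isComplement' PC hburn⟩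
  have hK₀odd : Odd (Nat.card K₀) := by
    rw [← hcompl.index_eq_card]
    exact Nat.not_even_iff_odd.1 fun he => PC.not_dvd_index (even_iff_two_dvd.1 he)
  have hinf : ∀ u : ↥CW, (u : W) ∈ NT → u ∈ K₀ → u = 1 := by
    intro u hu hu'
    set K₁ := (K₀.map CW.subtype).subgroupOf NT with hK₁
    have hK₁n : K₁.Normal := ⟨fun w hw g => by
      obtain ⟨w', hw', e⟩ := hw
      exact ⟨⟨g, hNTC g.2⟩ * w' * ⟨g, hNTC g.2⟩⁻¹,
        hK₀n.conj_mem _ hw' _, by
        simp only [map_mul, map_inv, Subgroup.coe_mul, Subgroup.coe_inv, coe_subtype] at e ⊢; rw [e]⟩⟩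
    have hodd : Odd (Nat.card K₁) := by
      refine hK₀odd.of_dvd_nat ?_
      have hcard : Nat.card ↥(K₁.map NT.subtype) = Nat.card ↥K₁ := card_map_of_injective NT.subtype_injective
      rw [← hcard, hK₁, subgroupOf_map_subtype]
      refine (card_dvd_of_le inf_le_left).trans ?_
      rw [card_map_of_injective (f := CW.subtype) CW.subtype_injective]
    have hbot : K₁ ≤ ⊥ := ClosedProduct.core_normal hO NT ▸
      Grp.le_pPrimeCore hK₁n (Nat.coprime_two_right.2 hodd)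
    have h : (⟨u, hu⟩ : ↥NT) = 1 := mem_bot.1 (hbot ⟨u, hu', rfl⟩)
    exact Subtype.ext (show (u : W) = 1 from congrArg Subtype.val h)
  have hNT2 : IsPGroup 2 ↥NT := by
    intro u
    obtain ⟨k, hk⟩ := IsPGroup.iff_card.1 PC.isPGroup'
    refine ⟨k, Subtype.ext ?_⟩
    have h := hinf (⟨u, hNTC u.2⟩ ^ 2 ^ k) (by simpa using pow_mem u.2 _)
      (by rw [← hk, ← hcompl.symm.index_eq_card]; exact K₀.pow_index_mem _)
    simpa using congrArg Subtype.val h
  exact h₂.2 b hb g (Grp.pCore_le_sylow PW (Grp.le_pCore inferInstance hNT2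
    ((inferInstance : NT.Normal).conj_mem _ (subset_normalClosure hb) g)))

variable (s : Setup G)

theorem cz_odd : Odd (Nat.card ↥(cz s)) := by
  rw [cz, card_map_of_injective (centralizer (s.A : Set G)).subtype_injective]
  exact Invol.odd_oddCore

theorem cz_le : cz s ≤ centralizer (s.A : Set G) := map_subtype_le _

theorem le_normalizer_cz : centralizer (s.A : Set G) ≤ normalizer (cz s : Set G) := by
  intro c hc
  refine mem_normalizer_fintype fun _ hy => ?_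
  obtain ⟨z, hz, rfl⟩ := hy
  exact ⟨_, (Grp.pPrimeCore_isNormal).conj_mem z hz ⟨c, hc⟩, rfl⟩

variable {s}

theorem centralizer_le_single {a : G} (ha : a ∈ s.A) :
    centralizer (s.A : Set G) ≤ centralizer ({a} : Set G) :=
  centralizer_le (Set.singleton_subset_iff.2 ha)

/-- Splitting elementwise. -/
theorem Split.exists (hsp : Split s) {a : G} (ha : a ∈ s.A) (ha1 : a ≠ 1) {c : G}
    (hc : c ∈ centralizer ({a} : Set G)) :
    ∃ o ∈ co a, ∃ y ∈ centralizer (s.A : Set G), c = o * y := by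
  have hmem := hsp a ha ha1 hc
  rw [← SetLike.mem_coe, coe_mul_of_right_le_normalizer_left _ _
    ((centralizer_le_single ha).trans le_normalizer_co)] at hmem
  obtain ⟨o, ho, y, hy, e⟩ := Set.mem_mul.1 hmem
  exact ⟨o, ho, y, hy, e.symm⟩

theorem cz_le_co (hsp : Split s) {a : G} (ha : a ∈ s.A) (ha1 : a ≠ 1) : cz s ≤ co a := by
  set N := co a ⊔ cz s with hN
  have hzn : cz s ≤ normalizer (co a : Set G) :=
    (cz_le s).trans ((centralizer_le_single ha).trans le_normalizer_co)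
  refine le_trans le_sup_right (Grp.le_centralizerPPrimeCore (N := N) (fun y hy => ?_) (fun c hc y hy => ?_) ?_)
  · exact mem_centralizer_singleton_iff.1
      (sup_le (co_le a) ((cz_le s).trans (centralizer_le_single ha)) hy)
  · obtain ⟨o, ho, c', hc', rfl⟩ := hsp.exists ha ha1 (mem_centralizer_singleton_iff.2 hc)
    rw [hN, ← SetLike.mem_coe, coe_mul_of_right_le_normalizer_left _ _ hzn] at hy
    obtain ⟨o', ho', z, hz, rfl⟩ := Set.mem_mul.1 hy
    have h1 : c' * (o' * z) * c'⁻¹ ∈ N := by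
      rw [show c' * (o' * z) * c'⁻¹ = c' * o' * c'⁻¹ * (c' * z * c'⁻¹) by group]
      exact mul_mem (mem_sup_left ((mem_normalizer_iff.1 (le_normalizer_co (centralizer_le_single ha hc')) o').1 ho'))
        (mem_sup_right ((mem_normalizer_iff.1 (le_normalizer_cz s hc') z).1 hz))
    rw [show o * c' * (o' * z) * (o * c')⁻¹ = o * (c' * (o' * z) * c'⁻¹) * o⁻¹ by group]
    exact mul_mem (mul_mem (mem_sup_left ho) h1) (inv_mem (mem_sup_left ho))
  · have hc1 : (Nat.card ↥(co a)).Coprime 2 := Nat.coprime_two_right.2 (co_odd a)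
    have hc2 : (Nat.card ↥(cz s)).Coprime 2 := Nat.coprime_two_right.2 (cz_odd s)
    rw [hN, sup_comm]
    exact Grp.card_sup_coprime_to hzn hc2 hc1

theorem co_inf (hsp : Split s) {a : G} (ha : a ∈ s.A) (ha1 : a ≠ 1) :
    co a ⊓ centralizer (s.A : Set G) = cz s := by
  refine le_antisymm (fun y hy => ?_) (le_inf (cz_le_co hsp ha ha1) (cz_le s))
  refine ⟨⟨y, hy.2⟩, ?_, rfl⟩
  set N := (co a).subgroupOf (centralizer (s.A : Set G)) with hN
  have hn : N.Normal := ⟨fun w hw c => (mem_normalizer_iff.1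
    (le_normalizer_co (centralizer_le_single ha c.2)) _).1 hw⟩
  exact Grp.le_pPrimeCore hn (Nat.coprime_two_right.2 ((co_odd a).of_dvd_nat
    (by rw [hN, card_comap_subtype]; exact card_dvd_of_le inf_le_right))) (mem_subgroupOf.2 hy.1)
where
  card_comap_subtype {M N : Subgroup G} : Nat.card ↥(N.subgroupOf M) = Nat.card ↥(M ⊓ N) := by
    rw [← card_map_of_injective M.subtype_injective, subgroupOf_map_subtype, inf_comm]

namespace Grid

variable {P T : Subgroup G} (h : Four s) (r : Grid s P T)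
include h r

theorem inf_cz_S {g : G} (hg : g ∈ cz s) (hgS : g ∈ (s.S : Subgroup G)) : g = 1 := by
  obtain ⟨k, hk⟩ := s.S.isPGroup' ⟨g, hgS⟩
  exact orderOf_eq_one_iff.1 (Nat.eq_one_of_dvd_coprimes
    (Nat.Coprime.pow_left k (Nat.coprime_two_left.2 (cz_odd s)))
    (orderOf_dvd_of_pow_eq_one (congrArg Subtype.val hk)) (Subgroup.orderOf_dvd_natCard _ hg))

/-- Elements of `N(S) ∩ C(A)` fixing `x` modulo `A` act trivially on `S` modulo `A`. -/
theorem trivial_mod {x c : G} (hx : x ∈ P) (hxA : x ∉ s.A) (hc : c ∈ centralizer (s.A : Set G))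
    (hcS : c ∈ normalizer ((s.S : Subgroup G) : Set G)) (hcx : c * x * c⁻¹ * x⁻¹ ∈ s.A) :
    ∀ v ∈ (s.S : Subgroup G), c * v * c⁻¹ * v⁻¹ ∈ s.A := by
  have hfixA : ∀ w ∈ s.A, c * w * c⁻¹ = w := fun w hw => by
    rw [← mem_centralizer_iff.1 hc w hw, mul_inv_cancel_right]
  have hbr : ∀ p ∈ P, ∀ t ∈ T, c * p * c⁻¹ * (c * t * c⁻¹) * (c * p * c⁻¹)⁻¹ * (c * t * c⁻¹)⁻¹ =
      p * t * p⁻¹ * t⁻¹ := fun p hp t ht => by
    rw [show c * p * c⁻¹ * (c * t * c⁻¹) * (c * p * c⁻¹)⁻¹ * (c * t * c⁻¹)⁻¹ =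
      c * (p * t * p⁻¹ * t⁻¹) * c⁻¹ by group, hfixA _ (r.bracket p hp t ht)]
  -- equal commutators with a fixed element
  have key : ∀ {P T : Subgroup G}, Grid s P T → ∀ p ∈ P, p ∉ s.A → ∀ t ∈ T, ∀ t' ∈ T,
      p * t * p⁻¹ * t⁻¹ = p * t' * p⁻¹ * t'⁻¹ → t' * t⁻¹ ∈ s.A := by
    intro P T r p hp hpA t ht t' ht' e
    by_contra hn
    refine r.bracket_ne p hp _ (mul_mem ht' (inv_mem ht)) hpA hn (mul_inv_eq_iff_eq_mul.1 ?_)
    set β := p * t * p⁻¹ * t⁻¹ with hβ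
    have hβA : β ∈ s.A := r.bracket p hp t ht
    have e1 : p * t * p⁻¹ = β * t := by rw [hβ, inv_mul_cancel_right]
    have e2 : p * t' * p⁻¹ = β * t' := by rw [e, inv_mul_cancel_right]
    calc p * (t' * t⁻¹) * p⁻¹ = p * t' * p⁻¹ * (p * t * p⁻¹)⁻¹ := by group
      _ = β * (t' * t⁻¹) * β⁻¹ := by rw [e1, e2]; group
      _ = t' * t⁻¹ := by
        rw [r.comm_A h (r.T_le (mul_mem ht' (inv_mem ht))) hβA, mul_inv_cancel_right]
  have hP : ∀ p ∈ P, c * p * c⁻¹ ∈ P := r.fix_of_normalizer h hcS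
  have hT : ∀ t ∈ T, c * t * c⁻¹ ∈ T := r.symm.fix_of_normalizer h hcS
  have h1 : ∀ t ∈ T, c * t * c⁻¹ * t⁻¹ ∈ s.A := fun t ht => by
    refine key r x hx hxA t ht _ (hT t ht) ?_
    have e := hbr x hx t ht
    set α := c * x * c⁻¹ * x⁻¹ with hα
    set t' := c * t * c⁻¹ with ht'
    rw [show c * x * c⁻¹ = α * x by rw [hα, inv_mul_cancel_right]] at e
    rw [← e]
    have hmem : x * t' * x⁻¹ ∈ T := r.symm.conj_mem h hx (hT t ht)
    calc α * x * t' * (α * x)⁻¹ * t'⁻¹ = α * (x * t' * x⁻¹) * α⁻¹ * t'⁻¹ := by group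
      _ = _ := by rw [r.comm_A h (r.T_le hmem) hcx, mul_inv_cancel_right]
  obtain ⟨t₀, ht₀, ht₀A, -⟩ := r.fixT
  have h2 : ∀ p ∈ P, c * p * c⁻¹ * p⁻¹ ∈ s.A := fun p hp => by
    refine key r.symm t₀ ht₀ ht₀A p hp _ (hP p hp) ?_
    have e : c * t₀ * c⁻¹ * (c * p * c⁻¹) * (c * t₀ * c⁻¹)⁻¹ * (c * p * c⁻¹)⁻¹ =
        t₀ * p * t₀⁻¹ * p⁻¹ := by
      rw [show c * t₀ * c⁻¹ * (c * p * c⁻¹) * (c * t₀ * c⁻¹)⁻¹ * (c * p * c⁻¹)⁻¹ =
        c * (t₀ * p * t₀⁻¹ * p⁻¹) * c⁻¹ by group, hfixA _ (r.symm.bracket t₀ ht₀ p hp)]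
    set α := c * t₀ * c⁻¹ * t₀⁻¹ with hα
    set p' := c * p * c⁻¹ with hp'
    rw [show c * t₀ * c⁻¹ = α * t₀ by rw [hα, inv_mul_cancel_right]] at e
    rw [← e]
    have hmem : t₀ * p' * t₀⁻¹ ∈ P := r.conj_mem h ht₀ (hP p hp)
    calc α * t₀ * p' * (α * t₀)⁻¹ * p'⁻¹ = α * (t₀ * p' * t₀⁻¹) * α⁻¹ * p'⁻¹ := by group
      _ = _ := by rw [r.comm_A h (r.P_le hmem) (h1 t₀ ht₀), mul_inv_cancel_right]
  intro v hv
  obtain ⟨p, hp, t, ht, rfl⟩ := r.prod v hv
  rw [show c * (p * t) * c⁻¹ * (p * t)⁻¹ = c * p * c⁻¹ * (c * t * c⁻¹ * t⁻¹) * p⁻¹ by group,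
    show c * p * c⁻¹ * (c * t * c⁻¹ * t⁻¹) = (c * t * c⁻¹ * t⁻¹) * (c * p * c⁻¹) from
      (r.comm_A h (r.P_le (hP p hp)) (h1 t ht)).symm, mul_assoc]
  exact mul_mem (h1 t ht) (h2 p hp)

/-- `T O(C A)` is normal in `C(A)`. -/
theorem conj_mem_T {y t : G} (hy : y ∈ centralizer (s.A : Set G)) (ht : t ∈ T) :
    ∃ z ∈ cz s, ∃ t' ∈ T, y * t * y⁻¹ = z * t' := by
  haveI : Fact (Nat.Prime 2) := ⟨Nat.prime_two⟩
  set C := centralizer (s.A : Set G) with hC
  haveI hZn : (Cfsg.pPrimeCore 2 ↥C).Normal := Grp.pPrimeCore_isNormal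
  haveI hAn : (s.A.subgroupOf C).Normal := ⟨fun w hw c => by
    rw [mem_subgroupOf] at hw ⊢
    rwa [Subgroup.coe_mul, Subgroup.coe_mul, Subgroup.coe_inv, ← mem_centralizer_iff.1 c.2 _ hw,
      mul_inv_cancel_right]⟩
  set N : Subgroup ↥C := Cfsg.pPrimeCore 2 ↥C ⊔ s.A.subgroupOf C with hN
  haveI hNn : N.Normal := inferInstanceAs (Cfsg.pPrimeCore 2 ↥C ⊔ s.A.subgroupOf C).Normal
  set π := QuotientGroup.mk' N with hπdef
  have hπ : Function.Surjective π := QuotientGroup.mk'_surjective N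
  -- membership of the kernel
  have hNmem : ∀ v : ↥C, v ∈ N → ∃ z ∈ cz s, ∃ a ∈ s.A, (v : G) = z * a := fun v hv => by
    obtain ⟨z, hz, a, ha, rfl⟩ := Subgroup.mem_sup_of_normal_left.1 hv
    exact ⟨z, ⟨z, hz, rfl⟩, a, ha, rfl⟩
  have hSN : ∀ v : ↥C, (v : G) ∈ (s.S : Subgroup G) → v ∈ N → (v : G) ∈ s.A := fun v hv hvN => by
    obtain ⟨z, hz, a, ha, e⟩ := hNmem v hvN
    have hzS : z ∈ (s.S : Subgroup G) := by
      rw [show z = (v : G) * a⁻¹ by rw [e]; group]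
      exact mul_mem hv (inv_mem (s.closed.1 ha))
    rw [e, r.inf_cz_S h hz hzS, one_mul]; exact ha
  let SC : Sylow 2 ↥C := s.S.subtype h.central
  set PW : Sylow 2 (↥C ⧸ N) := SC.mapSurjective hπ with hPW
  have hPWmem : ∀ w, w ∈ (PW : Subgroup (↥C ⧸ N)) ↔ ∃ σ : ↥C, (σ : G) ∈ (s.S : Subgroup G) ∧ π σ = w := by
    intro w
    rw [hPW, Sylow.coe_mapSurjective]
    rfl
  let img : Subgroup G → Subgroup (↥C ⧸ N) := fun R => (R.subgroupOf C).map π
  have himg : ∀ {R : Subgroup G} {w}, w ∈ img R → ∃ v : ↥C, (v : G) ∈ R ∧ π v = w := fun ⟨v, hv, e⟩ => ⟨v, hv, e⟩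
  have hclosed : ∀ {P T : Subgroup G}, Grid s P T →
      Cfsg.IsStronglyClosed (img P) (PW : Subgroup (↥C ⧸ N)) := by
    intro P T r
    refine ⟨fun w hw => ?_, fun w hw g hg => ?_⟩
    · obtain ⟨v, hv, rfl⟩ := himg hw
      exact (hPWmem _).2 ⟨v, r.P_le hv, rfl⟩
    obtain ⟨v, hv, rfl⟩ := himg hw
    obtain ⟨c, rfl⟩ := hπ g
    obtain ⟨σ, hσ, e⟩ := (hPWmem _).1 hg
    by_cases hvA : (v : G) ∈ s.A
    · have : π v = 1 := (QuotientGroup.eq_one_iff _).2 (mem_sup_right hvA)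
      rw [this]; simp
    have hk : c * v * c⁻¹ * σ⁻¹ ∈ N := by
      rw [← QuotientGroup.eq_one_iff, ← QuotientGroup.mk'_apply, map_mul, map_inv]
      show π (c * v * c⁻¹) * (π σ)⁻¹ = 1
      rw [e, map_mul, map_mul, map_inv, mul_inv_cancel]
    obtain ⟨z, hz, a, ha, e'⟩ := hNmem _ hk
    have haC : a ∈ C := h.central (s.closed.1 ha)
    set g' : G := (c : G) * v * (c : G)⁻¹ with hg'
    have hg'2 : g' * g' = 1 := by
      rw [hg', show (c : G) * v * (c : G)⁻¹ * ((c : G) * v * (c : G)⁻¹) = (c : G) * (v * v) * (c : G)⁻¹ by group,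
        r.sqP _ hv]
      group
    set s' : G := a * σ with hs'
    have hs'S : s' ∈ (s.S : Subgroup G) := mul_mem (s.closed.1 ha) hσ
    have hgs : g' = z * s' := by
      have : g' * (σ : G)⁻¹ = z * a := e'
      rw [hs', ← mul_assoc, ← this, inv_mul_cancel_right]
    have hs'N : s' ∈ normalizer (cz s : Set G) := le_normalizer_cz s (mul_mem haC σ.2)
    have hs'2 : s' * s' = 1 := by
      refine r.inf_cz_S h ?_ (mul_mem hs'S hs'S)
      have h2 : z * (s' * z * s'⁻¹) * (s' * s') = 1 := by rw [← hg'2, hgs]; group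
      rw [eq_inv_of_mul_eq_one_right h2]
      exact inv_mem (mul_mem hz ((mem_normalizer_iff.1 hs'N z).1 hz))
    obtain ⟨n, hn, e2⟩ := Count.conj_of_coset (cz_odd s) hs'2 hg'2 (by
      rw [hgs, mul_assoc, hs'2, mul_one]; exact hz)
    have hcl : s' ∈ oCl s P := by
      have := oCl_conj (oCl_conj (mem_oCl hv hvA) (c : G)) n⁻¹
      rwa [← hg', ← e2, show n⁻¹ * (n * s' * n⁻¹) * n⁻¹⁻¹ = s' by group] at this
    refine ⟨⟨s', mul_mem haC σ.2⟩, (r.oCl_mem_P h hcl hs'S).1, ?_⟩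
    rw [show (⟨s', mul_mem haC σ.2⟩ : ↥C) = ⟨a, haC⟩ * σ from rfl, map_mul,
      show π ⟨a, haC⟩ = 1 from (QuotientGroup.eq_one_iff _).2 (mem_sup_right ha), one_mul, e]
  have hcomm : ∀ a ∈ img P, ∀ b ∈ img T, a * b = b * a := by
    intro _ ha _ hb
    obtain ⟨p, hp, rfl⟩ := himg ha
    obtain ⟨t', ht', rfl⟩ := himg hb
    rw [← commutatorElement_eq_one_iff_mul_comm, ← map_commutatorElement, QuotientGroup.mk'_apply,
      QuotientGroup.eq_one_iff]
    exact mem_sup_right (by rw [commutatorElement_def]; exact r.bracket p hp t' ht')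
  have hdisj : img P ⊓ img T = ⊥ := by
    rw [eq_bot_iff_forall]
    rintro w ⟨ha, hb⟩
    obtain ⟨p, hp, rfl⟩ := himg ha
    obtain ⟨t', ht', e⟩ := himg hb
    have hk : p⁻¹ * t' ∈ N := QuotientGroup.eq.1 e.symm
    have hA := hSN _ (mul_mem (inv_mem (r.P_le hp)) (r.T_le ht')) hk
    have ht'P : (t' : G) ∈ P := by
      rw [show (t' : G) = (p : G) * ((p : G)⁻¹ * t') by group]
      exact mul_mem hp (r.le_P hA)
    have ht'A : (t' : G) ∈ s.A := r.inf_eq ▸ ⟨ht'P, ht'⟩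
    rw [← e]
    exact (QuotientGroup.eq_one_iff _).2 (mem_sup_right ht'A)
  -- the core of the quotient is trivial
  have hOW : Cfsg.pPrimeCore 2 (↥C ⧸ N) = ⊥ := by
    haveI : (Cfsg.pPrimeCore 2 (↥C ⧸ N)).Normal := Grp.pPrimeCore_isNormal
    set E := (Cfsg.pPrimeCore 2 (↥C ⧸ N)).comap π with hE
    have hNE : N ≤ E := fun v hv => by
      rw [hE, mem_comap, show π v = 1 from (QuotientGroup.eq_one_iff v).2 hv]; exact one_mem _
    set Z' := Cfsg.pPrimeCore 2 ↥C with hZ'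
    set π₁ := QuotientGroup.mk' Z' with hπ₁
    haveI : (E.map π₁).Normal := Subgroup.Normal.map inferInstance _ (QuotientGroup.mk'_surjective Z')
    have hle : E.map π₁ ≤ (s.A.subgroupOf C).map π₁ := by
      refine ClosedProduct.le_two_of_odd_quotient Grp.pPrimeCore_quotient_bot
        (((Grp.elemAb_isPGroup s.elem).comap_subtype).map _) (map_mono (le_sup_right.trans hNE)) ?_ ?_
      · rintro _ ⟨a, ha, rfl⟩ _ ⟨v, -, rfl⟩
        rw [← map_mul, ← map_mul, show a * v = v * a from Subtype.ext (mem_centralizer_iff.1 v.2 _ ha)]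
      · rw [relIndex_map_map, QuotientGroup.ker_mk', sup_eq_left.2 (le_sup_left.trans hNE), sup_comm,
          ← hN]
        have h4 := relIndex_ker (f := π) (K := E)
        rw [hπdef, QuotientGroup.ker_mk'] at h4
        rw [h4]
        exact Invol.odd_oddCore.of_dvd_nat (card_dvd_of_le (by rintro _ ⟨v, hv, rfl⟩; exact hv))
    have hEN : E ≤ N := by
      have h1 := comap_mono (f := π₁) hle
      rw [comap_map_eq, comap_map_eq, QuotientGroup.ker_mk', sup_comm (s.A.subgroupOf C)] at h1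
      exact le_sup_left.trans h1
    rw [eq_bot_iff_forall]
    intro w hw
    obtain ⟨v, rfl⟩ := hπ w
    exact (QuotientGroup.eq_one_iff v).2 (hEN hw)
  -- the normal closure of the image of `T` is a 2-group
  obtain ⟨x, hx, hxA, -⟩ := r.fixP
  have hxC : x ∈ C := h.central (r.P_le hx)
  set xw := π ⟨x, hxC⟩ with hxw
  have hPWab : ∀ w ∈ (PW : Subgroup (↥C ⧸ N)), ∀ w' ∈ (PW : Subgroup (↥C ⧸ N)), w * w' = w' * w := by
    intro _ hw _ hw'
    obtain ⟨σ, hσ, rfl⟩ := (hPWmem _).1 hw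
    obtain ⟨τ, hτ, rfl⟩ := (hPWmem _).1 hw'
    rw [← commutatorElement_eq_one_iff_mul_comm, ← map_commutatorElement, QuotientGroup.mk'_apply,
      QuotientGroup.eq_one_iff]
    refine mem_sup_right ?_
    show (⁅σ, τ⁆ : ↥C).1 ∈ s.A
    rw [commutatorElement_def]
    obtain ⟨p, hp, t', ht', e⟩ := r.prod _ hσ
    obtain ⟨p', hp', t'', ht'', e'⟩ := r.prod _ hτ
    have hb := r.bracket p hp t'' ht''
    have hb' := r.bracket p' hp' t' ht'
    have hpp : p * p' = p' * p := mem_centralizer_singleton_iff.1 (r.P_le_cent h hp' hp)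
    have htt : t' * t'' = t'' * t' := mem_centralizer_singleton_iff.1 (r.symm.P_le_cent h ht'' ht')
    show (σ : G) * τ * (σ : G)⁻¹ * (τ : G)⁻¹ ∈ s.A
    have e2 : (σ : G) * τ * (σ : G)⁻¹ * (τ : G)⁻¹ =
        (p' * t' * p'⁻¹ * t'⁻¹)⁻¹ * (p * t'' * p⁻¹ * t''⁻¹) := by
      set b := p * t'' * p⁻¹ * t''⁻¹ with hbdef
      set b' := p' * t' * p'⁻¹ * t'⁻¹ with hb'def
      have f1 : t' * p' = b'⁻¹ * (p' * t') := by rw [hb'def]; group
      have f2 : p * t'' = b * (t'' * p) := by rw [hbdef]; group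
      have f3 : ∀ {v}, v ∈ (s.S : Subgroup G) → ∀ {a}, a ∈ s.A → v * a = a * v := fun hv _ ha =>
        (r.comm_A h hv ha).symm
      have f4 : p * t' * (p' * t'') = b'⁻¹ * b * (p' * t'' * (p * t')) := by
        calc p * t' * (p' * t'') = p * (t' * p') * t'' := by group
          _ = p * b'⁻¹ * (p' * t') * t'' := by rw [f1]; group
          _ = b'⁻¹ * (p * p') * (t' * t'') := by rw [f3 (r.P_le hp) (inv_mem hb')]; group
          _ = b'⁻¹ * (p' * (p * t'')) * t' := by rw [hpp, htt]; group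
          _ = b'⁻¹ * (p' * b) * (t'' * p * t') := by rw [f2]; group
          _ = b'⁻¹ * b * (p' * t'' * (p * t')) := by rw [f3 (r.P_le hp') hb]; group
      rw [e, e', show p * t' * (p' * t'') * (p * t')⁻¹ * (p' * t'')⁻¹ =
        p * t' * (p' * t'') * (p' * t'' * (p * t'))⁻¹ by group, f4]
      group
    rw [e2]
    exact mul_mem (inv_mem hb') hb
  have hxPW : xw ∈ (PW : Subgroup (↥C ⧸ N)) := (hPWmem _).2 ⟨⟨x, hxC⟩, r.P_le hx, rfl⟩
  have hN' : ∀ c : ↥C ⧸ N, c * xw = xw * c →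
      (∀ u ∈ (PW : Subgroup (↥C ⧸ N)), c * u * c⁻¹ ∈ (PW : Subgroup (↥C ⧸ N))) →
      ∀ u ∈ (PW : Subgroup (↥C ⧸ N)), c * u = u * c := by
    intro c hcx hcn
    obtain ⟨yl, hyl⟩ := hπ c
    set M := cz s ⊔ (s.S : Subgroup G) with hM
    have hS2 : ∀ R : Subgroup G, IsPGroup 2 R → R ≤ M → Nat.card R ≤ Nat.card ↥(s.S : Subgroup G) :=
      fun R h1 _ => by
        obtain ⟨Q, hQ⟩ := h1.exists_le_sylow
        exact (card_le_of_le hQ).trans (le_of_eq (Nat.card_congr (Q.equiv s.S).toEquiv))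
    have hR : (s.S : Subgroup G).map (MulAut.conj (yl : G)).toMonoidHom ≤ M := by
      rintro _ ⟨v, hv, rfl⟩
      show (yl : G) * v * (yl : G)⁻¹ ∈ M
      have hmem : π ⟨v, h.central hv⟩ ∈ (PW : Subgroup (↥C ⧸ N)) := (hPWmem _).2 ⟨_, hv, rfl⟩
      obtain ⟨σ, hσ, e⟩ := (hPWmem _).1 (hcn _ hmem)
      have hk : yl * ⟨v, h.central hv⟩ * yl⁻¹ * σ⁻¹ ∈ N := by
        rw [← QuotientGroup.eq_one_iff, ← QuotientGroup.mk'_apply]
        show π (yl * ⟨v, h.central hv⟩ * yl⁻¹ * σ⁻¹) = 1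
        rw [map_mul, map_mul, map_mul, map_inv, map_inv, e, hyl, mul_inv_cancel]
      obtain ⟨z, hz, a, ha, e'⟩ := hNmem _ hk
      have : (yl : G) * v * (yl : G)⁻¹ = z * (a * σ) := by
        have : (yl : G) * v * (yl : G)⁻¹ * (σ : G)⁻¹ = z * a := e'
        rw [← mul_assoc, ← this, inv_mul_cancel_right]
      rw [this]
      exact mul_mem (mem_sup_left hz) (mem_sup_right (mul_mem (s.closed.1 ha) hσ))
    obtain ⟨m, hm, hmR⟩ := Count.conj_of_max s.S.isPGroup' (le_sup_right : (s.S : Subgroup G) ≤ M) hS2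
      (s.S.isPGroup'.map _) hR
    have hmC : m ∈ C := sup_le (cz_le s) h.central hm
    set c' : ↥C := ⟨m, hmC⟩ * yl with hc'
    have hc'S : (c' : G) ∈ normalizer ((s.S : Subgroup G) : Set G) := mem_normalizer_fintype fun v hv => by
      have := hmR _ ⟨v, hv, rfl⟩
      rwa [show m * (MulAut.conj (yl : G)).toMonoidHom v * m⁻¹ = (c' : G) * v * (c' : G)⁻¹ by
        show m * ((yl : G) * v * (yl : G)⁻¹) * m⁻¹ = m * (yl : G) * v * (m * (yl : G))⁻¹; group] at this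
    have hπm : π ⟨m, hmC⟩ ∈ (PW : Subgroup (↥C ⧸ N)) := by
      rw [← SetLike.mem_coe, coe_mul_of_right_le_normalizer_left _ _
        (h.central.trans (le_normalizer_cz s))] at hm
      obtain ⟨z, hz, σ, hσ, e⟩ := Set.mem_mul.1 hm
      refine (hPWmem _).2 ⟨⟨σ, h.central hσ⟩, hσ, ?_⟩
      symm
      have hzN : (⟨z, cz_le s hz⟩ : ↥C) ∈ N := mem_sup_left (by
        obtain ⟨z', hz', e'⟩ := id hz
        exact (show z' = (⟨z, cz_le s hz⟩ : ↥C) from Subtype.ext e') ▸ hz')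
      rw [show (⟨m, hmC⟩ : ↥C) = ⟨z, cz_le s hz⟩ * ⟨σ, h.central hσ⟩ from Subtype.ext e.symm, map_mul,
        show π ⟨z, cz_le s hz⟩ = 1 from (QuotientGroup.eq_one_iff _).2 hzN, one_mul]
    have hπc : π c' = π ⟨m, hmC⟩ * c := by rw [hc', map_mul, hyl]
    have hfix : (c' : G) * x * (c' : G)⁻¹ * x⁻¹ ∈ s.A := by
      refine hSN (c' * ⟨x, hxC⟩ * c'⁻¹ * ⟨x, hxC⟩⁻¹)
        (mul_mem ((mem_normalizer_iff.1 hc'S x).1 (r.P_le hx)) (inv_mem (r.P_le hx))) ?_
      rw [← QuotientGroup.eq_one_iff, ← QuotientGroup.mk'_apply]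
      show π (c' * ⟨x, hxC⟩ * c'⁻¹ * ⟨x, hxC⟩⁻¹) = 1
      rw [map_mul, map_mul, map_mul, map_inv, map_inv, hπc, ← hxw, mul_inv_eq_one, mul_inv_eq_iff_eq_mul]
      rw [mul_assoc, hcx, ← mul_assoc, hPWab _ hπm xw hxPW, mul_assoc]
    have htriv := r.trivial_mod h hx hxA c'.2 hc'S hfix
    intro u hu
    obtain ⟨σ, hσ, e⟩ := (hPWmem _).1 hu
    rw [← e]
    have h1 : π c' * π σ = π σ * π c' := by
      rw [← commutatorElement_eq_one_iff_mul_comm, ← map_commutatorElement, QuotientGroup.mk'_apply,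
        QuotientGroup.eq_one_iff]
      exact mem_sup_right (by rw [commutatorElement_def]; exact htriv σ hσ)
    rw [hπc, mul_assoc] at h1
    have hσm : π σ * π ⟨m, hmC⟩ = π ⟨m, hmC⟩ * π σ := hPWab _ ((hPWmem _).2 ⟨σ, hσ, rfl⟩) _ hπm
    rw [← mul_assoc (π σ), hσm, mul_assoc] at h1
    exact mul_left_cancel h1
  -- conjugates of elements of the image of `T`
  have hyw : π (⟨y, hy⟩ * ⟨t, h.central (r.T_le ht)⟩ * ⟨y, hy⟩⁻¹) ∈ img T := by
    rw [map_mul, map_mul, map_inv]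
    have htm : π ⟨t, h.central (r.T_le ht)⟩ ∈ img T := ⟨_, ht, rfl⟩
    exact closed_invariant hOW PW (hclosed r) (hclosed r.symm) hcomm hdisj hPWab
      (x := xw) ⟨⟨x, hxC⟩, hx, rfl⟩ hN' _ htm
  obtain ⟨t', ht', e⟩ := himg hyw
  have hk : ⟨y, hy⟩ * ⟨t, h.central (r.T_le ht)⟩ * ⟨y, hy⟩⁻¹ * t'⁻¹ ∈ N := by
    rw [← QuotientGroup.eq_one_iff, ← QuotientGroup.mk'_apply]
    show π (⟨y, hy⟩ * ⟨t, h.central (r.T_le ht)⟩ * ⟨y, hy⟩⁻¹ * t'⁻¹) = 1
    rw [map_mul, ← e, map_inv, mul_inv_cancel]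
  obtain ⟨z, hz, a, ha, e'⟩ := hNmem _ hk
  refine ⟨z, hz, a * t', mul_mem (r.le_T ha) ht', ?_⟩
  have : y * t * y⁻¹ * (t' : G)⁻¹ = z * a := e'
  rw [← mul_assoc, ← this, inv_mul_cancel_right]

/-- The conjugates of elements of `T - A` in `C(a)`. -/
theorem oCl_coset (hsp : Split s) {a : G} (ha : a ∈ s.A) (ha1 : a ≠ 1) {g : G} (hg : g ∈ oCl s T)
    (hga : g * a = a * g) : ∃ t ∈ T, t ∉ s.A ∧ g * t ∈ co a := by
  haveI : Fact (Nat.Prime 2) := ⟨Nat.prime_two⟩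
  have h2 : IsPGroup 2 (zpowers g) :=
    Count.isPGroup_zpowers_pow (k := 1) (by rw [pow_one, pow_two, r.symm.oCl_sq h hg])
  obtain ⟨m, hm, hmg⟩ := Count.conj_of_max s.S.isPGroup' (h.central.trans (centralizer_le_single ha))
    (fun R h1 _ => by
      obtain ⟨Q, hQ⟩ := h1.exists_le_sylow
      exact (card_le_of_le hQ).trans (le_of_eq (Nat.card_congr (Q.equiv s.S).toEquiv)))
    h2 (zpowers_le.2 (mem_centralizer_singleton_iff.2 hga))
  obtain ⟨hmT, -⟩ := r.symm.oCl_mem_P h (oCl_conj hg m) (hmg g (mem_zpowers g))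
  set t1 := m * g * m⁻¹ with ht1
  obtain ⟨o, ho, y, hy, e⟩ := hsp.exists ha ha1 (inv_mem hm)
  obtain ⟨z, hz, t', ht', e'⟩ := r.conj_mem_T h hy hmT
  have hge : g = o * (z * t') * o⁻¹ := by
    rw [← e', show g = m⁻¹ * t1 * m⁻¹⁻¹ by rw [ht1]; group, e]; group
  have hco : g * t' ∈ co a := by
    rw [hge, show o * (z * t') * o⁻¹ * t' = o * z * (t' * o⁻¹ * t') by group]
    refine mul_mem (mul_mem ho (cz_le_co hsp ha ha1 hz)) ?_
    have hN : t' ∈ normalizer (co a : Set G) :=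
      le_normalizer_co (h.central.trans (centralizer_le_single ha) (r.T_le ht'))
    have h1 := (mem_normalizer_iff.1 hN _).1 (inv_mem ho)
    rwa [inv_eq_of_mul_eq_one_left (r.sqT t' ht')] at h1
  refine ⟨t', ht', fun hA => ?_, hco⟩
  obtain ⟨n, -, e2⟩ := Count.conj_of_coset (co_odd a) (r.sqT t' ht') (r.symm.oCl_sq h hg) hco
  have h3 := oCl_conj hg n⁻¹
  rw [← e2, show n⁻¹ * (n * t' * n⁻¹) * n⁻¹⁻¹ = t' by group] at h3
  exact r.symm.oCl_not_A h h3 hA

/-- The conjugates of elements of `A` in `C(a)`. -/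
theorem aCl_coset (hsp : Split s) {a : G} (ha : a ∈ s.A) (ha1 : a ≠ 1) {g : G} (hg : g ∈ aCl s)
    (hga : g * a = a * g) : ∃ b ∈ s.A, b ≠ 1 ∧ g * b ∈ co a := by
  haveI : Fact (Nat.Prime 2) := ⟨Nat.prime_two⟩
  have h2 : IsPGroup 2 (zpowers g) :=
    Count.isPGroup_zpowers_pow (k := 1) (by rw [pow_one, pow_two, aCl_sq hg])
  obtain ⟨m, hm, hmg⟩ := Count.conj_of_max s.S.isPGroup' (h.central.trans (centralizer_le_single ha))
    (fun R h1 _ => by
      obtain ⟨Q, hQ⟩ := h1.exists_le_sylow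
      exact (card_le_of_le hQ).trans (le_of_eq (Nat.card_congr (Q.equiv s.S).toEquiv)))
    h2 (zpowers_le.2 (mem_centralizer_singleton_iff.2 hga))
  set b := m * g * m⁻¹ with hb
  have hbA : b ∈ s.A := aCl_mem_A (aCl_conj hg m) (hmg g (mem_zpowers g))
  obtain ⟨o, ho, y, hy, e⟩ := hsp.exists ha ha1 (inv_mem hm)
  refine ⟨b, hbA, aCl_ne_one (aCl_conj hg m), ?_⟩
  have hge : g = o * b * o⁻¹ := by
    calc g = m⁻¹ * b * m⁻¹⁻¹ := by rw [hb]; group
      _ = o * (y * b * y⁻¹) * o⁻¹ := by rw [e]; group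
      _ = o * b * o⁻¹ := by rw [← mem_centralizer_iff.1 hy b hbA, mul_inv_cancel_right]
  rw [hge, show o * b * o⁻¹ * b = o * (b * o⁻¹ * b) by group]
  refine mul_mem ho ?_
  have hN : b ∈ normalizer (co a : Set G) :=
    le_normalizer_co (h.central.trans (centralizer_le_single ha) (s.closed.1 hbA))
  have h1 := (mem_normalizer_iff.1 hN _).1 (inv_mem ho)
  rwa [inv_eq_of_mul_eq_one_left (s.sq hbA)] at h1

end Grid

end Cfsg.Agent.Fus.Gold
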