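import Cfsg.Agent.Lib.Fus.Goldschmidt.FourCountPairs
import Cfsg.Agent.Lib.Fus.Goldschmidt.FourModels2
import Cfsg.Agent.Lib.Grp.ComponentBalance

/-!
# The component at an involution of four type in the counting case

In `C(y)/O(C(y))` the component `K` with Sylow subgroup the image of `A` is normal and supplements the
centraliser of this image, so `k = 3 n²` gives `|K : C(a)| = 3 |C(a) : C(A)|²` there.
-/

set_option autoImplicit false
set_option linter.style.haveILetI false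
set_option linter.unusedSectionVars false
set_option maxHeartbeats 1600000

namespace Cfsg.Agent.Fus.Gold

open Subgroup

universe u

variable {G : Type u} [Group G] [Finite G]

/-- The projection of `C(y)`, extended by `1`. -/
noncomputable def projY (y g : G) : Cq y :=
  letI := Classical.propDecidable (g ∈ centralizer ({y} : Set G))
  if hg : g ∈ centralizer ({y} : Set G) then proj y ⟨g, hg⟩ else 1

section Proj

variable {y g g' : G}

theorem projY_eq (hg : g ∈ centralizer ({y} : Set G)) : projY y g = proj y ⟨g, hg⟩ := by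
  rw [projY, dif_pos hg]

theorem projY_one : projY y (1 : G) = 1 := by rw [projY_eq (one_mem _)]; exact map_one _

theorem projY_mul (hg : g ∈ centralizer ({y} : Set G)) (hg' : g' ∈ centralizer ({y} : Set G)) :
    projY y (g * g') = projY y g * projY y g' := by
  rw [projY_eq hg, projY_eq hg', projY_eq (mul_mem hg hg'), ← map_mul]; rfl

theorem projY_inv (hg : g ∈ centralizer ({y} : Set G)) : projY y g⁻¹ = (projY y g)⁻¹ := by
  rw [projY_eq hg, projY_eq (inv_mem hg), ← map_inv]; rfl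

theorem projY_conj (hg : g ∈ centralizer ({y} : Set G)) (hg' : g' ∈ centralizer ({y} : Set G)) :
    projY y (g * g' * g⁻¹) = projY y g * projY y g' * (projY y g)⁻¹ := by
  rw [projY_mul (mul_mem hg hg') (inv_mem hg), projY_mul hg hg', projY_inv hg]

theorem projY_eq_one_iff (hg : g ∈ centralizer ({y} : Set G)) : projY y g = 1 ↔ g ∈ co y := by
  rw [projY_eq hg]
  refine (QuotientGroup.eq_one_iff _).trans ⟨fun h => ⟨_, h, rfl⟩, ?_⟩
  rintro ⟨w, hw, e⟩
  obtain rfl : w = ⟨g, hg⟩ := Subtype.ext e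
  exact hw

theorem projY_eq_iff (hg : g ∈ centralizer ({y} : Set G)) (hg' : g' ∈ centralizer ({y} : Set G))
    (h2 : g' * g' = 1) : projY y g = projY y g' ↔ g * g' ∈ co y := by
  rw [← projY_eq_one_iff (mul_mem hg hg'), projY_mul hg hg']
  have h : projY y g' * projY y g' = 1 := by rw [← projY_mul hg' hg', h2, projY_one]
  exact ⟨fun e => by rw [e, h], fun e => by rw [eq_inv_of_mul_eq_one_left e, inv_eq_of_mul_eq_one_left h]⟩

theorem projY_surj (w : Cq y) : ∃ g, g ∈ centralizer ({y} : Set G) ∧ projY y g = w := by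
  obtain ⟨g, rfl⟩ := QuotientGroup.mk'_surjective _ w
  exact ⟨g, g.2, projY_eq g.2⟩

end Proj

variable {s : Setup G} {P T : Subgroup G}

namespace Grid

section Local

variable (h : Four s) (r : Grid s P T) (hsp : Split s)
include h r hsp

theorem A_le_cent {y : G} (hy : y ∈ P) : s.A ≤ centralizer ({y} : Set G) :=
  r.le_P.trans (r.P_le_cent h hy)

/-- The counting relation read in `C(y)/O(C(y))`. -/
theorem local_count {y : G} (hy : y ∈ P) (hyA : y ∉ s.A) {n : ℕ}
    (hk : (aC s y).ncard = 3 * n ^ 2)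
    (hn : ∀ a ∈ s.A, a ≠ 1 → Nat.card ↥(co a ⊓ centralizer ({y} : Set G)) =
      n * Nat.card ↥(cz s ⊓ centralizer ({y} : Set G)))
    {a b : G} (ha : a ∈ s.A) (ha1 : a ≠ 1) (hb : b ∈ s.A) (hb1 : b ≠ 1) (hab : a ≠ b) :
    (Count.orb (⊤ : Subgroup (Cq y)) (projY y a)).ncard =
      3 * (Count.orb (centralizer ({projY y a} : Set (Cq y))) (projY y b)).ncard ^ 2 := by
  classical
  letI : Fintype G := Fintype.ofFinite G
  set H := centralizer ({y} : Set G) with hH
  have hAH : s.A ≤ H := r.A_le_cent h hsp hy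
  set O := co y with hO
  have hOH : O ≤ H := co_le y
  have hnorm : ∀ v ∈ H, v ∈ normalizer (O : Set G) := fun v hv => le_normalizer_co hv
  have hab1 : a * b ≠ 1 := fun e => hab (by rw [← mul_one a, ← s.sq hb, ← mul_assoc, e, one_mul])
  -- Brauer-Wielandt
  have heqc : ∀ u ∈ s.A, u ≠ 1 → Nat.card ↥(O ⊓ centralizer ({u} : Set G)) =
      Nat.card ↥(O ⊓ centralizer ({a} : Set G)) := by
    intro u hu hu1
    obtain ⟨g, -, hgy, hgu⟩ := r.conjA h hy hyA hu ha hu1 ha1
    have hgH : g ∈ H := mem_centralizer_singleton_iff.2 hgy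
    refine conj_card g fun v => ?_
    simp only [Subgroup.mem_inf, mem_centralizer_singleton_iff]
    refine and_congr (mem_normalizer_iff.1 (hnorm g hgH) v) ?_
    rw [← hgu, show g * v * g⁻¹ * (g * u * g⁻¹) = g * (v * u) * g⁻¹ by group,
      show g * u * g⁻¹ * (g * v * g⁻¹) = g * (u * v) * g⁻¹ by group, mul_left_inj, mul_right_inj]
  have hbw := Block.ThreeP.four_count O (co_odd y) (s.orderOf_eq ha ha1) (s.orderOf_eq hb hb1) (s.comm ha hb)
    hab (hnorm a (hAH ha)) (hnorm b (hAH hb))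
  rw [heqc b hb hb1, heqc (a * b) (mul_mem ha hb) hab1] at hbw
  have hOC : Odd (Nat.card ↥(O ⊓ centralizer ({a} : Set G))) :=
    (co_odd y).of_dvd_nat (card_dvd_of_le inf_le_left)
  have hF := Count.invSet_ncard (co_odd y) (s.sq ha) (hnorm a (hAH ha))
  have hG := Count.invSet_ncard hOC (s.sq hb) (mem_normalizer_inf (hnorm b (hAH hb)) (s.comm hb ha))
  set F := (Count.invSet O a).ncard
  set G2 := (Count.invSet (O ⊓ centralizer ({a} : Set G)) b).ncard
  set oa := Nat.card ↥(O ⊓ centralizer ({a} : Set G))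
  set oA := Nat.card ↥(O ⊓ centralizer ({a} : Set G) ⊓ centralizer ({b} : Set G))
  have hFG : F = G2 ^ 2 := by
    refine Nat.eq_of_mul_eq_mul_right (show 0 < oa * oA ^ 2 from Nat.mul_pos Nat.card_pos (pow_pos Nat.card_pos 2)) ?_
    rw [← mul_assoc, hF, hbw, ← hG]; ring
  -- the class of `a`
  have hp : (aC s y).ncard = (Count.orb (⊤ : Subgroup (Cq y)) (projY y a)).ncard * F := by
    refine Count.ncard_fibres _ _ (projY y) (fun g hg => ?_) fun w hw => ?_
    · obtain ⟨m, hmy, rfl⟩ := r.aCl_H h hy hyA ha ha1 hg.1 hg.2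
      exact ⟨projY y m, mem_top _, (projY_conj (mem_centralizer_singleton_iff.2 hmy) (hAH ha)).symm⟩
    · obtain ⟨c, -, rfl⟩ := hw
      obtain ⟨m, hm, rfl⟩ := projY_surj c
      rw [← projY_conj hm (hAH ha),
        ← Count.ncard_conj (p := fun g => g ∈ aC s y ∧ projY y g = projY y a) m fun g => ?_]
      · show _ = (Count.invSet O a).ncard
        congr 1
        ext g
        constructor
        · rintro ⟨⟨hg, hgy⟩, e⟩
          exact ⟨aCl_sq hg, (projY_eq_iff (mem_centralizer_singleton_iff.2 hgy) (hAH ha) (s.sq ha)).1 e⟩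
        · rintro ⟨hg2, hga⟩
          obtain ⟨o, ho, rfl⟩ := Count.conj_of_coset (co_odd y) (s.sq ha) hg2 hga
          have hmem : o * a * o⁻¹ ∈ H := mul_mem (mul_mem (hOH ho) (hAH ha)) (inv_mem (hOH ho))
          exact ⟨⟨aCl_conj (mem_aCl ha ha1) o, mem_centralizer_singleton_iff.1 hmem⟩,
            (projY_eq_iff hmem (hAH ha) (s.sq ha)).2 hga⟩
      · have hcy : ∀ v : G, v ∈ H ↔ m * v * m⁻¹ ∈ H := fun v =>
          ⟨fun hv => mul_mem (mul_mem hm hv) (inv_mem hm), fun hv => by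
            rw [show v = m⁻¹ * (m * v * m⁻¹) * m by group]
            exact mul_mem (mul_mem (inv_mem hm) hv) hm⟩
        constructor
        · rintro ⟨⟨hg, hgy⟩, e⟩
          have hgH : g ∈ H := mem_centralizer_singleton_iff.2 hgy
          exact ⟨⟨aCl_conj hg m, mem_centralizer_singleton_iff.1 ((hcy g).1 hgH)⟩,
            by rw [projY_conj hm hgH, e, projY_conj hm (hAH ha)]⟩
        · rintro ⟨⟨hg, hgy⟩, e⟩
          have hgH : g ∈ H := (hcy g).2 (mem_centralizer_singleton_iff.2 hgy)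
          have hg' : g ∈ aCl s := by
            have := aCl_conj hg m⁻¹
            rwa [show m⁻¹ * (m * g * m⁻¹) * m⁻¹⁻¹ = g by group] at this
          rw [projY_conj hm hgH, projY_conj hm (hAH ha)] at e
          exact ⟨⟨hg', mem_centralizer_singleton_iff.1 hgH⟩, mul_left_cancel (mul_right_cancel e)⟩
  -- the orbit of `b`
  set Sb := Count.invSet (co a ⊓ H) b with hSb
  have hSbmem : ∀ g, g ∈ Sb ↔ ∃ c, c ∈ centralizer ({a} : Set G) ∧ c ∈ H ∧ c * b * c⁻¹ = g := by
    intro g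
    constructor
    · rintro ⟨hg2, hgb⟩
      obtain ⟨o, ho, e⟩ := Count.conj_of_coset ((co_odd a).of_dvd_nat (card_dvd_of_le inf_le_left))
        (s.sq hb) hg2 hgb
      exact ⟨o, co_le a (Subgroup.mem_inf.1 ho).1, (Subgroup.mem_inf.1 ho).2, e⟩
    · rintro ⟨c, hca, hcH, rfl⟩
      refine ⟨by rw [show c * b * c⁻¹ * (c * b * c⁻¹) = c * (b * b) * c⁻¹ by group, s.sq hb]; group,
        Subgroup.mem_inf.2 ⟨?_, mul_mem (mul_mem (mul_mem hcH (hAH hb)) (inv_mem hcH)) (hAH hb)⟩⟩
      obtain ⟨o, ho, z, hz, rfl⟩ := hsp.exists ha ha1 hca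
      rw [show o * z * b * (o * z)⁻¹ * b = o * (z * b * z⁻¹) * o⁻¹ * b by group,
        ← mem_centralizer_iff.1 hz b hb, mul_inv_cancel_right,
        show o * b * o⁻¹ * b = o * (b * o⁻¹ * b) by group]
      refine mul_mem ho ?_
      have h1 := (mem_normalizer_iff.1 (r.normalize_co h hsp ha (s.closed.1 hb)) _).1 (inv_mem ho)
      rwa [inv_eq_of_mul_eq_one_left (s.sq hb)] at h1
  have hq : n = (Count.orb (centralizer ({projY y a} : Set (Cq y))) (projY y b)).ncard * G2 := by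
    rw [← r.invSet_card h hsp hy hyA hn ha ha1 hb hb1 hab]
    refine Count.ncard_fibres Sb _ (projY y) (fun g hg => ?_) fun w hw => ?_
    · obtain ⟨c, hca, hcH, rfl⟩ := (hSbmem g).1 hg
      refine ⟨projY y c, mem_centralizer_singleton_iff.2 ?_, (projY_conj hcH (hAH hb)).symm⟩
      rw [← projY_mul hcH (hAH ha), ← projY_mul (hAH ha) hcH, mem_centralizer_singleton_iff.1 hca]
    · obtain ⟨c, hc, rfl⟩ := hw
      obtain ⟨m₀, hm₀, rfl⟩ := projY_surj c
      have hc' := mem_centralizer_singleton_iff.1 hc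
      have hfix : projY y (m₀ * a * m₀⁻¹) = projY y a := by
        rw [projY_conj hm₀ (hAH ha), hc', mul_inv_cancel_right]
      have hmH : m₀ * a * m₀⁻¹ ∈ H := mul_mem (mul_mem hm₀ (hAH ha)) (inv_mem hm₀)
      obtain ⟨o, ho, hoa⟩ := Count.conj_of_coset (co_odd y) (s.sq ha)
        (show m₀ * a * m₀⁻¹ * (m₀ * a * m₀⁻¹) = 1 by
          rw [show m₀ * a * m₀⁻¹ * (m₀ * a * m₀⁻¹) = m₀ * (a * a) * m₀⁻¹ by group, s.sq ha]; group)
        ((projY_eq_iff hmH (hAH ha) (s.sq ha)).1 hfix)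
      set m := o⁻¹ * m₀ with hm
      have hmH' : m ∈ H := mul_mem (inv_mem (hOH ho)) hm₀
      have hma : m ∈ centralizer ({a} : Set G) := mem_centralizer_singleton_iff.2 (mul_inv_eq_iff_eq_mul.1 (by
        calc m * a * m⁻¹ = o⁻¹ * (m₀ * a * m₀⁻¹) * o := by rw [hm]; group
          _ = a := by rw [← hoa]; group))
      have hpm : projY y m₀ = projY y m := by
        rw [hm, projY_mul (inv_mem (hOH ho)) hm₀, (projY_eq_one_iff (inv_mem (hOH ho))).2 (inv_mem ho), one_mul]
      rw [hpm, ← projY_conj hmH' (hAH hb),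
        ← Count.ncard_conj (p := fun g => g ∈ Sb ∧ projY y g = projY y b) m fun g => ?_]
      · show _ = (Count.invSet (O ⊓ centralizer ({a} : Set G)) b).ncard
        congr 1
        ext g
        constructor
        · rintro ⟨hg, e⟩
          obtain ⟨c', hca, hcH, rfl⟩ := (hSbmem g).1 hg
          have hgH : c' * b * c'⁻¹ ∈ H := mul_mem (mul_mem hcH (hAH hb)) (inv_mem hcH)
          refine ⟨hg.1, Subgroup.mem_inf.2 ⟨(projY_eq_iff hgH (hAH hb) (s.sq hb)).1 e, ?_⟩⟩
          exact mul_mem (mul_mem (mul_mem hca (s.le_centralizer ha hb)) (inv_mem hca)) (s.le_centralizer ha hb)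
        · rintro ⟨hg2, hgb⟩
          obtain ⟨o', ho', rfl⟩ := Count.conj_of_coset hOC (s.sq hb) hg2 hgb
          obtain ⟨ho1, ho2⟩ := Subgroup.mem_inf.1 ho'
          refine ⟨(hSbmem _).2 ⟨o', ho2, hOH ho1, rfl⟩, ?_⟩
          exact (projY_eq_iff (mul_mem (mul_mem (hOH ho1) (hAH hb)) (inv_mem (hOH ho1))) (hAH hb) (s.sq hb)).2
            (Subgroup.mem_inf.1 hgb).1
      · constructor
        · rintro ⟨hg, e⟩
          obtain ⟨c', hca, hcH, rfl⟩ := (hSbmem g).1 hg
          exact ⟨(hSbmem _).2 ⟨m * c', mul_mem hma hca, mul_mem hmH' hcH, by group⟩,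
            by rw [projY_conj hmH' (mul_mem (mul_mem hcH (hAH hb)) (inv_mem hcH)), e,
              projY_conj hmH' (hAH hb)]⟩
        · rintro ⟨hg, e⟩
          obtain ⟨c', hca, hcH, e'⟩ := (hSbmem _).1 hg
          have hgS : g ∈ Sb := (hSbmem _).2 ⟨m⁻¹ * c', mul_mem (inv_mem hma) hca,
            mul_mem (inv_mem hmH') hcH, by
              rw [show m⁻¹ * c' * b * (m⁻¹ * c')⁻¹ = m⁻¹ * (c' * b * c'⁻¹) * m by group, e']; group⟩
          obtain ⟨c'', -, hcH'', e''⟩ := (hSbmem _).1 hgS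
          have hgH : g ∈ H := e'' ▸ mul_mem (mul_mem hcH'' (hAH hb)) (inv_mem hcH'')
          rw [projY_conj hmH' hgH, projY_conj hmH' (hAH hb)] at e
          exact ⟨hgS, mul_left_cancel (mul_right_cancel e)⟩
  have hF0 : 0 < F := Nat.pos_of_ne_zero fun e => by
    rw [e, zero_mul] at hF
    exact Nat.card_pos.ne hF
  refine Nat.eq_of_mul_eq_mul_right hF0 ?_
  rw [← hp, hk, hq, hFG]; ring

/-- An element of `C(y)/O(C(y))` normalising the image of `A` centralises it or fixes none of its involutions. -/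
theorem semiregular {y : G} (hy : y ∈ P) {g : Cq y}
    (hg : ∀ u ∈ s.A, ∃ v ∈ s.A, g * projY y u * g⁻¹ = projY y v)
    {a : G} (ha : a ∈ s.A) (ha1 : a ≠ 1) (hga : g * projY y a = projY y a * g) :
    ∀ u ∈ s.A, g * projY y u = projY y u * g := by
  set H := centralizer ({y} : Set G) with hH
  have hAH : s.A ≤ H := r.A_le_cent h hsp hy
  have hOH : co y ≤ H := co_le y
  obtain ⟨m₀, hm₀, rfl⟩ := projY_surj g
  have hmH : m₀ * a * m₀⁻¹ ∈ H := mul_mem (mul_mem hm₀ (hAH ha)) (inv_mem hm₀)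
  obtain ⟨o, ho, hoa⟩ := Count.conj_of_coset (co_odd y) (s.sq ha)
    (show m₀ * a * m₀⁻¹ * (m₀ * a * m₀⁻¹) = 1 by
      rw [show m₀ * a * m₀⁻¹ * (m₀ * a * m₀⁻¹) = m₀ * (a * a) * m₀⁻¹ by group, s.sq ha]; group)
    ((projY_eq_iff hmH (hAH ha) (s.sq ha)).1 (by rw [projY_conj hm₀ (hAH ha), hga, mul_inv_cancel_right]))
  set m := o⁻¹ * m₀ with hm
  have hmH' : m ∈ H := mul_mem (inv_mem (hOH ho)) hm₀
  have hma : m * a * m⁻¹ = a := by
    calc m * a * m⁻¹ = o⁻¹ * (m₀ * a * m₀⁻¹) * o := by rw [hm]; group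
      _ = a := by rw [← hoa]; group
  have hpm : projY y m₀ = projY y m := by
    rw [hm, projY_mul (inv_mem (hOH ho)) hm₀, (projY_eq_one_iff (inv_mem (hOH ho))).2 (inv_mem ho), one_mul]
  rw [hpm] at hg ⊢
  obtain ⟨c, hc, hcco⟩ : ∃ c ∈ centralizer ({a} : Set G), c = m := ⟨m, mem_centralizer_singleton_iff.2
    (mul_inv_eq_iff_eq_mul.1 hma), rfl⟩
  have inj : ∀ v ∈ s.A, ∀ v' ∈ s.A, projY y v = projY y v' → v = v' := fun v hv v' hv' e => by
    have h1 := Count.eq_one_of_odd (co_odd y) (s.sq (mul_mem hv hv'))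
      ((projY_eq_iff (hAH hv) (hAH hv') (s.sq hv')).1 e)
    rw [← mul_one v, ← s.sq hv', ← mul_assoc, h1, one_mul]
  intro u hu
  obtain ⟨v, hv, hv'⟩ := hg u hu
  suffices h' : v = u by rw [h'] at hv'; exact mul_inv_eq_iff_eq_mul.1 hv'
  rcases eq_or_ne u 1 with hu0 | hu0
  · rw [hu0, projY_one, mul_one, mul_inv_cancel, ← projY_one (y := y)] at hv'
    rw [hu0]
    exact (inj 1 (one_mem _) v hv hv').symm
  rcases eq_or_ne u a with hua | hua
  · rw [hua, ← projY_conj hmH' (hAH ha), hma] at hv'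
    rw [hua]
    exact (inj a ha v hv hv').symm
  rcases h.cases ha hu hv ha1 hu0 hua.symm with e | e | e | e
  · exfalso
    rw [e, projY_one] at hv'
    exact hu0 (inj u hu 1 (one_mem _) (by rw [projY_one]; exact conj_eq_one_iff.1 hv'))
  · exfalso
    rw [e] at hv'
    refine hua (inj u hu a ha (mul_left_cancel (mul_right_cancel (hv'.trans ?_))))
    rw [← projY_conj hmH' (hAH ha), hma]
  · exact e
  exfalso
  -- `m u m⁻¹` lies in `O_a u` and in `O_y a u`
  have hmu : m * u * m⁻¹ ∈ H := mul_mem (mul_mem hmH' (hAH hu)) (inv_mem hmH')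
  have h1 : m * u * m⁻¹ * v ∈ co y := (projY_eq_iff hmu (hAH hv) (s.sq hv)).1
    (by rw [projY_conj hmH' (hAH hu)]; exact hv')
  obtain ⟨o', ho', z, hz, e'⟩ := hsp.exists ha ha1 (hcco ▸ hc)
  have h2 : m * u * m⁻¹ * u ∈ co a := by
    rw [e', show o' * z * u * (o' * z)⁻¹ * u = o' * (z * u * z⁻¹) * o'⁻¹ * u by group,
      ← mem_centralizer_iff.1 hz u hu, mul_inv_cancel_right,
      show o' * u * o'⁻¹ * u = o' * (u * o'⁻¹ * u) by group]
    refine mul_mem ho' ?_
    have h1 := (mem_normalizer_iff.1 (r.normalize_co h hsp ha (s.closed.1 hu)) _).1 (inv_mem ho')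
    rwa [inv_eq_of_mul_eq_one_left (s.sq hu)] at h1
  rw [e, s.comm ha hu, ← mul_assoc] at h1
  set u1 := m * u * m⁻¹ * u with hu1
  have hcu : Commute u1 a := mem_centralizer_singleton_iff.1 (co_le a h2)
  obtain ⟨k, hk⟩ := co_odd a
  have hpow : u1 ^ Nat.card ↥(co a) = 1 :=
    orderOf_dvd_iff_pow_eq_one.1 (Subgroup.orderOf_dvd_natCard _ h2)
  have h5 := pow_mem h1 (Nat.card ↥(co a))
  rw [hcu.mul_pow, hpow, one_mul, hk, pow_succ, pow_mul, pow_two, s.sq ha, one_pow, one_mul] at h5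
  exact ha1 (Count.eq_one_of_odd (co_odd y) (s.sq ha) h5)

end Local

end Grid

end Cfsg.Agent.Fus.Gold
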