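import Cfsg.Agent.Lib.Fus.Goldschmidt.FourCountCore
import Cfsg.Agent.Lib.Block.ThreeP.FourCount

/-!
# The class of `A` counted from an involution of `P` outside `A`

With `k = |a^G ∩ C(x)|` and `n = |O_a ∩ C(x) : O(C A) ∩ C(x)|`: `|O_a : O(C A)| = n²` and
`|a^G| = k (k - 2 n²)`.
-/

set_option autoImplicit false
set_option linter.style.haveILetI false
set_option linter.unusedSectionVars false
set_option maxHeartbeats 800000

namespace Cfsg.Agent.Fus.Gold

open Subgroup

universe u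

variable {G : Type u} [Group G] [Finite G] {s : Setup G}

/-- The conjugates of the involutions of `A` which centralise `x`. -/
def aC (s : Setup G) (x : G) : Set G := {g | g ∈ aCl s ∧ g * x = x * g}

theorem aC_ncard_conj (n x : G) : (aC s (n * x * n⁻¹)).ncard = (aC s x).ncard := by
  symm
  refine Count.ncard_conj (p := fun g => g ∈ aCl s ∧ g * x = x * g)
    (q := fun g => g ∈ aCl s ∧ g * (n * x * n⁻¹) = n * x * n⁻¹ * g) n fun g => ?_
  refine and_congr ⟨fun hg => aCl_conj hg n, fun hg => ?_⟩ ?_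
  · have := aCl_conj hg n⁻¹
    rwa [show n⁻¹ * (n * g * n⁻¹) * n⁻¹⁻¹ = g by group] at this
  · rw [show n * g * n⁻¹ * (n * x * n⁻¹) = n * (g * x) * n⁻¹ by group,
      show n * x * n⁻¹ * (n * g * n⁻¹) = n * (x * g) * n⁻¹ by group, mul_left_inj, mul_right_inj]

theorem mem_normalizer_inf {N : Subgroup G} {x c : G} (hc : c ∈ normalizer (N : Set G)) (hcx : c * x = x * c) :
    c ∈ normalizer ((N ⊓ centralizer ({x} : Set G) : Subgroup G) : Set G) := by
  refine mem_normalizer_fintype fun v hv => ⟨(mem_normalizer_iff.1 hc v).1 hv.1,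
    mem_centralizer_singleton_iff.2 ?_⟩
  have h1 : Commute v x := mem_centralizer_singleton_iff.1 hv.2
  exact ((show Commute c x from hcx).mul_left h1 |>.mul_left (show Commute c x from hcx).inv_left).eq

theorem conj_card {N M : Subgroup G} (n : G) (h : ∀ v, v ∈ N ↔ n * v * n⁻¹ ∈ M) :
    Nat.card N = Nat.card M := by
  rw [← SetLike.coe_sort_coe N, ← SetLike.coe_sort_coe M, Nat.card_coe_set_eq, Nat.card_coe_set_eq]
  exact Count.ncard_conj (p := fun v => v ∈ N) (q := fun v => v ∈ M) n h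

/-- The square of a product with an element of a normalised subgroup. -/
theorem sq_mem_coset {N : Subgroup G} {c o : G} (hc : c * c = 1) (hcn : c ∈ normalizer (N : Set G))
    (ho : o ∈ N) : c * o * (c * o) ∈ N := by
  rw [show c * o * (c * o) = (c * o * c) * o by group]
  refine mul_mem ?_ ho
  have h := (mem_normalizer_iff.1 hcn o).1 ho
  rwa [inv_eq_of_mul_eq_one_left hc] at h

namespace Grid

variable {P T : Subgroup G} (h : Four s) (r : Grid s P T) (hsp : Split s)
include h r hsp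

theorem normalize_co {a v : G} (ha : a ∈ s.A) (hv : v ∈ (s.S : Subgroup G)) :
    v ∈ normalizer (co a : Set G) :=
  le_normalizer_co (h.central.trans (centralizer_le_single ha) hv)

theorem co_inf_b {a b : G} (ha : a ∈ s.A) (ha1 : a ≠ 1) (hb : b ∈ s.A) (hb1 : b ≠ 1) (hab : a ≠ b) :
    co a ⊓ centralizer ({b} : Set G) = cz s := by
  refine le_antisymm (fun v hv => ?_)
    (le_inf (cz_le_co hsp ha ha1) ((cz_le s).trans (centralizer_le_single hb)))
  rw [← co_inf hsp ha ha1]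
  refine ⟨hv.1, mem_centralizer_iff.2 fun c hc => ?_⟩
  have e1 : Commute v a := mem_centralizer_singleton_iff.1 (co_le a hv.1)
  have e2 : Commute v b := mem_centralizer_singleton_iff.1 hv.2
  rcases h.cases ha hb hc ha1 hb1 hab with rfl | rfl | rfl | rfl
  · simp
  · exact e1.symm.eq
  · exact e2.symm.eq
  · exact (e1.mul_right e2).symm.eq

theorem co_x_card {x a b : G} (hx : x ∈ P) (hxA : x ∉ s.A) (ha : a ∈ s.A) (ha1 : a ≠ 1) (hb : b ∈ s.A)
    (hb1 : b ≠ 1) :
    Nat.card ↥(co a ⊓ centralizer ({x} : Set G)) = Nat.card ↥(co b ⊓ centralizer ({x} : Set G)) := by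
  obtain ⟨g, -, hgx, hgab⟩ := r.conjA h hx hxA ha hb ha1 hb1
  refine conj_card g fun v => ?_
  simp only [Subgroup.mem_inf, mem_centralizer_singleton_iff]
  refine and_congr ⟨fun hv => hgab ▸ co_conj g hv, fun hv => ?_⟩ ?_
  · have := co_conj g⁻¹ hv
    rwa [← hgab, show g⁻¹ * (g * v * g⁻¹) * g⁻¹⁻¹ = v by group,
      show g⁻¹ * (g * a * g⁻¹) * g⁻¹⁻¹ = a by group] at this
  · constructor
    · intro hv
      calc g * v * g⁻¹ * x = g * v * g⁻¹ * (x * g) * g⁻¹ := by group
        _ = g * (v * x) * g⁻¹ := by rw [← hgx]; group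
        _ = g * x * v * g⁻¹ := by rw [hv]; group
        _ = x * (g * v * g⁻¹) := by rw [hgx]; group
    · intro hv
      apply mul_left_cancel (a := g)
      calc g * (v * x) = g * v * g⁻¹ * (g * x) := by group
        _ = g * v * g⁻¹ * x * g := by rw [hgx]; group
        _ = x * g * v := by rw [hv]; group
        _ = g * (x * v) := by rw [← hgx]; group

theorem exists_n {x : G} (hx : x ∈ P) (hxA : x ∉ s.A) :
    ∃ n : ℕ, 0 < n ∧ ∀ a ∈ s.A, a ≠ 1 → Nat.card ↥(co a ⊓ centralizer ({x} : Set G)) =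
      n * Nat.card ↥(cz s ⊓ centralizer ({x} : Set G)) := by
  obtain ⟨⟨a, ha⟩, ha1⟩ := s.A.ne_bot_iff_exists_ne_one.1 s.ne_bot
  have ha1' : a ≠ 1 := fun e => ha1 (Subtype.ext e)
  obtain ⟨n, hn⟩ := card_dvd_of_le
    (inf_le_inf_right (centralizer ({x} : Set G)) (cz_le_co hsp ha ha1'))
  refine ⟨n, Nat.pos_of_ne_zero fun e => ?_, fun b hb hb1 => ?_⟩
  · rw [e, mul_zero] at hn
    exact Nat.card_pos.ne' hn
  · rw [r.co_x_card h hsp hx hxA hb hb1 ha ha1', hn, mul_comm]

section Fixed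

variable {x : G} (hx : x ∈ P) (hxA : x ∉ s.A) {n : ℕ}
  (hn : ∀ a ∈ s.A, a ≠ 1 → Nat.card ↥(co a ⊓ centralizer ({x} : Set G)) =
      n * Nat.card ↥(cz s ⊓ centralizer ({x} : Set G)))
include hx hxA hn

/-- `|O(C a) : O(C A)| = n²`. -/
theorem co_card {a : G} (ha : a ∈ s.A) (ha1 : a ≠ 1) :
    Nat.card ↥(co a) = n ^ 2 * Nat.card ↥(cz s) := by
  classical
  letI : Fintype G := Fintype.ofFinite G
  obtain ⟨b, hb, hb1, hab⟩ : ∃ b ∈ s.A, b ≠ 1 ∧ a ≠ b := by
    by_contra hne
    push Not at hne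
    have hle : s.A ≤ zpowers a := fun v hv => by
      by_cases hv1 : v = 1
      · rw [hv1]; exact one_mem _
      · rw [← hne v hv hv1]; exact mem_zpowers a
    have := card_le_of_le hle
    rw [h.card, Nat.card_zpowers, s.orderOf_eq ha ha1] at this
    omega
  obtain ⟨t, ht, htx⟩ := r.bracket_surj h hx hxA hb
  have hbx : b * x = x * b := r.comm_A h (r.P_le hx) hb
  have h4 := Block.ThreeP.four_count (co a) (co_odd a) (s.orderOf_eq hb hb1) (r.orderOf_eq h hx hxA) hbx
    (fun e => hxA (e ▸ hb)) (r.normalize_co h hsp ha (s.closed.1 hb)) (r.normalize_co h hsp ha (r.P_le hx))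
  rw [r.co_inf_b h hsp ha ha1 hb hb1 hab, hn a ha ha1] at h4
  have hc : Nat.card ↥(co a ⊓ centralizer ({b * x} : Set G)) =
      Nat.card ↥(co a ⊓ centralizer ({x} : Set G)) := by
    refine (conj_card t fun v => ?_).symm
    simp only [Subgroup.mem_inf, mem_centralizer_singleton_iff]
    refine and_congr (mem_normalizer_iff.1 (r.normalize_co h hsp ha (r.T_le ht)) v) ?_
    rw [← htx, show t * v * t⁻¹ * (t * x * t⁻¹) = t * (v * x) * t⁻¹ by group,
      show t * x * t⁻¹ * (t * v * t⁻¹) = t * (x * v) * t⁻¹ by group, mul_left_inj, mul_right_inj]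
  rw [hc, hn a ha ha1] at h4
  set z := Nat.card ↥(cz s ⊓ centralizer ({x} : Set G))
  have hz : 0 < z := Nat.card_pos
  refine Nat.eq_of_mul_eq_mul_right (pow_pos hz 2) ?_
  rw [h4]; ring

theorem invSet_card {a b : G} (ha : a ∈ s.A) (ha1 : a ≠ 1) (hb : b ∈ s.A) (hb1 : b ≠ 1) (hab : a ≠ b) :
    (Count.invSet (co a ⊓ centralizer ({x} : Set G)) b).ncard = n := by
  have h1 := Count.invSet_ncard ((co_odd a).of_dvd_nat (card_dvd_of_le inf_le_left)) (s.sq hb)
    (mem_normalizer_inf (r.normalize_co h hsp ha (s.closed.1 hb)) (r.comm_A h (r.P_le hx) hb))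
    (N := co a ⊓ centralizer ({x} : Set G))
  rw [inf_assoc, inf_comm (centralizer ({x} : Set G)), ← inf_assoc, r.co_inf_b h hsp ha ha1 hb hb1 hab,
    hn a ha ha1] at h1
  exact Nat.eq_of_mul_eq_mul_right Nat.card_pos h1

theorem half {g : G} (hg : g ∈ aCl s) : ∃ m : ℕ, orderOf (x * g) = 2 * m ∧ Odd m := by
  have hx2 := r.sqP x hx
  have hg2 := aCl_sq hg
  rcases Nat.even_or_odd (orderOf (x * g)) with ⟨m, hm⟩ | ho
  swap
  · obtain ⟨k, hk⟩ := Count.conj_of_odd hx2 hg2 ho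
    exact (r.not_both h (mem_oCl hx hxA) (hk ▸ aCl_conj hg k)).elim
  have hm' : orderOf (x * g) = 2 * m := by rw [hm, two_mul]
  refine ⟨m, hm', Nat.not_even_iff_odd.1 fun he => ?_⟩
  obtain ⟨hu2, hu1, hxu, hgu⟩ := Count.central_invol hx2 hg2 hm'
  obtain ⟨k, hk, hkP⟩ := r.involH h hx hxA hu2 hxu.symm
  set u := (x * g) ^ m with hu
  by_cases hA : k * u * k⁻¹ ∈ s.A
  · have hkx : k * x * k⁻¹ = x := mul_inv_eq_iff_eq_mul.2 (mem_centralizer_singleton_iff.1 hk)
    set g' := k * g * k⁻¹ with hg'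
    set a := k * u * k⁻¹ with hadef
    have ha1 : a ≠ 1 := fun e => hu1 (conj_eq_one_iff.1 e)
    have hga : g' * a = a * g' := by
      rw [hg', hadef, show k * g * k⁻¹ * (k * u * k⁻¹) = k * (g * u) * k⁻¹ by group, hgu]; group
    obtain ⟨b, hb, -, hgb⟩ := r.aCl_coset h hsp hA ha1 (aCl_conj hg k) hga
    have hc2 : x * b * (x * b) = 1 := r.sqP _ (mul_mem hx (r.le_P hb))
    have ho : b * g' ∈ co a := by
      have h1 := inv_mem hgb
      rwa [mul_inv_rev, inv_eq_of_mul_eq_one_left (s.sq hb),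
        inv_eq_of_mul_eq_one_left (aCl_sq (aCl_conj hg k))] at h1
    have h1 := sq_mem_coset hc2 (r.normalize_co h hsp hA (mul_mem (r.P_le hx) (s.closed.1 hb))) ho
    have e : x * b * (b * g') = x * g' := by rw [mul_assoc x b, ← mul_assoc b, s.sq hb, one_mul]
    rw [e, ← pow_two] at h1
    have hord : orderOf (x * g') = 2 * m := by
      have e2 : k * (x * g) * k⁻¹ = x * g' := by
        calc k * (x * g) * k⁻¹ = k * x * k⁻¹ * (k * g * k⁻¹) := by group
          _ = x * g' := by rw [hkx]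
      rw [← hm', ← e2, Invol.orderOf_conj_eq]
    have h2 : orderOf ((x * g') ^ 2) = m := by
      rw [orderOf_pow_of_dvd two_ne_zero (hord ▸ dvd_mul_right 2 m), hord, Nat.mul_div_cancel_left _ two_pos]
    exact Nat.not_odd_iff_even.2 he (h2 ▸ (co_odd a).of_dvd_nat (Subgroup.orderOf_dvd_natCard _ h1))
  · have hcl : u ∈ oCl s P := by
      have := oCl_conj (mem_oCl hkP hA) k⁻¹
      rwa [show k⁻¹ * (k * u * k⁻¹) * k⁻¹⁻¹ = u by group] at this
    obtain ⟨v, hv, -⟩ := Count.even_half hx2 hg2 hm' he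
    rw [← hu] at hv
    refine hu1 ?_
    rw [← hv]
    exact r.no_four h hcl (by rw [← hv]; group) (by rw [hv]; exact hu2)

/-- The pairs `a, g` in `C(x)` with `a g` of even order. -/
theorem even_count {a : G} (ha : a ∈ s.A) (ha1 : a ≠ 1) :
    {g | g ∈ aC s x ∧ Even (orderOf (a * g))}.ncard = 2 * n * n := by
  obtain ⟨b, hb, hb1, hab⟩ : ∃ b ∈ s.A, b ≠ 1 ∧ a ≠ b := by
    obtain ⟨x₀, -, -, g₀, hg₀, -, -, -, hfix, -⟩ := r.fixP
    exact ⟨g₀ * a * g₀⁻¹, (mem_normalizer_iff.1 hg₀ a).1 ha, fun e => ha1 (conj_eq_one_iff.1 e),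
      fun e => ha1 (hfix a ha e.symm)⟩
  have hab1 : a * b ≠ 1 := fun e => hab (by rw [← mul_one a, ← s.sq hb, ← mul_assoc, e, one_mul])
  have haab : a ≠ a * b := fun e => hb1 (mul_eq_left.1 e.symm)
  set N := co a ⊓ centralizer ({x} : Set G) with hN
  set B := Count.invSet N b ∪ Count.invSet N (a * b) with hB
  have hx2 := r.sqP x hx
  have hxa : a * x = x * a := r.comm_A h (r.P_le hx) ha
  have hBcard : B.ncard = 2 * n := by
    rw [hB, Set.ncard_union_eq, r.invSet_card h hsp hx hxA hn ha ha1 hb hb1 hab,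
      r.invSet_card h hsp hx hxA hn ha ha1 (mul_mem ha hb) hab1 haab, two_mul]
    rw [Set.disjoint_left]
    rintro e ⟨he2, heb⟩ ⟨-, heab⟩
    refine ha1 (Count.eq_one_of_odd (co_odd a) (s.sq ha) ?_)
    have hh := mul_mem (inv_mem (Subgroup.mem_inf.1 heb).1) (Subgroup.mem_inf.1 heab).1
    rwa [mul_inv_rev, inv_eq_of_mul_eq_one_left he2, inv_eq_of_mul_eq_one_left (s.sq hb),
      show b * e * (e * (a * b)) = b * (e * e) * (a * b) by group, he2, mul_one, ← mul_assoc,
      ← s.comm ha hb, mul_assoc, s.sq hb, mul_one] at hh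
  rw [← hBcard]
  have hmem : ∀ e ∈ B, ∃ c ∈ s.A, c ≠ 1 ∧ a ≠ c ∧ e ∈ Count.invSet N c := by
    rintro e (he | he)
    exacts [⟨b, hb, hb1, hab, he⟩, ⟨a * b, mul_mem ha hb, hab1, haab, he⟩]
  refine Count.ncard_fibres _ B (fun g => a * (a * g) ^ (orderOf (a * g) / 2)) ?_ ?_
  · rintro g ⟨⟨hg, hgx⟩, heven⟩
    obtain ⟨m, hm⟩ := heven
    have hm' : orderOf (a * g) = 2 * m := by rw [hm, two_mul]
    show a * (a * g) ^ (orderOf (a * g) / 2) ∈ B
    rw [hm', Nat.mul_div_cancel_left _ two_pos]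
    obtain ⟨hu2, hu1, hau, -⟩ := Count.central_invol (s.sq ha) (aCl_sq hg) hm'
    have hagx : Commute (a * g) x := (show Commute a x from hxa).mul_left hgx
    have hodd : Odd m := Nat.not_even_iff_odd.1 fun he => by
      obtain ⟨k, rfl⟩ := he
      rw [pow_add] at hu2 hu1
      exact hu1 (r.no_four h (mem_oCl hx hxA) ((hagx.pow_left k).eq) hu2)
    obtain ⟨⟨k, hk⟩, he2, -, -⟩ := Count.odd_half (s.sq ha) (aCl_sq hg) hm' hodd
    set e := a * (a * g) ^ m with he
    have hecl : e ∈ aCl s := hk ▸ aCl_conj hg k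
    have hea : e * a = a * e := by rw [he, mul_assoc, ← hau]
    have hex : Commute e x := (show Commute a x from hxa).mul_left (hagx.pow_left m)
    obtain ⟨c, hc, hc1, hec⟩ := r.aCl_coset h hsp ha ha1 hecl hea
    have hcN : e ∈ Count.invSet N c := ⟨he2, Subgroup.mem_inf.2 ⟨hec, mem_centralizer_singleton_iff.2
      (hex.mul_left (show Commute c x from r.comm_A h (r.P_le hx) hc)).eq⟩⟩
    rcases h.cases ha hb hc ha1 hb1 hab with e1 | e1 | e1 | e1
    · exact absurd e1 hc1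
    · exfalso
      refine hu1 (Count.eq_one_of_odd (co_odd a) hu2 ?_)
      rw [e1, hea, he, ← mul_assoc, s.sq ha, one_mul] at hec
      exact hec
    · exact Or.inl (e1 ▸ hcN)
    · exact Or.inr (e1 ▸ hcN)
  · intro e he
    obtain ⟨c, hc, hc1, hac, hec⟩ := hmem e he
    have hcn : c ∈ normalizer (N : Set G) :=
      mem_normalizer_inf (r.normalize_co h hsp ha (s.closed.1 hc)) (r.comm_A h (r.P_le hx) hc)
    rw [hN, Count.invSet_eq_orb ((co_odd a).of_dvd_nat (card_dvd_of_le inf_le_left)) (s.sq hc) hcn] at hec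
    obtain ⟨o, ho, hoe⟩ := hec
    have hoa : o * a * o⁻¹ = a :=
      mul_inv_eq_iff_eq_mul.2 (mem_centralizer_singleton_iff.1 (co_le a (Subgroup.mem_inf.1 ho).1))
    have hox : o * x * o⁻¹ = x :=
      mul_inv_eq_iff_eq_mul.2 (mem_centralizer_singleton_iff.1 (Subgroup.mem_inf.1 ho).2)
    set w := a * c with hw
    have hwA : w ∈ s.A := mul_mem ha hc
    have hw1 : w ≠ 1 := fun e' => hac (by rw [← mul_one a, ← s.sq hc, ← mul_assoc, ← hw, e', one_mul])
    have hwc : w ≠ c := fun e' => ha1 (mul_eq_right.1 e')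
    have hcommc : ∀ g : G, o * g * o⁻¹ * (o * c * o⁻¹) = o * (g * c) * o⁻¹ := fun g => by group
    have step : {g | (g ∈ aC s x ∧ Even (orderOf (a * g))) ∧ a * (a * g) ^ (orderOf (a * g) / 2) = e} =
        {g | g ∈ {g | g ∈ aC s x ∧ Even (orderOf (a * g))} ∧
          a * (a * g) ^ (orderOf (a * g) / 2) = e} := rfl
    rw [← step, ← Count.ncard_conj (p := fun g => g ∈ aC s x ∧ g * w = w * g ∧ Odd (orderOf (c * g))) o ?_]
    · rw [← r.invSet_card h hsp hx hxA hn hwA hw1 hc hc1 hwc]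
      congr 1
      ext g
      constructor
      · rintro ⟨⟨hg, hgx⟩, hgw, hodd⟩
        obtain ⟨c', hc', -, hgc⟩ := r.aCl_coset h hsp hwA hw1 hg hgw
        have hc'g : c' * g ∈ co w := by
          have h1 := inv_mem hgc
          rwa [mul_inv_rev, inv_eq_of_mul_eq_one_left (s.sq hc'), inv_eq_of_mul_eq_one_left (aCl_sq hg)] at h1
        have e1 : c * g = c * c' * (c' * g) := by rw [mul_assoc, ← mul_assoc c', s.sq hc', one_mul]
        rw [e1] at hodd
        have h2 := Count.odd_coset (s.sq (mul_mem hc hc'))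
          (r.normalize_co h hsp hwA (s.closed.1 (mul_mem hc hc'))) hc'g hodd
        have h3 := Count.eq_one_of_odd (co_odd w) (s.sq (mul_mem hc hc')) h2
        obtain rfl : c = c' := by rw [← mul_one c, ← s.sq hc', ← mul_assoc, h3, one_mul]
        exact ⟨aCl_sq hg, Subgroup.mem_inf.2 ⟨hgc, mem_centralizer_singleton_iff.2
          ((show Commute g x from hgx).mul_left (show Commute c x from r.comm_A h (r.P_le hx) hc)).eq⟩⟩
      · rintro ⟨hg2, hgc⟩
        obtain ⟨hgcw, hgcx⟩ := Subgroup.mem_inf.1 hgc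
        obtain ⟨l, hl, hl'⟩ := Count.conj_of_coset (co_odd w) (s.sq hc) hg2 hgcw
        refine ⟨⟨hl' ▸ aCl_conj (mem_aCl hc hc1) l, ?_⟩, ?_, ?_⟩
        · have h1 : Commute (g * c) x := mem_centralizer_singleton_iff.1 hgcx
          have h2 := h1.mul_left (show Commute c x from r.comm_A h (r.P_le hx) hc)
          rw [mul_assoc, s.sq hc, mul_one] at h2
          exact h2.eq
        · rw [← hl']
          have h1 : Commute l w := mem_centralizer_singleton_iff.1 (co_le w hl)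
          exact ((h1.mul_left (show Commute c w from s.comm hc hwA)).mul_left h1.inv_left).eq
        · refine (co_odd w).of_dvd_nat (Subgroup.orderOf_dvd_natCard _ ?_)
          have h1 := inv_mem hgcw
          rwa [mul_inv_rev, inv_eq_of_mul_eq_one_left hg2, inv_eq_of_mul_eq_one_left (s.sq hc)] at h1
    intro g
    set g' := o * g * o⁻¹ with hg'
    have hgg : g ∈ aCl s ↔ g' ∈ aCl s := by
      refine ⟨fun hg => aCl_conj hg o, fun hg => ?_⟩
      have := aCl_conj hg o⁻¹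
      rwa [hg', show o⁻¹ * (o * g * o⁻¹) * o⁻¹⁻¹ = g by group] at this
    have hconj : ∀ {v v' : G}, o * v * o⁻¹ = v' → (g * v = v * g ↔ g' * v' = v' * g') := fun {v v'} e => by
      rw [hg', ← e, show o * g * o⁻¹ * (o * v * o⁻¹) = o * (g * v) * o⁻¹ by group,
        show o * v * o⁻¹ * (o * g * o⁻¹) = o * (v * g) * o⁻¹ by group, mul_left_inj, mul_right_inj]
    have how : o * w * o⁻¹ = a * e := by
      calc o * w * o⁻¹ = o * a * o⁻¹ * (o * c * o⁻¹) := by rw [hw]; group
        _ = a * e := by rw [hoa, hoe]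
    have hce : orderOf (c * g) = orderOf (e * g') := by
      rw [hg', ← hoe, show o * c * o⁻¹ * (o * g * o⁻¹) = o * (c * g) * o⁻¹ by group, Invol.orderOf_conj_eq]
    have he2 : e * e = 1 := by
      rw [← hoe, show o * c * o⁻¹ * (o * c * o⁻¹) = o * (c * c) * o⁻¹ by group, s.sq hc]; group
    have hae : a * e = e * a := by
      calc a * e = o * a * o⁻¹ * (o * c * o⁻¹) := by rw [hoa, hoe]
        _ = o * (a * c) * o⁻¹ := by group
        _ = o * (c * a) * o⁻¹ := by rw [s.comm ha hc]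
        _ = o * c * o⁻¹ * (o * a * o⁻¹) := by group
        _ = e * a := by rw [hoa, hoe]
    constructor
    · rintro ⟨⟨hg, hgx⟩, hgw, hodd⟩
      have hane : a ≠ e := fun e' => hac ((MulAut.conj o).injective (show o * a * o⁻¹ = o * c * o⁻¹ by
        rw [hoa, hoe]; exact e'))
      obtain ⟨m, hm, -, hme⟩ := Count.half_spec (s.sq ha) (aCl_sq (hgg.1 hg)) he2 hae hane
        ((hconj how).1 hgw) (hce ▸ hodd)
      exact ⟨⟨⟨hgg.1 hg, (hconj hox).1 hgx⟩, hm ▸ even_two_mul m⟩,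
        by rw [hm, Nat.mul_div_cancel_left _ two_pos]; exact hme⟩
    · rintro ⟨⟨⟨hg, hgx⟩, m, hm⟩, hme⟩
      have hm' : orderOf (a * g') = 2 * m := by rw [hm, two_mul]
      rw [hm', Nat.mul_div_cancel_left _ two_pos] at hme
      obtain ⟨hu2, hu1, hau, hgu⟩ := Count.central_invol (s.sq ha) (aCl_sq hg) hm'
      have hagx : Commute (a * g') x := (show Commute a x from hxa).mul_left hgx
      have hodd : Odd m := Nat.not_even_iff_odd.1 fun he => by
        obtain ⟨k, rfl⟩ := he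
        rw [pow_add] at hu2 hu1
        exact hu1 (r.no_four h (mem_oCl hx hxA) ((hagx.pow_left k).eq) hu2)
      obtain ⟨-, -, -, hj⟩ := Count.odd_half (s.sq ha) (aCl_sq hg) hm' hodd
      rw [hme] at hj
      refine ⟨⟨hgg.2 hg, (hconj hox).2 hgx⟩, (hconj how).2 ?_, hce ▸ hj⟩
      rw [← hme, ← mul_assoc a a, s.sq ha, one_mul]
      exact hgu

/-- `|a^G| + 2 n² k = k²`. -/
theorem aCl_count : (aCl s).ncard + (aC s x).ncard * (2 * n * n) = (aC s x).ncard * (aC s x).ncard := by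
  classical
  obtain ⟨⟨a, ha⟩, ha'⟩ := s.A.ne_bot_iff_exists_ne_one.1 s.ne_bot
  have ha1 : a ≠ 1 := fun e => ha' (Subtype.ext e)
  set Q := {g | g ∈ aC s x ∧ Odd (orderOf (a * g))} with hQ
  set E := {g | g ∈ aC s x ∧ Even (orderOf (a * g))} with hE
  have hsum : (aC s x).ncard = Q.ncard + E.ncard := by
    rw [← Set.ncard_union_eq (by
      rw [Set.disjoint_left]
      rintro g ⟨-, h1⟩ ⟨-, h2⟩
      exact Nat.not_even_iff_odd.2 h1 h2)]
    congr 1
    ext g
    exact ⟨fun hg => (Nat.even_or_odd (orderOf (a * g))).symm.imp (⟨hg, ·⟩) (⟨hg, ·⟩),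
      fun hg => hg.elim (·.1) (·.1)⟩
  have hx2 := r.sqP x hx
  have hmain : (aCl s).ncard = (aC s x).ncard * Q.ncard := by
    refine Count.ncard_fibres _ (aC s x) (fun g => x * (x * g) ^ (orderOf (x * g) / 2)) (fun g hg => ?_)
      fun j hj => ?_
    · obtain ⟨m, hm, hodd⟩ := r.half h hsp hx hxA hn hg
      show x * (x * g) ^ (orderOf (x * g) / 2) ∈ aC s x
      rw [hm, Nat.mul_div_cancel_left _ two_pos]
      obtain ⟨⟨k, hk⟩, -, hxux, -⟩ := Count.odd_half hx2 (aCl_sq hg) hm hodd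
      refine ⟨hk ▸ aCl_conj hg k, ?_⟩
      rw [hxux, ← mul_assoc, hx2, one_mul]
    · obtain ⟨t, ht, htx⟩ := r.bracket_surj h hx hxA ha
      obtain ⟨k, hkx, hka⟩ := r.aCl_H h hx hxA ha ha1 hj.1 hj.2
      have hta : t * a * t⁻¹ = a := mul_inv_eq_iff_eq_mul.2 (r.comm_A h (r.T_le ht) ha).symm
      set l := k * t with hl
      have hla : l * a * l⁻¹ = j := by
        calc l * a * l⁻¹ = k * (t * a * t⁻¹) * k⁻¹ := by rw [hl]; group
          _ = j := by rw [hta, hka]
      have hlx : l * x * l⁻¹ = x * j := by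
        calc l * x * l⁻¹ = k * (t * x * t⁻¹) * k⁻¹ := by rw [hl]; group
          _ = k * a * k⁻¹ * (k * x * k⁻¹) := by rw [htx]; group
          _ = j * x := by rw [hka, mul_inv_eq_iff_eq_mul.2 hkx]
          _ = x * j := hj.2
      refine (Count.ncard_conj (p := fun g => g ∈ aC s x ∧ Odd (orderOf (a * g))) l fun g => ?_).symm
      set g' := l * g * l⁻¹ with hg'
      have hgg : g ∈ aCl s ↔ g' ∈ aCl s := by
        refine ⟨fun hg => aCl_conj hg l, fun hg => ?_⟩
        have := aCl_conj hg l⁻¹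
        rwa [hg', show l⁻¹ * (l * g * l⁻¹) * l⁻¹⁻¹ = g by group] at this
      have hgx' : g * x = x * g ↔ g' * (x * j) = x * j * g' := by
        rw [hg', ← hlx, show l * g * l⁻¹ * (l * x * l⁻¹) = l * (g * x) * l⁻¹ by group,
          show l * x * l⁻¹ * (l * g * l⁻¹) = l * (x * g) * l⁻¹ by group, mul_left_inj, mul_right_inj]
      have hord : orderOf (a * g) = orderOf (j * g') := by
        rw [hg', ← hla, show l * a * l⁻¹ * (l * g * l⁻¹) = l * (a * g) * l⁻¹ by group, Invol.orderOf_conj_eq]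
      constructor
      · rintro ⟨⟨hg, hgx⟩, hodd⟩
        obtain ⟨m, hm, -, hmj⟩ := Count.half_spec hx2 (aCl_sq (hgg.1 hg)) (aCl_sq hj.1) hj.2.symm
          (fun e => r.not_both h (mem_oCl hx hxA) (e ▸ hj.1)) (hgx'.1 hgx) (hord ▸ hodd)
        exact ⟨hgg.1 hg, by rw [hm, Nat.mul_div_cancel_left _ two_pos]; exact hmj⟩
      · rintro ⟨hg, hgj⟩
        obtain ⟨m, hm, hodd⟩ := r.half h hsp hx hxA hn hg
        rw [hm, Nat.mul_div_cancel_left _ two_pos] at hgj
        obtain ⟨-, -, -, hj'⟩ := Count.odd_half hx2 (aCl_sq hg) hm hodd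
        obtain ⟨-, -, -, hgu⟩ := Count.central_invol hx2 (aCl_sq hg) hm
        rw [hgj] at hj'
        refine ⟨⟨hgg.2 hg, hgx'.2 ?_⟩, hord ▸ hj'⟩
        rw [← hgj, ← mul_assoc x x, hx2, one_mul]
        exact hgu
  have hEc : E.ncard = 2 * n * n := r.even_count h hsp hx hxA hn ha ha1
  rw [hmain, ← hEc, ← mul_add, ← hsum]

end Fixed

end Grid

end Cfsg.Agent.Fus.Gold
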