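import Cfsg.Agent.Lib.Fus.Goldschmidt.FourCountOrbit

/-!
# The commuting pairs from the classes of `A` and of `T - A`

With `k = |a^G ∩ C(x)|`: the class of `T - A` has `4 k c` elements, `12 c` of them centralise `a`, and the
count of commuting pairs gives `k = 3 n²`.
-/

set_option autoImplicit false
set_option linter.style.haveILetI false
set_option linter.unusedSectionVars false
set_option maxHeartbeats 800000

namespace Cfsg.Agent.Fus.Gold

open Subgroup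

universe u

variable {G : Type u} [Group G] [Finite G] {s : Setup G} {P T : Subgroup G}

/-- Invariance of `O(C A)` under `N(A)`. -/
theorem cz_conj (hsp : Split s) {n v : G} (hn : n ∈ normalizer (s.A : Set G)) (hv : v ∈ cz s) :
    n * v * n⁻¹ ∈ cz s := by
  obtain ⟨⟨a, ha⟩, ha'⟩ := s.A.ne_bot_iff_exists_ne_one.1 s.ne_bot
  have ha1 : a ≠ 1 := fun e => ha' (Subtype.ext e)
  rw [← co_inf hsp ha ha1] at hv
  have hna : n * a * n⁻¹ ∈ s.A := (mem_normalizer_iff.1 hn a).1 ha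
  rw [← co_inf hsp hna fun e => ha1 (conj_eq_one_iff.1 e)]
  refine ⟨co_conj n hv.1, mem_centralizer_iff.2 fun w hw => ?_⟩
  have hw' : n⁻¹ * w * n ∈ s.A := by
    have := (mem_normalizer_iff.1 (inv_mem hn) w).1 hw
    rwa [inv_inv] at this
  have h1 := mem_centralizer_iff.1 hv.2 _ hw'
  calc w * (n * v * n⁻¹) = n * (n⁻¹ * w * n * v) * n⁻¹ := by group
    _ = n * (v * (n⁻¹ * w * n)) * n⁻¹ := by rw [h1]
    _ = n * v * n⁻¹ * w := by group

namespace Grid

variable (h : Four s) (r : Grid s P T) (hsp : Split s)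
include h r hsp

theorem cz_cent_card {t t' : G} (ht : t ∈ T) (htA : t ∉ s.A) (ht' : t' ∈ T) (ht'A : t' ∉ s.A) :
    Nat.card ↥(cz s ⊓ centralizer ({t} : Set G)) = Nat.card ↥(cz s ⊓ centralizer ({t'} : Set G)) := by
  obtain ⟨g, hg, rfl⟩ := r.symm.conjP h ht htA ht' ht'A
  refine conj_card g fun v => ?_
  simp only [Subgroup.mem_inf, mem_centralizer_singleton_iff]
  refine and_congr ⟨fun hv => cz_conj hsp hg hv, fun hv => ?_⟩ ?_
  · have := cz_conj hsp (inv_mem hg) hv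
    rwa [show g⁻¹ * (g * v * g⁻¹) * g⁻¹⁻¹ = v by group] at this
  · rw [show g * v * g⁻¹ * (g * t * g⁻¹) = g * (v * t) * g⁻¹ by group,
      show g * t * g⁻¹ * (g * v * g⁻¹) = g * (t * v) * g⁻¹ by group, mul_left_inj, mul_right_inj]

/-- `n` is the same for both sides. -/
theorem same_n {x t : G} (hx : x ∈ P) (hxA : x ∉ s.A) (ht : t ∈ T) (htA : t ∉ s.A) {n n' : ℕ}
    (hn : ∀ a ∈ s.A, a ≠ 1 → Nat.card ↥(co a ⊓ centralizer ({x} : Set G)) =
      n * Nat.card ↥(cz s ⊓ centralizer ({x} : Set G)))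
    (hn' : ∀ a ∈ s.A, a ≠ 1 → Nat.card ↥(co a ⊓ centralizer ({t} : Set G)) =
      n' * Nat.card ↥(cz s ⊓ centralizer ({t} : Set G))) : n = n' := by
  obtain ⟨⟨a, ha⟩, ha'⟩ := s.A.ne_bot_iff_exists_ne_one.1 s.ne_bot
  have ha1 : a ≠ 1 := fun e => ha' (Subtype.ext e)
  have h1 := (r.co_card h hsp hx hxA hn ha ha1).symm.trans (r.symm.co_card h hsp ht htA hn' ha ha1)
  exact Nat.pow_left_injective two_ne_zero (Nat.eq_of_mul_eq_mul_right Nat.card_pos h1)

section Pairs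

variable {x : G} (hx : x ∈ P) (hxA : x ∉ s.A) {n : ℕ}
  (hn : ∀ a ∈ s.A, a ≠ 1 → Nat.card ↥(co a ⊓ centralizer ({x} : Set G)) =
      n * Nat.card ↥(cz s ⊓ centralizer ({x} : Set G)))
  (hnt : ∀ t ∈ T, t ∉ s.A → ∀ a ∈ s.A, a ≠ 1 → Nat.card ↥(co a ⊓ centralizer ({t} : Set G)) =
      n * Nat.card ↥(cz s ⊓ centralizer ({t} : Set G)))
include hx hxA hn hnt

/-- The central involution of `⟨x, g⟩` for `g` in the class of `T - A`. -/
theorem pair_half {g : G} (hg : g ∈ oCl s T) :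
    ∃ m : ℕ, orderOf (x * g) = 2 * m ∧ Even m ∧ (x * g) ^ m ∈ aC s x ∧ g * (x * g) ^ m = (x * g) ^ m * g := by
  have hx2 := r.sqP x hx
  have hg2 := r.symm.oCl_sq h hg
  rcases Nat.even_or_odd (orderOf (x * g)) with ⟨m, hm⟩ | ho
  swap
  · obtain ⟨k, hk⟩ := Count.conj_of_odd hx2 hg2 ho
    exact (r.oCl_disjoint h (mem_oCl hx hxA) (hk ▸ oCl_conj hg k)).elim
  have hm' : orderOf (x * g) = 2 * m := by rw [hm, two_mul]
  obtain ⟨hu2, hu1, hxu, hgu⟩ := Count.central_invol hx2 hg2 hm'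
  have he : Even m := by
    refine Nat.not_odd_iff_even.1 fun ho => ?_
    obtain ⟨⟨k, hk⟩, he2, hxux, -⟩ := Count.odd_half hx2 hg2 hm' ho
    have hjT : x * (x * g) ^ m ∈ oCl s T := hk ▸ oCl_conj hg k
    obtain ⟨l, -, hlP⟩ := r.involH h hx hxA he2 (by rw [hxux, ← mul_assoc, hx2, one_mul])
    have h1 := oCl_conj hjT l
    obtain ⟨hT, hnA⟩ := r.symm.oCl_mem_P h h1 (r.P_le hlP)
    exact hnA (r.inf_eq ▸ ⟨hlP, hT⟩)
  refine ⟨m, hm', he, ⟨?_, hxu.symm⟩, hgu⟩
  obtain ⟨l, -, hlP⟩ := r.involH h hx hxA hu2 hxu.symm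
  set u := (x * g) ^ m with hu
  have hback : ∀ C : Set G, (∀ v ∈ C, ∀ k : G, k * v * k⁻¹ ∈ C) → l * u * l⁻¹ ∈ C → u ∈ C := by
    intro C hC hmem
    have := hC _ hmem l⁻¹
    rwa [show l⁻¹ * (l * u * l⁻¹) * l⁻¹⁻¹ = u by group] at this
  by_cases hA : l * u * l⁻¹ ∈ s.A
  · exact hback _ (fun v hv k => aCl_conj hv k) (mem_aCl hA fun e => hu1 (conj_eq_one_iff.1 e))
  · exfalso
    have hcl : u ∈ oCl s P := hback _ (fun v hv k => oCl_conj hv k) (mem_oCl hlP hA)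
    obtain ⟨v, hv, -⟩ := Count.even_half hx2 hg2 hm' he
    rw [← hu] at hv
    refine hu1 ?_
    rw [← hv]
    exact r.no_four h hcl (by rw [← hv]; group) (by rw [hv]; exact hu2)

/-- The central involution read in `C(a)` modulo the core. -/
theorem pair_coset {a g t c : G} (ha : a ∈ s.A) (ha1 : a ≠ 1) (hg : g ∈ oCl s T) (hga : g * a = a * g)
    (ht : t ∈ T) (hgt : g * t ∈ co a) (hc : c ∈ s.A) (htx : t * x * t⁻¹ = c * x) :
    (x * g) ^ (orderOf (x * g) / 2) * c ∈ co a := by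
  obtain ⟨m, hm, he, -, -⟩ := r.pair_half h hsp hx hxA hn hnt hg
  rw [hm, Nat.mul_div_cancel_left _ two_pos]
  have hx2 := r.sqP x hx
  have ht2 := r.sqT t ht
  set w := x * t with hw
  have hwS : w ∈ (s.S : Subgroup G) := mul_mem (r.P_le hx) (r.T_le ht)
  have hwn : w ∈ normalizer (co a : Set G) := r.normalize_co h hsp ha hwS
  set o := x * (g * t) * x⁻¹ with ho'
  have ho : o ∈ co a := (mem_normalizer_iff.1 (r.normalize_co h hsp ha (r.P_le hx)) _).1 hgt
  have hy : x * g = o * w := by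
    calc x * g = x * g * (t * t) := by rw [ht2, mul_one]
      _ = o * w := by rw [ho', hw]; group
  have hw2 : w * w = c := by
    calc w * w = x * (t * x * t⁻¹) * (t * t) := by rw [hw]; group
      _ = x * c * x := by rw [htx, ht2, mul_one, ← mul_assoc]
      _ = c := by rw [← r.comm_A h (r.P_le hx) hc, mul_assoc, hx2, mul_one]
  have hc2 := s.sq hc
  have h4 : (x * g) ^ 4 ∈ co a := by
    have h1 := Count.pow_coset hwn ho 4
    rwa [← hy, show w ^ 4 = 1 by rw [show w ^ 4 = w * w * (w * w) by simp [pow_succ, mul_assoc], hw2, hc2],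
      inv_one, mul_one] at h1
  have hN : (x * g) ^ (4 * Nat.card ↥(co a)) = 1 := by
    rw [pow_mul]
    exact orderOf_dvd_iff_pow_eq_one.1 (Subgroup.orderOf_dvd_natCard _ h4)
  obtain ⟨k, rfl⟩ := he
  have hdvd : k ∣ Nat.card ↥(co a) := by
    have := orderOf_dvd_of_pow_eq_one hN
    rw [hm, show 2 * (k + k) = 4 * k by ring] at this
    exact Nat.dvd_of_mul_dvd_mul_left (by norm_num) this
  obtain ⟨l, rfl⟩ := (co_odd a).of_dvd_nat hdvd
  have h2 := Count.pow_coset hwn ho ((2 * l + 1) + (2 * l + 1))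
  rw [← hy, show w ^ ((2 * l + 1) + (2 * l + 1)) = c by
    rw [← two_mul, pow_mul, pow_two, hw2, pow_succ, pow_mul, pow_two, hc2, one_pow, one_mul]] at h2
  rwa [inv_eq_of_mul_eq_one_left hc2] at h2

/-- The size of a set of involutions in a coset of `O(C a)`. -/
theorem coset_card : ∃ c : ℕ, 0 < c ∧ ∀ a ∈ s.A, a ≠ 1 → ∀ t ∈ T, t ∉ s.A →
    (Count.invSet (co a) t).ncard = c := by
  obtain ⟨t₀, ht₀, ht₀A, -⟩ := r.fixT
  obtain ⟨⟨a₀, ha₀⟩, ha'⟩ := s.A.ne_bot_iff_exists_ne_one.1 s.ne_bot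
  have ha₀1 : a₀ ≠ 1 := fun e => ha' (Subtype.ext e)
  have key : ∀ a ∈ s.A, a ≠ 1 → ∀ t ∈ T, t ∉ s.A →
      (Count.invSet (co a) t).ncard * (n * Nat.card ↥(cz s ⊓ centralizer ({t₀} : Set G))) =
        n ^ 2 * Nat.card ↥(cz s) := by
    intro a ha ha1 t ht htA
    have h1 := Count.invSet_ncard (co_odd a) (r.sqT t ht) (r.normalize_co h hsp ha (r.T_le ht))
    rw [hnt t ht htA a ha ha1, r.co_card h hsp hx hxA hn ha ha1,
      r.cz_cent_card h hsp ht htA ht₀ ht₀A] at h1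
    exact h1
  have hn0 : 0 < n := Nat.pos_of_ne_zero fun e => by
    have := hn a₀ ha₀ ha₀1
    rw [e, zero_mul] at this
    exact Nat.card_pos.ne' this
  refine ⟨(Count.invSet (co a₀) t₀).ncard, ?_, fun a ha ha1 t ht htA => ?_⟩
  · exact Set.ncard_pos (Set.toFinite _) |>.2 ⟨t₀, r.sqT t₀ ht₀, by rw [r.sqT t₀ ht₀]; exact one_mem _⟩
  · exact Nat.eq_of_mul_eq_mul_right (Nat.mul_pos hn0 Nat.card_pos)
      ((key a ha ha1 t ht htA).trans (key a₀ ha₀ ha₀1 t₀ ht₀ ht₀A).symm)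

/-- `k = 3 n²`. -/
theorem kappa_eq : (aC s x).ncard = 3 * n ^ 2 := by
  classical
  obtain ⟨⟨a, ha⟩, ha'⟩ := s.A.ne_bot_iff_exists_ne_one.1 s.ne_bot
  have ha1 : a ≠ 1 := fun e => ha' (Subtype.ext e)
  obtain ⟨c, hc0, hc⟩ := r.coset_card h hsp hx hxA hn hnt
  obtain ⟨t₁, ht₁, ht₁A, -⟩ := r.fixT
  set k := (aC s x).ncard with hk
  have hcount := r.aCl_count h hsp hx hxA hn
  have hcount' := r.symm.aCl_count h hsp ht₁ ht₁A (hnt t₁ ht₁ ht₁A)
  set k' := (aC s t₁).ncard with hk'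
  have hA0 : 0 < (aCl s).ncard := Set.ncard_pos (Set.toFinite _) |>.2 ⟨a, mem_aCl ha ha1⟩
  have hkk : k = k' := by
    rw [← hk] at hcount
    have e1 : 2 * n * n < k := Nat.lt_of_mul_lt_mul_left (a := k) (by omega)
    have e2 : 2 * n * n < k' := Nat.lt_of_mul_lt_mul_left (a := k') (by omega)
    rcases lt_trichotomy k k' with h1 | h1 | h1
    · exfalso
      obtain ⟨d, hd⟩ : ∃ d, k' = k + d := ⟨k' - k, by omega⟩
      have : 0 < d := by omega
      rw [hd] at hcount'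
      nlinarith [Nat.mul_lt_mul_of_pos_left e1 this, Nat.mul_lt_mul_of_pos_left e2 this]
    · exact h1
    · exfalso
      obtain ⟨d, hd⟩ : ∃ d, k = k' + d := ⟨k - k', by omega⟩
      have : 0 < d := by omega
      rw [hd] at hcount
      nlinarith [Nat.mul_lt_mul_of_pos_left e1 this, Nat.mul_lt_mul_of_pos_left e2 this]
  -- membership in the cosets
  have hcoset : ∀ b ∈ s.A, b ≠ 1 → ∀ t ∈ T, t ∉ s.A → ∀ g, g ∈ Count.invSet (co b) t →
      g ∈ oCl s T ∧ g * b = b * g := by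
    rintro b hb hb1 t ht htA g ⟨hg2, hgt⟩
    obtain ⟨o, ho, rfl⟩ := Count.conj_of_coset (co_odd b) (r.sqT t ht) hg2 hgt
    refine ⟨oCl_conj (mem_oCl ht htA) o, ?_⟩
    have h1 : Commute o b := mem_centralizer_singleton_iff.1 (co_le b ho)
    exact ((h1.mul_left (show Commute t b from (r.comm_A h (r.T_le ht) hb).symm)).mul_left h1.inv_left).eq
  have hdisj : ∀ b ∈ s.A, b ≠ 1 → ∀ t ∈ T, ∀ t' ∈ T, ∀ g, g ∈ Count.invSet (co b) t →
      g ∈ Count.invSet (co b) t' → t = t' := by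
    rintro b hb hb1 t ht t' ht' g ⟨hg2, hgt⟩ ⟨-, hgt'⟩
    have h1 := mul_mem (inv_mem hgt) hgt'
    rw [mul_inv_rev, inv_eq_of_mul_eq_one_left hg2, inv_eq_of_mul_eq_one_left (r.sqT t ht),
      show t * g * (g * t') = t * (g * g) * t' by group, hg2, mul_one] at h1
    have h2 := Count.eq_one_of_odd (co_odd b) (r.sqT _ (mul_mem ht ht')) h1
    rw [← mul_one t, ← r.sqT t' ht', ← mul_assoc, h2, one_mul]
  -- the class of `T - A`
  set I := {t | t ∈ T ∧ t * x * t⁻¹ = a * x} with hI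
  have hI4 : I.ncard = 4 := by
    obtain ⟨t₀, ht₀, ht₀x⟩ := r.bracket_surj h hx hxA ha
    have : I = (fun v => t₀ * v) '' (s.A : Set G) := by
      ext t
      constructor
      · rintro ⟨ht, htx⟩
        refine ⟨t₀⁻¹ * t, by_contra fun hn' => r.bracket_ne x hx _ (mul_mem (inv_mem ht₀) ht) hxA hn' ?_, by group⟩
        symm
        refine mul_inv_eq_iff_eq_mul.1 ?_
        calc t₀⁻¹ * t * x * (t₀⁻¹ * t)⁻¹ = t₀⁻¹ * (t * x * t⁻¹) * t₀ := by group
          _ = x := by rw [htx, ← ht₀x]; group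
      · rintro ⟨v, hv, rfl⟩
        refine ⟨mul_mem ht₀ (r.le_T hv), ?_⟩
        show t₀ * v * x * (t₀ * v)⁻¹ = a * x
        calc t₀ * v * x * (t₀ * v)⁻¹ = t₀ * (v * x * v⁻¹) * t₀⁻¹ := by group
          _ = a * x := by rw [r.comm_A h (r.P_le hx) hv, mul_inv_cancel_right, ht₀x]
    rw [this, Set.ncard_image_of_injective _ (mul_right_injective t₀), ← Nat.card_coe_set_eq,
      SetLike.coe_sort_coe, h.card]
  have hIA : ∀ t ∈ I, t ∉ s.A := by
    rintro t ⟨-, htx⟩ htA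
    rw [r.comm_A h (r.P_le hx) htA, mul_inv_cancel_right] at htx
    exact ha1 (mul_eq_right.1 htx.symm)
  have hoT : (oCl s T).ncard = k * (4 * c) := by
    refine Count.ncard_fibres _ (aC s x) (fun g => (x * g) ^ (orderOf (x * g) / 2)) (fun g hg => ?_)
      fun u hu => ?_
    · obtain ⟨m, hm, -, hmem, -⟩ := r.pair_half h hsp hx hxA hn hnt hg
      show (x * g) ^ (orderOf (x * g) / 2) ∈ aC s x
      rw [hm, Nat.mul_div_cancel_left _ two_pos]
      exact hmem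
    · obtain ⟨l, hlx, hla⟩ := r.aCl_H h hx hxA ha ha1 hu.1 hu.2
      rw [← Count.ncard_conj
        (p := fun g => g ∈ oCl s T ∧ (x * g) ^ (orderOf (x * g) / 2) = a) l fun g => ?_]
      · rw [← hI4]
        refine Count.ncard_cover _ I (fun t => Count.invSet (co a) t) (fun g => ?_)
          (fun t ht t' ht' g => hdisj a ha ha1 t ht.1 t' ht'.1 g) fun t ht => hc a ha ha1 t ht.1 (hIA t ht)
        constructor
        · rintro ⟨hg, hga⟩
          obtain ⟨m, hm, -, -, hgu⟩ := r.pair_half h hsp hx hxA hn hnt hg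
          have hga' : g * a = a * g := by
            rw [hm, Nat.mul_div_cancel_left _ two_pos] at hga
            rw [← hga]; exact hgu
          obtain ⟨t, ht, -, hgt⟩ := r.oCl_coset h hsp ha ha1 hg hga'
          refine ⟨t, ⟨ht, ?_⟩, r.symm.oCl_sq h hg, hgt⟩
          have hbr := r.symm.bracket t ht x hx
          have htx : t * x * t⁻¹ = t * x * t⁻¹ * x⁻¹ * x := by group
          have h1 := r.pair_coset h hsp hx hxA hn hnt ha ha1 hg hga' ht hgt hbr htx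
          rw [hga] at h1
          have h2 := Count.eq_one_of_odd (co_odd a) (s.sq (mul_mem ha hbr)) h1
          rw [htx, eq_inv_of_mul_eq_one_right h2, inv_eq_of_mul_eq_one_left (s.sq ha)]
        · rintro ⟨t, ⟨ht, htx⟩, hgI⟩
          obtain ⟨hg, hga⟩ := hcoset a ha ha1 t ht (hIA t ⟨ht, htx⟩) g hgI
          refine ⟨hg, ?_⟩
          have h1 := r.pair_coset h hsp hx hxA hn hnt ha ha1 hg hga ht hgI.2 ha htx
          obtain ⟨m, hm, -, hmem, -⟩ := r.pair_half h hsp hx hxA hn hnt hg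
          rw [hm, Nat.mul_div_cancel_left _ two_pos] at h1 ⊢
          have hua : Commute ((x * g) ^ m) a := by
            refine Commute.pow_left ?_ m
            exact (show Commute x a from (r.comm_A h (r.P_le hx) ha).symm).mul_left hga
          have hu2 := aCl_sq hmem.1
          have h2 := Count.eq_one_of_odd (co_odd a) (by
            rw [← pow_two, hua.mul_pow, pow_two, pow_two, hu2, s.sq ha, one_mul]) h1
          rw [← mul_one ((x * g) ^ m), ← s.sq ha, ← mul_assoc, h2, one_mul]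
      · have hlx' : l * x * l⁻¹ = x := mul_inv_eq_iff_eq_mul.2 hlx
        have hord : x * (l * g * l⁻¹) = l * (x * g) * l⁻¹ := by
          calc x * (l * g * l⁻¹) = l * x * l⁻¹ * (l * g * l⁻¹) := by rw [hlx']
            _ = _ := by group
        refine and_congr ⟨fun hg => oCl_conj hg l, fun hg => ?_⟩ ?_
        · have := oCl_conj hg l⁻¹
          rwa [show l⁻¹ * (l * g * l⁻¹) * l⁻¹⁻¹ = g by group] at this
        · rw [hord, Invol.orderOf_conj_eq, conj_pow, ← hla, mul_left_inj, mul_right_inj]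
  -- the class of `T - A` in `C(b)`
  have h12 : ∀ b ∈ s.A, b ≠ 1 → {g | g ∈ oCl s T ∧ g * b = b * g}.ncard = 12 * c := by
    intro b hb hb1
    have hJ : ((T : Set G) \ (s.A : Set G)).ncard = 12 := by
      rw [Set.ncard_sdiff r.le_T, ← Nat.card_coe_set_eq, ← Nat.card_coe_set_eq, SetLike.coe_sort_coe,
        SetLike.coe_sort_coe, r.cardT, h.card]
    rw [← hJ]
    refine Count.ncard_cover _ _ (fun t => Count.invSet (co b) t) (fun g => ?_)
      (fun t ht t' ht' g => hdisj b hb hb1 t ht.1 t' ht'.1 g) fun t ht => hc b hb hb1 t ht.1 ht.2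
    constructor
    · rintro ⟨hg, hgb⟩
      obtain ⟨t, ht, htA, hgt⟩ := r.oCl_coset h hsp hb hb1 hg hgb
      exact ⟨t, ⟨ht, htA⟩, r.symm.oCl_sq h hg, hgt⟩
    · rintro ⟨t, ⟨ht, htA⟩, hgI⟩
      exact hcoset b hb hb1 t ht htA g hgI
  -- commuting pairs
  set Pr : Set (G × G) := {p | p.1 ∈ oCl s T ∧ p.2 ∈ aCl s ∧ p.1 * p.2 = p.2 * p.1} with hPr
  have hfst : Pr.ncard = (oCl s T).ncard * k' := by
    refine Count.ncard_fibres _ _ Prod.fst (fun p hp => hp.1) fun g hg => ?_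
    obtain ⟨m, t', ht', ht'A, rfl⟩ := hg
    obtain ⟨l, -, rfl⟩ := r.symm.conjP h ht₁ ht₁A ht' ht'A
    rw [hk', ← aC_ncard_conj (s := s) (m * l) t₁,
      show m * l * t₁ * (m * l)⁻¹ = m * (l * t₁ * l⁻¹) * m⁻¹ by group,
      ← Set.ncard_image_of_injective (aC s (m * (l * t₁ * l⁻¹) * m⁻¹)) (Prod.mk_right_injective _)]
    congr 1
    ext ⟨g₁, g₂⟩
    constructor
    · rintro ⟨⟨-, h2, h3⟩, rfl⟩
      exact ⟨g₂, ⟨h2, h3.symm⟩, rfl⟩
    · rintro ⟨v, ⟨h2, h3⟩, e⟩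
      obtain ⟨rfl, rfl⟩ := Prod.mk.injEq .. ▸ e
      exact ⟨⟨⟨m, _, ht', ht'A, rfl⟩, h2, h3.symm⟩, rfl⟩
  have hsnd : Pr.ncard = (aCl s).ncard * (12 * c) := by
    refine Count.ncard_fibres _ _ Prod.snd (fun p hp => hp.2.1) fun g hg => ?_
    obtain ⟨m, b, hb, hb1, rfl⟩ := hg
    rw [← h12 b hb hb1, Count.ncard_conj (q := fun g => g ∈ oCl s T ∧ g * (m * b * m⁻¹) = m * b * m⁻¹ * g)
      (p := fun g => g ∈ oCl s T ∧ g * b = b * g) m fun g => ?_,
      ← Set.ncard_image_of_injective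
        {g | g ∈ oCl s T ∧ g * (m * b * m⁻¹) = m * b * m⁻¹ * g} (Prod.mk_left_injective (m * b * m⁻¹))]
    · congr 1
      ext ⟨g₁, g₂⟩
      constructor
      · rintro ⟨⟨h1, -, h3⟩, rfl⟩
        exact ⟨g₁, ⟨h1, h3⟩, rfl⟩
      · rintro ⟨v, ⟨h1, h3⟩, e⟩
        obtain ⟨rfl, rfl⟩ := Prod.mk.injEq .. ▸ e
        exact ⟨⟨h1, ⟨m, b, hb, hb1, rfl⟩, h3⟩, rfl⟩
    · refine and_congr ⟨fun hg => oCl_conj hg m, fun hg => ?_⟩ ?_
      · have := oCl_conj hg m⁻¹
        rwa [show m⁻¹ * (m * g * m⁻¹) * m⁻¹⁻¹ = g by group] at this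
      · rw [show m * g * m⁻¹ * (m * b * m⁻¹) = m * (g * b) * m⁻¹ by group,
          show m * b * m⁻¹ * (m * g * m⁻¹) = m * (b * g) * m⁻¹ by group, mul_left_inj, mul_right_inj]
  have heq : k * (4 * c) * k = (aCl s).ncard * (12 * c) := by rw [← hsnd, hfst, hoT, ← hkk]
  have h3 : k * k = 3 * (aCl s).ncard := Nat.eq_of_mul_eq_mul_right (mul_pos four_pos hc0)
    (by linarith [heq])
  have hk0 : 0 < k := by
    rcases Nat.eq_zero_or_pos k with e | e
    · rw [e] at h3; omega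
    · exact e
  rw [← hk] at hcount
  refine Nat.eq_of_mul_eq_mul_right hk0 ?_
  nlinarith

end Pairs

end Grid

end Cfsg.Agent.Fus.Gold
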