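import Cfsg.Agent.Lib.Grp.Coprime
import Cfsg.Agent.Lib.Grp.CoprimeAbelian
import Cfsg.Agent.Lib.Invol.Bender.Tools

/-!
# Fixed points of a four-group on a group generated by balanced subgroups

A four-group `A` acts on `Q` of odd order, which is generated by subgroups `F a ≤ C(a)` with the same fixed
points and with `[C_Q(a), A] ≤ F a`, normalised by `C_Q(A)`.  Then `C_Q(A) ≤ F a`.
-/

set_option autoImplicit false
set_option linter.style.haveILetI false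
set_option linter.unusedSectionVars false

namespace Cfsg.Agent.Fus.Gold.FourKey

open Subgroup Cfsg.Agent.Grp
open scoped commutatorElement Pointwise

universe u

variable {G : Type u} [Group G] [Finite G]

/-- The hypotheses. -/
structure Hyp (A Q : Subgroup G) (F : G → Subgroup G) : Prop where
  gen : ∀ M : Subgroup G, (∀ a ∈ A, a ≠ 1 → F a ≤ M) → Q ≤ M
  le : ∀ a ∈ A, a ≠ 1 → F a ≤ Q ⊓ centralizer ({a} : Set G)
  inv : A ≤ normalizer (Q : Set G)
  comm : ∀ a ∈ A, a ≠ 1 → ∀ q ∈ Q, q ∈ centralizer ({a} : Set G) → ∀ b ∈ A, ⁅q, b⁆ ∈ F a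
  norm : ∀ a ∈ A, a ≠ 1 → Q ⊓ centralizer (A : Set G) ≤ normalizer (F a : Set G)
  fix : ∀ a ∈ A, a ≠ 1 → ∀ b ∈ A, b ≠ 1 → F a ⊓ centralizer (A : Set G) ≤ F b

theorem Hyp.F_inv {A Q : Subgroup G} {F : G → Subgroup G} (h : Hyp A Q F) {a : G} (ha : a ∈ A) (ha1 : a ≠ 1) :
    A ≤ normalizer (F a : Set G) := fun b hb => mem_normalizer_fintype fun q hq => by
  obtain ⟨hqQ, hqa⟩ := h.le a ha ha1 hq
  have h1 := h.comm a ha ha1 _ (Q.inv_mem hqQ) (inv_mem hqa) b hb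
  rw [show b * q * b⁻¹ = q * ⁅q⁻¹, b⁆ by rw [commutatorElement_def]; group]
  exact (F a).mul_mem hq h1

theorem normalizer_inf_normalizer_le {H K : Subgroup G} :
    normalizer (H : Set G) ⊓ normalizer (K : Set G) ≤ normalizer ((H ⊓ K : Subgroup G) : Set G) := fun x hx =>
  mem_normalizer_iff.2 fun y => by
    rw [mem_inf, mem_inf, mem_normalizer_iff.1 hx.1 y, mem_normalizer_iff.1 hx.2 y]

/-- The four elements of a four-group. -/
theorem mem_four {A : Subgroup G} (h4 : Nat.card A = 4) {a c : G} (ha : a ∈ A) (hc : c ∈ A) (ha1 : a ≠ 1)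
    (hc1 : c ≠ 1) (hca : c ≠ a) (hac : a * c ≠ 1) {z : G} (hz : z ∈ A) : z = 1 ∨ z = a ∨ z = c ∨ z = a * c := by
  classical
  have h1 : ({1, a, c, a * c} : Set G) ⊆ (A : Set G) := by
    rintro w (rfl | rfl | rfl | rfl)
    exacts [A.one_mem, ha, hc, A.mul_mem ha hc]
  have h2 : ({1, a, c, a * c} : Set G).ncard = 4 := by
    rw [Set.ncard_insert_of_notMem, Set.ncard_insert_of_notMem, Set.ncard_pair]
    · exact fun e => ha1 (mul_eq_right.1 e.symm)
    · simp only [Set.mem_insert_iff, Set.mem_singleton_iff, not_or]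
      exact ⟨hca.symm, fun e => hc1 (mul_eq_left.1 e.symm)⟩
    · simp only [Set.mem_insert_iff, Set.mem_singleton_iff, not_or]
      exact ⟨ha1.symm, hc1.symm, hac.symm⟩
  have heq : ({1, a, c, a * c} : Set G) = A := Set.eq_of_subset_of_ncard_le h1
    (le_of_eq (by rw [h2, ← Nat.card_coe_set_eq]; exact h4)) (Set.toFinite _)
  have h3 : z ∈ ({1, a, c, a * c} : Set G) := heq ▸ hz
  exact h3

/-- The fixed points of `A` lie in every `F a`. -/
theorem inf_centralizer_le {A Q : Subgroup G} {F : G → Subgroup G} (hA : Cfsg.IsElementaryAbelian 2 A)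
    (h4 : Nat.card A = 4) (hQ : Odd (Nat.card Q)) (h : Hyp A Q F) :
    ∀ a ∈ A, a ≠ 1 → Q ⊓ centralizer (A : Set G) ≤ F a := by
  classical
  induction hn : Nat.card Q using Nat.strong_induction_on generalizing Q F with
  | _ n ih =>
  subst hn
  have hcomm := fun x hx y hy => elemAb_comm hA x hx y hy
  haveI : IsMulCommutative A := hA.1
  have hA2 : IsPGroup 2 A := IsPGroup.of_card (n := 2) h4
  have hsol : Group.IsSolvable A := Group.isSolvable_of_comm fun x y => Subtype.ext (hcomm x x.2 y y.2)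
  have hsq : ∀ b ∈ A, b * b = 1 := fun b hb => by rw [← pow_two]; exact hA.2 b hb
  have hinvA : ∀ b ∈ A, b⁻¹ = b := fun b hb => inv_eq_of_mul_eq_one_right (hsq b hb)
  have hoddle : ∀ K : Subgroup G, K ≤ Q → Odd (Nat.card K) := fun K hK =>
    Odd.of_dvd_nat hQ (card_dvd_of_le hK)
  have hcop : ∀ B : Subgroup G, B ≤ A → ∀ K : Subgroup G, K ≤ Q → (Nat.card B).Coprime (Nat.card K) :=
    fun B hB K hK => Nat.Coprime.coprime_dvd_left (card_dvd_of_le hB) (by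
      rw [h4, show (4 : ℕ) = 2 ^ 2 from rfl]
      exact (Nat.coprime_two_left.2 (hoddle K hK)).pow_left 2)
  have hncyc : ¬ IsCyclic A := fun hc => by
    obtain ⟨g, hg⟩ := hc.exists_generator
    have h1 : orderOf g = 4 := by rw [orderOf_eq_card_of_forall_mem_zpowers hg, h4]
    have h2 : g ^ 2 = 1 := Subtype.ext (hA.2 g g.2)
    have := Nat.le_of_dvd two_pos (orderOf_dvd_of_pow_eq_one h2)
    omega
  have hmul1 : ∀ a ∈ A, ∀ b : G, b ≠ a → a * b ≠ 1 := fun a ha b hba e =>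
    hba (by rw [eq_inv_of_mul_eq_one_right e, hinvA a ha])
  have hgenA : ∀ a ∈ A, a ≠ 1 → ∀ b ∈ A, b ≠ 1 → b ≠ a → ∀ x : G, x ∈ centralizer ({a} : Set G) →
      x ∈ centralizer ({b} : Set G) → x ∈ centralizer (A : Set G) := by
    intro a ha ha1 b hb hb1 hba x hxa hxb
    refine mem_centralizer_iff.2 fun z hz => ?_
    have ca : Commute a x := (mem_centralizer_singleton_iff.1 hxa).symm
    have cb : Commute b x := (mem_centralizer_singleton_iff.1 hxb).symm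
    rcases mem_four h4 ha hb ha1 hb1 hba (hmul1 a ha b hba) hz with rfl | rfl | rfl | rfl
    exacts [(Commute.one_left x).eq, ca.eq, cb.eq, (ca.mul_left cb).eq]
  intro a₀ ha₀ ha₀1
  rcases eq_or_ne Q ⊥ with hQb | hQb
  · rw [hQb, bot_inf_eq]; exact bot_le
  -- the derived group
  set N := ⁅Q, Q⁆ with hN
  have hNQ : N ≤ Q := Q.commutator_le_self
  have hAN : A ≤ normalizer (N : Set G) := fun b hb => mem_normalizer_iff_smul.2 (by
    rw [← map_conj_eq_smul, hN, map_commutator, map_conj_eq_smul, mem_normalizer_iff_smul.1 (h.inv hb)])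
  have hQN : Q ≤ normalizer (N : Set G) := fun b hb => mem_normalizer_iff_smul.2 (by
    rw [← map_conj_eq_smul, hN, map_commutator, map_conj_eq_smul, Grp.conj_smul_eq_self_of_mem hb])
  have hlt : N < Q := by
    haveI : Group.IsSolvable Q := Invol.Bender.solvable_of_odd hQ
    haveI : Nontrivial Q := Q.nontrivial_iff_ne_bot.2 hQb
    have h1 := Group.IsSolvable.commutator_lt_top_of_nontrivial Q
    refine lt_of_le_of_ne hNQ fun e => h1.ne ?_
    apply map_injective Q.subtype_injective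
    rw [map_subtype_commutator, ← MonoidHom.range_eq_map, Q.range_subtype]
    exact e
  -- the part generated inside `N`
  set N0 : Subgroup G := ⨆ a : {a : G // a ∈ A ∧ a ≠ 1}, F a ⊓ N with hN0
  have hF0 : ∀ a ∈ A, a ≠ 1 → F a ⊓ N ≤ N0 := fun a ha ha1 =>
    le_iSup (fun b : {b : G // b ∈ A ∧ b ≠ 1} => F b ⊓ N) ⟨a, ha, ha1⟩
  have hN0N : N0 ≤ N := iSup_le fun _ => inf_le_right
  have hNnorm : ∀ {K : Subgroup G}, K ≤ normalizer (N : Set G) → (∀ a ∈ A, a ≠ 1 → K ≤ normalizer (F a : Set G)) →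
      K ≤ normalizer (N0 : Set G) := by
    intro K hK hKF x hx
    rw [mem_normalizer_iff_smul, hN0, ← map_conj_eq_smul, Subgroup.map_iSup]
    refine iSup_congr fun a => ?_
    rw [map_inf _ _ _ (MulAut.conj x).injective, map_conj_eq_smul, map_conj_eq_smul,
      mem_normalizer_iff_smul.1 (hKF a a.2.1 a.2.2 hx), mem_normalizer_iff_smul.1 (hK hx)]
  have hAN0 : A ≤ normalizer (N0 : Set G) := hNnorm hAN fun a ha ha1 => h.F_inv ha ha1
  have h' : Hyp A N0 (fun a => F a ⊓ N) :=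
    { gen := fun M hM => iSup_le fun a => hM a a.2.1 a.2.2
      le := fun a ha ha1 x hx => ⟨hF0 a ha ha1 hx, (h.le a ha ha1 hx.1).2⟩
      inv := hAN0
      comm := fun a ha ha1 q hq hqa b hb => ⟨h.comm a ha ha1 q (hNQ (hN0N hq)) hqa b hb, by
        rw [commutatorElement_def, mul_assoc q, mul_assoc q]
        exact N.mul_mem (hN0N hq) (mem_conj_normalizer (hAN hb) (N.inv_mem (hN0N hq)))⟩
      norm := fun a ha ha1 c hc => normalizer_inf_normalizer_le ⟨h.norm a ha ha1 ⟨hNQ (hN0N hc.1), hc.2⟩,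
        Subgroup.le_normalizer (hN0N hc.1)⟩
      fix := fun a ha ha1 b hb hb1 x hx => ⟨h.fix a ha ha1 b hb hb1 ⟨hx.1.1, hx.2⟩, hx.1.2⟩ }
  have hN0lt : Nat.card N0 < Nat.card Q := lt_of_le_of_lt (card_le_of_le hN0N)
    (lt_of_le_of_ne (card_le_of_le hNQ) fun e => hlt.ne (eq_of_le_of_card_ge hNQ e.ge))
  have hfix0 : ∀ a ∈ A, a ≠ 1 → N0 ⊓ centralizer (A : Set G) ≤ F a ⊓ N :=
    ih _ hN0lt (hoddle _ (hN0N.trans hNQ)) h' rfl
  -- `N` is `N0` times fixed points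
  have hNa : ∀ a ∈ A, a ≠ 1 → N ⊓ centralizer ({a} : Set G) ≤ (N ⊓ centralizer (A : Set G)) ⊔ (F a ⊓ N) := by
    intro a ha ha1
    set K := N ⊓ centralizer ({a} : Set G) with hK
    have hAK : A ≤ normalizer (K : Set G) := fun b hb => normalizer_inf_normalizer_le ⟨hAN hb,
      Subgroup.le_normalizer (mem_centralizer_singleton_iff.2 (hcomm b hb a ha))⟩
    refine le_trans (commutator_sup_fixed A K hAK (hcop A le_rfl K (inf_le_left.trans hNQ)) (Or.inl hsol)).ge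
      (sup_le ?_ ?_)
    · refine le_trans ?_ le_sup_right
      rw [commutator_le]
      exact fun q hq b hb => ⟨h.comm a ha ha1 q (hNQ hq.1) hq.2 b hb, by
        rw [commutatorElement_def, mul_assoc q, mul_assoc q]
        exact N.mul_mem hq.1 (mem_conj_normalizer (hAN hb) (N.inv_mem hq.1))⟩
    · exact le_trans (inf_le_inf_right _ inf_le_left) le_sup_left
  have hCnorm : N ⊓ centralizer (A : Set G) ≤ normalizer (N0 : Set G) :=
    hNnorm (inf_le_left.trans Subgroup.le_normalizer)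
      fun a ha ha1 c hc => h.norm a ha ha1 ⟨hNQ hc.1, hc.2⟩
  have hNsup : N ≤ (N ⊓ centralizer (A : Set G)) ⊔ N0 := by
    refine le_trans (generated_by_centralizers A N hncyc hAN (hcop A le_rfl N hNQ)).ge ?_
    exact iSup₂_le fun a ha => (hNa a ha.1 ha.2).trans (sup_le le_sup_left ((hF0 a ha.1 ha.2).trans le_sup_right))
  have hdec : ∀ x ∈ N, ∃ c ∈ N ⊓ centralizer (A : Set G), ∃ m ∈ N0, c * m = x := by
    intro x hx
    have h1 : x ∈ (((N ⊓ centralizer (A : Set G)) ⊔ N0 : Subgroup G) : Set G) := hNsup hx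
    rw [coe_mul_of_left_le_normalizer_right _ _ hCnorm] at h1
    exact h1
  have hNN0 : N ≤ normalizer (N0 : Set G) := hNsup.trans (sup_le hCnorm Subgroup.le_normalizer)
  -- work modulo `N0`
  set H := normalizer (N0 : Set G) with hH
  haveI hn0 : (N0.subgroupOf H).Normal := normal_subgroupOf_of_le_normalizer le_rfl
  set π := QuotientGroup.mk' (N0.subgroupOf H) with hπ
  have hπ1 : ∀ x (hx : x ∈ H), π ⟨x, hx⟩ = 1 ↔ x ∈ N0 := fun x hx => by
    rw [hπ, QuotientGroup.mk'_apply, QuotientGroup.eq_one_iff, mem_subgroupOf]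
  have hπc : ∀ x y (hx : x ∈ H) (hy : y ∈ H), ⁅x, y⁆ ∈ N0 → Commute (π ⟨x, hx⟩) (π ⟨y, hy⟩) := by
    intro x y hx hy hxy
    rw [← commutatorElement_eq_one_iff_commute, ← map_commutatorElement]
    exact (hπ1 _ (⁅(⟨x, hx⟩ : ↥H), (⟨y, hy⟩ : ↥H)⁆).2).2 hxy
  have hπN : ∀ n (hn : n ∈ N), ∀ b (hb : b ∈ A), Commute (π ⟨b, hAN0 hb⟩) (π ⟨n, hNN0 hn⟩) := by
    intro n hn b hb
    obtain ⟨c, hc, m, hm, rfl⟩ := hdec n hn
    have e : π ⟨c * m, hNN0 hn⟩ = π ⟨c, hCnorm hc⟩ := by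
      rw [show (⟨c * m, hNN0 hn⟩ : ↥H) = ⟨c, hCnorm hc⟩ * ⟨m, Subgroup.le_normalizer hm⟩ from rfl, map_mul,
        (hπ1 m _).2 hm, mul_one]
    rw [e]
    exact hπc _ _ _ _ (by
      rw [commutatorElement_eq_one_iff_mul_comm.2 (mem_centralizer_iff.1 hc.2 b hb)]; exact one_mem _)
  have hFN0 : ∀ a ∈ A, a ≠ 1 → F a ≤ H := by
    intro a ha ha1 f hf
    have hfQ := (h.le a ha ha1 hf).1
    have hfa := (h.le a ha ha1 hf).2
    set Z := zpowers a with hZ
    have hZA : Z ≤ A := zpowers_le.2 ha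
    have heq : N0 = ⁅N, Z⁆ ⊔ (F a ⊓ N) := by
      refine le_antisymm ?_ (sup_le ?_ (hF0 a ha ha1))
      · refine le_trans (commutator_sup_fixed Z N0 (hZA.trans hAN0) (hcop Z hZA _ (hN0N.trans hNQ))
          (Or.inl (isSolvable_of_le hZA hsol))).ge (sup_le ((commutator_mono hN0N le_rfl).trans le_sup_left) ?_)
        rintro x ⟨hx0, hxZ⟩
        rw [SetLike.mem_coe, ← centralizer_singleton_eq_zpowers] at hxZ
        have h1 : x ∈ (((N ⊓ centralizer (A : Set G)) ⊔ (F a ⊓ N) : Subgroup G) : Set G) :=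
          hNa a ha ha1 ⟨hN0N hx0, hxZ⟩
        rw [coe_mul_of_left_le_normalizer_right (N ⊓ centralizer (A : Set G)) (F a ⊓ N) (fun c hc =>
          normalizer_inf_normalizer_le ⟨h.norm a ha ha1 ⟨hNQ hc.1, hc.2⟩, Subgroup.le_normalizer hc.1⟩)] at h1
        obtain ⟨c, hc, m, hm, e⟩ := h1
        have hc0 : c ∈ N0 := by
          rw [show c = x * m⁻¹ by rw [← e]; simp]
          exact N0.mul_mem hx0 (N0.inv_mem (hF0 a ha ha1 hm))
        refine mem_sup_right ?_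
        rw [← e]
        exact mul_mem (hfix0 a ha ha1 ⟨hc0, hc.2⟩) hm
      · rw [commutator_le]
        intro x hx b hb
        have hbH := hAN0 (hZA hb)
        have h2 := hπN x hx b (hZA hb)
        refine (hπ1 _ (⁅(⟨x, hNN0 hx⟩ : ↥H), (⟨b, hbH⟩ : ↥H)⁆).2).1 ?_
        show π ⁅(⟨x, hNN0 hx⟩ : ↥H), ⟨b, hbH⟩⁆ = 1
        rw [map_commutatorElement, commutatorElement_eq_one_iff_commute]
        exact h2.symm
    have hfZ : MulAut.conj f • Z = Z := by
      rw [← map_conj_eq_smul, hZ, MonoidHom.map_zpowers]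
      congr 1
      show f * a * f⁻¹ = a
      rw [mem_centralizer_singleton_iff.1 hfa, mul_inv_cancel_right]
    have hfFN : MulAut.conj f • (F a ⊓ N) = F a ⊓ N := by
      rw [smul_inf, Grp.conj_smul_eq_self_of_mem hf, mem_normalizer_iff_smul.1 (hQN hfQ)]
    rw [hH, mem_normalizer_iff_smul]
    conv_lhs => rw [heq, smul_sup, hfFN, ← map_conj_eq_smul, map_commutator, map_conj_eq_smul, map_conj_eq_smul,
      hfZ, mem_normalizer_iff_smul.1 (hQN hfQ)]
    exact heq.symm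
  have hQH : Q ≤ H := h.gen H hFN0
  -- `N` is central modulo `N0`
  set Cz := (centralizer ((N.subgroupOf H).map π : Set (↥H ⧸ N0.subgroupOf H))).comap π with hCz
  have hmemCz : ∀ x (hx : x ∈ H), (⟨x, hx⟩ : ↥H) ∈ Cz ↔ ∀ n (hn : n ∈ N), Commute (π ⟨n, hNN0 hn⟩) (π ⟨x, hx⟩) := by
    intro x hx
    rw [hCz, mem_comap, mem_centralizer_iff]
    constructor
    · exact fun hh n hn => hh _ ⟨⟨n, hNN0 hn⟩, mem_subgroupOf.2 hn, rfl⟩
    · rintro hh _ ⟨⟨n, hnH⟩, hn, rfl⟩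
      exact hh n (mem_subgroupOf.1 hn)
  have hfixF : ∀ a ∈ A, a ≠ 1 → ∀ z ∈ F a ⊓ centralizer (A : Set G), ∀ b ∈ A, b ≠ 1 → ∀ v ∈ Q,
      v ∈ normalizer (F b : Set G) → ⁅v, z⁆ ∈ N0 := by
    intro a ha ha1 z hz b hb hb1 v hv hvn
    have hzb := h.fix a ha ha1 b hb hb1 hz
    refine hF0 b hb hb1 ⟨?_, commutator_mem_commutator hv (h.le b hb hb1 hzb).1⟩
    rw [commutatorElement_def]
    exact (F b).mul_mem (mem_conj_normalizer hvn hzb) ((F b).inv_mem hzb)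
  have hgens : ∀ a ∈ A, a ≠ 1 → ∀ b ∈ A, b ≠ 1 → b ≠ a →
      F a ≤ (F a ⊓ centralizer (A : Set G)) ⊔ closure {w | ∃ q ∈ F a, w = ⁅q, b⁆} := by
    intro a ha ha1 b hb hb1 hba
    set Zb := zpowers b with hZb
    have hZA : Zb ≤ A := zpowers_le.2 hb
    refine le_trans (commutator_sup_fixed Zb (F a) (hZA.trans (h.F_inv ha ha1))
      (hcop Zb hZA _ ((h.le a ha ha1).trans inf_le_left)) (Or.inl (isSolvable_of_le hZA hsol))).ge (sup_le ?_ ?_)
    · rw [commutator_le]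
      intro q hq z hz
      refine mem_sup_right ?_
      obtain ⟨i, rfl⟩ := mem_zpowers_iff.1 hz
      rcases Int.even_or_odd i with ⟨j, rfl⟩ | ⟨j, rfl⟩
      · rw [zpow_add, ← (Commute.refl b).mul_zpow, hsq b hb, one_zpow, commutatorElement_one_right]
        exact one_mem _
      · rw [zpow_add, zpow_mul, zpow_ofNat, pow_two, hsq b hb, one_zpow, one_mul, zpow_one]
        exact subset_closure ⟨q, hq, rfl⟩
    · refine le_trans ?_ le_sup_left
      rintro x ⟨hx, hxZ⟩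
      rw [SetLike.mem_coe, ← centralizer_singleton_eq_zpowers] at hxZ
      exact ⟨hx, hgenA a ha ha1 b hb hb1 hba x (h.le a ha ha1 hx).2 hxZ⟩
  obtain ⟨bb, hbb, hbbA⟩ : ∃ bb : G → G, (∀ a ∈ A, a ≠ 1 → bb a ∈ A ∧ bb a ≠ 1) ∧
      ∀ a ∈ A, a ≠ 1 → bb a ≠ a := by
    have hex : ∀ a, ∃ b, a ∈ A → a ≠ 1 → (b ∈ A ∧ b ≠ 1) ∧ b ≠ a := by
      intro a
      by_contra hno
      push Not at hno
      obtain ⟨haA, ha1, -⟩ := hno a
      have hle : (A : Set G) ⊆ {1, a} := fun z hz => by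
        by_cases hz1 : z = 1
        · exact Or.inl hz1
        · exact Or.inr ((hno z).2.2 ⟨hz, hz1⟩)
      have h1 := Set.ncard_le_ncard hle (Set.toFinite _)
      rw [← Nat.card_coe_set_eq] at h1
      have h2 : ({1, a} : Set G).ncard ≤ 2 := (Set.ncard_insert_le _ _).trans (by rw [Set.ncard_singleton])
      have h3 : Nat.card A ≤ 2 := h1.trans h2
      omega
    choose bb hbb using hex
    exact ⟨bb, fun a ha ha1 => (hbb a ha ha1).1, fun a ha ha1 => (hbb a ha ha1).2⟩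
  have hcen : ∀ a ∈ A, a ≠ 1 → ∀ f ∈ F a, ∀ hf : f ∈ H, (⟨f, hf⟩ : ↥H) ∈ Cz := by
    intro a ha ha1 f hf hfH
    obtain ⟨hb, hb1⟩ := hbb a ha ha1
    have hle : (F a ⊓ centralizer (A : Set G)) ⊔ closure {w | ∃ q ∈ F a, w = ⁅q, bb a⁆} ≤ Cz.map H.subtype := by
      refine sup_le (fun z hz => ?_) ((closure_le _).2 ?_)
      · refine ⟨⟨z, hFN0 a ha ha1 hz.1⟩, (hmemCz z _).2 fun n hn => ?_, rfl⟩
        obtain ⟨c, hc, m, hm, rfl⟩ := hdec n hn
        rw [show (⟨c * m, hNN0 hn⟩ : ↥H) = ⟨c, hCnorm hc⟩ * ⟨m, Subgroup.le_normalizer hm⟩ from rfl, map_mul,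
          (hπ1 m _).2 hm, mul_one]
        exact hπc _ _ _ _ (hfixF a ha ha1 z hz a ha ha1 c (hNQ hc.1) (h.norm a ha ha1 ⟨hNQ hc.1, hc.2⟩))
      · rintro _ ⟨q, hq, rfl⟩
        have hqH := hFN0 a ha ha1 hq
        refine ⟨⁅(⟨q, hqH⟩ : ↥H), ⟨bb a, hAN0 hb⟩⁆, ?_, rfl⟩
        refine (hmemCz _ (⁅(⟨q, hqH⟩ : ↥H), (⟨bb a, hAN0 hb⟩ : ↥H)⁆).2).2 fun n hn => ?_
        show Commute (π ⟨n, hNN0 hn⟩) (π ⁅(⟨q, hqH⟩ : ↥H), ⟨bb a, hAN0 hb⟩⁆)
        rw [map_commutatorElement, commutatorElement_def]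
        have hn' : q⁻¹ * n * q ∈ N := mem_conj_normalizer' (hQN (h.le a ha ha1 hq).1) hn
        have h1 := hπN _ hn' _ hb
        have h2 : π ⟨q⁻¹ * n * q, hNN0 hn'⟩ = (π ⟨q, hqH⟩)⁻¹ * π ⟨n, hNN0 hn⟩ * π ⟨q, hqH⟩ := by
          rw [← map_inv, ← map_mul, ← map_mul]
          rfl
        rw [h2] at h1
        have h3 : Commute (π ⟨n, hNN0 hn⟩) (π ⟨q, hqH⟩ * π ⟨bb a, hAN0 hb⟩ * (π ⟨q, hqH⟩)⁻¹) := by
          show π ⟨n, hNN0 hn⟩ * (π ⟨q, hqH⟩ * π ⟨bb a, hAN0 hb⟩ * (π ⟨q, hqH⟩)⁻¹) =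
            π ⟨q, hqH⟩ * π ⟨bb a, hAN0 hb⟩ * (π ⟨q, hqH⟩)⁻¹ * π ⟨n, hNN0 hn⟩
          calc π ⟨n, hNN0 hn⟩ * (π ⟨q, hqH⟩ * π ⟨bb a, hAN0 hb⟩ * (π ⟨q, hqH⟩)⁻¹)
              = π ⟨q, hqH⟩ * (((π ⟨q, hqH⟩)⁻¹ * π ⟨n, hNN0 hn⟩ * π ⟨q, hqH⟩) * π ⟨bb a, hAN0 hb⟩) *
                (π ⟨q, hqH⟩)⁻¹ := by group
            _ = π ⟨q, hqH⟩ * (π ⟨bb a, hAN0 hb⟩ * ((π ⟨q, hqH⟩)⁻¹ * π ⟨n, hNN0 hn⟩ * π ⟨q, hqH⟩)) *
                (π ⟨q, hqH⟩)⁻¹ := by rw [h1.eq]
            _ = _ := by group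
        exact h3.mul_right (hπN n hn _ hb).symm.inv_right
    obtain ⟨x, hx, e⟩ := hle (hgens a ha ha1 _ hb hb1 (hbbA a ha ha1) hf)
    rwa [show (⟨f, hfH⟩ : ↥H) = x from Subtype.ext e.symm]
  have hQC : ∀ q (hq : q ∈ Q), (⟨q, hQH hq⟩ : ↥H) ∈ Cz := by
    intro q hq
    obtain ⟨x, hx, e⟩ := (h.gen (Cz.map H.subtype) fun a ha ha1 f hf =>
      ⟨⟨f, hFN0 a ha ha1 hf⟩, hcen a ha ha1 f hf _, rfl⟩) hq
    rwa [show (⟨q, hQH hq⟩ : ↥H) = x from Subtype.ext e.symm]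
  -- `Q` is abelian modulo `N0`
  have habel : N ≤ N0 := by
    have hpair : ∀ a, ∀ (ha : a ∈ A) (ha1 : a ≠ 1), ∀ b, ∀ (hb : b ∈ A) (hb1 : b ≠ 1), ∀ x (hx : x ∈ F a) y (hy : y ∈ F b),
        Commute (π ⟨x, hFN0 a ha ha1 hx⟩) (π ⟨y, hFN0 b hb hb1 hy⟩) := by
      intro a ha ha1 b hb hb1
      rcases eq_or_ne b a with e | hba
      · intro x hx y hy
        have hy' : y ∈ F a := e ▸ hy
        exact hπc _ _ _ _ (hF0 a ha ha1 ⟨by
          rw [commutatorElement_def]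
          exact (F a).mul_mem ((F a).mul_mem ((F a).mul_mem hx hy') ((F a).inv_mem hx)) ((F a).inv_mem hy'),
          commutator_mem_commutator (h.le a ha ha1 hx).1 (h.le a ha ha1 hy').1⟩)
      · intro x hx y hy
        set U := (centralizer ({π ⟨y, hFN0 b hb hb1 hy⟩} : Set (↥H ⧸ N0.subgroupOf H))).comap π
        suffices hU : (⟨x, hFN0 a ha ha1 hx⟩ : ↥H) ∈ U by
          exact mem_centralizer_singleton_iff.1 hU
        suffices hgen' : Subgroup.closure {w | ∃ q ∈ F a, w = ⁅q, b⁆} ≤ U.map H.subtype by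
          obtain ⟨x', hx', e⟩ := (hgens a ha ha1 b hb hb1 hba).trans (show _ ≤ U.map H.subtype from sup_le
            (fun z hz => ⟨⟨z, hFN0 a ha ha1 hz.1⟩, mem_centralizer_singleton_iff.2
              (hπc y z _ _ (hfixF a ha ha1 z hz b hb hb1 y (h.le b hb hb1 hy).1 (Subgroup.le_normalizer hy))).symm, rfl⟩)
            hgen') hx
          rwa [show (⟨x, hFN0 a ha ha1 hx⟩ : ↥H) = x' from Subtype.ext e.symm]
        refine (closure_le _).2 ?_
        rintro _ ⟨q, hq, rfl⟩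
        set w : ↥H := ⁅(⟨q, hFN0 a ha ha1 hq⟩ : ↥H), ⟨b, hAN0 hb⟩⁆ with hw
        refine ⟨w, mem_centralizer_singleton_iff.2 ?_, rfl⟩
        set V := (centralizer ({π w} : Set (↥H ⧸ N0.subgroupOf H))).comap π
        suffices hV : (⟨y, hFN0 b hb hb1 hy⟩ : ↥H) ∈ V by
          exact (mem_centralizer_singleton_iff.1 hV).symm
        have hwF : (w : G) ∈ F a := h.comm a ha ha1 q (h.le a ha ha1 hq).1 (h.le a ha ha1 hq).2 b hb
        suffices hgen' : Subgroup.closure {w | ∃ r ∈ F b, w = ⁅r, a⁆} ≤ V.map H.subtype by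
          obtain ⟨y', hy', e⟩ := (hgens b hb hb1 a ha ha1 hba.symm).trans (show _ ≤ V.map H.subtype from sup_le
            (fun z hz => ⟨⟨z, hFN0 b hb hb1 hz.1⟩, mem_centralizer_singleton_iff.2
              (hπc w z w.2 _ (hfixF b hb hb1 z hz a ha ha1 w (h.le a ha ha1 hwF).1
                (Subgroup.le_normalizer hwF))).symm, rfl⟩)
            hgen') hy
          rwa [show (⟨y, hFN0 b hb hb1 hy⟩ : ↥H) = y' from Subtype.ext e.symm]
        refine (closure_le _).2 ?_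
        rintro _ ⟨r, hr, rfl⟩
        set v : ↥H := ⁅(⟨r, hFN0 b hb hb1 hr⟩ : ↥H), ⟨a, hAN0 ha⟩⁆ with hv
        refine ⟨v, mem_centralizer_singleton_iff.2 (Eq.symm ?_), rfl⟩
        set β := π ⟨b, hAN0 hb⟩ with hβ
        have hwN : (w : G) ∈ Q := (h.le a ha ha1 (h.comm a ha ha1 q (h.le a ha ha1 hq).1 (h.le a ha ha1 hq).2 b hb)).1
        have hvN : (v : G) ∈ Q := (h.le b hb hb1 (h.comm b hb hb1 r (h.le b hb hb1 hr).1 (h.le b hb hb1 hr).2 a ha)).1
        have hkN : ((⁅w, v⁆ : ↥H) : G) ∈ N := commutator_mem_commutator hwN hvN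
        set W := π w
        set V' := π v
        set k := ⁅W, V'⁆ with hk
        have hkeq : k = π ⁅w, v⁆ := (map_commutatorElement π w v).symm
        have hkβ : β * k * β⁻¹ = k := by
          have h1 : Commute β k := by rw [hkeq]; exact hπN _ hkN b hb
          rw [h1.eq, mul_inv_cancel_right]
        have hββ : β * β = 1 := by
          rw [hβ, ← map_mul, show (⟨b, hAN0 hb⟩ : ↥H) * ⟨b, hAN0 hb⟩ = 1 from Subtype.ext (hsq b hb), map_one]
        have hWβ : β * W * β⁻¹ = W⁻¹ := by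
          have h1 : (⟨b, hAN0 hb⟩ : ↥H) * w * (⟨b, hAN0 hb⟩ : ↥H)⁻¹ = w⁻¹ := Subtype.ext (by
            show b * ⁅q, b⁆ * b⁻¹ = ⁅q, b⁆⁻¹
            simp only [commutatorElement_def, mul_inv_rev, inv_inv, hinvA b hb]
            rw [show b * (q * b * q⁻¹ * b) * b = b * q * b * q⁻¹ * (b * b) by group, hsq b hb, mul_one]
            group)
          have h2 := congrArg π h1
          rwa [map_mul, map_mul, map_inv, map_inv] at h2
        have hVβ : β * V' * β⁻¹ = V' := by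
          have h2 : ⁅r, a⁆ ∈ centralizer ({b} : Set G) := by
            refine (h.le b hb hb1 (h.comm b hb hb1 r (h.le b hb hb1 hr).1 (h.le b hb hb1 hr).2 a ha)).2
          have h3 : (⟨b, hAN0 hb⟩ : ↥H) * v * (⟨b, hAN0 hb⟩ : ↥H)⁻¹ = v := Subtype.ext (by
            show b * ⁅r, a⁆ * b⁻¹ = ⁅r, a⁆
            rw [← mem_centralizer_singleton_iff.1 h2, mul_inv_cancel_right])
          have h4 := congrArg π h3
          rwa [map_mul, map_mul, map_inv] at h4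
        have hkW : Commute W k := by
          rw [hkeq]
          have h5 := (hmemCz _ w.2).1 (hQC _ hwN) _ hkN
          exact h5.symm
        have hk2 : k⁻¹ = k := by
          have h6 : β * k * β⁻¹ = ⁅W⁻¹, V'⁆ := by
            have := map_commutatorElement (MulAut.conj β : (↥H ⧸ N0.subgroupOf H) ≃* _) W V'
            simp only [MulAut.conj_apply] at this
            rw [hWβ, hVβ] at this
            exact this
          rw [hkβ] at h6
          calc k⁻¹ = W⁻¹ * k⁻¹ * W := by rw [mul_assoc, ← hkW.inv_right.eq, inv_mul_cancel_left]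
            _ = ⁅W⁻¹, V'⁆ := by rw [hk, commutatorElement_def, commutatorElement_def]; group
            _ = k := h6.symm
        have hk1 : k = 1 := by
          refine orderOf_eq_one_iff.1 (Nat.eq_one_of_dvd_coprimes (a := 2) (b := Nat.card ↥Q) ?_ ?_ ?_)
          · exact Nat.coprime_two_left.2 hQ
          · refine orderOf_dvd_of_pow_eq_one ?_
            rw [pow_two]
            nth_rewrite 1 [← hk2]
            exact inv_mul_cancel k
          · rw [hkeq]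
            refine (orderOf_map_dvd π _).trans ?_
            rw [← Subgroup.orderOf_coe]
            exact Q.orderOf_dvd_natCard (hNQ hkN)
        exact (commutatorElement_eq_one_iff_commute.1 hk1).eq
    set D := (Q.subgroupOf H).map π
    have hgenD : ∀ a, ∀ (ha : a ∈ A) (ha1 : a ≠ 1), ∀ x (hx : x ∈ F a), π ⟨x, hFN0 a ha ha1 hx⟩ ∈ centralizer (D : Set (↥H ⧸ N0.subgroupOf H)) := by
      intro a ha ha1 x hx
      refine mem_centralizer_iff.2 ?_
      rintro _ ⟨⟨y, hyH⟩, hy, rfl⟩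
      obtain ⟨y', hy', e⟩ := (h.gen (((centralizer ({π ⟨x, hFN0 a ha ha1 hx⟩} : Set (↥H ⧸ N0.subgroupOf H))).comap π).map
        H.subtype) fun b hb hb1 f hf => ⟨⟨f, hFN0 b hb hb1 hf⟩, mem_centralizer_singleton_iff.2
          (hpair b hb hb1 a ha ha1 f hf x hx).eq, rfl⟩) (mem_subgroupOf.1 hy)
      rw [show (⟨y, hyH⟩ : ↥H) = y' from Subtype.ext e.symm]
      exact mem_centralizer_singleton_iff.1 hy'
    rw [hN, commutator_le]
    intro x hx y hy
    obtain ⟨x', hx', e⟩ := (h.gen (((centralizer (D : Set (↥H ⧸ N0.subgroupOf H))).comap π).map H.subtype)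
      fun a ha ha1 f hf => ⟨⟨f, hFN0 a ha ha1 hf⟩, hgenD a ha ha1 f hf, rfl⟩) hx
    have h1 := mem_centralizer_iff.1 hx' (π ⟨y, hQH hy⟩) ⟨_, mem_subgroupOf.2 hy, rfl⟩
    rw [show x' = (⟨x, hQH hx⟩ : ↥H) from Subtype.ext e] at h1
    refine (hπ1 _ (⁅(⟨x, hQH hx⟩ : ↥H), (⟨y, hQH hy⟩ : ↥H)⁆).2).1 ?_
    show π ⁅(⟨x, hQH hx⟩ : ↥H), ⟨y, hQH hy⟩⁆ = 1
    rw [map_commutatorElement, commutatorElement_eq_one_iff_mul_comm]
    exact h1.symm
  -- averaging on `Q / N`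
  set M := normalizer (N : Set G) with hM
  haveI : (N.subgroupOf M).Normal := normal_subgroupOf_of_le_normalizer le_rfl
  set ρ := QuotientGroup.mk' (N.subgroupOf M) with hρ
  set Z₀ := F a₀ ⊓ centralizer (A : Set G) with hZ₀
  have hZQ : Z₀ ≤ Q := inf_le_left.trans ((h.le a₀ ha₀ ha₀1).trans inf_le_left)
  have hρc : ∀ x (hx : x ∈ Q) y (hy : y ∈ Q), Commute (ρ ⟨x, hQN hx⟩) (ρ ⟨y, hQN hy⟩) := by
    intro x hx y hy
    rw [← commutatorElement_eq_one_iff_commute, ← map_commutatorElement, hρ, QuotientGroup.mk'_apply,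
      QuotientGroup.eq_one_iff, mem_subgroupOf]
    exact commutator_mem_commutator hx hy
  obtain ⟨b, hb, hb1, hba⟩ : ∃ b ∈ A, b ≠ 1 ∧ b ≠ a₀ :=
    ⟨bb a₀, (hbb a₀ ha₀ ha₀1).1, (hbb a₀ ha₀ ha₀1).2, hbbA a₀ ha₀ ha₀1⟩
  have hab : a₀ * b ∈ A := A.mul_mem ha₀ hb
  have hab1 : a₀ * b ≠ 1 := fun e => hba (by rw [eq_inv_of_mul_eq_one_right e, hinvA a₀ ha₀])
  let cj : G → G → G := fun e x => e * x * e⁻¹
  let avg : G → G := fun x => x * cj a₀ x * (cj b x * cj (a₀ * b) x)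
  have hcQ : ∀ e ∈ A, ∀ x ∈ Q, cj e x ∈ Q := fun e he x hx => mem_conj_normalizer (h.inv he) hx
  have havgQ : ∀ x ∈ Q, avg x ∈ Q := fun x hx =>
    Q.mul_mem (Q.mul_mem hx (hcQ _ ha₀ x hx)) (Q.mul_mem (hcQ _ hb x hx) (hcQ _ hab x hx))
  set ZN := (Z₀.subgroupOf M).map ρ with hZN
  let ψ : ↥Q →* ↥M ⧸ N.subgroupOf M :=
    { toFun := fun x => ρ ⟨avg x, hQN (havgQ x x.2)⟩
      map_one' := by
        rw [← map_one ρ]
        exact congrArg ρ (Subtype.ext (by simp [avg, cj]))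
      map_mul' := fun x y => by
        have key : ∀ (p q r s p' q' r' s' : ↥M), (p : G) ∈ Q → (q : G) ∈ Q → (r : G) ∈ Q → (s : G) ∈ Q →
            (p' : G) ∈ Q → (q' : G) ∈ Q → (r' : G) ∈ Q → (s' : G) ∈ Q →
            ρ (p * p' * (q * q') * (r * r' * (s * s'))) = ρ (p * q * (r * s)) * ρ (p' * q' * (r' * s')) := by
          intro p q r s p' q' r' s' hp hq hr hs hp' hq' hr' hs'
          simp only [map_mul]
          have c1 := hρc _ hp' _ hq
          have c2 := hρc _ hr' _ hs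
          have c3 : Commute (ρ p' * ρ q') (ρ r * ρ s) := ((hρc _ hp' _ hr).mul_right (hρc _ hp' _ hs)).mul_left
            ((hρc _ hq' _ hr).mul_right (hρc _ hq' _ hs))
          calc ρ p * ρ p' * (ρ q * ρ q') * (ρ r * ρ r' * (ρ s * ρ s'))
              = ρ p * (ρ p' * ρ q) * ρ q' * (ρ r * (ρ r' * ρ s) * ρ s') := by group
            _ = ρ p * ρ q * ((ρ p' * ρ q') * (ρ r * ρ s)) * (ρ r' * ρ s') := by rw [c1.eq, c2.eq]; group
            _ = _ := by rw [c3.eq]; group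
        have hx := x.2
        have hy := y.2
        refine Eq.trans ?_ (key ⟨x, hQN hx⟩ ⟨_, hQN (hcQ _ ha₀ _ hx)⟩ ⟨_, hQN (hcQ _ hb _ hx)⟩
          ⟨_, hQN (hcQ _ hab _ hx)⟩ ⟨y, hQN hy⟩ ⟨_, hQN (hcQ _ ha₀ _ hy)⟩ ⟨_, hQN (hcQ _ hb _ hy)⟩
          ⟨_, hQN (hcQ _ hab _ hy)⟩ hx (hcQ _ ha₀ _ hx) (hcQ _ hb _ hx) (hcQ _ hab _ hx) hy
          (hcQ _ ha₀ _ hy) (hcQ _ hb _ hy) (hcQ _ hab _ hy))
        refine congrArg ρ (Subtype.ext ?_)
        show avg ((x : G) * y) = _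
        simp only [avg, cj, Subgroup.coe_mul]
        group }
  have hψF : ∀ a, ∀ (ha : a ∈ A) (ha1 : a ≠ 1), ∀ x (hx : x ∈ F a), ψ ⟨x, (h.le a ha ha1 hx).1⟩ ∈ ZN := by
    intro a ha ha1 x hx
    have hxQ := (h.le a ha ha1 hx).1
    have hfixa : ∀ y ∈ F a, cj a y = y := fun y hy =>
      mul_inv_eq_iff_eq_mul.2 (mem_centralizer_singleton_iff.1 (h.le a ha ha1 hy).2).symm
    obtain ⟨c, hc, hc1, hca, havg⟩ : ∃ c ∈ A, c ≠ 1 ∧ c ≠ a ∧ (avg x = x * x * (cj c x * cj c x) ∨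
        avg x = x * cj c x * (x * cj c x) ∨ avg x = x * cj c x * (cj c x * x)) := by
      rcases eq_or_ne a a₀ with e | haa
      · refine ⟨b, hb, hb1, fun g => hba (g.trans e), Or.inl ?_⟩
        have h5 : cj a₀ x = x := e ▸ hfixa x hx
        have h6 : cj (a₀ * b) x = cj b x := by
          rw [show cj (a₀ * b) x = cj a₀ (cj b x) by simp only [cj]; group, ← e]
          exact hfixa _ (mem_conj_normalizer (h.F_inv ha ha1 hb) hx)
        simp only [avg, h5, h6]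
      · refine ⟨a₀, ha₀, ha₀1, haa.symm, Or.inr ?_⟩
        have hya : cj a₀ x ∈ F a := mem_conj_normalizer (h.F_inv ha ha1 ha₀) hx
        rcases mem_four h4 ha₀ hb ha₀1 hb1 hba hab1 ha with e | e | e | e
        · exact absurd e ha1
        · exact absurd e haa
        · left
          have h5 : cj b x = x := e ▸ hfixa x hx
          have h6 : cj (a₀ * b) x = cj a₀ x := by
            rw [show cj (a₀ * b) x = cj a₀ (cj b x) by simp only [cj]; group, h5]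
          simp only [avg, h5, h6]
        · right
          have h5 : cj (a₀ * b) x = x := e ▸ hfixa x hx
          have h6 : cj b x = cj a₀ x := by
            have h7 : a₀ * (a₀ * b) = b := by rw [← mul_assoc, hsq a₀ ha₀, one_mul]
            nth_rewrite 1 [← h7]
            rw [show cj (a₀ * (a₀ * b)) x = cj a₀ (cj (a₀ * b) x) by simp only [cj]; group, h5]
          simp only [avg, h5, h6]
    set y := cj c x with hy
    have hyF : y ∈ F a := mem_conj_normalizer (h.F_inv ha ha1 hc) hx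
    have hyQ : y ∈ Q := (h.le a ha ha1 hyF).1
    set u := x * y with hu
    have huF : u ∈ F a := (F a).mul_mem hx hyF
    have huQ : u ∈ Q := (h.le a ha ha1 huF).1
    have hcu : cj c u = y * x := by
      show c * (x * y) * c⁻¹ = y * x
      rw [hy]
      show c * (x * (c * x * c⁻¹)) * c⁻¹ = c * x * c⁻¹ * x
      rw [show c * (x * (c * x * c⁻¹)) * c⁻¹ = c * x * c⁻¹ * (c * c * x * (c * c)⁻¹) by group, hsq c hc]
      group
    have hufix : ∀ e ∈ A, e * u * e⁻¹ * u⁻¹ ∈ F a ⊓ N := by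
      intro e he
      refine ⟨(F a).mul_mem (mem_conj_normalizer (h.F_inv ha ha1 he) huF) ((F a).inv_mem huF), ?_⟩
      have hyx : y * x * (x * y)⁻¹ ∈ N := by
        rw [show y * x * (x * y)⁻¹ = ⁅y, x⁆ by rw [commutatorElement_def]; group]
        exact commutator_mem_commutator hyQ hxQ
      rcases mem_four h4 ha hc ha1 hc1 hca (hmul1 a ha c hca) he with rfl | rfl | rfl | rfl
      · simp
      · rw [show e * u * e⁻¹ = u from hfixa u huF, mul_inv_cancel]; exact N.one_mem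
      · rw [show e * u * e⁻¹ = y * x from hcu]; exact hyx
      · rw [show a * c * u * (a * c)⁻¹ = cj a (cj c u) by simp only [cj]; group, hcu,
          hfixa _ ((F a).mul_mem hyF hx)]
        exact hyx
    obtain ⟨z, hz, hzu⟩ := exists_fixed_rep A (F a) (F a ⊓ N) (h.F_inv ha ha1)
      (Grp.inf_eq_bot_of_coprime (hcop A le_rfl _ ((h.le a ha ha1).trans inf_le_left)))
      (hcop A le_rfl _ (inf_le_right.trans hNQ)) (Or.inl hsol) inf_le_left
      (fun f hf => normalizer_inf_normalizer_le ⟨Subgroup.le_normalizer hf, hQN (h.le a ha ha1 hf).1⟩)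
      (fun e he => normalizer_inf_normalizer_le ⟨h.F_inv ha ha1 he, hAN he⟩) huF hufix
    have hzZ : z ∈ Z₀ := ⟨h.fix a ha ha1 a₀ ha₀ ha₀1 hz, hz.2⟩
    have hρu : ρ ⟨u, hQN huQ⟩ ∈ ZN := by
      refine ⟨⟨z, hQN (hZQ hzZ)⟩, mem_subgroupOf.2 hzZ, ?_⟩
      rw [hρ, QuotientGroup.mk'_apply, QuotientGroup.mk'_apply, QuotientGroup.eq, mem_subgroupOf]
      have := N.inv_mem hzu.2
      rwa [mul_inv_rev, inv_inv] at this
    show ρ ⟨avg x, hQN (havgQ x hxQ)⟩ ∈ ZN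
    have hρu2 : ρ ⟨avg x, hQN (havgQ x hxQ)⟩ = ρ ⟨u, hQN huQ⟩ * ρ ⟨u, hQN huQ⟩ := by
      have c0 : Commute (ρ ⟨x, hQN hxQ⟩) (ρ ⟨y, hQN hyQ⟩) := hρc _ hxQ _ hyQ
      have key : ∀ w : ↥M, (w : G) = avg x → ρ ⟨avg x, hQN (havgQ x hxQ)⟩ = ρ w := fun w hw =>
        congrArg ρ (Subtype.ext hw.symm)
      rw [show (⟨u, hQN huQ⟩ : ↥M) = ⟨x, hQN hxQ⟩ * ⟨y, hQN hyQ⟩ from rfl, map_mul]
      rcases havg with e | e | e
      · rw [key (⟨x, hQN hxQ⟩ * ⟨x, hQN hxQ⟩ * (⟨y, hQN hyQ⟩ * ⟨y, hQN hyQ⟩)) e.symm, map_mul, map_mul, map_mul]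
        exact c0.mul_mul_mul_comm _ _
      · rw [key (⟨x, hQN hxQ⟩ * ⟨y, hQN hyQ⟩ * (⟨x, hQN hxQ⟩ * ⟨y, hQN hyQ⟩)) e.symm, map_mul, map_mul]
      · rw [key (⟨x, hQN hxQ⟩ * ⟨y, hQN hyQ⟩ * (⟨y, hQN hyQ⟩ * ⟨x, hQN hxQ⟩)) e.symm, map_mul, map_mul, map_mul,
          c0.eq]
    rw [hρu2]
    exact mul_mem hρu hρu
  rintro c ⟨hcQ', hcA⟩
  have hψc : ψ ⟨c, hcQ'⟩ ∈ ZN := by
    have hle := h.gen (((ZN.comap ψ)).map Q.subtype) fun a ha ha1 x hx => ⟨⟨x, (h.le a ha ha1 hx).1⟩, hψF a ha ha1 x hx, rfl⟩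
    obtain ⟨c', hc', e⟩ := hle hcQ'
    rwa [show (⟨c, hcQ'⟩ : ↥Q) = c' from Subtype.ext e.symm]
  have hcc : ∀ e ∈ A, cj e c = c := fun e he => mul_inv_eq_iff_eq_mul.2 (mem_centralizer_iff.1 hcA e he)
  have hc4 : ψ ⟨c, hcQ'⟩ = ρ ⟨c, hQN hcQ'⟩ ^ 4 := by
    show ρ ⟨avg c, _⟩ = _
    rw [← map_pow]
    refine congrArg ρ (Subtype.ext ?_)
    show c * cj a₀ c * (cj b c * cj (a₀ * b) c) = c ^ 4
    rw [hcc _ ha₀, hcc _ hb, hcc _ hab]
    simp only [pow_succ, pow_zero, one_mul, mul_assoc]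
  rw [hc4] at hψc
  have hoc : Odd (orderOf (ρ ⟨c, hQN hcQ'⟩)) :=
    Odd.of_dvd_nat hQ ((orderOf_map_dvd ρ _).trans (by rw [← Subgroup.orderOf_coe]; exact Q.orderOf_dvd_natCard hcQ'))
  obtain ⟨m, hm⟩ := exists_pow_eq_self_of_coprime (n := 4) (x := ρ ⟨c, hQN hcQ'⟩)
    ((Nat.coprime_two_left.2 hoc).pow_left 2)
  have hmem : ρ ⟨c, hQN hcQ'⟩ ∈ ZN := by
    have h15 := pow_mem hψc m
    rwa [hm] at h15
  obtain ⟨⟨z, hzM⟩, hz, hzc⟩ := hmem
  have hzZ : z ∈ Z₀ := mem_subgroupOf.1 hz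
  have hn : z⁻¹ * c ∈ N := by
    have h12 := QuotientGroup.eq.1 hzc
    exact mem_subgroupOf.1 h12
  have h13 := hfix0 a₀ ha₀ ha₀1 ⟨habel hn,
    (centralizer (A : Set G)).mul_mem ((centralizer (A : Set G)).inv_mem hzZ.2) hcA⟩
  have h14 := (F a₀).mul_mem hzZ.1 h13.1
  rwa [mul_inv_cancel_left] at h14

end Cfsg.Agent.Fus.Gold.FourKey
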