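import Cfsg.Agent.Lib.Fus.Goldschmidt.SingleLocal
import Cfsg.Agent.Lib.Fus.Goldschmidt.Bender
import Cfsg.Agent.Lib.Fus.Goldschmidt.FourModels2
import Cfsg.Agent.Lib.Fus.Goldschmidt.FourKey

/-!
# The centraliser of an involution modulo its core when `A` has order four

The image of `A` has order four and is central in a Sylow subgroup `T`.  A component it does not centralise
contains it, is unique, and has as Sylow subgroup that image or one of `PSU(3, 4)`.  If the first case does not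
occur then a group of odd order invariant under the centraliser of an element of that image, and centralised
by that element, is trivial.
-/

set_option autoImplicit false
set_option linter.style.haveILetI false
set_option linter.unusedSectionVars false

namespace Cfsg.Agent.Fus.Gold.FourLocal

open Subgroup Cfsg.Agent.Grp
open scoped commutatorElement

universe u

variable {X : Type u} [Group X] [Finite X]

/-- The image of `A` in `C(y)/O(C(y))`. -/
structure Loc (X : Type u) [Group X] [Finite X] (Ab : Subgroup X) (T : Sylow 2 X) : Prop where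
  loc : LocalHyp X Ab
  le : Ab ≤ T
  central : ∀ t ∈ (T : Subgroup X), ∀ a ∈ Ab, t * a = a * t
  card : Nat.card Ab = 4

namespace Loc

variable {Ab : Subgroup X} {T : Sylow 2 X} (l : Loc X Ab T)
include l

theorem sup_eq {K : Subgroup X} (hK : Cfsg.IsComponent K) :
    (Ab ⊓ centralizer (K : Set X)) ⊔ (Ab ⊓ K) = Ab :=
  sup_eq_of_twist l.loc l.le hK fun t ht _ a ha => by
    rw [l.central t ht a ha, mul_inv_cancel_right, mul_inv_cancel]
    exact one_mem _

/-- A component which `Ab` does not centralise contains it, and no element of it but `1` centralises it. -/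
theorem moved_facts {K : Subgroup X} (hK : Cfsg.IsComponent K) (hm : ¬ Ab ≤ centralizer (K : Set X)) :
    Ab ≤ K ∧ Ab ⊓ centralizer (K : Set X) = ⊥ := by
  classical
  haveI : Fact (Nat.Prime 2) := ⟨Nat.prime_two⟩
  suffices h1 : Ab ⊓ centralizer (K : Set X) = ⊥ by
    refine ⟨?_, h1⟩
    have h2 := l.sup_eq hK
    rw [h1, bot_sup_eq] at h2
    exact inf_eq_left.1 h2
  obtain ⟨P, hP⟩ := exists_sylow_quotient l.loc l.le hK
  obtain ⟨v, hv, hvC⟩ : ∃ v ∈ Ab ⊓ K, v ∉ centralizer (K : Set X) := by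
    by_contra hh
    push Not at hh
    refine hm ?_
    conv_lhs => rw [← l.sup_eq hK]
    exact sup_le inf_le_right hh
  set u : ↥K ⧸ center ↥K := QuotientGroup.mk' (center ↥K) ⟨v, hv.2⟩ with hu
  have hu1 : u ≠ 1 := fun e => hvC (by
    have h3 := (mk_eq_mk hK (a := (1 : ↥K)) (b := ⟨v, hv.2⟩)).1 e.symm
    rwa [OneMemClass.coe_one, inv_one, one_mul] at h3)
  have hord : orderOf u = 2 := orderOf_eq_prime (by
    rw [hu, ← map_pow, show (⟨v, hv.2⟩ : ↥K) ^ 2 = 1 from Subtype.ext (l.loc.elem.2 v hv.1), map_one]) hu1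
  by_contra hne
  obtain ⟨⟨d, hd⟩, hd1⟩ := (Ab ⊓ centralizer (K : Set X)).ne_bot_iff_exists_ne_one.1 hne
  have hd1' : d ≠ 1 := fun e => hd1 (Subtype.ext e)
  -- the image of `Ab ∩ K` is `⟨u⟩`
  have himg : ∀ w (hw : w ∈ Ab ⊓ K), QuotientGroup.mk' (center ↥K) ⟨w, hw.2⟩ = 1 ∨
      QuotientGroup.mk' (center ↥K) ⟨w, hw.2⟩ = u := by
    intro w hw
    have hmk : ∀ z : ↥K, (z : X) ∈ centralizer (K : Set X) → QuotientGroup.mk' (center ↥K) z = 1 := fun z hz =>
      ((mk_eq_mk hK (a := (1 : ↥K)) (b := z)).2 (by rwa [OneMemClass.coe_one, inv_one, one_mul])).symm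
    have hva : v ≠ 1 := fun e => hvC (e ▸ one_mem _)
    have hdv : v ≠ d := fun e => hvC (e ▸ hd.2)
    rcases FourKey.mem_four l.card hd.1 hv.1 hd1' hva hdv (fun e => hdv (by
        rw [eq_inv_of_mul_eq_one_right e, l.loc.inv hd.1])) hw.1 with e | e | e | e
    · exact Or.inl (hmk _ (show w ∈ _ from e ▸ one_mem _))
    · exact Or.inl (hmk _ (show w ∈ _ from e ▸ hd.2))
    · right
      rw [hu]
      exact congrArg _ (Subtype.ext e)
    · right
      refine ((mk_eq_mk hK).2 ?_).symm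
      show v⁻¹ * w ∈ centralizer (K : Set X)
      rw [e, l.loc.comm hd.1 hv.1, inv_mul_cancel_left]
      exact hd.2
  refine isolated_false hK.2.2 (not_comm_quotient hK) P hord ((hP _).2 (l.le hv.1)) fun g hg => ?_
  obtain ⟨g, rfl⟩ := QuotientGroup.mk'_surjective (center ↥K) g
  rw [hu, ← map_inv, ← map_mul, ← map_mul] at hg ⊢
  have hmem := (hP _).1 hg
  have hw : ((g * ⟨v, hv.2⟩ * g⁻¹ : ↥K) : X) ∈ Ab ⊓ K :=
    ⟨l.loc.closed _ T.isPGroup' l.le v hv.1 g hmem, SetLike.coe_mem _⟩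
  refine (himg _ hw).resolve_left fun e => hu1 ?_
  have e' : QuotientGroup.mk' (center ↥K) (g * ⟨v, hv.2⟩ * g⁻¹) = 1 := e
  rw [map_mul, map_mul, map_inv, mul_inv_eq_one, mul_eq_left] at e'
  exact e'

theorem unique {K K' : Subgroup X} (hK : Cfsg.IsComponent K) (hK' : Cfsg.IsComponent K')
    (hm : ¬ Ab ≤ centralizer (K : Set X)) (hm' : ¬ Ab ≤ centralizer (K' : Set X)) : K = K' := by
  by_contra hne
  exact hm ((l.moved_facts hK' hm').1.trans (IsComponent.commute hK' hK (Ne.symm hne)))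

theorem normalizes {K : Subgroup X} (hK : Cfsg.IsComponent K) (hm : ¬ Ab ≤ centralizer (K : Set X)) {x : X}
    (hx : ∃ a ∈ Ab, a ∉ centralizer (K : Set X) ∧ x * a = a * x) : x ∈ normalizer (K : Set X) := by
  obtain ⟨a, ha, haK, hxa⟩ := hx
  rw [mem_normalizer_iff_smul]
  refine l.unique (IsComponent.conj hK x) hK (fun hle => haK (mem_centralizer_iff.2 fun k hk => ?_)) hm
  have h1 := mem_centralizer_iff.1 (hle ha) (x * k * x⁻¹) (by
    rw [← map_conj_eq_smul]; exact ⟨k, hk, rfl⟩)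
  refine (MulAut.conj x).injective ?_
  show x * (k * a) * x⁻¹ = x * (a * k) * x⁻¹
  have hxa' : x * a * x⁻¹ = a := by rw [hxa, mul_inv_cancel_right]
  calc x * (k * a) * x⁻¹ = x * k * x⁻¹ * (x * a * x⁻¹) := by group
    _ = (x * a * x⁻¹) * (x * k * x⁻¹) := by rw [hxa', h1]
    _ = _ := by group

theorem data {K : Subgroup X} (hK : Cfsg.IsComponent K) (hm : ¬ Ab ≤ centralizer (K : Set X)) :
    Single.Data X Ab T K := by
  obtain ⟨hle, hbot⟩ := l.moved_facts hK hm
  obtain ⟨a, ha, haK⟩ := SetLike.not_le_iff_exists.1 hm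
  refine ⟨l.loc, l.le, hK, l.central, fun t ht => l.normalizes hK hm ⟨a, ha, haK, l.central t ht a ha⟩, ?_, ?_⟩
  · rw [inf_eq_left.2 hle, l.card]
  · rwa [inf_eq_left.2 hle]

/-- A group of odd order centralised by a nontrivial `t ∈ Ab` and invariant under its centraliser is trivial,
unless some component has Sylow subgroup `Ab`. -/
theorem eq_bot_of_invariant (hno : ∀ K : Subgroup X, Cfsg.IsComponent K → ¬ Ab ≤ centralizer (K : Set X) →
      (T : Subgroup X) ⊓ K ≠ Ab ⊓ K) {t : X} (ht : t ∈ Ab) (ht1 : t ≠ 1) {W : Subgroup X}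
    (hW : Odd (Nat.card W)) (hWt : W ≤ centralizer ({t} : Set X))
    (hWn : centralizer ({t} : Set X) ≤ normalizer (W : Set X)) : W = ⊥ := by
  classical
  haveI : Fact (Nat.Prime 2) := ⟨Nat.prime_two⟩
  have hWc : (Nat.card W).Coprime 2 := (Nat.coprime_two_left.2 hW).symm
  have hWs : Group.IsSolvable W := Invol.Bender.solvable_of_odd hW
  -- the components
  have hcomp : ∀ K : Subgroup X, Cfsg.IsComponent K → W ≤ centralizer (K : Set X) := by
    intro K hK
    by_cases htK : t ∈ centralizer (K : Set X)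
    · have hKt : K ≤ centralizer ({t} : Set X) := fun k hk =>
        mem_centralizer_singleton_iff.2 (mem_centralizer_iff.1 htK k hk)
      have h1 := component_centralizes_solvable hK hWs (hKt.trans hWn)
      rw [commutator_comm] at h1
      exact commutator_eq_bot_iff_le_centralizer.1 h1
    have hm : ¬ Ab ≤ centralizer (K : Set X) := fun h => htK (h ht)
    have d := l.data hK hm
    have hAK := (l.moved_facts hK hm).1
    have hunit : Single.UnitSylow ((T : Subgroup X) ⊓ K) (Ab ⊓ K) K := d.four_or_unit.resolve_left (hno K hK hm)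
    obtain ⟨P, Eh, hP, hEh, hEP, h4, hinv, hSE, -⟩ := d.quotient_facts
    have hPE : (P : Subgroup (↥K ⧸ center ↥K)) ≠ Eh := by
      intro e
      have hker : center ↥K = ⊥ := by
        refine (eq_bot_iff_forall _).2 fun z hz => ?_
        have hz' : (z : X) ∈ centralizer (K : Set X) := by
          rw [center_eq hK, mem_subgroupOf] at hz; exact hz.2
        have hzT : (z : X) ∈ (T : Subgroup X) := center_le_sylow l.loc l.le hK ⟨z.2, hz'⟩
        obtain ⟨x, hxK, -, -, -, hfix⟩ := hunit.five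
        have hzE : (z : X) ∈ Ab ⊓ K := hfix z ⟨hzT, z.2⟩ (by
          rw [mem_centralizer_iff.1 hz' x hxK, mul_inv_cancel_right, inv_mul_cancel]
          exact one_mem _)
        exact Subtype.ext (mem_bot.1 (d.free ▸ (⟨hzE, hz'⟩ : (z : X) ∈ Ab ⊓ K ⊓ centralizer (K : Set X))))
      have hinj : Function.Injective (QuotientGroup.mk' (center ↥K)) := by
        rw [← MonoidHom.ker_eq_bot_iff, QuotientGroup.ker_mk', hker]
      refine hno K hK hm (le_antisymm (fun y hy => ?_) (inf_le_inf_right _ l.le))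
      have h6 : QuotientGroup.mk' (center ↥K) ⟨y, hy.2⟩ ∈ Eh := e ▸ (hP _).2 hy.1
      rw [hEh] at h6
      obtain ⟨w, hw, hwy⟩ := h6
      have e7 : (w : X) = y := congrArg Subtype.val (hinj hwy)
      exact e7 ▸ mem_subgroupOf.1 hw
    obtain ⟨H, hH⟩ := hSE.resolve_left hPE
    haveI := hK.2.2
    have hnc := not_comm_quotient hK
    have hZ : center ↥K = ⊥ := center_eq_bot_of_unitary hK.2 d.core_eq_bot P hH Eh hEP hinv h4 hPE
    obtain ⟨F, i1, i2, hF, ⟨e⟩⟩ := (four_or_psu hnc P hH Eh hEP hinv h4).resolve_left hPE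
    let eK : ↥K ≃* Cfsg.PSU 3 F 4 :=
      ((QuotientGroup.quotientMulEquivOfEq hZ).trans QuotientGroup.quotientBot).symm.trans e
    haveI : IsSimpleGroup ↥K :=
      ((QuotientGroup.quotientMulEquivOfEq hZ).trans QuotientGroup.quotientBot).symm.isSimpleGroup
    have hncK : ¬ IsMulCommutative ↥K := fun hc => hnc ⟨⟨fun a b => by
      obtain ⟨a, rfl⟩ := QuotientGroup.mk'_surjective (center ↥K) a
      obtain ⟨b, rfl⟩ := QuotientGroup.mk'_surjective (center ↥K) b
      rw [← map_mul, ← map_mul, hc.is_comm.comm a b]⟩⟩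
    obtain ⟨P₀, hP₀⟩ := exists_sylow_component (T := T) hK
    obtain ⟨HK, hHK⟩ := exists_se_of_psu (q := 4) hF (by decide) le_rfl eK
    have htK' : t ∈ K := hAK ht
    have hP₀W : ∀ y : ↥K, y ∈ (P₀ : Subgroup ↥K) → (y : X) ∈ normalizer (W : Set X) := fun y hy =>
      hWn (mem_centralizer_singleton_iff.2 (l.central y (by rw [hP₀, mem_subgroupOf] at hy; exact hy) t ht))
    -- an element of odd order fixing the Sylow subgroup is trivial
    have hfixall : ∀ x ∈ W, ∀ hxK : x ∈ normalizer (K : Set X),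
        (∀ y ∈ (P₀ : Subgroup ↥K), x * (y : X) * x⁻¹ = y) → x ∈ centralizer (K : Set X) := by
      intro x hx hxK hfix
      set f := K.normalizerMonoidHom ⟨x, hxK⟩
      have hf : Odd (orderOf f) := Odd.of_dvd_nat hW ((orderOf_map_dvd _ _).trans
        (by rw [← Subgroup.orderOf_coe]; exact W.orderOf_dvd_natCard hx))
      have hf1 : f = 1 := eq_one_of_fix_sylow hF eK P₀ f hf fun y hy => Subtype.ext (hfix y hy)
      refine mem_centralizer_iff.2 fun k hk => ?_
      have h7 := congrArg (fun φ : MulAut ↥K => ((φ ⟨k, hk⟩ : ↥K) : X)) hf1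
      have h8 : x * k * x⁻¹ = k := h7
      exact (mul_inv_eq_iff_eq_mul.1 h8).symm
    have hWP : ∀ w ∈ W, ∀ y : ↥K, y ∈ (P₀ : Subgroup ↥K) → (y : X) * w * (y : X)⁻¹ ∈ W := fun w hw y hy =>
      (mem_normalizer_iff.1 (hP₀W y hy) w).1 hw
    have hU : ∀ u ∈ W, u ∈ K → u = 1 := by
      intro u hu huK
      have hucen : (⟨u, huK⟩ : ↥K) ∈ centralizer ({(⟨t, htK'⟩ : ↥K)} : Set ↥K) :=
        mem_centralizer_singleton_iff.2 (Subtype.ext (mem_centralizer_singleton_iff.1 (hWt hu)))
      have htP : (⟨t, htK'⟩ : ↥K) ∈ (P₀ : Subgroup ↥K) := by rw [hP₀, mem_subgroupOf]; exact l.le ht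
      have hord : orderOf (⟨t, htK'⟩ : ↥K) = 2 := orderOf_eq_prime (Subtype.ext (l.loc.elem.2 t ht))
        fun e => ht1 (congrArg Subtype.val e)
      have hun := centralizer_involution_le hncK hHK hord P₀ htP hucen
      have hfix : ∀ y ∈ (P₀ : Subgroup ↥K), u * (y : X) * u⁻¹ = y := by
        intro y hy
        have h9 : u * (y : X) * u⁻¹ * (y : X)⁻¹ ∈ W := by
          rw [show u * (y : X) * u⁻¹ * (y : X)⁻¹ = u * ((y : X) * u⁻¹ * (y : X)⁻¹) by group]
          exact W.mul_mem hu (hWP _ (W.inv_mem hu) y hy)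
        have h10 : u * (y : X) * u⁻¹ * (y : X)⁻¹ ∈ ((P₀ : Subgroup ↥K).map K.subtype) :=
          ⟨⟨u, huK⟩ * y * (⟨u, huK⟩ : ↥K)⁻¹ * y⁻¹,
            mul_mem ((mem_normalizer_iff.1 hun y).1 hy) (inv_mem hy), rfl⟩
        have h11 : W ⊓ (P₀ : Subgroup ↥K).map K.subtype = ⊥ := Grp.inf_eq_bot_of_coprime (by
          obtain ⟨m, hm⟩ := IsPGroup.iff_card.1 (P₀.isPGroup'.map K.subtype)
          rw [hm]; exact hWc.pow_right m)
        exact mul_inv_eq_one.1 (mem_bot.1 (h11 ▸ (⟨h9, h10⟩ : _ ∈ W ⊓ (P₀ : Subgroup ↥K).map K.subtype)))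
      have h12 := hfixall u hu (Subgroup.le_normalizer huK) hfix
      have h13 : (⟨u, huK⟩ : ↥K) ∈ center ↥K := by
        rw [center_eq hK, mem_subgroupOf]; exact ⟨huK, h12⟩
      rw [hZ, mem_bot] at h13
      exact congrArg Subtype.val h13
    intro x hx
    have hxK : x ∈ normalizer (K : Set X) :=
      l.normalizes hK hm ⟨t, ht, htK, mem_centralizer_singleton_iff.1 (hWt hx)⟩
    refine hfixall x hx hxK fun y hy => ?_
    refine mul_inv_eq_one.1 (hU _ ?_ ?_)
    · rw [show x * (y : X) * x⁻¹ * (y : X)⁻¹ = x * ((y : X) * x⁻¹ * (y : X)⁻¹) by group]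
      exact W.mul_mem hx (hWP _ (W.inv_mem hx) y hy)
    · exact K.mul_mem ((mem_normalizer_iff.1 hxK y).1 y.2) (K.inv_mem y.2)
  -- `O₂`
  set O := Cfsg.pCore 2 X
  haveI hOn : O.Normal := Grp.pCore_isNormal
  have hO : IsPGroup 2 O := Grp.pCore_isPGroup
  have htW : zpowers t ≤ centralizer (W : Set X) := zpowers_le.2 (mem_centralizer_iff.2 fun w hw =>
    mem_centralizer_singleton_iff.1 (hWt hw))
  have ht2 : IsPGroup 2 (zpowers t) := IsPGroup.of_card (n := 1) (by
    rw [Nat.card_zpowers, orderOf_eq_prime (l.loc.elem.2 t ht) ht1, pow_one])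
  have hWO : W ≤ centralizer (O : Set X) := by
    refine thompson_PQ (zpowers t) W ht2 hWc htW O hO (le_top.trans (normalizer_eq_top (H := O)).ge)
      (le_top.trans (normalizer_eq_top (H := O)).ge) fun o ho => mem_centralizer_iff.2 fun w hw => ?_
    have hot : o ∈ centralizer ({t} : Set X) := by
      rw [centralizer_singleton_eq_zpowers]; exact ho.2
    have h1 : w * o * w⁻¹ * o⁻¹ ∈ W ⊓ O := by
      refine ⟨?_, O.mul_mem (hOn.conj_mem o ho.1 w) (O.inv_mem ho.1)⟩
      rw [show w * o * w⁻¹ * o⁻¹ = w * (o * w⁻¹ * o⁻¹) by group]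
      exact W.mul_mem hw ((mem_normalizer_iff.1 (hWn hot) _).1 (W.inv_mem hw))
    have hbot : W ⊓ O = ⊥ := Grp.inf_eq_bot_of_coprime (by
      obtain ⟨m, hm⟩ := IsPGroup.iff_card.1 hO
      rw [hm]; exact hWc.pow_right m)
    rw [hbot, mem_bot] at h1
    exact mul_inv_eq_iff_eq_mul.1 (mul_inv_eq_one.1 h1)
  have hle : W ≤ centralizer (Cfsg.generalizedFittingSubgroup X : Set X) := by
    rw [le_centralizer_iff, Cfsg.generalizedFittingSubgroup]
    refine sup_le (sSup_le fun K hK => le_centralizer_iff.1 (hcomp K hK)) ?_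
    rw [fitting_eq_pCore (p := 2) l.loc.core]
    exact le_centralizer_iff.1 hWO
  have h2 := hle.trans centralizer_gfitting_le_fitting
  rw [fitting_eq_pCore (p := 2) l.loc.core] at h2
  rw [← Subgroup.card_eq_one]
  obtain ⟨m, hm⟩ := IsPGroup.iff_card.1 hO
  exact Nat.eq_one_of_dvd_coprimes (hWc.pow_right m) dvd_rfl (hm ▸ card_dvd_of_le h2)

end Loc

end Cfsg.Agent.Fus.Gold.FourLocal
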