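import Cfsg.Prelude.Def_Involutions
import Cfsg.Agent.Lib.Invol.CentRank.Models
import Cfsg.Agent.Lib.Local.CoreConsumers.SimpleBorel
import Cfsg.Agent.Lib.Recog.SU3Sylow
import Cfsg.Agent.Lib.Block.CpQuot.Basic
import Cfsg.Agent.S2089
import Cfsg.Agent.S2798

/-!
# Simple groups with a strongly embedded subgroup and three involutions in a Sylow 2-subgroup

The Sylow 2-subgroup `T` is a four-group, or the group is `PSU(3, 4)`: then `T` has order 64, its squares
are its involutions with `1`, and an element of order five fixes exactly these cosets.  A quasisimple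
central extension of `PSU(3, 4)` has trivial centre.
-/

set_option autoImplicit false
set_option linter.style.haveILetI false
set_option linter.unusedSectionVars false

namespace Cfsg.Agent.Fus.Gold

open Subgroup
open Cfsg.Agent.Invol Cfsg.Agent.Recog.SU3Two

universe u

section Model

variable {F : Type*} [Field F] [Fintype F] [CharP F 2] [hF : Fact (Fintype.card F = 4 ^ 2)]

/-- Squares in the model square to `1`. -/
theorem ut_sq_sq (u : UT F 4) : u * u * (u * u) = 1 := by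
  have ha : (u * u).a = 0 := by rw [UT.mul_a, CharTwo.add_self_eq_zero]
  refine UT.ext ?_ ?_
  · rw [UT.mul_a, ha, add_zero]; rfl
  · rw [UT.mul_b, ha, CharTwo.add_self_eq_zero, mul_zero, add_zero]; rfl

/-- Every involution of the model is a square. -/
theorem ut_sqrt (u : UT F 4) (hu : u * u = 1) : ∃ v : UT F 4, v * v = u := by
  have h1 := congrArg UT.b hu
  rw [UT.mul_b, CharTwo.add_self_eq_zero, zero_add, UT.one_b] at h1
  have ha : u.a = 0 := by
    rcases mul_eq_zero.1 h1 with h | h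
    · exact pow_eq_zero_iff (n := 4) (by norm_num) |>.1 h
    · exact h
  have hb : u.b ^ 4 = u.b := by
    have h := u.eq
    rw [ha, zero_mul, CharTwo.add_eq_zero] at h
    exact h.symm
  obtain ⟨v, hv⟩ := UT.exists_mk (q := 4) (u.b ^ 2)
  refine ⟨v, UT.ext ?_ ?_⟩
  · rw [UT.mul_a, CharTwo.add_self_eq_zero, ha]
  · rw [UT.mul_b, CharTwo.add_self_eq_zero, zero_add, hv]
    linear_combination (u.b ^ 6 + u.b ^ 3 + 1) * hb

end Model

/-- An element of order five normalising a group of order 64 and centralising a subgroup `E` of order four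
containing all its elements of order two centralises no further coset of `E`, or the whole group. -/
theorem fixed_cosets {L : Type u} [Group L] [Finite L] (T E : Subgroup L) (hT : Nat.card T = 64) (hET : E ≤ T)
    (h4 : Nat.card E = 4) (hE2 : ∀ z ∈ E, z * z = 1) (x : L) (h5 : x ^ 5 = 1)
    (hN : ∀ t ∈ T, x * t * x⁻¹ ∈ T) (hE : ∀ z ∈ E, x * z * x⁻¹ = z) (hne : ∃ t ∈ T, x * t * x⁻¹ ≠ t) :
    x ∈ normalizer (T : Set L) ∧ ∀ t ∈ T, t⁻¹ * (x * t * x⁻¹) ∈ E → t ∈ E := by
  classical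
  haveI : Fact (Nat.Prime 5) := ⟨by norm_num⟩
  haveI : Fact (Nat.Prime 2) := ⟨Nat.prime_two⟩
  haveI : Fintype L := Fintype.ofFinite _
  have hxn : x ∈ normalizer (T : Set L) := by
    have heq : T.map (MulAut.conj x).toMonoidHom = T := eq_of_le_of_card_ge
      (by rintro _ ⟨t, ht, rfl⟩; exact hN t ht)
      (card_map_of_injective (f := (MulAut.conj x).toMonoidHom) (MulAut.conj x).injective).ge
    refine mem_normalizer_iff.2 fun t => ⟨hN t, fun ht => ?_⟩
    rw [← heq] at ht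
    obtain ⟨s, hs, hst⟩ := ht
    obtain rfl : s = t := (MulAut.conj x).injective hst
    exact hs
  let f : Equiv.Perm L := (MulAut.conj x).toEquiv
  let σ : Equiv.Perm ↥T := f.subtypePerm fun t => (mem_normalizer_iff.1 hxn t).symm
  have hσ : σ ^ 5 ^ 1 = 1 := by
    refine Equiv.ext fun t => Subtype.ext ?_
    have hi : ∀ (i : ℕ) (t : ↥T), (((σ ^ i) t : ↥T) : L) = x ^ i * (t : L) * (x ^ i)⁻¹ := by
      intro i t
      induction i with
      | zero => simp
      | succ i ih =>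
        rw [pow_succ', Equiv.Perm.mul_apply, show ∀ s : ↥T, ((σ s : ↥T) : L) = x * (s : L) * x⁻¹ from fun s => rfl,
          ih, pow_succ']
        group
    rw [pow_one, hi, h5, one_mul, inv_one, mul_one, Equiv.Perm.one_apply]
  have hmod := Equiv.Perm.card_compl_support_modEq hσ
  set C := T ⊓ centralizer ({x} : Set L) with hC
  have hmemC : ∀ t, t ∈ C ↔ t ∈ T ∧ x * t * x⁻¹ = t := fun t => by
    rw [hC, mem_inf, mem_centralizer_singleton_iff, mul_inv_eq_iff_eq_mul]
    exact and_congr_right fun _ => eq_comm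
  have hcard : σ.supportᶜ.card = Nat.card C := by
    rw [← Nat.card_eq_finsetCard]
    refine Nat.card_congr ((Equiv.subtypeEquivRight fun t : ↥T => ?_).trans
      (Equiv.subtypeSubtypeEquivSubtype (q := fun t => t ∈ C) fun h => ((hmemC _).1 h).1))
    rw [Finset.mem_compl, Equiv.Perm.notMem_support, hmemC, Subtype.ext_iff]
    exact ⟨fun h => ⟨t.2, h⟩, fun h => h.2⟩
  rw [hcard, ← Nat.card_eq_fintype_card, hT] at hmod
  obtain ⟨k, hk, hkC⟩ := (Nat.dvd_prime_pow Nat.prime_two).1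
    (show Nat.card C ∣ 2 ^ 6 from (card_dvd_of_le inf_le_left).trans (by rw [hT]; norm_num))
  have hEC : E ≤ C := fun z hz => (hmemC z).2 ⟨hET hz, hE z hz⟩
  have hCT : C ≠ T := fun h => by
    obtain ⟨t, ht, htx⟩ := hne
    exact htx ((hmemC t).1 (by rwa [h])).2
  have hk2 : k = 2 := by
    have h2 := card_le_of_le hEC
    rw [h4, hkC] at h2
    have h6 : k ≠ 6 := fun h => hCT (eq_of_le_of_card_ge inf_le_left (by rw [hT, hkC, h]; norm_num))
    rw [hkC] at hmod
    interval_cases k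
    all_goals first
      | rfl
      | exact absurd rfl h6
      | omega
      | exact absurd hmod (by decide)
  have hCE : C = E := (eq_of_le_of_card_ge hEC (by rw [h4, hkC, hk2]; norm_num)).symm
  refine ⟨hxn, fun t ht hte => ?_⟩
  set e := t⁻¹ * (x * t * x⁻¹) with he
  have hi : ∀ i : ℕ, x ^ i * t * (x ^ i)⁻¹ = t * e ^ i := by
    intro i
    induction i with
    | zero => simp
    | succ i ih =>
      have hc : x * e ^ i * x⁻¹ = e ^ i := by rw [← conj_pow, hE e hte]
      calc x ^ (i + 1) * t * (x ^ (i + 1))⁻¹ = x * (x ^ i * t * (x ^ i)⁻¹) * x⁻¹ := by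
            rw [pow_succ']; group
        _ = (x * t * x⁻¹) * (x * e ^ i * x⁻¹) := by rw [ih]; group
        _ = t * e * e ^ i := by rw [hc, he, mul_inv_cancel_left]
        _ = t * e ^ (i + 1) := by rw [pow_succ', mul_assoc]
  have h1 := hi 5
  rw [h5, one_mul, inv_one, mul_one, left_eq_mul] at h1
  have he1 : e = 1 := by
    rwa [show e ^ 5 = e by rw [pow_succ, show e ^ 4 = (e ^ 2) ^ 2 by rw [← pow_mul], pow_two e, hE2 e hte, one_pow, one_mul]]
      at h1
  rw [← hCE, hmemC]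
  exact ⟨ht, (inv_mul_eq_one.1 (he ▸ he1)).symm⟩

/-- A simple group with a strongly embedded subgroup and three involutions in a Sylow 2-subgroup has a
four-group as Sylow 2-subgroup or is `PSU(3, 4)`. -/
theorem four_or_psu {L : Type u} [Group L] [Finite L] [IsSimpleGroup L] (hL : ¬ IsMulCommutative L)
    (T : Sylow 2 L) {H : Subgroup L} (hH : Cfsg.IsStronglyEmbedded H) (E : Subgroup L) (hET : E ≤ (T : Subgroup L))
    (hinv : ∀ t ∈ (T : Subgroup L), t * t = 1 ↔ t ∈ E) (h4 : Nat.card E = 4) :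
    (T : Subgroup L) = E ∨
      ∃ (F : Type) (_ : Field F) (_ : Fintype F), Fintype.card F = 4 ^ 2 ∧ Nonempty (L ≃* Cfsg.PSU 3 F 4) := by
  classical
  haveI : Fact (Nat.Prime 2) := ⟨Nat.prime_two⟩
  have hsp : Cfsg.IsStronglyPEmbedded 2 H := isStronglyPEmbedded_iff.2
    ⟨even_iff_two_dvd.1 hH.2.1, hH.1, fun g hg hd =>
      Nat.not_even_iff_odd.2 (hH.2.2 g hg) (even_iff_two_dvd.2 hd)⟩
  have h2 : 2 ∣ Nat.card L := (even_iff_two_dvd.1 hH.2.1).trans (card_subgroup_dvd_card H)
  have hn : {x | x ∈ (T : Subgroup L) ∧ x * x = 1}.ncard = 4 := by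
    rw [← h4]
    refine congrArg Set.ncard (Set.ext fun x => ?_)
    exact ⟨fun hx => (hinv x hx.1).1 hx.2, fun hx => ⟨hET hx, (hinv x (hET hx)).2 hx⟩⟩
  obtain ⟨hcases, -⟩ := CoreConsumers.simple_borel hL h2 (S2798.result _ hsp)
  rcases hcases with
    ⟨K, i1, i2, n, hn2, hq, ⟨e⟩⟩ | ⟨K, i1, i2, m, hm, hq, ⟨e⟩⟩ | ⟨K, i1, i2, n, hn2, hq, ⟨e⟩⟩
  · left
    haveI : CharP K 2 := Invol.Bender.Cor.charP_two_of_card hq
    obtain ⟨P₀, hP₀, hW⟩ := CentRank.sylow_sl (F := K)
    have e' : L ≃* Matrix.SpecialLinearGroup (Fin 2) K := e.trans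
      ((QuotientGroup.quotientMulEquivOfEq (Fus.CTSimple.center_eq_bot_of_two CharTwo.two_eq_zero)).trans
        QuotientGroup.quotientBot)
    obtain ⟨ψ, hψ⟩ := CentRank.exists_iso_sylow e'.symm P₀ T
    rw [← hψ, CentRank.ncard_sq_one_map, hW] at hn
    refine (eq_of_le_of_card_ge hET (le_of_eq ?_)).symm
    rw [← hψ, card_map_of_injective (f := ψ.toMonoidHom) ψ.injective, hP₀, hn, h4]
  · exfalso
    have hZ : Suz.SzField K m := ⟨hm, hq⟩
    obtain ⟨P₀, hW⟩ := CentRank.sylow_sz hZ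
    obtain ⟨ψ, hψ⟩ := CentRank.exists_iso_sylow ((Suz.szEquiv hZ).trans e.symm) P₀ T
    rw [← hψ, CentRank.ncard_sq_one_map] at hn
    omega
  · right
    have heven : Even (2 ^ n) := Nat.even_pow.2 ⟨even_two, by omega⟩
    obtain ⟨P₀, hW, -⟩ := CentRank.sylow_psu hq heven (Invol.Bender.Cor.four_le_two_pow hn2)
    obtain ⟨ψ, hψ⟩ := CentRank.exists_iso_sylow e.symm P₀ T
    rw [← hψ, CentRank.ncard_sq_one_map] at hn
    have hn4 : 2 ^ n = 4 := le_antisymm (by omega) (Invol.Bender.Cor.four_le_two_pow hn2)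
    rw [hn4] at hq e
    exact ⟨K, i1, i2, hq, ⟨e⟩⟩

/-- In a simple group with a strongly embedded subgroup and three involutions in a Sylow 2-subgroup `T`
which is not a four-group, `T` has the structure of a Sylow 2-subgroup of `PSU(3, 4)`. -/
theorem four_or_unitary {L : Type u} [Group L] [Finite L] [IsSimpleGroup L] (hL : ¬ IsMulCommutative L)
    (T : Sylow 2 L) {H : Subgroup L} (hH : Cfsg.IsStronglyEmbedded H) (E : Subgroup L) (hET : E ≤ (T : Subgroup L))
    (hinv : ∀ t ∈ (T : Subgroup L), t * t = 1 ↔ t ∈ E) (h4 : Nat.card E = 4) :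
    (T : Subgroup L) = E ∨
      (Nat.card ↥(T : Subgroup L) = 64 ∧ (∀ t ∈ (T : Subgroup L), t * t ∈ E) ∧
        (∀ z ∈ E, ∃ t ∈ (T : Subgroup L), t * t = z) ∧
        ∃ x : L, orderOf x = 5 ∧ x ∈ normalizer ((T : Subgroup L) : Set L) ∧
          (∀ z ∈ E, x * z * x⁻¹ = z) ∧ ∀ t ∈ (T : Subgroup L), t⁻¹ * (x * t * x⁻¹) ∈ E → t ∈ E) := by
  classical
  haveI : Fact (Nat.Prime 2) := ⟨Nat.prime_two⟩
  rcases four_or_psu hL T hH E hET hinv h4 with h | ⟨K, i1, i2, hq, ⟨e⟩⟩
  · exact Or.inl h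
  right
  obtain ⟨P₀, -, hd⟩ := CentRank.sylow_psu hq (by decide) le_rfl
  obtain ⟨ψ, hψ⟩ := CentRank.exists_iso_sylow e.symm P₀ T
  obtain ⟨hcard, -, x, h5, hN, hfix, hne⟩ := hψ ▸ (hd rfl).map ψ
  haveI : CharP K 2 := Recog.SU3Two.charP_two (m := 4) (by rw [hq]; norm_num)
  haveI : Fact (Fintype.card K = 4 ^ 2) := ⟨hq⟩
  obtain ⟨a⟩ := Recog.SU3Two.sylow_psu (n := 2) (q := 4) rfl (by norm_num)
    (T.mapSurjective (f := e.toMonoidHom) e.surjective)
  let b : ↥(T : Subgroup L) ≃* UT K 4 :=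
    ((T : Subgroup L).equivMapOfInjective e.toMonoidHom e.injective).trans a.symm
  have hsq : ∀ t ∈ (T : Subgroup L), t * t ∈ E := fun t ht =>
    (hinv _ ((T : Subgroup L).mul_mem ht ht)).1
      (congrArg Subtype.val (b.injective (a₁ := ⟨t, ht⟩ * ⟨t, ht⟩ * (⟨t, ht⟩ * ⟨t, ht⟩)) (a₂ := 1)
        (by rw [map_mul, map_mul, map_one]; exact ut_sq_sq _)))
  have hsqrt : ∀ z ∈ E, ∃ t ∈ (T : Subgroup L), t * t = z := by
    intro z hz
    obtain ⟨v, hv⟩ := ut_sqrt (b ⟨z, hET hz⟩) (by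
      rw [← map_mul, ← map_one b]
      exact congrArg b (Subtype.ext ((hinv z (hET hz)).2 hz)))
    refine ⟨b.symm v, (b.symm v).2, ?_⟩
    have h := congrArg b.symm hv
    rw [map_mul, b.symm_apply_apply] at h
    exact congrArg Subtype.val h
  have hxE : ∀ z ∈ E, x * z * x⁻¹ = z := fun z hz => hfix z (hET hz) ((hinv z (hET hz)).2 hz)
  obtain ⟨hxn, hfp⟩ := fixed_cosets (T : Subgroup L) E hcard hET h4
    (fun z hz => (hinv z (hET hz)).2 hz) x h5 hN hxE hne
  haveI : Fact (Nat.Prime 5) := ⟨by norm_num⟩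
  refine ⟨hcard, hsq, hsqrt, x, orderOf_eq_prime h5 fun h1 => ?_, hxn, hxE, hfp⟩
  obtain ⟨t, -, ht⟩ := hne
  exact ht (by rw [h1]; group)

/-- A quasisimple group whose central quotient is of the unitary type above has trivial centre. -/
theorem center_eq_bot_of_unitary {K : Type u} [Group K] [Finite K] (hK : Cfsg.IsQuasisimple K)
    (_hO : Cfsg.pPrimeCore 2 K = ⊥) (T : Sylow 2 (K ⧸ center K)) {H : Subgroup (K ⧸ center K)}
    (hH : Cfsg.IsStronglyEmbedded H) (E : Subgroup (K ⧸ center K)) (hET : E ≤ (T : Subgroup (K ⧸ center K)))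
    (hinv : ∀ t ∈ (T : Subgroup (K ⧸ center K)), t * t = 1 ↔ t ∈ E) (h4 : Nat.card E = 4)
    (hne : (T : Subgroup (K ⧸ center K)) ≠ E) : center K = ⊥ := by
  haveI := hK.2
  have hna : ¬ IsMulCommutative (K ⧸ center K) := by
    intro hc
    have hle : commutator K ≤ center K := by
      rw [_root_.commutator_def, commutator_le]
      intro a _ b _
      rw [← QuotientGroup.eq_one_iff, ← QuotientGroup.mk'_apply, map_commutatorElement,
        commutatorElement_eq_one_iff_mul_comm]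
      exact hc.is_comm.comm _ _
    rw [show commutator K = ⊤ from hK.1.commutator_eq_top] at hle
    haveI := QuotientGroup.subsingleton_iff.2 (top_le_iff.1 hle)
    exact false_of_nontrivial_of_subsingleton (K ⧸ center K)
  obtain ⟨F, i1, i2, hF, ⟨e⟩⟩ := (four_or_psu hna T hH E hET hinv h4).resolve_left hne
  have hm := S2089.result (F := F) 3 4 hF le_rfl (fun h => by omega) (by
    simp only [Set.mem_insert_iff, Set.mem_singleton_iff, Prod.mk.injEq]
    omega)
  have h1 := Block.CpQuot.card_center_dvd hm hK e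
  rw [Nat.card_congr Multiplicative.toAdd, Nat.card_zmod, show Nat.gcd 3 (4 + 1) = 1 from rfl, Nat.dvd_one] at h1
  exact card_eq_one.1 h1

end Cfsg.Agent.Fus.Gold
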