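import Cfsg.Agent.Lib.Fus.Goldschmidt.FourLocal
import Cfsg.Agent.Lib.Fus.Goldschmidt.FourBase
import Cfsg.Agent.Lib.Grp.PComponents
import Cfsg.Agent.Lib.Transfer.Abelian

/-!
# The centraliser of an involution outside `A` when `A` has order four

`C(y)/O(C(y))` with the image of `A` satisfies the local hypotheses; an involution of four type has a
complement of `A` in its centraliser in `S` centralised by an element of `3`-power order which is fixed point
free on `A`.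
-/

set_option autoImplicit false
set_option linter.style.haveILetI false
set_option linter.unusedSectionVars false

namespace Cfsg.Agent.Fus.Gold

open Subgroup Cfsg.Agent.Grp
open scoped Pointwise

universe u

variable {G : Type u} [Group G] [Finite G] {s : Setup G}

theorem mem_imA_of {A : Subgroup G} {y : G} (hAy : A ≤ centralizer ({y} : Set G)) {z : Cq y} :
    z ∈ imA A y ↔ ∃ (x : G) (hx : x ∈ A), proj y ⟨x, hAy hx⟩ = z := by
  constructor
  · rintro ⟨⟨x, hxy⟩, hx, rfl⟩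
    exact ⟨x, mem_subgroupOf.1 hx, rfl⟩
  · rintro ⟨x, hx, rfl⟩
    exact ⟨⟨x, hAy hx⟩, mem_subgroupOf.2 hx, rfl⟩

/-- The projection is injective on 2-subgroups of `C(y)`. -/
theorem proj_injOn {y : G} {R : Subgroup G} (hR : IsPGroup 2 R) {u v : ↥(centralizer ({y} : Set G))}
    (hu : (u : G) ∈ R) (hv : (v : G) ∈ R) (e : proj y u = proj y v) : u = v := by
  haveI : Fact (Nat.Prime 2) := ⟨Nat.prime_two⟩
  have h1 := (QuotientGroup.eq (s := Cfsg.pPrimeCore 2 ↥(centralizer ({y} : Set G)))).1 e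
  obtain ⟨k, hk⟩ := hR ⟨_, R.mul_mem (R.inv_mem hu) hv⟩
  have hk' : ((u : G)⁻¹ * v) ^ 2 ^ k = 1 := congrArg Subtype.val hk
  have h2 : (u⁻¹ * v) ^ 2 ^ k = 1 := Subtype.ext (by simpa using hk')
  have h3 : orderOf (u⁻¹ * v) = 1 := Nat.eq_one_of_dvd_coprimes
    ((pPrimeCore_coprime (p := 2) (G := ↥(centralizer ({y} : Set G)))).pow_right k)
    (Subgroup.orderOf_dvd_natCard _ h1) (orderOf_dvd_of_pow_eq_one h2)
  exact inv_mul_eq_one.1 (orderOf_eq_one_iff.1 h3)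

/-- Two 2-elements equal modulo the core are conjugate. -/
theorem exists_conj_of_proj_eq {y : G} {x w : ↥(centralizer ({y} : Set G))}
    (hw : ∃ k : ℕ, w ^ 2 ^ k = 1) (hx : ∃ k : ℕ, x ^ 2 ^ k = 1) (e : proj y w = proj y x) :
    ∃ c, w = c * x * c⁻¹ := by
  haveI : Fact (Nat.Prime 2) := ⟨Nat.prime_two⟩
  set O := Cfsg.pPrimeCore 2 ↥(centralizer ({y} : Set G))
  haveI hOn : O.Normal := Grp.pPrimeCore_isNormal
  have hz : ∀ v : ↥(centralizer ({y} : Set G)), (∃ k : ℕ, v ^ 2 ^ k = 1) → IsPGroup 2 (zpowers v) := fun v hv => by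
    obtain ⟨k, hk⟩ := hv
    rw [IsPGroup.iff_card]
    obtain ⟨i, -, hi⟩ := (Nat.dvd_prime_pow Nat.prime_two).1 (orderOf_dvd_of_pow_eq_one hk)
    exact ⟨i, by rw [Nat.card_zpowers, hi]⟩
  have hmem : ∀ v v' : ↥(centralizer ({y} : Set G)), proj y v = proj y v' → v ∈ O ⊔ zpowers v' := fun v v' e => by
    have h2 := (QuotientGroup.eq (s := O)).1 e.symm
    rw [show v = v' * (v'⁻¹ * v) by group, sup_comm]
    exact mul_mem_sup (mem_zpowers _) h2
  have hord : ∀ v v' : ↥(centralizer ({y} : Set G)), (∃ k : ℕ, v ^ 2 ^ k = 1) → proj y v = proj y v' →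
      orderOf v ∣ orderOf v' := by
    intro v v' hv e
    obtain ⟨k, hk⟩ := hv
    refine orderOf_dvd_of_pow_eq_one ?_
    have h3 : v ^ orderOf v' ∈ O := (QuotientGroup.eq_one_iff _).1 (show proj y (v ^ orderOf v') = 1 by
      rw [map_pow, e, ← map_pow, pow_orderOf_eq_one, map_one])
    exact orderOf_eq_one_iff.1 (Nat.eq_one_of_dvd_coprimes
      ((pPrimeCore_coprime (p := 2) (G := ↥(centralizer ({y} : Set G)))).pow_right k)
      (Subgroup.orderOf_dvd_natCard _ h3)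
      (orderOf_dvd_of_pow_eq_one (by rw [← pow_mul, mul_comm, pow_mul, hk, one_pow])))
  obtain ⟨n, hnO, hn⟩ := exists_conj_of_le_sup (N := O) (H := zpowers x) (K := zpowers w)
    (le_top.trans (normalizer_eq_top (H := O)).ge) (zpowers_le.2 (hmem _ _ e))
    (by rw [Nat.card_zpowers, Nat.card_zpowers, Nat.dvd_antisymm (hord _ _ hw e) (hord _ _ hx e.symm)])
    (by
      obtain ⟨k, hk⟩ := IsPGroup.iff_card.1 (hz x hx)
      rw [hk]
      exact pPrimeCore_coprime.pow_right k)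
    (Or.inr (have := (hz x hx).isNilpotent; inferInstance))
  have hw' : w ∈ MulAut.conj n • zpowers x := hn ▸ mem_zpowers w
  rw [← Grp.map_conj_eq_smul] at hw'
  obtain ⟨a, ha, hae⟩ := hw'
  refine ⟨n, ?_⟩
  obtain ⟨i, rfl⟩ := mem_zpowers_iff.1 ha
  have h5 : n * x ^ i * n⁻¹ = w := hae
  -- the power is `x` itself modulo the core, both being in `⟨x⟩`
  have h6 : x ^ i = x := by
    refine congrArg Subtype.val (Subtype.ext ?_ : (⟨x ^ i, zpow_mem (mem_zpowers x) i⟩ : ↥(zpowers x)) = ⟨x, mem_zpowers x⟩)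
    have h7 : proj y (x ^ i) = proj y x := by
      rw [← h5, map_mul, map_mul, map_inv] at e
      have hn1 : proj y n = 1 := (QuotientGroup.eq_one_iff _).2 hnO
      rwa [hn1, one_mul, inv_one, mul_one] at e
    have h8 : (x ^ i)⁻¹ * x ∈ zpowers x ⊓ O :=
      ⟨(zpowers x).mul_mem ((zpowers x).inv_mem ((zpowers x).zpow_mem (mem_zpowers x) i)) (mem_zpowers x),
        (QuotientGroup.eq (s := O)).1 h7⟩
    obtain ⟨k, hk⟩ := IsPGroup.iff_card.1 (hz x hx)
    rw [Grp.inf_eq_bot_of_coprime (by rw [hk]; exact ((pPrimeCore_coprime (p := 2)).pow_right k).symm), mem_bot,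
      inv_mul_eq_one] at h8
    exact h8
  rw [h6] at h5
  exact h5.symm

/-- Every Sylow subgroup of `C(y)/O(C(y))` over the image of `A` comes from a 2-group containing `A`. -/
theorem exists_sylow_over_A (s : Setup G) {y : G} (hAy : s.A ≤ centralizer ({y} : Set G)) (T₀ : Sylow 2 (Cq y))
    (hle : imA s.A y ≤ (T₀ : Subgroup (Cq y))) :
    ∃ R : Subgroup ↥(centralizer ({y} : Set G)), IsPGroup 2 R ∧ s.A.subgroupOf _ ≤ R ∧
      ∀ z, z ∈ (T₀ : Subgroup (Cq y)) → ∃ r ∈ R, proj y r = z := by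
  haveI : Fact (Nat.Prime 2) := ⟨Nat.prime_two⟩
  set C := centralizer ({y} : Set G)
  set O := Cfsg.pPrimeCore 2 ↥C
  haveI hOn : O.Normal := Grp.pPrimeCore_isNormal
  obtain ⟨P⟩ : Nonempty (Sylow 2 ↥C) := inferInstance
  obtain ⟨h, hh⟩ := MulAction.exists_smul_eq (Cq y) (P.mapSurjective (f := proj y)
    (QuotientGroup.mk'_surjective _)) T₀
  obtain ⟨h, rfl⟩ := QuotientGroup.mk'_surjective O h
  set P' : Subgroup ↥C := (P : Subgroup ↥C).map (MulAut.conj h).toMonoidHom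
  have hP' : P'.map (proj y) = (T₀ : Subgroup (Cq y)) := by
    rw [← hh, Sylow.coe_subgroup_smul, ← Grp.map_conj_eq_smul, Sylow.coe_mapSurjective, map_map, map_map]
    refine congrArg (fun φ => (P : Subgroup ↥C).map φ) (MonoidHom.ext fun v => ?_)
    show proj y (h * v * h⁻¹) = proj y h * proj y v * (proj y h)⁻¹
    rw [map_mul, map_mul, map_inv]
  have hP'2 : IsPGroup 2 P' := P.isPGroup'.map _
  set A₀ := s.A.subgroupOf C
  have hA₀ : IsPGroup 2 A₀ := (Grp.elemAb_isPGroup s.elem).comap_of_injective _ (subtype_injective _)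
  set A' := P' ⊓ (A₀.map (proj y)).comap (proj y)
  have hinj : ∀ B : Subgroup ↥C, IsPGroup 2 B → Set.InjOn (proj y) B := fun B hB u hu v hv e =>
    proj_injOn (hB.map C.subtype) ⟨u, hu, rfl⟩ ⟨v, hv, rfl⟩ e
  have hA'img : A'.map (proj y) = A₀.map (proj y) := by
    refine le_antisymm (map_le_iff_le_comap.2 inf_le_right) fun z hz => ?_
    obtain ⟨r, hr, rfl⟩ := hP'.ge (hle hz)
    exact ⟨r, ⟨hr, hz⟩, rfl⟩
  have hcard : ∀ B : Subgroup ↥C, IsPGroup 2 B → Nat.card ↥(B.map (proj y)) = Nat.card ↥B := fun B hB =>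
    (Nat.card_congr (Equiv.Set.imageOfInjOn (proj y) B (hinj B hB))).symm
  obtain ⟨n, hn, hn'⟩ := exists_conj_of_le_sup (N := O) (H := A₀) (K := A')
    (le_top.trans (normalizer_eq_top (H := O)).ge)
    (by
      intro r hr
      have h1 : r ∈ (A₀.map (proj y)).comap (proj y) := hr.2
      rw [comap_map_eq, QuotientGroup.ker_mk', sup_comm] at h1
      exact h1)
    (by rw [← hcard _ (hP'2.to_le inf_le_left), hA'img, hcard _ hA₀])
    (by
      obtain ⟨k, hk⟩ := IsPGroup.iff_card.1 hA₀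
      rw [hk]
      exact pPrimeCore_coprime.pow_right k)
    (Or.inr (have := hA₀.isNilpotent; inferInstance))
  refine ⟨P'.map (MulAut.conj n⁻¹).toMonoidHom, hP'2.map _, fun a ha => ?_, fun z hz => ?_⟩
  · have h2 : n * a * n⁻¹ ∈ A' := by
      rw [← hn', ← Grp.map_conj_eq_smul]
      exact ⟨a, ha, rfl⟩
    exact ⟨_, h2.1, by show n⁻¹ * (n * a * n⁻¹) * n⁻¹⁻¹ = a; group⟩
  · obtain ⟨r, hr, rfl⟩ := hP'.ge hz
    refine ⟨_, ⟨r, hr, rfl⟩, ?_⟩
    show proj y (n⁻¹ * r * n⁻¹⁻¹) = proj y r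
    rw [map_mul, map_mul, inv_inv, map_inv, show proj y n = 1 from (QuotientGroup.eq_one_iff _).2 hn,
      inv_one, one_mul, mul_one]

/-- The local hypotheses at an element centralising `A`. -/
theorem localHyp_of (s : Setup G) {y : G} (hAy : s.A ≤ centralizer ({y} : Set G))
    (hlt : Nat.card ↥(centralizer ({y} : Set G)) < Nat.card G) : LocalHyp (Cq y) (imA s.A y) := by
  haveI : Fact (Nat.Prime 2) := ⟨Nat.prime_two⟩
  set C := centralizer ({y} : Set G)
  haveI : (Cfsg.pPrimeCore 2 ↥C).Normal := Grp.pPrimeCore_isNormal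
  refine ⟨pPrimeCore_quotient_eq_bot, ⟨⟨⟨?_⟩⟩, ?_⟩, fun T hT hle x hx g hg => ?_, fun K hK => ?_⟩
  · rintro ⟨a, ha⟩ ⟨b, hb⟩
    obtain ⟨u, hu, rfl⟩ := (mem_imA_of hAy).1 ha
    obtain ⟨v, hv, rfl⟩ := (mem_imA_of hAy).1 hb
    refine Subtype.ext ?_
    show proj y _ * proj y _ = proj y _ * proj y _
    rw [← map_mul, ← map_mul]
    exact congrArg _ (Subtype.ext (s.comm hu hv))
  · rintro a ha
    obtain ⟨u, hu, rfl⟩ := (mem_imA_of hAy).1 ha
    rw [← map_pow, show (⟨u, hAy hu⟩ : ↥C) ^ 2 = 1 from Subtype.ext (s.pow_two_eq hu), map_one]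
  · obtain ⟨T₀, hT₀⟩ := hT.exists_le_sylow
    obtain ⟨u, hu, rfl⟩ := (mem_imA_of hAy).1 hx
    obtain ⟨g, rfl⟩ := QuotientGroup.mk'_surjective (Cfsg.pPrimeCore 2 ↥C) g
    -- a Sylow subgroup of `C(y)` over `T₀` which contains `A`
    obtain ⟨R, hR2, hAR, hR⟩ : ∃ R : Subgroup ↥C, IsPGroup 2 R ∧ s.A.subgroupOf C ≤ R ∧
        ∀ z, z ∈ (T₀ : Subgroup (Cq y)) → ∃ r ∈ R, proj y r = z := exists_sylow_over_A s hAy T₀ (hle.trans hT₀)
    obtain ⟨r, hr, hr'⟩ := hR _ (hT₀ hg)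
    have hconj : proj y r = proj y (g * ⟨u, hAy hu⟩ * g⁻¹) := by
      rw [hr', map_mul, map_mul, map_inv]
    obtain ⟨c, hc⟩ := exists_conj_of_proj_eq (x := g * ⟨u, hAy hu⟩ * g⁻¹) (w := r)
      (by
        obtain ⟨k, hk⟩ := hR2 ⟨r, hr⟩
        exact ⟨k, congrArg Subtype.val hk⟩)
      ⟨1, by rw [pow_one, conj_pow, show (⟨u, hAy hu⟩ : ↥C) ^ 2 = 1 from Subtype.ext (s.pow_two_eq hu),
        mul_one, mul_inv_cancel]⟩ hconj
    have hrA : (r : G) ∈ s.A := by
      have e1 : (r : G) = (c * g : ↥C) * u * ((c * g : ↥C) : G)⁻¹ := by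
        rw [hc]
        simp only [Subgroup.coe_mul, Subgroup.coe_inv, mul_inv_rev]
        group
      rw [e1]
      exact s.closed_in (hR2.map C.subtype) (fun z hz => ⟨⟨z, hAy hz⟩, hAR (mem_subgroupOf.2 hz), rfl⟩) hu
        ⟨r, hr, e1⟩
    exact (mem_imA_of hAy).2 ⟨r, hrA, hr'⟩
  · haveI := hK.2.2
    refine s.ih (↥K ⧸ center ↥K) (lt_of_le_of_lt ?_ hlt) hK.2.2 (not_comm_quotient hK)
    calc Nat.card (↥K ⧸ center ↥K) ≤ Nat.card ↥K := Nat.le_of_dvd Nat.card_pos (card_quotient_dvd_card _)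
      _ ≤ Nat.card (Cq y) := card_le_card_group K
      _ ≤ Nat.card ↥C := Nat.le_of_dvd Nat.card_pos (card_quotient_dvd_card _)

namespace Four

variable (h : Four s)
include h

/-- `A` is central in every 2-group containing it. -/
theorem two_group_central {R : Subgroup G} (hR : IsPGroup 2 R) (hA : s.A ≤ R) :
    R ≤ centralizer (s.A : Set G) := by
  haveI : Fact (Nat.Prime 2) := ⟨Nat.prime_two⟩
  obtain ⟨P, hP⟩ := hR.exists_le_sylow
  obtain ⟨g, hg⟩ := MulAction.exists_smul_eq G P s.S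
  have hmem : ∀ x ∈ R, g * x * g⁻¹ ∈ (s.S : Subgroup G) := fun x hx => by
    rw [← hg, Sylow.coe_subgroup_smul, ← Grp.map_conj_eq_smul]
    exact ⟨x, hP hx, rfl⟩
  intro x hx
  refine mem_centralizer_iff.2 fun a ha => ?_
  have h1 := s.closed.2 a ha g (hmem a (hA ha))
  have h2 := mem_centralizer_iff.1 (h.central (hmem x hx)) _ h1
  refine (MulAut.conj g).injective ?_
  show g * (a * x) * g⁻¹ = g * (x * a) * g⁻¹
  calc g * (a * x) * g⁻¹ = g * a * g⁻¹ * (g * x * g⁻¹) := by group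
    _ = g * x * g⁻¹ * (g * a * g⁻¹) := h2
    _ = _ := by group

omit h in
theorem le_centralizer_of_mem (h : Four s) {y : G} (hyS : y ∈ (s.S : Subgroup G)) :
    s.A ≤ centralizer ({y} : Set G) := fun _ ha =>
  mem_centralizer_singleton_iff.2 (mem_centralizer_iff.1 (h.central hyS) _ ha)

/-- The local data at an involution of `S`, with a Sylow subgroup containing the image of `C_S(y)`. -/
theorem exists_loc {y : G} (hy : orderOf y = 2) (hyS : y ∈ (s.S : Subgroup G)) :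
    ∃ T : Sylow 2 (Cq y), FourLocal.Loc (Cq y) (imA s.A y) T ∧
      ∀ x (hxy : x ∈ centralizer ({y} : Set G)), x ∈ (s.S : Subgroup G) → proj y ⟨x, hxy⟩ ∈ T := by
  haveI : Fact (Nat.Prime 2) := ⟨Nat.prime_two⟩
  have hAy := h.le_centralizer_of_mem hyS
  set C := centralizer ({y} : Set G)
  have hlt : Nat.card ↥C < Nat.card G := by
    haveI := s.simple
    refine lt_of_le_of_ne (card_le_card_group _) fun e => ?_
    have hz : y ∈ center G := mem_center_iff.2 fun g =>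
      mem_centralizer_singleton_iff.1 (((card_eq_iff_eq_top C).1 e).ge (mem_top g))
    rw [Transfer.CentralFour.center_eq_bot s.nonab, mem_bot] at hz
    rw [hz, orderOf_one] at hy
    exact absurd hy (by omega)
  obtain ⟨P, hP⟩ := (s.S.isPGroup'.comap_of_injective C.subtype (subtype_injective C)).exists_le_sylow
  refine ⟨P.mapSurjective (f := proj y) (QuotientGroup.mk'_surjective _),
    ⟨localHyp_of s hAy hlt, ?_, ?_, ?_⟩, fun x hxy hxS => ⟨_, hP hxS, rfl⟩⟩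
  · rintro z hz
    obtain ⟨a, ha, rfl⟩ := (mem_imA_of hAy).1 hz
    exact ⟨_, hP (s.closed.1 ha), rfl⟩
  · rintro _ ⟨p, hp, rfl⟩ z hz
    obtain ⟨a, ha, rfl⟩ := (mem_imA_of hAy).1 hz
    have h1 := h.two_group_central (P.isPGroup'.map C.subtype)
      (fun b hb => ⟨⟨b, hAy hb⟩, hP (s.closed.1 hb), rfl⟩) ⟨p, hp, rfl⟩
    rw [← map_mul, ← map_mul]
    exact congrArg _ (Subtype.ext (mem_centralizer_iff.1 h1 a ha).symm)
  · rw [← h.card]
    refine (Nat.card_eq_of_bijective (fun a : ↥s.A =>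
      (⟨proj y ⟨a, hAy a.2⟩, (mem_imA_of hAy).2 ⟨a, a.2, rfl⟩⟩ : ↥(imA s.A y))) ⟨fun a b e => ?_, fun z => ?_⟩).symm
    · have := proj_injOn (Grp.elemAb_isPGroup s.elem) (u := ⟨(a : G), hAy a.2⟩) (v := ⟨(b : G), hAy b.2⟩)
        a.2 b.2 (congrArg Subtype.val e)
      exact Subtype.ext (congrArg Subtype.val this :)
    · obtain ⟨a, ha, e⟩ := (mem_imA_of hAy).1 z.2
      exact ⟨⟨a, ha⟩, Subtype.ext e⟩

end Four

/-- A moved component whose Sylow subgroup is the image of `A` makes `y` of four type. -/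
theorem fourType_of {y : G} (hy : orderOf y = 2) (hyS : y ∈ (s.S : Subgroup G)) (hyA : y ∉ s.A)
    {T : Sylow 2 (Cq y)} (l : FourLocal.Loc (Cq y) (imA s.A y) T) {K : Subgroup (Cq y)}
    (hK : Cfsg.IsComponent K) (hm : ¬ imA s.A y ≤ centralizer (K : Set (Cq y)))
    (hfour : (T : Subgroup (Cq y)) ⊓ K = imA s.A y ⊓ K) : FourType s y := by
  obtain ⟨hle, hbot⟩ := l.moved_facts hK hm
  obtain ⟨P₀, hP₀⟩ := exists_sylow_component (T := T) hK
  have hZ : center ↥K = ⊥ := by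
    refine (eq_bot_iff_forall _).2 fun z hz => ?_
    have hz' : (z : Cq y) ∈ centralizer (K : Set (Cq y)) := by
      rw [center_eq hK, mem_subgroupOf] at hz; exact hz.2
    have hzA : (z : Cq y) ∈ imA s.A y :=
      (hfour.le ⟨center_le_sylow l.loc l.le hK ⟨z.2, hz'⟩, z.2⟩).1
    exact Subtype.ext (mem_bot.1 (hbot ▸ (⟨hzA, hz'⟩ : (z : Cq y) ∈ imA s.A y ⊓ centralizer (K : Set (Cq y)))))
  haveI := hK.2.2
  let e : ↥K ⧸ center ↥K ≃* ↥K := (QuotientGroup.quotientMulEquivOfEq hZ).trans QuotientGroup.quotientBot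
  refine ⟨hy, hyS, hyA, K, hK, e.symm.isSimpleGroup, fun hc => not_comm_quotient hK ⟨⟨fun a b => ?_⟩⟩, hle,
    P₀, ?_⟩
  · exact e.injective (by rw [map_mul, map_mul, hc.is_comm.comm])
  · rw [hP₀]
    ext k
    rw [mem_subgroupOf, mem_subgroupOf]
    exact ⟨fun hk => (hfour.le ⟨hk, k.2⟩).1, fun hk => l.le hk⟩

theorem FourType.decomp (h : Four s) {y : G} (hy : FourType s y) :
    ∃ (D : Subgroup G) (g : G), y ∈ D ∧ D ≤ (s.S : Subgroup G) ∧ s.A ⊓ D = ⊥ ∧
      s.A ⊔ D = (s.S : Subgroup G) ⊓ centralizer ({y} : Set G) ∧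
      (∃ k : ℕ, orderOf g = 3 ^ k) ∧ g ∈ normalizer (s.A : Set G) ∧
      g ∈ normalizer (((s.S : Subgroup G) ⊓ centralizer ({y} : Set G) : Subgroup G) : Set G) ∧
      (∀ a ∈ s.A, g * a * g⁻¹ = a → a = 1) ∧ ∀ d ∈ D, g * d = d * g := by
  classical
  haveI : Fact (Nat.Prime 2) := ⟨Nat.prime_two⟩
  obtain ⟨hy2, hyS, hyA, K, hK, hKs, hKnc, hAK, T₀, hT₀⟩ := hy
  have hAy := h.le_centralizer_of_mem hyS
  set C := centralizer ({y} : Set G)
  set P : Subgroup G := (s.S : Subgroup G) ⊓ C with hPdef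
  obtain ⟨T, l, hT⟩ := h.exists_loc hy2 hyS
  have hm : ¬ imA s.A y ≤ centralizer (K : Set (Cq y)) := fun hle => by
    haveI := hKs
    have hz : (imA s.A y).subgroupOf K ≤ center ↥K := fun k hk => mem_center_iff.2 fun j =>
      Subtype.ext (mem_centralizer_iff.1 (hle (mem_subgroupOf.1 hk)) j j.2)
    rw [Transfer.CentralFour.center_eq_bot hKnc, le_bot_iff, ← Subgroup.card_eq_one,
      Nat.card_congr (subgroupOfEquivOfLe hAK).toEquiv, l.card] at hz
    omega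
  have d := l.data hK hm
  have hfour : (T : Subgroup (Cq y)) ⊓ K = imA s.A y ⊓ K := by
    rw [inf_eq_left.2 hAK]
    refine (eq_of_le_of_card_ge (le_inf l.le hAK) ?_).symm
    obtain ⟨P₁, hP₁⟩ := exists_sylow_component (T := T) hK
    have h1 : Nat.card ↥(P₁ : Subgroup ↥K) = Nat.card ↥(T₀ : Subgroup ↥K) := by
      rw [P₁.card_eq_multiplicity, T₀.card_eq_multiplicity]
    rw [hT₀, Nat.card_congr (subgroupOfEquivOfLe hAK).toEquiv, hP₁] at h1
    rw [← h1, ← inf_subgroupOf_right, Nat.card_congr (subgroupOfEquivOfLe (inf_le_right : _ ⊓ K ≤ K)).toEquiv]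
  -- the complement
  let f : ↥P →* Cq y := (proj y).comp (Subgroup.inclusion (inf_le_right : P ≤ C))
  set D : Subgroup G := ((centralizer (K : Set (Cq y))).comap f).map P.subtype with hD
  have hDmem : ∀ x, x ∈ D ↔ ∃ hx : x ∈ P, proj y ⟨x, hx.2⟩ ∈ centralizer (K : Set (Cq y)) := fun x =>
    ⟨by rintro ⟨v, hv, rfl⟩; exact ⟨v.2, hv⟩, fun ⟨hx, hc⟩ => ⟨⟨x, hx⟩, hc, rfl⟩⟩
  have hDP : D ≤ P := map_subtype_le _
  have hyD : y ∈ D := by
    refine (hDmem y).2 ⟨⟨hyS, mem_centralizer_singleton_iff.2 rfl⟩, mem_centralizer_iff.2 fun k _ => ?_⟩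
    obtain ⟨k, rfl⟩ := QuotientGroup.mk'_surjective (Cfsg.pPrimeCore 2 ↥C) k
    rw [← map_mul, ← map_mul]
    exact congrArg _ (Subtype.ext (mem_centralizer_singleton_iff.1 k.2))
  have hAP : s.A ≤ P := le_inf s.closed.1 hAy
  have hAD : s.A ⊓ D = ⊥ := by
    refine (eq_bot_iff_forall _).2 fun a ha => ?_
    obtain ⟨hx, hc⟩ := (hDmem a).1 ha.2
    have h1 : proj y ⟨a, hx.2⟩ ∈ imA s.A y ⊓ centralizer (K : Set (Cq y)) :=
      ⟨(mem_imA_of hAy).2 ⟨a, ha.1, rfl⟩, hc⟩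
    rw [(l.moved_facts hK hm).2, mem_bot] at h1
    exact congrArg Subtype.val (proj_injOn (Grp.elemAb_isPGroup s.elem) (u := ⟨a, hx.2⟩) (v := 1) ha.1 s.A.one_mem
      (h1.trans (map_one _).symm))
  have hsup : s.A ⊔ D = P := by
    refine le_antisymm (sup_le hAP hDP) fun x hx => ?_
    obtain ⟨e, he, hec⟩ := d.four_decomp hfour (hT x hx.2 hx.1)
    obtain ⟨a, ha, rfl⟩ := (mem_imA_of hAy).1 he.1
    rw [← map_mul] at hec
    have hax : a * x ∈ D := (hDmem _).2 ⟨P.mul_mem (hAP ha) hx, hec⟩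
    have h2 := mul_mem_sup (S := s.A) (T := D) (s.A.inv_mem ha) hax
    rwa [inv_mul_cancel_left] at h2
  -- an element of `K` normalising the image of `A` and moving it
  haveI := hKs
  set A₀ : Subgroup ↥K := (imA s.A y).subgroupOf K
  have hT₀c : IsMulCommutative ↥(T₀ : Subgroup ↥K) := ⟨⟨fun p q => Subtype.ext (Subtype.ext
    (l.loc.comm (mem_subgroupOf.1 (hT₀.le p.2)) (mem_subgroupOf.1 (hT₀.le q.2))))⟩⟩
  obtain ⟨k, hk, hkne⟩ : ∃ k ∈ normalizer ((T₀ : Subgroup ↥K) : Set ↥K),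
      k ∉ centralizer ((T₀ : Subgroup ↥K) : Set ↥K) := by
    by_contra hh
    push Not at hh
    -- Burnside: a Sylow subgroup central in its normaliser
    obtain ⟨⟨v, hv⟩, hv1⟩ : ∃ v : ↥(imA s.A y), v ≠ 1 := by
      by_contra hno
      push Not at hno
      haveI : Subsingleton ↥(imA s.A y) := ⟨fun p q => by rw [hno p, hno q]⟩
      have := l.card
      rw [Nat.card_of_subsingleton 1] at this
      omega
    have hvK : v ∈ K := hAK hv
    refine isolated_false hKs hKnc T₀ (u := ⟨v, hvK⟩) (orderOf_eq_prime (Subtype.ext (l.loc.elem.2 v hv))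
      (fun e => hv1 (Subtype.ext (congrArg Subtype.val e :)))) (show (⟨v, hvK⟩ : ↥K) ∈ (T₀ : Subgroup ↥K) by rw [hT₀, mem_subgroupOf]; exact hv) fun g hg => ?_
    obtain ⟨n, hn, e⟩ := Transfer.exists_normalizer_conj_of_abelian T₀ hT₀c
      (show (⟨v, hvK⟩ : ↥K) ∈ (T₀ : Subgroup ↥K) by rw [hT₀, mem_subgroupOf]; exact hv) hg
    rw [← e, mul_inv_eq_iff_eq_mul]
    exact (mem_centralizer_iff.1 (hh n hn) _ (by rw [hT₀]; exact mem_subgroupOf.2 hv)).symm
  have hkP : (k : Cq y) ∈ normalizer ((P.subgroupOf C).map (proj y) : Set (Cq y)) := by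
    refine mem_normalizer_fintype ?_
    rintro _ ⟨⟨x, hxC⟩, hx, rfl⟩
    have hx' : x ∈ s.A ⊔ D := hsup.ge (mem_subgroupOf.1 hx)
    have hn : s.A ≤ normalizer (D : Set G) := fun a ha => mem_normalizer_fintype fun z hz => by
      rw [mem_centralizer_iff.1 (h.two_group_central (s.S.isPGroup'.to_le inf_le_left) hAP (hDP hz)) a ha,
        mul_inv_cancel_right]
      exact hz
    have h3 : x ∈ ((s.A ⊔ D : Subgroup G) : Set G) := hx'
    rw [coe_mul_of_left_le_normalizer_right _ _ hn] at h3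
    obtain ⟨a, ha, z, hz, rfl⟩ := h3
    obtain ⟨hzP, hzc⟩ := (hDmem z).1 hz
    have h4 : (⟨a, hAy ha⟩ : ↥C) * ⟨z, hzP.2⟩ = ⟨a * z, hxC⟩ := rfl
    show (k : Cq y) * proj y ⟨a * z, hxC⟩ * (k : Cq y)⁻¹ ∈ (P.subgroupOf C).map (proj y)
    rw [← h4, map_mul, show (k : Cq y) * (proj y ⟨a, hAy ha⟩ * proj y ⟨z, hzP.2⟩) * (k : Cq y)⁻¹ =
      (k : Cq y) * proj y ⟨a, hAy ha⟩ * (k : Cq y)⁻¹ * ((k : Cq y) * proj y ⟨z, hzP.2⟩ * (k : Cq y)⁻¹) by group,
      mem_centralizer_iff.1 hzc k k.2, mul_inv_cancel_right]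
    refine mul_mem ?_ ⟨⟨z, hzP.2⟩, hzP, rfl⟩
    have h5 := (mem_normalizer_iff.1 hk (⟨_, hAK ((mem_imA_of hAy).2 ⟨a, ha, rfl⟩)⟩ : ↥K)).1
      (by rw [hT₀]; exact mem_subgroupOf.2 ((mem_imA_of hAy).2 ⟨a, ha, rfl⟩))
    rw [hT₀, mem_subgroupOf] at h5
    obtain ⟨a', ha', e⟩ := (mem_imA_of hAy).1 h5
    exact ⟨⟨a', hAy ha'⟩, hAP ha', e⟩
  have hP2 : IsPGroup 2 ↥(P.subgroupOf C) :=
    (s.S.isPGroup'.to_le (inf_le_left : P ≤ (s.S : Subgroup G))).comap_of_injective _ (subtype_injective C)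
  rw [← map_normalizer_pGroup hP2] at hkP
  obtain ⟨n, hn, hnk⟩ := hkP
  have hnk' : proj y n = k := hnk
  have hnP : ∀ x ∈ P, (n : G) * x * (n : G)⁻¹ ∈ P := fun x hx => by
    have h6 := (mem_normalizer_iff.1 hn ⟨x, hx.2⟩).1 (mem_subgroupOf.2 hx)
    exact mem_subgroupOf.1 h6
  have hnA : ∀ a ∈ s.A, (n : G) * a * (n : G)⁻¹ ∈ s.A := fun a ha =>
    s.closed.2 a ha n (hnP a (hAP ha)).1
  have hnN : (n : G) ∈ normalizer (s.A : Set G) := mem_normalizer_fintype hnA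
  -- it moves every involution of `A`
  have hnfpf : ∀ a ∈ s.A, (n : G) * a * (n : G)⁻¹ = a → a = 1 := by
    intro a ha hfix
    by_contra ha1
    have hc := h.centralizer_inf_normalizer ha ha1 (show (n : G) ∈ _ from
      ⟨mem_centralizer_singleton_iff.2 (mul_inv_eq_iff_eq_mul.1 hfix), hnN⟩)
    refine hkne (mem_centralizer_iff.2 fun v hv => Subtype.ext ?_)
    rw [SetLike.mem_coe, hT₀, mem_subgroupOf] at hv
    obtain ⟨b, hb, e⟩ := (mem_imA_of hAy).1 hv
    show (v : Cq y) * k = k * v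
    rw [← e, ← hnk', ← map_mul, ← map_mul]
    exact congrArg _ (Subtype.ext (mem_centralizer_iff.1 hc b hb))
  have hn3 : ∀ a ∈ s.A, (n : G) ^ 3 * a * ((n : G) ^ 3)⁻¹ = a := by
    intro a ha
    rcases eq_or_ne a 1 with rfl | ha1
    · group
    have key : ∀ p q : G, (n : G) * (p * q) * (n : G)⁻¹ = (n : G) * p * (n : G)⁻¹ * ((n : G) * q * (n : G)⁻¹) :=
      fun p q => by group
    set b := (n : G) * a * (n : G)⁻¹ with hb
    have hb1 : b ≠ 1 := fun e => ha1 (conj_eq_one_iff.1 e)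
    have hbA : b ∈ s.A := hnA a ha
    have hba : b ≠ a := fun e => ha1 (hnfpf a ha e)
    have hab1 : a * b ≠ 1 := fun e => hba (by
      rw [eq_inv_of_mul_eq_one_right e, inv_eq_of_mul_eq_one_right (s.sq ha)])
    set c := (n : G) * b * (n : G)⁻¹ with hc
    have hcA : c ∈ s.A := hnA b hbA
    have hcb : c ≠ b := fun e => hb1 (hnfpf b hbA e)
    have hca : c ≠ a := fun e => hab1 (hnfpf _ (s.A.mul_mem ha hbA) (by
      rw [show (n : G) * (a * b) * (n : G)⁻¹ = b * c from key a b, e]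
      exact (s.comm ha hbA).symm))
    have hc' : c = a * b := by
      rcases FourKey.mem_four h.card ha hbA ha1 hb1 hba hab1 hcA with e | e | e | e
      · exact absurd (conj_eq_one_iff.1 e) hb1
      · exact absurd e hca
      · exact absurd e hcb
      · exact e
    calc (n : G) ^ 3 * a * ((n : G) ^ 3)⁻¹ = (n : G) * c * (n : G)⁻¹ := by
          rw [hc, hb, pow_succ', pow_two]; group
      _ = (n : G) * a * (n : G)⁻¹ * ((n : G) * b * (n : G)⁻¹) := by rw [hc']; exact key a b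
      _ = b * c := by rw [← hb, ← hc]
      _ = a := by
        rw [hc', s.comm ha hbA, ← mul_assoc, s.sq hbA, one_mul]
  -- the `3`-part
  set m := ordCompl[3] (orderOf (n : G)) with hm3
  have hm0 : Nat.Coprime 3 m := (Nat.coprime_ordCompl Nat.prime_three (orderOf_pos (n : G)).ne')
  refine ⟨D, (n : G) ^ m, hyD, hDP.trans inf_le_left, hAD, hsup, ⟨(orderOf (n : G)).factorization 3, ?_⟩,
    pow_mem hnN m, ?_, ?_, ?_⟩
  · rw [orderOf_pow' _ (Nat.ordCompl_pos 3 (orderOf_pos (n : G)).ne').ne',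
      Nat.gcd_eq_right (Nat.ordCompl_dvd _ _)]
    exact Nat.div_eq_of_eq_mul_left (Nat.ordCompl_pos 3 (orderOf_pos (n : G)).ne')
      (Nat.ordProj_mul_ordCompl_eq_self (orderOf (n : G)) 3).symm
  · exact pow_mem (mem_normalizer_fintype hnP : (n : G) ∈ normalizer (P : Set G)) m
  · intro a ha hfix
    refine hnfpf a ha ?_
    have c1 : Commute ((n : G) ^ 3) a := mul_inv_eq_iff_eq_mul.1 (hn3 a ha)
    have c2 : Commute ((n : G) ^ m) a := mul_inv_eq_iff_eq_mul.1 hfix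
    obtain ⟨i, j, hij⟩ : ∃ i j : ℤ, (3 : ℤ) * i + (m : ℤ) * j = 1 := by
      obtain ⟨i, j, hij⟩ := Nat.isCoprime_iff_coprime.2 hm0
      exact ⟨i, j, by rw [← hij]; push_cast; ring⟩
    have c3 : Commute ((n : G) ^ ((3 : ℤ) * i + (m : ℤ) * j)) a := by
      rw [zpow_add, zpow_mul, zpow_mul, zpow_natCast, show ((3 : ℤ)) = ((3 : ℕ) : ℤ) from rfl, zpow_natCast]
      exact (c1.zpow_left i).mul_left (c2.zpow_left j)
    rw [hij, zpow_one] at c3
    exact mul_inv_eq_iff_eq_mul.2 c3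
  · intro x hx
    obtain ⟨hxP, hxc⟩ := (hDmem x).1 hx
    have h7 : proj y (n * ⟨x, hxP.2⟩ * n⁻¹) = proj y ⟨x, hxP.2⟩ := by
      rw [map_mul, map_mul, map_inv, hnk', mem_centralizer_iff.1 hxc k k.2, mul_inv_cancel_right]
    have h8 := congrArg Subtype.val (proj_injOn (s.S.isPGroup'.to_le inf_le_left)
      (u := n * ⟨x, hxP.2⟩ * n⁻¹) (v := ⟨x, hxP.2⟩) (hnP x hxP) hxP h7)
    have c : Commute (n : G) x := mul_inv_eq_iff_eq_mul.1 h8
    exact (c.pow_left m).eq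

end Cfsg.Agent.Fus.Gold
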