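import Cfsg.Agent.Lib.Fus.Goldschmidt.FourClimb
import Cfsg.Agent.Lib.Fus.Goldschmidt.FourFrame
import Cfsg.Agent.S0111

/-!
# The cases of a frame other than the elementary one with `S = Q`

`|D| = 2`: `T` is not elementary, and transfer gives a subgroup of index two.  `|D| = 4`: `T` is elementary.
-/

set_option autoImplicit false
set_option linter.style.haveILetI false
set_option linter.unusedSectionVars false

namespace Cfsg.Agent.Fus.Gold

open Subgroup

universe u

variable {G : Type u} [Group G] [Finite G] {s : Setup G}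

/-- An involution of `S` outside a subgroup of index two is conjugate into it. -/
theorem exists_conj_mem_of_index_two (s : Setup G) {M : Subgroup G} (hM : M ≤ (s.S : Subgroup G))
    (h2 : M.relIndex (s.S : Subgroup G) = 2) {u : G} (hu : orderOf u = 2) (huS : u ∈ (s.S : Subgroup G))
    (huM : u ∉ M) : ∃ g : G, g * u * g⁻¹ ∈ M := by
  haveI := s.simple
  refine (S0111.result s.S M hM h2 u hu huS huM).resolve_left ?_
  rintro ⟨N, hN, hN2, -⟩
  have hNb : N = ⊥ := hN.eq_bot_or_eq_top.resolve_right fun e => by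
    rw [e, index_top] at hN2; omega
  rw [hNb, index_bot] at hN2
  haveI : IsCyclic G := @isCyclic_of_prime_card G _ 2 ⟨Nat.prime_two⟩ hN2
  exact s.nonab IsCyclic.isMulCommutative

/-- A conjugate in `S` of an element of `S` outside `A` lies outside `A`. -/
theorem Setup.conj_not_mem (s : Setup G) {x : G} (hx : x ∈ (s.S : Subgroup G)) (hxA : x ∉ s.A) (g : G) :
    g * x * g⁻¹ ∉ s.A := fun e => hxA (by
  have := s.closed.2 _ e g⁻¹ (by rwa [show g⁻¹ * (g * x * g⁻¹) * g⁻¹⁻¹ = x by group])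
  rwa [show g⁻¹ * (g * x * g⁻¹) * g⁻¹⁻¹ = x by group] at this)

/-- The four elements of `A`. -/
theorem Four.four_cases (h : Four s) {v w : G} (hv : v ∈ s.A) (hw : w ∈ s.A) (hv1 : v ≠ 1) (hw1 : w ≠ 1)
    (hvw : v ≠ w) {a : G} (ha : a ∈ s.A) : a = 1 ∨ a = v ∨ a = w ∨ a = v * w := by
  classical
  letI : Fintype ↥s.A := Fintype.ofFinite _
  have h1 : v * w ≠ 1 := fun e => hvw ((eq_inv_of_mul_eq_one_left e).trans
    (inv_eq_of_mul_eq_one_right (s.sq hw)))
  have huniv : ({1, ⟨v, hv⟩, ⟨w, hw⟩, ⟨v * w, mul_mem hv hw⟩} : Finset ↥s.A) = Finset.univ := by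
    refine Finset.eq_univ_of_card _ ?_
    rw [← Nat.card_eq_fintype_card, h.card]
    simp [Subtype.ext_iff, hv1.symm, hw1.symm, h1.symm, hvw, hv1, hw1]
  have hc : (⟨a, ha⟩ : ↥s.A) ∈ ({1, ⟨v, hv⟩, ⟨w, hw⟩, ⟨v * w, mul_mem hv hw⟩} : Finset ↥s.A) :=
    huniv ▸ Finset.mem_univ _
  simpa [Subtype.ext_iff] using hc

theorem Four.br_comm (h : Four s) {x y : G} (hxy : br x y ∈ s.A) : br y x = br x y := by
  rw [← br_inv]
  exact inv_eq_of_mul_eq_one_right (s.sq hxy)

variable (h : Four s)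

include h

/-- `|D| = 2`: `T` has no involution outside `A`. -/
theorem Frame.not_elem_two (f : Frame s) (hD : Nat.card f.D = 2) : ∀ t ∈ f.T, t ∉ s.A → t * t ≠ 1 := by
  intro t ht htA htt
  have hR : f.T ≤ centralizer ({t} : Set G) := fun u hu => mem_centralizer_singleton_iff.2 (f.T_comm u hu t ht)
  have := f.max t (f.T_le ht) (orderOf_eq_prime (by rw [pow_two, htt]) fun e => htA (e ▸ one_mem _)) htA f.T
    (s.S.isPGroup'.to_le f.T_le) (f.T_le.trans h.central) hR
  rw [f.cardT, hD] at this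
  omega

/-- `|D| = 4`: `T` is elementary. -/
theorem Frame.elem_of_four (f : Frame s) (hD : Nat.card f.D = 4)
    (hsq : ∀ x ∈ (s.S : Subgroup G), orderOf x = 2 → x ∉ s.A →
      ∀ z ∈ (s.S : Subgroup G), z * x = x * z → z * z ∈ s.A → z * z = 1) :
    ∀ t ∈ f.T, t * t = 1 := by
  refine f.sq_dichotomy h |>.resolve_right fun hne => ?_
  obtain ⟨t, ht, htA⟩ := f.exists_not_mem_T h
  have hA := f.A_le_P
  -- some `d₀` with `[t, d₀] = t²`
  let φ : ↥f.D → ↥s.A := fun d => ⟨br t d, f.bracket_mem t ht d d.2⟩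
  have hφ : Function.Bijective φ := by
    have hinj : Function.Injective φ := fun d e hde => by
      by_contra hne'
      have h1 : br t (d : G) = br t (e : G) := congrArg Subtype.val hde
      refine f.bracket_ne t ht htA _ (f.D.mul_mem d.2 e.2) (fun he => hne' (Subtype.ext
        ((eq_inv_of_mul_eq_one_left he).trans (inv_eq_of_mul_eq_one_right (f.D_sq e e.2))))) ?_
      show br t ((d : G) * e) = 1
      rw [h.br_mul_right (f.D_le d.2) (f.bracket_mem t ht e e.2), h1]
      exact s.sq (f.bracket_mem t ht e e.2)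
    refine ⟨hinj, ?_⟩
    haveI : Fintype ↥f.D := Fintype.ofFinite _
    haveI : Fintype ↥s.A := Fintype.ofFinite _
    exact ((Fintype.bijective_iff_injective_and_card φ).2 ⟨hinj, by
      rw [← Nat.card_eq_fintype_card, ← Nat.card_eq_fintype_card, hD, h.card]⟩).2
  obtain ⟨⟨d₀, hd₀⟩, hd₀e⟩ := hφ.2 ⟨t * t, f.sq_mem t ht⟩
  have hd₀t : br t d₀ = t * t := congrArg Subtype.val hd₀e
  have hd₀1 : d₀ ≠ 1 := fun e => hne t ht htA (by rw [← hd₀t, e]; simp [br])
  -- so for all of `T`
  have hall : ∀ u ∈ f.T, br u d₀ = u * u := by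
    have hA0 : ∀ a ∈ s.A, br a d₀ = a * a := fun a ha => by
      rw [s.sq ha, br_eq_one_iff]; exact (h.commute_A (f.D_le hd₀) ha).symm
    have hmul : ∀ a ∈ f.T, ∀ b ∈ f.T, br a d₀ = a * a → br b d₀ = b * b → br (a * b) d₀ = a * b * (a * b) :=
      fun a ha b hb e1 e2 => by
        rw [h.br_mul_left (f.T_le ha) (f.bracket_mem b hb d₀ hd₀), e1, e2,
          show a * b * (a * b) = a * (b * a) * b by group, f.T_comm b hb a ha,
          show a * (a * b) * b = a * a * (b * b) by group]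
        exact s.comm (f.sq_mem b hb) (f.sq_mem a ha)
    have ht' : br (f.h * t * f.h⁻¹) d₀ = f.h * t * f.h⁻¹ * (f.h * t * f.h⁻¹) := by
      rw [f.br_h h hd₀, hd₀t]; group
    intro u hu
    have key : ∀ w ∈ f.T, br w d₀ = w * w → u * w⁻¹ ∈ s.A → br u d₀ = u * u := fun w hw e hmem => by
      rw [show u = u * w⁻¹ * w by group]
      exact hmul _ (f.A_le_T hmem) _ hw (hA0 _ hmem) e
    rcases f.gen h ht htA hu with e | e | e | e
    · exact hA0 u e
    · exact key t ht hd₀t e
    · exact key _ (f.hh_T ht) ht' e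
    · exact key _ (mul_mem ht (f.hh_T ht)) (hmul _ ht _ (f.hh_T ht) hd₀t ht') e
  -- the involution `t d₀` and an element of order four in its centraliser
  obtain ⟨d, hd, hd1, hdd₀⟩ : ∃ d ∈ f.D, d ≠ 1 ∧ d ≠ d₀ := by
    by_contra hno
    push Not at hno
    have hle : (f.D : Set G) ⊆ {1, d₀} := fun d hd => by
      rcases eq_or_ne d 1 with e | e
      · exact Or.inl e
      · exact Or.inr (hno d hd e)
    have h1 := Set.ncard_le_ncard hle (Set.toFinite _)
    have h2 : ({1, d₀} : Set G).ncard ≤ 2 := (Set.ncard_insert_le _ _).trans (by rw [Set.ncard_singleton])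
    rw [← Nat.card_coe_set_eq, SetLike.coe_sort_coe, hD] at h1
    omega
  -- a square root of `[t, d]`
  obtain ⟨u, hu, huu⟩ : ∃ u ∈ f.T, u * u = br t d := by
    have hv := f.sq_mem t ht
    have hv' : f.h * (t * t) * f.h⁻¹ ∈ s.A := f.hh_A hv
    have hv1 : t * t ≠ 1 := hne t ht htA
    have hv'1 : f.h * (t * t) * f.h⁻¹ ≠ 1 := fun e => hv1 (conj_eq_one_iff.1 e)
    have hvv : t * t ≠ f.h * (t * t) * f.h⁻¹ := fun e => hv1 (f.h_fpf _ hv e.symm)
    have ht't' : f.h * t * f.h⁻¹ * (f.h * t * f.h⁻¹) = f.h * (t * t) * f.h⁻¹ := by group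
    rcases h.four_cases hv hv' hv1 hv'1 hvv (f.bracket_mem t ht d hd) with e | e | e | e
    · exact absurd e (f.bracket_ne t ht htA d hd hd1)
    · exact ⟨t, ht, e.symm⟩
    · exact ⟨_, f.hh_T ht, ht't'.trans e.symm⟩
    · refine ⟨t * (f.h * t * f.h⁻¹), mul_mem ht (f.hh_T ht), ?_⟩
      rw [show br t d = t * d * t⁻¹ * d⁻¹ from rfl, e, ← ht't']
      set t' := f.h * t * f.h⁻¹ with ht'
      rw [show t * t' * (t * t') = t * (t' * t) * t' by group, f.T_comm t' (f.hh_T ht) t ht]
      group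
  have hd₀P : d₀ ∈ f.P := f.D_le_P hd₀
  have huA : u ∉ s.A := fun e => by
    rw [s.sq e] at huu
    exact f.bracket_ne t ht htA d hd hd1 huu.symm
  set x := t * d₀ with hx
  have hxS : x ∈ (s.S : Subgroup G) := (s.S : Subgroup G).mul_mem (f.T_le ht) (f.D_le hd₀)
  have hxA : x ∉ s.A := fun e => f.not_mem_P ht htA (by
    rw [show t = x * d₀⁻¹ by rw [hx]; group]
    exact mul_mem (hA e) (inv_mem hd₀P))
  have hpow : ∀ {a : G}, a ∈ f.T → ∀ {e : G}, e ∈ f.D → a * e * (a * e) = br a e * (a * a) := by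
    intro a ha e he
    have h1 : br e a = br a e := h.br_comm (f.bracket_mem a ha e he)
    calc a * e * (a * e) = a * (br e a * (a * e)) * e := by rw [br_self_mul]; group
      _ = br e a * (a * a) * (e * e) := by
        rw [← mul_assoc a, h.commute_A (f.T_le ha) (h1 ▸ f.bracket_mem a ha e he)]; group
      _ = br a e * (a * a) := by rw [f.D_sq e he, mul_one, h1]
  have hx2 : x * x = 1 := by
    rw [hx, hpow ht hd₀, hd₀t]
    exact s.sq (f.sq_mem t ht)
  have hc : (u * d) * x = x * (u * d) := by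
    rw [← br_eq_one_iff, hx]
    have b1 : br u (t * d₀) = br u d₀ := by
      rw [h.br_mul_right (f.T_le ht) (f.bracket_mem u hu d₀ hd₀), f.br_TT h hu ht, one_mul]
    have b2 : br d (t * d₀) = br t d := by
      rw [h.br_mul_right (f.T_le ht) (by rw [f.br_P h (f.D_le_P hd) hd₀P]; exact one_mem _),
        f.br_P h (f.D_le_P hd) hd₀P, mul_one]
      exact h.br_comm (f.bracket_mem t ht d hd)
    rw [h.br_mul_left (f.T_le hu) (by rw [b2]; exact f.bracket_mem t ht d hd), b1, b2, hall u hu, huu]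
    exact s.sq (f.bracket_mem t ht d hd)
  have hzz : u * d * (u * d) = br u (d₀ * d) := by
    rw [hpow hu hd, h.br_mul_right (f.D_le hd₀) (f.bracket_mem u hu d hd), hall u hu]
    exact s.comm (f.bracket_mem u hu d hd) (f.sq_mem u hu)
  have hmem : d₀ * d ∈ f.D := f.D.mul_mem hd₀ hd
  have h1 := hsq x hxS (orderOf_eq_prime (by rw [pow_two, hx2]) fun e => hxA (e ▸ one_mem _)) hxA (u * d)
    ((s.S : Subgroup G).mul_mem (f.T_le hu) (f.D_le hd)) hc (by rw [hzz]; exact f.bracket_mem u hu _ hmem)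
  rw [hzz] at h1
  exact f.bracket_ne u hu huA _ hmem (fun e => hdd₀ ((eq_inv_of_mul_eq_one_right e).trans
    (inv_eq_of_mul_eq_one_right (f.D_sq d₀ hd₀)))) h1

/-- The case `|D| = 2`. -/
theorem Frame.false_of_two (f : Frame s) (hD : Nat.card f.D = 2)
    (hsq : ∀ x ∈ (s.S : Subgroup G), orderOf x = 2 → x ∉ s.A →
      ∀ z ∈ (s.S : Subgroup G), z * x = x * z → z * z ∈ s.A → z * z = 1)
    (hframe : ∀ x ∈ (s.S : Subgroup G), orderOf x = 2 → x ∉ s.A →
      Nat.card ↥((s.S : Subgroup G) ⊓ centralizer ({x} : Set G)) = 8 →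
      (∀ R : Subgroup G, IsPGroup 2 R → R ≤ centralizer (s.A : Set G) →
        R ≤ normalizer (((s.S : Subgroup G) ⊓ centralizer ({x} : Set G) : Subgroup G) : Set G) →
        Nat.card R ≤ Nat.card ↥((s.S : Subgroup G) ⊓
          normalizer (((s.S : Subgroup G) ⊓ centralizer ({x} : Set G) : Subgroup G) : Set G))) →
      ∃ f' : Frame s, f'.P = (s.S : Subgroup G) ⊓ centralizer ({x} : Set G)) : False := by
  classical
  haveI : Fact (Nat.Prime 2) := ⟨Nat.prime_two⟩
  set S := (s.S : Subgroup G) with hSdef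
  let Pc : G → Subgroup G := fun x => S ⊓ centralizer ({x} : Set G)
  -- centralisers of order eight
  have hP8 : ∀ x ∈ S, orderOf x = 2 → x ∉ s.A →
      Nat.card ↥(Pc x) = 8 ∧ ∀ w ∈ Pc x, w ∈ s.A ∨ w * x⁻¹ ∈ s.A := by
    intro x hx hx2 hxA
    have hle : s.A ⊔ zpowers x ≤ Pc x := sup_le (le_inf s.closed.1 fun a ha =>
      mem_centralizer_singleton_iff.2 (h.commute_A hx ha).symm)
      (zpowers_le.2 ⟨hx, mem_centralizer_singleton_iff.2 rfl⟩)
    have hinf : s.A ⊓ zpowers x = ⊥ := by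
      rw [eq_bot_iff]
      rintro v ⟨hv, hv'⟩
      obtain ⟨i, rfl⟩ := mem_zpowers_iff.1 hv'
      rw [← zpow_mod_orderOf, hx2, Nat.cast_ofNat] at hv ⊢
      rcases Int.emod_two_eq_zero_or_one i with e | e <;> rw [e] at hv ⊢
      · simp
      · exact absurd (by simpa using hv) hxA
    have h8 : Nat.card ↥(s.A ⊔ zpowers x) = 8 := by
      have h1 := Grp.card_sup_mul_card_inf (H := s.A) (N := zpowers x) (fun a ha => mem_normalizer_fintype fun v hv => by
        rwa [← h.commute_A ((zpowers_le.2 hx : zpowers x ≤ S) hv) ha, mul_inv_cancel_right])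
      rw [hinf, Subgroup.card_bot, mul_one, h.card, Nat.card_zpowers, hx2] at h1
      exact h1
    have hub : Nat.card ↥(Pc x) ≤ 8 := by
      have := f.max x hx hx2 hxA (Pc x) (s.S.isPGroup'.to_le inf_le_left) (inf_le_left.trans h.central) inf_le_right
      rw [hD] at this
      exact this
    have heq : s.A ⊔ zpowers x = Pc x := eq_of_le_of_card_ge hle (by rw [h8]; exact hub)
    refine ⟨by rw [← heq, h8], fun w hw => ?_⟩
    have hw' : w ∈ ((s.A ⊔ zpowers x : Subgroup G) : Set G) := heq ▸ hw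
    rw [coe_mul_of_right_le_normalizer_left _ _
      ((zpowers_le.2 hx : zpowers x ≤ S).trans s.sylow_le_normalizer)] at hw'
    obtain ⟨a, ha, v, hv, rfl⟩ := hw'
    obtain ⟨i, rfl⟩ := mem_zpowers_iff.1 hv
    rw [← zpow_mod_orderOf, hx2, Nat.cast_ofNat]
    rcases Int.emod_two_eq_zero_or_one i with e | e <;> rw [e]
    · left; simpa using ha
    · right; simpa using ha
  -- elements moving `x` inside `x A`
  have hnorm : ∀ x ∈ S, orderOf x = 2 → x ∉ s.A → ∀ r ∈ S, br r x ∈ s.A →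
      r ∈ normalizer ((Pc x : Subgroup G) : Set G) := by
    intro x hx hx2 hxA r hr hrx
    refine mem_normalizer_fintype fun w hw => ?_
    have hxP : x ∈ Pc x := ⟨hx, mem_centralizer_singleton_iff.2 rfl⟩
    have hrx' : r * x * r⁻¹ ∈ Pc x := by
      rw [show r * x * r⁻¹ = br r x * x by rw [br]; group]
      exact (Pc x).mul_mem ⟨s.closed.1 hrx, mem_centralizer_singleton_iff.2 (h.commute_A hx hrx).symm⟩ hxP
    rcases (hP8 x hx hx2 hxA).2 w hw with e | e
    · rw [h.commute_inv hr e]; exact hw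
    · rw [show r * w * r⁻¹ = r * (w * x⁻¹) * r⁻¹ * (r * x * r⁻¹) by group, h.commute_inv hr e]
      exact (Pc x).mul_mem ((Pc x).mul_mem hw ((Pc x).inv_mem hxP)) hrx'
  have hbr : ∀ x ∈ S, orderOf x = 2 → x ∉ s.A → ∀ r : G, r ∈ normalizer ((Pc x : Subgroup G) : Set G) →
      br r x ∈ s.A := by
    intro x hx hx2 hxA r hr
    have hw : r * x * r⁻¹ ∈ Pc x :=
      (mem_normalizer_iff.1 hr x).1 ⟨hx, mem_centralizer_singleton_iff.2 rfl⟩
    exact ((hP8 x hx hx2 hxA).2 _ hw).resolve_left (s.conj_not_mem hx hxA r)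
  -- at most thirty-two
  have h32 : ∀ x ∈ S, orderOf x = 2 → x ∉ s.A → ∀ R : Subgroup G, IsPGroup 2 R →
      R ≤ centralizer (s.A : Set G) → R ≤ normalizer ((Pc x : Subgroup G) : Set G) → Nat.card R ≤ 32 := by
    intro x hx hx2 hxA R hR hRC hRN
    let ψ : ↥R →* ↥s.A := MonoidHom.mk' (fun r => ⟨br r x, hbr x hx hx2 hxA r (hRN r.2)⟩) fun u v => by
      refine Subtype.ext ?_
      have hv := hbr x hx hx2 hxA v (hRN v.2)
      show br ((u : G) * v) x = br (u : G) x * br (v : G) x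
      rw [show br ((u : G) * v) x = u * br (v : G) x * (u : G)⁻¹ * br (u : G) x by rw [br, br, br]; group,
        ← mem_centralizer_iff.1 (hRC u.2) _ hv, mul_inv_cancel_right]
      exact s.comm hv (hbr x hx hx2 hxA u (hRN u.2))
    have h1 := ψ.ker.card_mul_index
    rw [Subgroup.index_ker] at h1
    have h2 : Nat.card ↥ψ.range ≤ 4 := by
      rw [← h.card]
      exact Subgroup.card_le_card_group _
    have h3 : Nat.card ↥ψ.ker ≤ 8 := by
      have hle : ψ.ker.map R.subtype ≤ centralizer ({x} : Set G) := by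
        rintro _ ⟨r, hr, rfl⟩
        exact mem_centralizer_singleton_iff.2 (br_eq_one_iff.1 (congrArg Subtype.val (MonoidHom.mem_ker.1 hr)))
      have := f.max x hx hx2 hxA _ (hR.to_le (map_subtype_le _)) ((map_subtype_le _).trans hRC) hle
      rwa [card_map_of_injective R.subtype_injective, hD] at this
    rw [← h1]
    calc Nat.card ↥ψ.ker * Nat.card ↥ψ.range ≤ 8 * 4 := Nat.mul_le_mul h3 h2
      _ = 32 := rfl
  have huP := f.y_mem_P
  by_cases hcen : ∃ z ∈ S, orderOf z = 2 ∧ z ∉ s.A ∧ ∀ r ∈ S, br r z ∈ s.A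
  · -- a central involution modulo `A`: `S = Q`
    obtain ⟨z, hz, hz2, hzA, hzc⟩ := hcen
    have hSN : S ≤ normalizer ((Pc z : Subgroup G) : Set G) := fun r hr => hnorm z hz hz2 hzA r hr (hzc r hr)
    obtain ⟨f', hf'⟩ := hframe z hz hz2 hzA (hP8 z hz hz2 hzA).1 fun R hR _ _ => by
      show Nat.card R ≤ Nat.card ↥(S ⊓ normalizer ((Pc z : Subgroup G) : Set G))
      rw [inf_eq_left.2 hSN]
      obtain ⟨P', hP'⟩ := hR.exists_le_sylow
      exact (card_le_of_le hP').trans (Nat.card_congr (P'.equiv s.S).toEquiv).le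
    have hD' : Nat.card f'.D = 2 := by
      have := f'.cardP h
      rw [hf', (hP8 z hz hz2 hzA).1] at this
      omega
    have hSQ : f'.Q = S := by
      show S ⊓ normalizer ((f'.P : Subgroup G) : Set G) = S
      rw [hf']
      exact inf_eq_left.2 hSN
    have hSc : Nat.card ↥S = 32 := by rw [← hSQ, f'.cardQ h, hD']
    have h2 : f'.T.relIndex S = 2 := by
      have h1 := Grp.card_mul_relIndex (f'.T_le : f'.T ≤ S)
      rw [f'.cardT, hSc] at h1
      have h1' : 16 * f'.T.relIndex S = 32 := h1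
      omega
    have hyT : f'.y ∉ f'.T := fun e => f'.four.not_mem (f'.T_inf.le ⟨e, f'.y_mem_P⟩)
    obtain ⟨g, hg⟩ := exists_conj_mem_of_index_two s f'.T_le h2 f'.four.inv f'.four.mem hyT
    refine f'.not_elem_two h hD' _ hg (s.conj_not_mem f'.four.mem f'.four.not_mem g) ?_
    rw [show g * f'.y * g⁻¹ * (g * f'.y * g⁻¹) = g * (f'.y * f'.y) * g⁻¹ by group,
      f'.P_sq h f'.y_mem_P]
    group
  push Not at hcen
  -- an element central modulo `A`
  obtain ⟨z, hz, hzA, hzsq, hzc⟩ : ∃ z ∈ S, z ∉ s.A ∧ z * z ∈ s.A ∧ ∀ r ∈ S, br r z ∈ s.A := by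
    haveI hn : (s.A.subgroupOf S).Normal := ⟨fun a ha r => mem_subgroupOf.2 (by
      show (r : G) * a * (r : G)⁻¹ ∈ s.A
      rw [h.commute_inv r.2 (mem_subgroupOf.1 ha)]
      exact mem_subgroupOf.1 ha)⟩
    have hp : IsPGroup 2 ↥(⊤ : Subgroup (↥S ⧸ s.A.subgroupOf S)) :=
      (s.S.isPGroup'.to_quotient (s.A.subgroupOf S)).to_subgroup _
    have hne : (⊤ : Subgroup (↥S ⧸ s.A.subgroupOf S)) ≠ ⊥ := by
      intro e
      have h1 : ((⟨f.y, f.four.mem⟩ : ↥S) : ↥S ⧸ s.A.subgroupOf S) = 1 := mem_bot.1 (e ▸ mem_top _)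
      exact f.four.not_mem (mem_subgroupOf.1 ((QuotientGroup.eq_one_iff _).1 h1))
    obtain ⟨w, -, hw2, hwc⟩ := exists_central_involution hp le_rfl hne (fun _ _ _ _ => mem_top _)
    obtain ⟨⟨z, hz⟩, rfl⟩ := QuotientGroup.mk_surjective w
    refine ⟨z, hz, fun e => ?_, ?_, fun r hr => ?_⟩
    · rw [(QuotientGroup.eq_one_iff _).2 (mem_subgroupOf.2 e), orderOf_one] at hw2
      omega
    · have h1 := pow_orderOf_eq_one ((⟨z, hz⟩ : ↥S) : ↥S ⧸ s.A.subgroupOf S)
      rw [hw2, pow_two, ← QuotientGroup.mk_mul, QuotientGroup.eq_one_iff] at h1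
      exact mem_subgroupOf.1 h1
    · have h1 := hwc ((⟨r, hr⟩ : ↥S) : ↥S ⧸ s.A.subgroupOf S) (mem_top _)
      rw [← QuotientGroup.mk_mul, ← QuotientGroup.mk_mul, QuotientGroup.eq, mem_subgroupOf] at h1
      have h1' : (r * z)⁻¹ * (z * r) ∈ s.A := h1
      have e1 : br r z = (r * z) * ((r * z)⁻¹ * (z * r))⁻¹ * (r * z)⁻¹ := by rw [br]; group
      rw [e1, h.commute_inv (S.mul_mem hr hz) (s.A.inv_mem h1')]
      exact s.A.inv_mem h1'
  have hz1 : z * z ≠ 1 := fun e => by
    obtain ⟨r, hr, hr'⟩ := hcen z hz (orderOf_eq_prime (by rw [pow_two, e]) fun e' => hzA (e' ▸ one_mem _)) hzA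
    exact hr' (hzc r hr)
  -- every involution takes the value `z²`
  have hval : ∀ x ∈ S, orderOf x = 2 → x ∉ s.A → br x z = z * z := by
    intro x hx hx2 hxA
    set c := br x z with hc
    have hcA : c ∈ s.A := hzc x hx
    have hc1 : c ≠ 1 := fun e => hz1 (hsq x hx hx2 hxA z hz (br_eq_one_iff.1 e).symm hzsq)
    have hzx : br z x = c := h.br_comm hcA
    have hxx : x * x = 1 := by rw [← pow_two, ← hx2, pow_orderOf_eq_one]
    have hzN : z ∈ normalizer ((Pc x : Subgroup G) : Set G) := hnorm x hx hx2 hxA z hz (by rw [hzx]; exact hcA)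
    let Qx : Subgroup G := S ⊓ normalizer ((Pc x : Subgroup G) : Set G)
    -- an involution of `Qx` moving `x`
    obtain ⟨x', hx'Q, hx'2, hx'A, hx'P⟩ :
        ∃ x' ∈ Qx, orderOf x' = 2 ∧ x' ∉ s.A ∧ x' ∉ Pc x := by
      by_contra hno
      push Not at hno
      haveI : Group.IsNilpotent ↥S := s.S.isPGroup'.isNilpotent
      have hQS : Qx = S := by
        by_contra hne
        have hlt := Group.normalizerCondition_of_isNilpotent (G := ↥S) (Qx.subgroupOf S)
          (lt_top_iff_ne_top.2 fun e => hne (le_antisymm inf_le_left (subgroupOf_eq_top.1 e)))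
        obtain ⟨r, hr, hr'⟩ := SetLike.exists_of_lt hlt
        refine hr' (mem_subgroupOf.2 ⟨r.2, ?_⟩)
        have hxQ : x ∈ Qx := ⟨hx, le_normalizer ⟨hx, mem_centralizer_singleton_iff.2 rfl⟩⟩
        have himg : (r : G) * x * (r : G)⁻¹ ∈ Qx := (mem_normalizer_iff.1 hr ⟨x, hx⟩).1 hxQ
        have hP' := hno _ himg (by
          rw [← hx2]; exact orderOf_injective (MulAut.conj (r : G)).toMonoidHom (MulAut.conj (r : G)).injective x)
          (s.conj_not_mem hx hxA r)
        exact hnorm x hx hx2 hxA r r.2 (((hP8 x hx hx2 hxA).2 _ hP').resolve_left (s.conj_not_mem hx hxA r))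
      obtain ⟨r, hr, hr'⟩ := hcen x hx hx2 hxA
      exact hr' (hbr x hx hx2 hxA r ((hQS.ge hr).2))
    set e := br x' x with he
    have heA : e ∈ s.A := hbr x hx hx2 hxA x' hx'Q.2
    have he1 : e ≠ 1 := fun e' => hx'P ⟨hx'Q.1, mem_centralizer_singleton_iff.2 (br_eq_one_iff.1 e')⟩
    have hx'x' : x' * x' = 1 := by rw [← pow_two, ← hx'2, pow_orderOf_eq_one]
    by_cases hec : e = c
    · have hw : z * x' ∈ Pc x := ⟨S.mul_mem hz hx'Q.1, mem_centralizer_singleton_iff.2 (br_eq_one_iff.1 (by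
        rw [h.br_mul_left hz heA, ← he, hzx, hec]; exact s.sq hcA))⟩
      rcases (hP8 x hx hx2 hxA).2 _ hw with ha | ha
      · exfalso
        refine hz1 ?_
        set a := z * x' with hadef
        rw [show z = a * x'⁻¹ by rw [hadef]; group, inv_eq_of_mul_eq_one_right hx'x',
          show a * x' * (a * x') = a * (x' * a) * x' by group, h.commute_A hx'Q.1 ha,
          show a * (a * x') * x' = a * a * (x' * x') by group, s.sq ha, hx'x', one_mul]
      · set a := z * x' * x⁻¹ with hadef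
        rw [show z = a * (x * x'⁻¹) by rw [hadef]; group, inv_eq_of_mul_eq_one_right hx'x']
        have e1 : x * x' * (x * x') = br x x' := by
          rw [br, inv_eq_of_mul_eq_one_right hxx, inv_eq_of_mul_eq_one_right hx'x']; group
        rw [show a * (x * x') * (a * (x * x')) = a * ((x * x') * a) * (x * x') by group,
          h.commute_A (S.mul_mem hx hx'Q.1) ha, show a * (a * (x * x')) * (x * x') = a * a * (x * x' * (x * x')) by group,
          s.sq ha, one_mul, e1, h.br_comm heA, ← he, hec]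
    -- two values: a frame at `x`
    have hcard : 32 ≤ Nat.card ↥Qx := by
      let ψ : ↥Qx →* ↥s.A := MonoidHom.mk' (fun r => ⟨br r x, hbr x hx hx2 hxA r r.2.2⟩) fun u v => by
        refine Subtype.ext ?_
        show br ((u : G) * v) x = br (u : G) x * br (v : G) x
        rw [h.br_mul_left u.2.1 (hbr x hx hx2 hxA v v.2.2)]
        exact s.comm (hbr x hx hx2 hxA v v.2.2) (hbr x hx hx2 hxA u u.2.2)
      have h1 := ψ.ker.card_mul_index
      rw [Subgroup.index_ker] at h1
      have hrange : ψ.range = ⊤ := eq_top_iff.2 fun v _ => by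
        have hzQ : z ∈ Qx := ⟨hz, hzN⟩
        rcases h.four_cases heA hcA he1 hc1 hec v.2 with e' | e' | e' | e'
        · exact ⟨1, Subtype.ext (by rw [e']; show br (1 : G) x = 1; simp [br])⟩
        · exact ⟨⟨x', hx'Q⟩, Subtype.ext e'.symm⟩
        · exact ⟨⟨z, hzQ⟩, Subtype.ext (by rw [e']; exact hzx)⟩
        · refine ⟨⟨x' * z, Qx.mul_mem hx'Q hzQ⟩, Subtype.ext ?_⟩
          show br (x' * z) x = v
          rw [h.br_mul_left hx'Q.1 (by rw [hzx]; exact hcA), hzx, e', ← he]
          exact s.comm hcA heA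
      have hker : Nat.card ↥ψ.ker ≥ 8 := by
        rw [← (hP8 x hx hx2 hxA).1]
        refine Nat.card_le_card_of_injective
          (fun w => ⟨⟨w.1, w.2.1, le_normalizer w.2⟩, MonoidHom.mem_ker.2 (Subtype.ext
            (br_eq_one_iff.2 (mem_centralizer_singleton_iff.1 w.2.2)))⟩) fun u v e' => Subtype.ext ?_
        exact congrArg (fun w : ↥ψ.ker => (((w : ↥Qx)) : G)) e'
      rw [hrange, Subgroup.card_top, h.card] at h1
      omega
    obtain ⟨f', hf'⟩ := hframe x hx hx2 hxA (hP8 x hx hx2 hxA).1 fun R hR hRC hRN =>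
      (h32 x hx hx2 hxA R hR hRC hRN).trans hcard
    have hD' : Nat.card f'.D = 2 := by
      have := f'.cardP h
      rw [hf', (hP8 x hx hx2 hxA).1] at this
      omega
    have hQ' : ∀ w : G, w ∈ Qx → w ∈ f'.Q := fun w hw => by
      show w ∈ S ⊓ normalizer ((f'.P : Subgroup G) : Set G)
      rw [hf']
      exact hw
    have hxP : x ∈ f'.P := by rw [hf']; exact ⟨hx, mem_centralizer_singleton_iff.2 rfl⟩
    obtain ⟨a₀, ha₀, d, hd, had⟩ := f'.dec h hxP
    have hd1 : d ≠ 1 := fun e' => hxA (by rw [← had, e', mul_one]; exact ha₀)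
    have hbd : ∀ u ∈ f'.T, br u x = br u d := fun u hu => by
      rw [← had, h.br_mul_right (s.closed.1 ha₀) (f'.bracket_mem u hu d hd), h.br_A (f'.T_le hu) ha₀, one_mul]
    have hPA : ∀ p ∈ f'.P, p ∈ s.A ∨ p * x⁻¹ ∈ s.A := fun p hp => (hP8 x hx hx2 hxA).2 p (hf'.le hp)
    have hTx : ∀ u ∈ f'.T, ∀ p ∈ f'.P, p ∉ s.A → u * p * (u * p) = u * u * br u x := by
      intro u hu p hp hpA
      have hbA := f'.br_TP_mem h hu hp
      have hbp : br u p = br u x := by
        have ha := (hPA p hp).resolve_left hpA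
        rw [show p = p * x⁻¹ * x by group, h.br_mul_right (s.closed.1 ha) (f'.br_TP_mem h hu hxP),
          h.br_A (f'.T_le hu) ha, one_mul]
      calc u * p * (u * p) = u * (br p u * (u * p)) * p := by rw [br_self_mul]; group
        _ = br p u * (u * u) * (p * p) := by
          rw [← mul_assoc u, h.commute_A (f'.T_le hu) (by rw [h.br_comm hbA]; exact hbA)]; group
        _ = br u p * (u * u) := by rw [f'.P_sq h hp, mul_one, h.br_comm hbA]
        _ = u * u * br u x := by rw [s.comm hbA (f'.sq_mem u hu), hbp]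
    have inside : ∀ u ∈ f'.T, ∀ p ∈ s.A, u * p * (u * p) = u * u := fun u hu p hp => by
      rw [show u * p * (u * p) = u * (p * u) * p by group, ← h.commute_A (f'.T_le hu) hp,
        show u * (u * p) * p = u * u * (p * p) by group, s.sq hp, mul_one]
    obtain ⟨t, ht, p, hp, htp⟩ := f'.dec_Q h (hQ' x' hx'Q)
    have htA : t ∉ s.A := fun e' => hx'P (hf'.le (htp ▸ f'.P.mul_mem (f'.A_le_P e') hp))
    have htsq : br t x = t * t := by
      by_cases hpA : p ∈ s.A
      · exfalso
        rw [← htp, inside t ht p hpA] at hx'x'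
        exact f'.not_elem_two h hD' t ht htA hx'x'
      · rw [← htp, hTx t ht p hp hpA] at hx'x'
        exact (eq_inv_of_mul_eq_one_right hx'x').trans (inv_eq_of_mul_eq_one_right (s.sq (f'.sq_mem t ht)))
    have hall : ∀ u ∈ f'.T, br u d = u * u := by
      have hA0 : ∀ a ∈ s.A, br a d = a * a := fun a ha => by
        rw [s.sq ha, br_eq_one_iff]; exact (h.commute_A (f'.D_le hd) ha).symm
      have hmul : ∀ a ∈ f'.T, ∀ b ∈ f'.T, br a d = a * a → br b d = b * b → br (a * b) d = a * b * (a * b) :=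
        fun a ha b hb e1 e2 => by
          rw [h.br_mul_left (f'.T_le ha) (f'.bracket_mem b hb d hd), e1, e2,
            show a * b * (a * b) = a * (b * a) * b by group, f'.T_comm b hb a ha,
            show a * (a * b) * b = a * a * (b * b) by group]
          exact s.comm (f'.sq_mem b hb) (f'.sq_mem a ha)
      have hd0 : br t d = t * t := (hbd t ht).symm.trans htsq
      have ht' : br (f'.h * t * f'.h⁻¹) d = f'.h * t * f'.h⁻¹ * (f'.h * t * f'.h⁻¹) := by
        rw [f'.br_h h hd, hd0]; group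
      intro u hu
      have key : ∀ w ∈ f'.T, br w d = w * w → u * w⁻¹ ∈ s.A → br u d = u * u := fun w hw e' hmem => by
        rw [show u = u * w⁻¹ * w by group]
        exact hmul _ (f'.A_le_T hmem) _ hw (hA0 _ hmem) e'
      rcases f'.gen h ht htA hu with e' | e' | e' | e'
      · exact hA0 u e'
      · exact key t ht hd0 e'
      · exact key _ (f'.hh_T ht) ht' e'
      · exact key _ (mul_mem ht (f'.hh_T ht)) (hmul _ ht _ (f'.hh_T ht) hd0 ht') e'
    obtain ⟨u, hu, q, hq, huq⟩ := f'.dec_Q h (hQ' z ⟨hz, hzN⟩)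
    by_cases hqA : q ∈ s.A
    · rw [← hzx, ← huq, inside u hu q hqA, h.br_mul_left (f'.T_le hu)
        (by rw [h.br_comm (x := x) (by rw [h.br_A hx hqA]; exact one_mem _), h.br_A hx hqA]; exact one_mem _),
        h.br_comm (x := x) (by rw [h.br_A hx hqA]; exact one_mem _), h.br_A hx hqA, one_mul, hbd u hu, hall u hu]
    · exfalso
      apply hz1
      rw [← huq, hTx u hu q hq hqA, hbd u hu, hall u hu]
      exact s.sq (f'.sq_mem u hu)
  -- the subgroup of index two
  obtain ⟨b, hb, hb1, hbz⟩ : ∃ b ∈ s.A, b ≠ 1 ∧ b ≠ z * z :=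
    ⟨f.h * (z * z) * f.h⁻¹, f.hh_A hzsq, fun e => hz1 (conj_eq_one_iff.1 e), fun e => hz1 (f.h_fpf _ hzsq e)⟩
  have hbb : ∀ v ∈ zpowers b, v = 1 ∨ v = b := fun v hv => by
    obtain ⟨i, rfl⟩ := mem_zpowers_iff.1 hv
    rw [← zpow_mod_orderOf, s.orderOf_eq hb hb1, Nat.cast_ofNat]
    rcases Int.emod_two_eq_zero_or_one i with e | e <;> rw [e] <;> simp
  let M : Subgroup G :=
    { carrier := {r | r ∈ S ∧ br r z ∈ zpowers b}
      one_mem' := ⟨one_mem _, by simp [br]⟩
      mul_mem' := fun {u v} hu hv => ⟨S.mul_mem hu.1 hv.1, by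
        rw [h.br_mul_left hu.1 (hzc v hv.1)]; exact mul_mem hv.2 hu.2⟩
      inv_mem' := fun {u} hu => ⟨S.inv_mem hu.1, by
        have h1 := h.br_mul_left (z := u) (y := z) (S.inv_mem hu.1) (hzc u hu.1)
        rw [inv_mul_cancel, show br (1 : G) z = 1 by simp [br]] at h1
        rw [eq_inv_of_mul_eq_one_right h1.symm]
        exact inv_mem hu.2⟩ }
  have hMS : M ≤ S := fun r hr => hr.1
  have hout : ∀ x ∈ S, orderOf x = 2 → x ∉ s.A → x ∉ M := by
    intro x hx hx2 hxA hxM
    rcases hbb _ hxM.2 with e | e <;> rw [hval x hx hx2 hxA] at e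
    · exact hz1 e
    · exact hbz e.symm
  have h2 : M.relIndex S = 2 := by
    rw [relIndex, Subgroup.index_eq_two_iff]
    refine ⟨⟨f.y, f.four.mem⟩, fun r => ?_⟩
    rw [mem_subgroupOf, mem_subgroupOf]
    have hvy := hval f.y f.four.mem f.four.inv f.four.not_mem
    have hbry : br ((r : G) * f.y) z = z * z * br (r : G) z := by
      rw [h.br_mul_left r.2 (hzc _ f.four.mem), hvy]
    by_cases hr : (r : G) ∈ M
    · refine Or.inr ⟨hr, fun hry => ?_⟩
      refine hout f.y f.four.mem f.four.inv f.four.not_mem ?_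
      have := M.mul_mem (M.inv_mem hr) hry
      rwa [show ((r * ⟨f.y, f.four.mem⟩ : ↥S) : G) = (r : G) * f.y from rfl, inv_mul_cancel_left] at this
    · refine Or.inl ⟨⟨S.mul_mem r.2 f.four.mem, ?_⟩, hr⟩
      rw [show ((r * ⟨f.y, f.four.mem⟩ : ↥S) : G) = (r : G) * f.y from rfl, hbry]
      rcases h.four_cases hzsq hb hz1 hb1 hbz.symm (hzc r r.2) with e | e | e | e
      · exact absurd ⟨r.2, by rw [e]; exact one_mem _⟩ hr
      · rw [e, s.sq hzsq]; exact one_mem _
      · exact absurd ⟨r.2, by rw [e]; exact mem_zpowers b⟩ hr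
      · rw [e, ← mul_assoc, s.sq hzsq, one_mul]; exact mem_zpowers b
  obtain ⟨g, hg⟩ := exists_conj_mem_of_index_two s hMS h2 f.four.inv f.four.mem
    (hout f.y f.four.mem f.four.inv f.four.not_mem)
  refine hout _ (hMS hg) ?_ (s.conj_not_mem f.four.mem f.four.not_mem g) hg
  rw [← f.four.inv]
  exact orderOf_injective (MulAut.conj g).toMonoidHom (MulAut.conj g).injective f.y

end Cfsg.Agent.Fus.Gold
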