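import Cfsg.Agent.Lib.Fus.Goldschmidt.FourSmall

/-!
# A frame with `|D| = 4`, `T` elementary: `S = Q`

Otherwise an element of `S` interchanges `P` and `T`; the involutions outside `Q` would all be conjugate and
inverted a subgroup `Z₄ × Z₄`, and transfer gives a contradiction.
-/

set_option autoImplicit false
set_option linter.style.haveILetI false
set_option linter.unusedSectionVars false
set_option maxHeartbeats 1600000

namespace Cfsg.Agent.Fus.Gold

open Subgroup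

universe u

variable {G : Type u} [Group G] [Finite G] {s : Setup G}

omit [Finite G] in
theorem mem_map_conj {H : Subgroup G} {g x : G} :
    x ∈ H.map (MulAut.conj g).toMonoidHom ↔ g⁻¹ * x * g ∈ H := by
  constructor
  · rintro ⟨y, hy, rfl⟩
    simpa [mul_assoc] using hy
  · intro h
    exact ⟨_, h, by simp [mul_assoc]⟩

namespace Frame

variable (f : Frame s) (h : Four s) (hD : Nat.card f.D = 4) (hT : ∀ t ∈ f.T, t * t = 1)

include h hD hT

theorem cardP_four : Nat.card ↥f.P = 16 := by rw [f.cardP h, hD]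

theorem cardQ_four : Nat.card ↥f.Q = 64 := by rw [f.cardQ h, hD]

theorem sq_mul {t p : G} (ht : t ∈ f.T) (hp : p ∈ f.P) : t * p * (t * p) = br t p := by
  have hb := f.br_TP_mem h ht hp
  calc t * p * (t * p) = t * (br p t * (t * p)) * p := by rw [br_self_mul]; group
    _ = br t p * (t * t) * (p * p) := by
      rw [h.br_comm hb, ← mul_assoc t, h.commute_A (f.T_le ht) hb]; group
    _ = br t p := by rw [hT t ht, f.P_sq h hp, mul_one, mul_one]

theorem inv_cases {x : G} (hx : x ∈ f.Q) (h2 : x * x = 1) : x ∈ f.P ∨ x ∈ f.T := by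
  obtain ⟨t, ht, p, hp, rfl⟩ := f.dec_Q h hx
  rw [f.sq_mul h hD hT ht hp] at h2
  by_cases htA : t ∈ s.A
  · exact Or.inl (f.P.mul_mem (f.A_le_P htA) hp)
  · by_cases hpA : p ∈ s.A
    · exact Or.inr (f.T.mul_mem ht (f.A_le_T hpA))
    · exact absurd h2 (f.br_TP_ne h ht htA hp hpA)

theorem sq_Q {q : G} (hq : q ∈ f.Q) : q * q ∈ s.A := by
  obtain ⟨t, ht, p, hp, rfl⟩ := f.dec_Q h hq
  rw [f.sq_mul h hD hT ht hp]
  exact f.br_TP_mem h ht hp

theorem br_Q {q q' : G} (hq : q ∈ f.Q) (hq' : q' ∈ f.Q) : br q q' ∈ s.A := by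
  have hinv : q⁻¹ * q⁻¹ ∈ s.A := f.sq_Q h hD hT (f.Q.inv_mem hq)
  rw [show br q q' = q * q' * (q * q') * (q'⁻¹ * (q⁻¹ * q⁻¹) * q') * (q'⁻¹ * q'⁻¹) by rw [br]; group,
    show q'⁻¹ * (q⁻¹ * q⁻¹) * q' = q⁻¹ * q⁻¹ by
      rw [h.commute_A ((s.S : Subgroup G).inv_mem hq'.1) hinv, inv_mul_cancel_right]]
  exact mul_mem (mul_mem (f.sq_Q h hD hT (f.Q.mul_mem hq hq')) hinv) (f.sq_Q h hD hT (f.Q.inv_mem hq'))

theorem cent_T {t : G} (ht : t ∈ f.T) (htA : t ∉ s.A) :
    (s.S : Subgroup G) ⊓ centralizer ({t} : Set G) = f.T := by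
  have hle : f.T ≤ (s.S : Subgroup G) ⊓ centralizer ({t} : Set G) :=
    le_inf f.T_le fun u hu => mem_centralizer_singleton_iff.2 (f.T_comm u hu t ht)
  refine (eq_of_le_of_card_ge hle ?_).symm
  rw [f.cardT]
  have := f.max t (f.T_le ht) (orderOf_eq_prime (by rw [pow_two, hT t ht]) fun e => htA (e ▸ one_mem _)) htA
    ((s.S : Subgroup G) ⊓ centralizer ({t} : Set G)) (s.S.isPGroup'.to_le inf_le_left)
    (inf_le_left.trans h.central) inf_le_right
  rw [hD] at this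
  exact this

theorem P_ne_T : f.P ≠ f.T := fun e => by
  obtain ⟨t, ht, htA⟩ := f.exists_not_mem_T h
  exact f.not_mem_P ht htA (e ▸ ht)

/-- An element normalising `A` and `Q` maps an elementary subgroup of order sixteen to `P` or `T`. -/
theorem image_cases {n : G} (hn : n ∈ normalizer (s.A : Set G))
    (hnQ : n ∈ normalizer ((f.Q : Subgroup G) : Set G)) {U : Subgroup G} (hU : U = f.P ∨ U = f.T) :
    U.map (MulAut.conj n).toMonoidHom = f.P ∨ U.map (MulAut.conj n).toMonoidHom = f.T := by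
  have hcardU : Nat.card ↥U = 16 := by
    rcases hU with rfl | rfl
    exacts [f.cardP_four h hD hT, f.cardT]
  have hUQ : U ≤ f.Q := by rcases hU with rfl | rfl <;> [exact f.P_le_Q; exact f.T_le_Q]
  have hUsq : ∀ v ∈ U, v * v = 1 := by
    rcases hU with rfl | rfl <;> [exact fun v hv => f.P_sq h hv; exact hT]
  have hUc : ∀ v ∈ U, ∀ w ∈ U, v * w = w * v := by
    rcases hU with rfl | rfl <;> [exact fun v hv w hw => f.P_comm h hv hw; exact f.T_comm]
  obtain ⟨x, hx, hxA⟩ : ∃ x ∈ U, x ∉ s.A := by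
    by_contra hno
    push Not at hno
    have := card_le_of_le (show U ≤ s.A from hno)
    rw [hcardU, h.card] at this
    omega
  have himg : ∀ v ∈ U, n * v * n⁻¹ ∈ f.Q := fun v hv => (mem_normalizer_iff.1 hnQ v).1 (hUQ hv)
  have hle : U.map (MulAut.conj n).toMonoidHom ≤
      (s.S : Subgroup G) ⊓ centralizer ({n * x * n⁻¹} : Set G) := by
    rintro _ ⟨v, hv, rfl⟩
    refine ⟨f.Q_le (himg v hv), mem_centralizer_singleton_iff.2 ?_⟩
    show n * v * n⁻¹ * (n * x * n⁻¹) = n * x * n⁻¹ * (n * v * n⁻¹)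
    calc n * v * n⁻¹ * (n * x * n⁻¹) = n * (v * x) * n⁻¹ := by group
      _ = n * (x * v) * n⁻¹ := by rw [hUc v hv x hx]
      _ = _ := by group
  have hnxA : n * x * n⁻¹ ∉ s.A := s.conj_not_mem (f.Q_le (hUQ hx)) hxA n
  have hc : Nat.card ↥(U.map (MulAut.conj n).toMonoidHom) = Nat.card ↥U :=
    card_map_of_injective (f := (MulAut.conj n).toMonoidHom) (MulAut.conj n).injective
  rcases f.inv_cases h hD hT (himg x hx) (by
    rw [show n * x * n⁻¹ * (n * x * n⁻¹) = n * (x * x) * n⁻¹ by group, hUsq x hx]; group) with e | e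
  · left
    rw [f.cent _ e hnxA] at hle
    exact eq_of_le_of_card_ge hle (by rw [hc, hcardU]; exact (f.cardP_four h hD hT).le)
  · right
    rw [f.cent_T h hD hT e hnxA] at hle
    exact eq_of_le_of_card_ge hle (by rw [hc, hcardU, f.cardT])

/-- An element of `N_S(Q)` outside `Q` interchanges `P` and `T`. -/
theorem swap {w : G} (hw : w ∈ (s.S : Subgroup G)) (hwQ : w ∈ normalizer ((f.Q : Subgroup G) : Set G))
    (hwn : w ∉ f.Q) : f.P.map (MulAut.conj w).toMonoidHom = f.T ∧ f.T.map (MulAut.conj w).toMonoidHom = f.P := by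
  have hn := s.sylow_le_normalizer hw
  have h1 : f.P.map (MulAut.conj w).toMonoidHom = f.T := by
    refine (f.image_cases h hD hT hn hwQ (Or.inl rfl)).resolve_left fun e => hwn ⟨hw, ?_⟩
    refine mem_normalizer_fintype fun v hv => ?_
    show w * v * w⁻¹ ∈ f.P
    exact e ▸ mem_map_of_mem _ hv
  refine ⟨h1, (f.image_cases h hD hT hn hwQ (Or.inr rfl)).resolve_right fun e => ?_⟩
  exact f.P_ne_T h hD hT (map_injective (f := (MulAut.conj w).toMonoidHom) (MulAut.conj w).injective (h1.trans e.symm))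

theorem mul_mem_Q {w w' : G} (hw : w ∈ (s.S : Subgroup G) ⊓ normalizer ((f.Q : Subgroup G) : Set G))
    (hw' : w' ∈ (s.S : Subgroup G) ⊓ normalizer ((f.Q : Subgroup G) : Set G))
    (hwn : w ∉ f.Q) (hwn' : w' ∉ f.Q) : w * w' ∈ f.Q := by
  refine ⟨(s.S : Subgroup G).mul_mem hw.1 hw'.1, mem_normalizer_fintype fun v hv => ?_⟩
  obtain ⟨h1, -⟩ := f.swap h hD hT hw'.1 hw'.2 hwn'
  obtain ⟨-, h2⟩ := f.swap h hD hT hw.1 hw.2 hwn
  have hv' : w' * v * w'⁻¹ ∈ f.T := h1 ▸ mem_map_of_mem _ hv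
  have h3 : w * (w' * v * w'⁻¹) * w⁻¹ ∈ f.P := h2 ▸ mem_map_of_mem _ hv'
  show w * w' * v * (w * w')⁻¹ ∈ f.P
  rwa [show w * w' * v * (w * w')⁻¹ = w * (w' * v * w'⁻¹) * w⁻¹ by group]

/-- `Q` is the only conjugate of `Q` in `N_S(Q)`. -/
theorem normalizer_le {n : G} (hn : n ∈ normalizer (s.A : Set G))
    (hnW : n ∈ normalizer (((s.S : Subgroup G) ⊓ normalizer ((f.Q : Subgroup G) : Set G) : Subgroup G) : Set G)) :
    n ∈ normalizer ((f.Q : Subgroup G) : Set G) := by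
  set W := (s.S : Subgroup G) ⊓ normalizer ((f.Q : Subgroup G) : Set G)
  have hQW : f.Q ≤ W := le_inf f.Q_le le_normalizer
  set Q' := f.Q.map (MulAut.conj n).toMonoidHom with hQ'
  have hQ'W : Q' ≤ W := by
    rintro _ ⟨q, hq, rfl⟩
    exact (mem_normalizer_iff.1 hnW q).1 (hQW hq)
  have hQ'c : Nat.card ↥Q' = 64 := by
    rw [hQ', card_map_of_injective (f := (MulAut.conj n).toMonoidHom) (MulAut.conj n).injective, f.cardQ_four h hD hT]
  suffices hsub : Q' ≤ f.Q by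
    have heq : Q' = f.Q := eq_of_le_of_card_ge hsub (by rw [hQ'c]; exact (f.cardQ_four h hD hT).le)
    exact mem_normalizer_fintype fun q hq => hsub ⟨q, hq, rfl⟩
  intro w hwQ'
  by_contra hwn
  have hWc : Nat.card ↥W ≤ 128 := by
    have h1 : (f.Q.subgroupOf W).index = 2 := by
      rw [Subgroup.index_eq_two_iff]
      refine ⟨⟨w, hQ'W hwQ'⟩, fun b => ?_⟩
      rw [mem_subgroupOf, mem_subgroupOf]
      by_cases hb : (b : G) ∈ f.Q
      · refine Or.inr ⟨hb, fun e => hwn ?_⟩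
        have := f.Q.mul_mem (f.Q.inv_mem hb) e
        rwa [show ((b * ⟨w, hQ'W hwQ'⟩ : ↥W) : G) = (b : G) * w from rfl, inv_mul_cancel_left] at this
      · exact Or.inl ⟨f.mul_mem_Q h hD hT b.2 (hQ'W hwQ') hb hwn, hb⟩
    have h2 := (f.Q.subgroupOf W).card_mul_index
    rw [h1, Nat.card_congr (subgroupOfEquivOfLe hQW).toEquiv, f.cardQ_four h hD hT] at h2
    omega
  -- `x ∈ (P ∩ Q') - A`
  obtain ⟨x, hxP, hxQ', hxA⟩ : ∃ x ∈ f.P, x ∈ Q' ∧ x ∉ s.A := by
    by_contra hno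
    push Not at hno
    have hI := Grp.card_sup_mul_card_inf (H := Q') (N := f.Q) (hQ'W.trans inf_le_right)
    have hs1 : Nat.card ↥(Q' ⊔ f.Q) ≤ 128 := (card_le_of_le (sup_le hQ'W hQW)).trans hWc
    rw [hQ'c, f.cardQ_four h hD hT] at hI
    have hI32 : 32 ≤ Nat.card ↥(Q' ⊓ f.Q) := by
      by_contra hc
      have := Nat.mul_le_mul hs1 (Nat.le_of_lt_succ (Nat.lt_of_not_le hc))
      omega
    have hJ := Grp.card_sup_mul_card_inf (H := Q' ⊓ f.Q) (N := f.P) (inf_le_right.trans inf_le_right)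
    rw [f.cardP_four h hD hT] at hJ
    have hs2 : Nat.card ↥((Q' ⊓ f.Q) ⊔ f.P) ≤ 64 := by
      rw [← f.cardQ_four h hD hT]; exact card_le_of_le (sup_le inf_le_right f.P_le_Q)
    have hle : (Q' ⊓ f.Q) ⊓ f.P ≤ s.A := fun v hv => hno v hv.2 hv.1.1
    have h4 := card_le_of_le hle
    rw [h.card] at h4
    have := Nat.mul_le_mul hs2 h4
    omega
  obtain ⟨h1, -⟩ := f.swap h hD hT (hQ'W hwQ').1 (hQ'W hwQ').2 hwn
  have hwx : w * x * w⁻¹ ∈ f.T := h1 ▸ mem_map_of_mem _ hxP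
  have hbr : br w x ∈ s.A := by
    obtain ⟨q, hq, rfl⟩ := hwQ'
    obtain ⟨q', hq', rfl⟩ := hxQ'
    show br (n * q * n⁻¹) (n * q' * n⁻¹) ∈ s.A
    rw [br_conj]
    exact (mem_normalizer_iff.1 hn _).1 (f.br_Q h hD hT hq hq')
  refine hxA ?_
  have h3 : w * x * w⁻¹ ∈ f.P := by
    rw [show w * x * w⁻¹ = br w x * x by rw [br]; group]
    exact f.P.mul_mem (f.A_le_P hbr) hxP
  have h4 : w * x * w⁻¹ ∈ s.A := f.T_inf.le ⟨hwx, h3⟩
  exact absurd h4 (fun e => s.conj_not_mem (f.P_le hxP) hxA w e)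

/-- `S = N_S(Q)`. -/
theorem sylow_le : (s.S : Subgroup G) ≤ normalizer ((f.Q : Subgroup G) : Set G) := by
  haveI : Fact (Nat.Prime 2) := ⟨Nat.prime_two⟩
  haveI : Group.IsNilpotent ↥(s.S : Subgroup G) := s.S.isPGroup'.isNilpotent
  set W := (s.S : Subgroup G) ⊓ normalizer ((f.Q : Subgroup G) : Set G) with hW
  have hWS : W = (s.S : Subgroup G) := by
    by_contra hne
    have hlt := Group.normalizerCondition_of_isNilpotent (G := ↥(s.S : Subgroup G))
      (W.subgroupOf (s.S : Subgroup G))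
      (lt_top_iff_ne_top.2 fun e => hne (le_antisymm inf_le_left (subgroupOf_eq_top.1 e)))
    obtain ⟨r, hr, hr'⟩ := SetLike.exists_of_lt hlt
    refine hr' (mem_subgroupOf.2 ⟨r.2, f.normalizer_le h hD hT (s.sylow_le_normalizer r.2) ?_⟩)
    exact mem_normalizer_fintype fun v hv => (mem_normalizer_iff.1 hr ⟨v, hv.1⟩).1 hv
  exact hWS.ge.trans inf_le_right

/-- The case `|S : Q| = 2` does not occur. -/
theorem sylow_eq_Q : (s.S : Subgroup G) = f.Q := by
  classical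
  haveI : Fact (Nat.Prime 2) := ⟨Nat.prime_two⟩
  haveI : Fact (Nat.Prime 3) := ⟨Nat.prime_three⟩
  refine le_antisymm ?_ f.Q_le
  intro w hwS
  by_contra hwn
  set S := (s.S : Subgroup G) with hSdef
  have hSN := f.sylow_le h hD hT
  have hsw : ∀ v ∈ S, v ∉ f.Q → f.P.map (MulAut.conj v).toMonoidHom = f.T ∧
      f.T.map (MulAut.conj v).toMonoidHom = f.P := fun v hv hvn => f.swap h hD hT hv (hSN hv) hvn
  have hprod : ∀ v ∈ S, ∀ v' ∈ S, v ∉ f.Q → v' ∉ f.Q → v * v' ∈ f.Q := fun v hv v' hv' =>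
    f.mul_mem_Q h hD hT ⟨hv, hSN hv⟩ ⟨hv', hSN hv'⟩
  have hidx : f.Q.relIndex S = 2 := by
    rw [relIndex, Subgroup.index_eq_two_iff]
    refine ⟨⟨w, hwS⟩, fun b => ?_⟩
    rw [mem_subgroupOf, mem_subgroupOf]
    by_cases hb : (b : G) ∈ f.Q
    · refine Or.inr ⟨hb, fun e => hwn ?_⟩
      have := f.Q.mul_mem (f.Q.inv_mem hb) e
      rwa [show ((b * ⟨w, hwS⟩ : ↥S) : G) = (b : G) * w from rfl, inv_mul_cancel_left] at this
    · exact Or.inl ⟨hprod _ b.2 _ hwS hb hwn, hb⟩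
  have hScard : Nat.card ↥S = 128 := by
    have h1 := Grp.card_mul_relIndex (f.Q_le : f.Q ≤ S)
    rw [f.cardQ_four h hD hT] at h1
    have h1' : 64 * f.Q.relIndex S = Nat.card ↥S := h1
    omega
  -- an element of 3-power order normalising `S` and fixed point free on `A`
  obtain ⟨n, hnS, hnA, ⟨k, hk⟩, hnf⟩ : ∃ n : G, n ∈ normalizer (S : Set G) ∧ n ∈ normalizer (s.A : Set G) ∧
      (∃ k : ℕ, orderOf n = 3 ^ k) ∧ ∀ a ∈ s.A, n * a * n⁻¹ = a → a = 1 := by
    have hC : S ≤ centralizer (s.A : Set G) := h.central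
    let S₀ : Sylow 2 ↥(centralizer (s.A : Set G)) := s.S.subtype hC
    have hNC : ∀ g ∈ normalizer (s.A : Set G), ∀ c ∈ centralizer (s.A : Set G),
        g * c * g⁻¹ ∈ centralizer (s.A : Set G) := fun g hg c hc => mem_centralizer_iff.2 fun a ha => by
      have h1 := mem_centralizer_iff.1 hc _ ((mem_normalizer_iff.1 hg (g⁻¹ * a * g)).2 (by
        rw [show g * (g⁻¹ * a * g) * g⁻¹ = a by group]; exact ha))
      calc a * (g * c * g⁻¹) = g * ((g⁻¹ * a * g) * c) * g⁻¹ := by group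
        _ = g * (c * (g⁻¹ * a * g)) * g⁻¹ := by rw [h1]
        _ = _ := by group
    have hR : IsPGroup 2 ↥(S.map (MulAut.conj f.h).toMonoidHom) := s.S.isPGroup'.map _
    have hRC : S.map (MulAut.conj f.h).toMonoidHom ≤ centralizer (s.A : Set G) := by
      rintro _ ⟨x, hx, rfl⟩
      exact hNC _ f.h_norm _ (hC hx)
    obtain ⟨T', hT'⟩ := (hR.comap_of_injective (centralizer (s.A : Set G)).subtype
      (subtype_injective _)).exists_le_sylow (p := 2)
    obtain ⟨c, hc⟩ := MulAction.exists_smul_eq ↥(centralizer (s.A : Set G)) T' S₀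
    set n₀ := (c : G) * f.h with hn₀
    have hn₀S : n₀ ∈ normalizer (S : Set G) := mem_normalizer_fintype fun x hx => by
      have hx' : (MulAut.conj f.h).toMonoidHom x ∈ centralizer (s.A : Set G) := hRC (mem_map_of_mem _ hx)
      have h1 : c * ⟨_, hx'⟩ * c⁻¹ ∈ (S₀ : Subgroup _) := by
        rw [← hc, Sylow.coe_subgroup_smul, ← Grp.map_conj_eq_smul]
        exact ⟨⟨_, hx'⟩, hT' (show (⟨_, hx'⟩ : ↥(centralizer (s.A : Set G))) ∈
          (S.map (MulAut.conj f.h).toMonoidHom).comap (centralizer (s.A : Set G)).subtype from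
            mem_map_of_mem _ hx), rfl⟩
      have h2 : (c : G) * (f.h * x * f.h⁻¹) * (c : G)⁻¹ ∈ S := h1
      rwa [show n₀ * x * n₀⁻¹ = (c : G) * (f.h * x * f.h⁻¹) * (c : G)⁻¹ by rw [hn₀]; group]
    have hn₀a : ∀ a ∈ s.A, n₀ * a * n₀⁻¹ = f.h * a * f.h⁻¹ := fun a ha => by
      rw [show n₀ * a * n₀⁻¹ = (c : G) * (f.h * a * f.h⁻¹) * (c : G)⁻¹ by rw [hn₀]; group,
        ← mem_centralizer_iff.1 c.2 _ (f.hh_A ha), mul_inv_cancel_right]
    have hn₀A : n₀ ∈ normalizer (s.A : Set G) := mem_normalizer_fintype fun a ha => by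
      rw [hn₀a a ha]; exact f.hh_A ha
    obtain ⟨k, hk⟩ := f.h_order
    obtain ⟨i, r, hr, hir⟩ := Nat.exists_eq_pow_mul_and_not_dvd (orderOf_pos n₀).ne' 3 (by norm_num)
    obtain ⟨e, he1, he0⟩ := Nat.chineseRemainder
      (Nat.Coprime.pow_left (i + k) ((Nat.Prime.coprime_iff_not_dvd Nat.prime_three).2 hr)) 1 0
    refine ⟨n₀ ^ e, pow_mem hn₀S e, pow_mem hn₀A e, ?_, fun a ha => ?_⟩
    · have hdvd : orderOf (n₀ ^ e) ∣ 3 ^ i := by
        rw [orderOf_dvd_iff_pow_eq_one, ← pow_mul]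
        obtain ⟨c', hc'⟩ := Nat.modEq_zero_iff_dvd.1 he0
        rw [hc', show r * c' * 3 ^ i = orderOf n₀ * c' by rw [hir]; ring, pow_mul, pow_orderOf_eq_one, one_pow]
      exact ((Nat.dvd_prime_pow Nat.prime_three).1 hdvd).imp fun j hj => hj.2
    · have hpow : ∀ j : ℕ, n₀ ^ j * a * (n₀ ^ j)⁻¹ = f.h ^ j * a * (f.h ^ j)⁻¹ ∧
          f.h ^ j * a * (f.h ^ j)⁻¹ ∈ s.A := by
        intro j
        induction j with
        | zero => exact ⟨by simp, by simpa using ha⟩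
        | succ j ih =>
          refine ⟨?_, ?_⟩
          · rw [pow_succ', pow_succ',
              show n₀ * n₀ ^ j * a * (n₀ * n₀ ^ j)⁻¹ = n₀ * (n₀ ^ j * a * (n₀ ^ j)⁻¹) * n₀⁻¹ by group, ih.1,
              hn₀a _ ih.2]
            group
          · rw [pow_succ', show f.h * f.h ^ j * a * (f.h * f.h ^ j)⁻¹ = f.h * (f.h ^ j * a * (f.h ^ j)⁻¹) * f.h⁻¹ by group]
            exact f.hh_A ih.2
      rw [(hpow e).1, show f.h ^ e = f.h by
        conv_rhs => rw [← pow_one f.h]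
        exact pow_eq_pow_iff_modEq.2 (Nat.ModEq.of_dvd (hk ▸ pow_dvd_pow 3 (Nat.le_add_left k i)) he1)]
      exact f.h_fpf a ha
  have hnQ : n ∈ normalizer ((f.Q : Subgroup G) : Set G) := by
    refine f.normalizer_le h hD hT hnA ?_
    rw [inf_eq_left.2 hSN]
    exact hnS
  -- `n` fixes `P` and `T`
  have hnP : ∀ x ∈ f.P, n * x * n⁻¹ ∈ f.P := by
    have hmap : f.P.map (MulAut.conj n).toMonoidHom = f.P := by
      refine (f.image_cases h hD hT hnA hnQ (Or.inl rfl)).resolve_right fun e => ?_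
      have e' : f.T.map (MulAut.conj n).toMonoidHom = f.P :=
        (f.image_cases h hD hT hnA hnQ (Or.inr rfl)).resolve_right fun e' => f.P_ne_T h hD hT
          (map_injective (f := (MulAut.conj n).toMonoidHom) (MulAut.conj n).injective (e.trans e'.symm))
      have hpow : ∀ j : ℕ, f.P.map (MulAut.conj (n ^ (2 * j))).toMonoidHom = f.P := by
        intro j
        induction j with
        | zero => ext x; simp [mem_map_conj]
        | succ j ih =>
          rw [show n ^ (2 * (j + 1)) = n * (n * n ^ (2 * j)) by rw [← mul_assoc, ← pow_two, ← pow_add, mul_add, add_comm],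
            map_mul, map_mul]
          show f.P.map ((MulAut.conj n).toMonoidHom.comp ((MulAut.conj n).toMonoidHom.comp
            (MulAut.conj (n ^ (2 * j))).toMonoidHom)) = f.P
          rw [← Subgroup.map_map, ← Subgroup.map_map, ih, e, e']
      obtain ⟨j, hj⟩ : ∃ j, 3 ^ k = 2 * j + 1 := (Odd.pow (by decide) : Odd (3 ^ k))
      have h1 : f.P.map (MulAut.conj (n ^ (2 * j + 1))).toMonoidHom = f.T := by
        rw [pow_succ', map_mul]
        show f.P.map ((MulAut.conj n).toMonoidHom.comp (MulAut.conj (n ^ (2 * j))).toMonoidHom) = f.T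
        rw [← Subgroup.map_map, hpow, e]
      rw [← hj, ← hk, pow_orderOf_eq_one] at h1
      exact f.P_ne_T h hD hT (by rw [← h1]; ext x; simp [mem_map_conj])
    exact fun x hx => hmap ▸ mem_map_of_mem _ hx
  have hnT : ∀ x ∈ f.T, n * x * n⁻¹ ∈ f.T := by
    have hmap : f.T.map (MulAut.conj n).toMonoidHom = f.T :=
      (f.image_cases h hD hT hnA hnQ (Or.inr rfl)).resolve_left fun e => f.P_ne_T h hD hT (by
        refine map_injective (f := (MulAut.conj n).toMonoidHom) (MulAut.conj n).injective ?_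
        rw [e]
        exact eq_of_le_of_card_ge (by rintro _ ⟨x, hx, rfl⟩; exact hnP x hx)
          (by rw [card_map_of_injective (f := (MulAut.conj n).toMonoidHom) (MulAut.conj n).injective]))
    exact fun x hx => hmap ▸ mem_map_of_mem _ hx
  have hnA' : ∀ a ∈ s.A, n * a * n⁻¹ ∈ s.A := fun a ha => (mem_normalizer_iff.1 hnA a).1 ha
  have hnv : ∀ v ∈ S, v ∉ f.Q → ∃ q ∈ f.Q, n * v * n⁻¹ = q * v := fun v hv hvn => by
    have hvS : n * v * n⁻¹ ∈ S := (mem_normalizer_iff.1 hnS v).1 hv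
    refine ⟨n * v * n⁻¹ * v⁻¹, hprod _ hvS _ (S.inv_mem hv) (fun e => hvn ((mem_normalizer_iff.1 hnQ v).2 e))
      (fun e => hvn (f.Q.inv_mem_iff.1 e)), by group⟩
  -- fixed points on `P / A`, `T / A`
  have hfix : ∀ x ∈ f.P, br n x ∈ s.A → x ∈ s.A := by
    intro x hx hb
    by_contra hxA
    obtain ⟨h1, -⟩ := hsw w hwS hwn
    set t := w * x * w⁻¹ with ht
    have htT : t ∈ f.T := h1 ▸ mem_map_of_mem _ hx
    have htA : t ∉ s.A := s.conj_not_mem (f.P_le hx) hxA w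
    obtain ⟨q, hq, hqw⟩ := hnv w hwS hwn
    have hwq : q * w ∈ S := S.mul_mem hq.1 hwS
    have htn : n * t * n⁻¹ = br n x * br q t * t := by
      rw [show n * t * n⁻¹ = n * w * n⁻¹ * (br n x * x) * (n * w * n⁻¹)⁻¹ by rw [ht, br]; group, hqw,
        show q * w * (br n x * x) * (q * w)⁻¹ = q * w * br n x * (q * w)⁻¹ * (br q t * t) by
          rw [ht, br, br]; group,
        h.commute_inv hwq hb, mul_assoc]
    have hbq : br q t ∈ s.A := f.br_Q h hD hT hq (f.T_le_Q htT)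
    have hbtx : br t x ∈ s.A := f.br_TP_mem h htT hx
    have hb' : br n x * br q t ∈ s.A := mul_mem hb hbq
    refine f.br_TP_ne h htT htA hx hxA (hnf _ hbtx ?_)
    rw [← br_conj, htn, show n * x * n⁻¹ = br n x * x by rw [br]; group,
      h.br_mul_left (s.closed.1 hb') (by
        rw [h.br_mul_right (s.closed.1 hb) hbtx, h.br_A (f.T_le htT) hb, one_mul]; exact hbtx),
      h.br_mul_right (s.closed.1 hb) hbtx, h.br_A (f.T_le htT) hb, one_mul,
      show br (br n x * br q t) (br n x * x) = 1 from br_eq_one_iff.2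
        (h.commute_A (S.mul_mem (s.closed.1 hb) (f.P_le hx)) hb').symm, mul_one]
  have hfixT : ∀ t ∈ f.T, br n t ∈ s.A → t ∈ s.A := by
    intro t ht hb
    obtain ⟨-, h2⟩ := hsw w hwS hwn
    set x := w * t * w⁻¹ with hx
    have hxP : x ∈ f.P := h2 ▸ mem_map_of_mem _ ht
    obtain ⟨q, hq, hqw⟩ := hnv w hwS hwn
    have hwq : q * w ∈ S := S.mul_mem hq.1 hwS
    have hbx : br n x = br n t * br q x := by
      rw [show br n x = n * w * n⁻¹ * (br n t * t) * (n * w * n⁻¹)⁻¹ * x⁻¹ by rw [hx, br, br]; group, hqw,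
        show q * w * (br n t * t) * (q * w)⁻¹ * x⁻¹ = q * w * br n t * (q * w)⁻¹ * br q x by
          rw [hx, br, br]; group,
        h.commute_inv hwq hb]
    have h3 : x ∈ s.A := hfix x hxP (by rw [hbx]; exact mul_mem hb (f.br_Q h hD hT hq (f.P_le_Q hxP)))
    by_contra htA
    exact s.conj_not_mem (f.T_le ht) htA w h3
  have hfixQ : ∀ q ∈ f.Q, br n q ∈ s.A → q ∈ s.A := by
    intro q hq hb
    obtain ⟨t, ht, p, hp, rfl⟩ := f.dec_Q h hq
    have hp' : br n p ∈ f.P := f.P.mul_mem (hnP p hp) (f.P.inv_mem hp)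
    have ht' : br n t ∈ f.T := f.T.mul_mem (hnT t ht) (f.T.inv_mem ht)
    have e : br n (t * p) = br n t * (t * br n p * t⁻¹) := by rw [br, br, br]; group
    have hconj : t * br n p * t⁻¹ ∈ f.P := (mem_normalizer_iff.1 ((f.T_le_Q ht).2) _).1 hp'
    have h1 : br n t ∈ s.A := f.T_inf.le ⟨ht', by
      rw [show br n t = br n (t * p) * (t * br n p * t⁻¹)⁻¹ by rw [e]; group]
      exact f.P.mul_mem (f.A_le_P hb) (f.P.inv_mem hconj)⟩
    have h2 : br n p ∈ s.A := by
      have h3 : t * br n p * t⁻¹ ∈ s.A := by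
        rw [show t * br n p * t⁻¹ = (br n t)⁻¹ * br n (t * p) by rw [e]; group]
        exact mul_mem (inv_mem h1) hb
      rw [show br n p = t⁻¹ * (t * br n p * t⁻¹) * t by group, h.commute_A (S.inv_mem (f.T_le ht)) h3,
        inv_mul_cancel_right]
      exact h3
    exact mul_mem (hfixT t ht h1) (hfix p hp h2)
  -- a fixed coset outside `Q`: an involution
  obtain ⟨u, huS, huQ, hun, hu2⟩ : ∃ u ∈ S, u ∉ f.Q ∧ br n u ∈ s.A ∧ u * u = 1 := by
    haveI hn' : (s.A.subgroupOf S).Normal := ⟨fun a ha r => mem_subgroupOf.2 (by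
      show (r : G) * a * (r : G)⁻¹ ∈ s.A
      rw [h.commute_inv r.2 (mem_subgroupOf.1 ha)]
      exact mem_subgroupOf.1 ha)⟩
    let φ : ↥S ≃* ↥S :=
      { toFun := fun x => ⟨n * x * n⁻¹, (mem_normalizer_iff.1 hnS _).1 x.2⟩
        invFun := fun x => ⟨n⁻¹ * x * n, (mem_normalizer_iff.1 hnS _).2 (by
          rw [show n * (n⁻¹ * (x : G) * n) * n⁻¹ = x by group]; exact x.2)⟩
        left_inv := fun x => Subtype.ext (by simp [mul_assoc])
        right_inv := fun x => Subtype.ext (by simp [mul_assoc])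
        map_mul' := fun x y => Subtype.ext (by simp [mul_assoc]) }
    have hmap : (s.A.subgroupOf S).map φ.toMonoidHom = s.A.subgroupOf S := by
      refine eq_of_le_of_card_ge ?_ (by rw [card_map_of_injective (f := φ.toMonoidHom) φ.injective])
      rintro _ ⟨x, hx, rfl⟩
      exact mem_subgroupOf.2 (hnA' _ (mem_subgroupOf.1 hx))
    let σ : Equiv.Perm (↥S ⧸ s.A.subgroupOf S) := (QuotientGroup.congr _ _ φ hmap).toEquiv
    have hσv : ∀ x : ↥S, σ x = ((φ x : ↥S) : ↥S ⧸ s.A.subgroupOf S) := fun x => rfl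
    have hσpow : ∀ (j : ℕ) (x : ↥S), (σ ^ j) x =
        ((⟨n ^ j * x * (n ^ j)⁻¹, (mem_normalizer_iff.1 (pow_mem hnS j) _).1 x.2⟩ : ↥S) : ↥S ⧸ s.A.subgroupOf S) := by
      intro j
      induction j with
      | zero => intro x; rw [pow_zero, Equiv.Perm.one_apply]; exact congrArg _ (Subtype.ext (by simp))
      | succ j ih =>
        intro x
        rw [pow_succ', Equiv.Perm.mul_apply, ih, hσv]
        exact congrArg _ (Subtype.ext (by
          show n * (n ^ j * (x : G) * (n ^ j)⁻¹) * n⁻¹ = n ^ (j + 1) * x * (n ^ (j + 1))⁻¹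
          rw [pow_succ']; group))
    haveI : Fintype (↥S ⧸ s.A.subgroupOf S) := Fintype.ofFinite _
    have hσ : σ ^ 3 ^ k = 1 := Equiv.ext fun v => by
      obtain ⟨x, rfl⟩ := QuotientGroup.mk_surjective v
      rw [hσpow, Equiv.Perm.one_apply]
      refine congrArg _ (Subtype.ext ?_)
      show n ^ 3 ^ k * (x : G) * (n ^ 3 ^ k)⁻¹ = x
      rw [← hk, pow_orderOf_eq_one]; group
    have hmod := Equiv.Perm.card_compl_support_modEq hσ
    have h32 : Fintype.card (↥S ⧸ s.A.subgroupOf S) = 32 := by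
      rw [← Nat.card_eq_fintype_card, ← Subgroup.index_eq_card]
      have h1 := (s.A.subgroupOf S).card_mul_index
      rw [Nat.card_congr (subgroupOfEquivOfLe s.closed.1).toEquiv, h.card, hScard] at h1
      omega
    obtain ⟨v, hv, hv1⟩ : ∃ v, σ v = v ∧ v ≠ 1 := by
      by_contra hno
      push Not at hno
      have hle : σ.supportᶜ.card ≤ 1 := Finset.card_le_one.2 fun a ha b hb => by
        rw [Finset.mem_compl, Equiv.Perm.notMem_support] at ha hb
        rw [hno a ha, hno b hb]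
      rw [h32] at hmod
      have : σ.supportᶜ.card % 3 = 2 := hmod
      omega
    obtain ⟨x, rfl⟩ := QuotientGroup.mk_surjective v
    have hbx : br n x ∈ s.A := by
      have h1 : ((x : ↥S) : ↥S ⧸ s.A.subgroupOf S) = ((φ x : ↥S) : ↥S ⧸ s.A.subgroupOf S) :=
        hv.symm.trans (hσv x)
      rw [QuotientGroup.eq, mem_subgroupOf] at h1
      have h2 : (x : G)⁻¹ * (n * x * n⁻¹) ∈ s.A := h1
      rw [show br n x = (x : G) * ((x : G)⁻¹ * (n * x * n⁻¹)) * (x : G)⁻¹ by rw [br]; group,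
        h.commute_inv x.2 h2]
      exact h2
    have hxQ : (x : G) ∉ f.Q := fun e => hv1 ((QuotientGroup.eq_one_iff x).2 (mem_subgroupOf.2 (hfixQ _ e hbx)))
    refine ⟨x, x.2, hxQ, hbx, ?_⟩
    have hxx : (x : G) * x ∈ f.Q := hprod _ x.2 _ x.2 hxQ hxQ
    have hsq : n * ((x : G) * x) * n⁻¹ = (x : G) * x := by
      calc n * ((x : G) * x) * n⁻¹ = br n x * x * br n x * x := by rw [br]; group
        _ = br n x * (x * br n x) * x := by group
        _ = br n x * br n x * ((x : G) * x) := by rw [h.commute_A x.2 hbx]; group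
        _ = _ := by rw [s.sq hbx, one_mul]
    have hb2 : br n ((x : G) * x) = 1 := br_eq_one_iff.2 (mul_inv_eq_iff_eq_mul.1 hsq)
    exact hnf _ (hfixQ _ hxx (by rw [hb2]; exact one_mem _)) hsq
  have huA : u ∉ s.A := fun e => huQ (f.A_le_Q e)
  have hu_inv : u⁻¹ = u := inv_eq_of_mul_eq_one_right hu2
  have hu_ord : orderOf u = 2 := orderOf_eq_prime (by rw [pow_two, hu2]) fun e => huA (e ▸ one_mem _)
  -- `C_Q(u) = A`
  have hCQ : ∀ q ∈ f.Q, q * u = u * q → q ∈ s.A := by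
    intro q hq hc
    by_contra hqA
    set R := S ⊓ centralizer ({u} : Set G)
    have hR16 : Nat.card ↥R ≤ 16 := by
      have := f.max u huS hu_ord huA R (s.S.isPGroup'.to_le inf_le_left) (inf_le_left.trans h.central) inf_le_right
      rw [hD] at this
      exact this
    have hmemR : ∀ v ∈ f.Q, v * u = u * v → v ∈ R ⊓ f.Q := fun v hv e =>
      ⟨⟨f.Q_le hv, mem_centralizer_singleton_iff.2 e⟩, hv⟩
    have hAR : s.A ≤ R ⊓ f.Q := fun a ha => hmemR a (f.A_le_Q ha) (h.commute_A huS ha).symm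
    set q' := n * q * n⁻¹ with hq'd
    have hq'Q : q' ∈ f.Q := (mem_normalizer_iff.1 hnQ q).1 hq
    have hq'u : q' * u = u * q' := by
      have h1 : q' * (br n u * u) = br n u * u * q' := by
        calc q' * (br n u * u) = n * (q * u) * n⁻¹ := by rw [hq'd, br]; group
          _ = n * (u * q) * n⁻¹ := by rw [hc]
          _ = _ := by rw [hq'd, br]; group
      rw [← mul_assoc, h.commute_A (f.Q_le hq'Q) hun, mul_assoc (br n u) q' u, mul_assoc (br n u) u q'] at h1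
      exact mul_left_cancel h1
    have huR : u ∈ R := ⟨huS, mem_centralizer_singleton_iff.2 rfl⟩
    have hlt : 2 * Nat.card ↥(R ⊓ f.Q) ≤ Nat.card ↥R := by
      have h1 := Grp.card_mul_relIndex (inf_le_left : R ⊓ f.Q ≤ R)
      rw [← h1, mul_comm 2]
      refine Nat.mul_le_mul_left _ ?_
      have h2 : (R ⊓ f.Q).relIndex R ≠ 1 := fun e => huQ ((Subgroup.relIndex_eq_one.1 e) huR).2
      have h3 : (R ⊓ f.Q).relIndex R ≠ 0 := fun e => by
        rw [e, mul_zero] at h1; exact Nat.card_pos.ne h1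
      omega
    have hidx2 : (s.A.subgroupOf (R ⊓ f.Q)).index = 2 := by
      have h1 := Grp.card_mul_relIndex hAR
      rw [h.card] at h1
      have h2 : s.A.relIndex (R ⊓ f.Q) ≠ 1 := fun e => hqA ((Subgroup.relIndex_eq_one.1 e) (hmemR q hq hc))
      have h3 : s.A.relIndex (R ⊓ f.Q) ≠ 0 := fun e => by
        rw [e, mul_zero] at h1; exact Nat.card_pos.ne h1
      show s.A.relIndex (R ⊓ f.Q) = 2
      omega
    have hq'A : q' ∉ s.A := fun e => hqA ((mem_normalizer_iff.1 hnA q).2 e)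
    have h4 := (Subgroup.mul_mem_iff_of_index_two hidx2 (a := ⟨q', hmemR q' hq'Q hq'u⟩)
      (b := ⟨q, hmemR q hq hc⟩)).2 (iff_of_false (fun e => hq'A (mem_subgroupOf.1 e)) fun e => hqA (mem_subgroupOf.1 e))
    have h5 : q' * q ∈ s.A := mem_subgroupOf.1 h4
    refine hqA (hfixQ q hq ?_)
    rw [show br n q = q' * q * (q * q)⁻¹ by rw [hq'd, br]; group]
    exact mul_mem h5 (inv_mem (f.sq_Q h hD hT hq))
  -- the subgroup inverted by `u`
  have hmove : ∀ q ∈ f.Q, u * q * u⁻¹ ∈ f.Q := fun q hq => (mem_normalizer_iff.1 (hSN huS) q).1 hq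
  have huS' : ∀ q ∈ f.Q, u * q ∈ S := fun q hq => S.mul_mem huS hq.1
  let W : Subgroup G :=
    { carrier := {q | q ∈ f.Q ∧ br u q ∈ s.A}
      one_mem' := ⟨one_mem _, by simp [br]⟩
      mul_mem' := fun {a b} ha hb => ⟨f.Q.mul_mem ha.1 hb.1, by
        rw [h.br_mul_right ha.1.1 hb.2]; exact mul_mem ha.2 hb.2⟩
      inv_mem' := fun {a} ha => ⟨f.Q.inv_mem ha.1, by
        rw [show br u a⁻¹ = a⁻¹ * (br u a)⁻¹ * a by rw [br, br]; group,
          h.commute_A (S.inv_mem ha.1.1) (inv_mem ha.2), inv_mul_cancel_right]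
        exact inv_mem ha.2⟩ }
  have hWP : W ⊓ f.P ≤ s.A := by
    rintro p ⟨⟨-, hb⟩, hp⟩
    by_contra hpA
    obtain ⟨h1, -⟩ := hsw u huS huQ
    have h2 : u * p * u⁻¹ ∈ f.T := h1 ▸ mem_map_of_mem _ hp
    have h3 : u * p * u⁻¹ ∈ f.P := by
      rw [show u * p * u⁻¹ = br u p * p by rw [br]; group]; exact f.P.mul_mem (f.A_le_P hb) hp
    exact s.conj_not_mem (f.P_le hp) hpA u (f.T_inf.le ⟨h2, h3⟩)
  have hWT : W ⊓ f.T ≤ s.A := by
    rintro p ⟨⟨-, hb⟩, hp⟩
    by_contra hpA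
    obtain ⟨-, h1⟩ := hsw u huS huQ
    have h2 : u * p * u⁻¹ ∈ f.P := h1 ▸ mem_map_of_mem _ hp
    have h3 : u * p * u⁻¹ ∈ f.T := by
      rw [show u * p * u⁻¹ = br u p * p by rw [br]; group]; exact f.T.mul_mem (f.A_le_T hb) hp
    exact s.conj_not_mem (f.T_le hp) hpA u (f.T_inf.le ⟨h3, h2⟩)
  have hWQ : W ≤ f.Q := fun v hv => hv.1
  have hW16 : Nat.card ↥W ≤ 16 := by
    have h1 := Grp.card_sup_mul_card_inf (H := W) (N := f.P) (hWQ.trans inf_le_right)
    rw [f.cardP_four h hD hT] at h1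
    have h2 : Nat.card ↥(W ⊔ f.P) ≤ 64 := by
      rw [← f.cardQ_four h hD hT]; exact card_le_of_le (sup_le hWQ f.P_le_Q)
    have h3 := card_le_of_le hWP
    rw [h.card] at h3
    have := Nat.mul_le_mul h2 h3
    omega
  let I : Set G := {v | v ∈ f.Q ∧ u * v * u⁻¹ = v⁻¹}
  have hIW : I ⊆ (W : Set G) := fun v hv => ⟨hv.1, by
    rw [br, hv.2]; exact f.sq_Q h hD hT (f.Q.inv_mem hv.1)⟩
  have hImg : 16 ≤ Nat.card ↥I := by
    haveI hn' : (s.A.subgroupOf f.Q).Normal := ⟨fun a ha r => mem_subgroupOf.2 (by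
      show (r : G) * a * (r : G)⁻¹ ∈ s.A
      rw [h.commute_inv r.2.1 (mem_subgroupOf.1 ha)]
      exact mem_subgroupOf.1 ha)⟩
    have hmem : ∀ q ∈ f.Q, br u q ∈ I := fun q hq =>
      ⟨f.Q.mul_mem (hmove q hq) (f.Q.inv_mem hq), by
        rw [br, hu_inv]
        calc u * (u * q * u * q⁻¹) * u = (u * u) * q * u * q⁻¹ * u := by group
          _ = q * u * q⁻¹ * u := by rw [hu2, one_mul]
          _ = q * u⁻¹ * q⁻¹ * u⁻¹ := by rw [hu_inv]
          _ = _ := by group⟩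
    have h16 : Nat.card (↥f.Q ⧸ s.A.subgroupOf f.Q) = 16 := by
      rw [← Subgroup.index_eq_card]
      have h1 := (s.A.subgroupOf f.Q).card_mul_index
      rw [Nat.card_congr (subgroupOfEquivOfLe f.A_le_Q).toEquiv, h.card, f.cardQ_four h hD hT] at h1
      omega
    rw [← h16]
    refine Nat.card_le_card_of_injective (fun v => (⟨br u (v.out : ↥f.Q), hmem _ (v.out : ↥f.Q).2⟩ : ↥I)) ?_
    intro a b e
    have e' : br u (a.out : G) = br u (b.out : G) := congrArg Subtype.val e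
    rw [← Quotient.out_eq a, ← Quotient.out_eq b]
    refine QuotientGroup.eq.2 (mem_subgroupOf.2 (hCQ _ (f.Q.mul_mem (f.Q.inv_mem (a.out : ↥f.Q).2) (b.out : ↥f.Q).2) ?_))
    rw [← br_eq_one_iff]
    have hx : (a.out : G) * u * (a.out : G)⁻¹ = (b.out : G) * u * (b.out : G)⁻¹ := by
      have := congrArg (fun v => u⁻¹ * v) e'
      simp only [br, hu_inv] at this
      simpa [← mul_assoc, hu2] using this
    calc br ((a.out : G)⁻¹ * (b.out : G)) u
        = (a.out : G)⁻¹ * ((b.out : G) * u * (b.out : G)⁻¹) * (a.out : G) * u⁻¹ := by rw [br]; group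
      _ = (a.out : G)⁻¹ * ((a.out : G) * u * (a.out : G)⁻¹) * (a.out : G) * u⁻¹ := by rw [hx]
      _ = 1 := by group
  have hWI : (W : Set G) = I ∧ Nat.card ↥W = 16 := by
    have h1 : I.ncard ≤ (W : Set G).ncard := Set.ncard_le_ncard hIW (Set.toFinite _)
    have h2 : (W : Set G).ncard = Nat.card ↥W := by rw [← Nat.card_coe_set_eq]; rfl
    have h3 : I.ncard = Nat.card ↥I := (Nat.card_coe_set_eq I).symm
    exact ⟨(Set.eq_of_subset_of_ncard_le hIW (by omega) (Set.toFinite _)).symm, by omega⟩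
  have hWsq : ∀ v ∈ W, v * v = 1 → v ∈ s.A := fun v hv e => by
    rcases f.inv_cases h hD hT hv.1 e with e' | e'
    · exact hWP ⟨hv, e'⟩
    · exact hWT ⟨hv, e'⟩
  -- a conjugate of `u` in `P`
  obtain ⟨g₀, x, hxP, hxA, hg₀⟩ : ∃ g₀ x : G, x ∈ f.P ∧ x ∉ s.A ∧ g₀ * u * g₀⁻¹ = x := by
    obtain ⟨g₁, hg₁⟩ := exists_conj_mem_of_index_two s f.Q_le hidx hu_ord huS huQ
    have hA1 := s.conj_not_mem huS huA g₁
    rcases f.inv_cases h hD hT hg₁ (by
      rw [show g₁ * u * g₁⁻¹ * (g₁ * u * g₁⁻¹) = g₁ * (u * u) * g₁⁻¹ by group, hu2]; group) with e | e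
    · exact ⟨g₁, _, e, hA1, rfl⟩
    · obtain ⟨-, h2⟩ := hsw w hwS hwn
      exact ⟨w * g₁, w * (g₁ * u * g₁⁻¹) * w⁻¹, h2 ▸ mem_map_of_mem _ e,
        s.conj_not_mem (f.T_le e) hA1 w, by group⟩
  have hxx : x * x = 1 := f.P_sq h hxP
  have hx2 : orderOf x = 2 := orderOf_eq_prime (by rw [pow_two, hxx]) fun e => hxA (e ▸ one_mem _)
  have hPx : f.P ≤ centralizer ({x} : Set G) := fun p hp => mem_centralizer_singleton_iff.2 (f.P_comm h hp hxP)
  have hmaxP : ∀ R : Subgroup G, IsPGroup 2 R → f.P ≤ R → R ≤ centralizer ({x} : Set G) → R = f.P :=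
    fun R hR hPR hRx => (eq_of_le_of_card_ge hPR (by
      have := f.max x (f.P_le hxP) hx2 hxA R hR (h.two_group_le hR (f.A_le_P.trans hPR)) hRx
      rw [hD] at this
      rw [f.cardP_four h hD hT]
      exact this)).symm
  -- carried by an element of `N(A)`
  obtain ⟨g, hg, hgu⟩ : ∃ g ∈ normalizer (s.A : Set G), g * u * g⁻¹ = x := by
    set C := centralizer ({x} : Set G)
    let P₀ : Sylow 2 ↥C :=
      { toSubgroup := f.P.subgroupOf C
        isPGroup' := (s.S.isPGroup'.to_le f.P_le).comap_of_injective _ (subtype_injective _)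
        is_maximal' := fun {R} hR hle => by
          have h1 : R.map C.subtype = f.P := hmaxP _ (hR.map _) (fun v hv => ⟨⟨v, hPx hv⟩, hle hv, rfl⟩)
            (map_subtype_le _)
          rw [← h1]
          exact (comap_map_eq_self_of_injective C.subtype_injective R).symm }
    have hA0 : s.A.map (MulAut.conj g₀).toMonoidHom ≤ C := by
      rintro _ ⟨a, ha, rfl⟩
      refine mem_centralizer_singleton_iff.2 ?_
      show g₀ * a * g₀⁻¹ * x = x * (g₀ * a * g₀⁻¹)
      rw [← hg₀]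
      calc g₀ * a * g₀⁻¹ * (g₀ * u * g₀⁻¹) = g₀ * (a * u) * g₀⁻¹ := by group
        _ = g₀ * (u * a) * g₀⁻¹ := by rw [h.commute_A huS ha]
        _ = _ := by group
    obtain ⟨T', hT'⟩ := (((s.S.isPGroup'.to_le s.closed.1).map (MulAut.conj g₀).toMonoidHom).comap_of_injective
      C.subtype (subtype_injective _)).exists_le_sylow (p := 2)
    obtain ⟨c, hc⟩ := MulAction.exists_smul_eq ↥C T' P₀
    refine ⟨(c : G) * g₀, mem_normalizer_fintype fun a ha => ?_, ?_⟩
    · have ha' := hA0 (mem_map_of_mem _ ha)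
      have h1 : c * ⟨_, ha'⟩ * c⁻¹ ∈ (P₀ : Subgroup _) := by
        rw [← hc, Sylow.coe_subgroup_smul, ← Grp.map_conj_eq_smul]
        exact ⟨⟨_, ha'⟩, hT' (show (⟨_, ha'⟩ : ↥C) ∈ (s.A.map (MulAut.conj g₀).toMonoidHom).comap C.subtype from
          mem_map_of_mem _ ha), rfl⟩
      have h2 : (c : G) * (g₀ * a * g₀⁻¹) * (c : G)⁻¹ ∈ f.P := h1
      rw [← show (c : G) * (g₀ * a * g₀⁻¹) * (c : G)⁻¹ = (c : G) * g₀ * a * ((c : G) * g₀)⁻¹ by group]
      rw [show (c : G) * (g₀ * a * g₀⁻¹) * (c : G)⁻¹ = (c : G) * g₀ * a * ((c : G) * g₀)⁻¹ by group] at h2 ⊢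
      exact s.closed.2 a ha _ (f.P_le h2)
    · rw [show (c : G) * g₀ * u * ((c : G) * g₀)⁻¹ = (c : G) * (g₀ * u * g₀⁻¹) * (c : G)⁻¹ by group, hg₀,
        mem_centralizer_singleton_iff.1 c.2, mul_inv_cancel_right]
  -- `Q` is a Sylow subgroup of the group fixing `x A`
  let L : Subgroup G :=
    { carrier := {l | l ∈ centralizer (s.A : Set G) ∧ br l x ∈ s.A}
      one_mem' := ⟨one_mem _, by simp [br]⟩
      mul_mem' := fun {a b} ha hb => ⟨mul_mem ha.1 hb.1, by
        rw [show br (a * b) x = a * br b x * a⁻¹ * br a x by rw [br, br, br]; group,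
          ← mem_centralizer_iff.1 ha.1 _ hb.2, mul_inv_cancel_right]
        exact mul_mem hb.2 ha.2⟩
      inv_mem' := fun {a} ha => ⟨inv_mem ha.1, by
        rw [show br a⁻¹ x = a⁻¹ * (br a x)⁻¹ * a by rw [br, br]; group,
          ← mem_centralizer_iff.1 (inv_mem ha.1) _ (inv_mem ha.2), inv_mul_cancel_right]
        exact inv_mem ha.2⟩ }
  have hQL : f.Q ≤ L := fun q hq => ⟨h.central hq.1, f.br_Q h hD hT hq (f.P_le_Q hxP)⟩
  let Q₀ : Sylow 2 ↥L :=
    { toSubgroup := f.Q.subgroupOf L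
      isPGroup' := (s.S.isPGroup'.to_le f.Q_le).comap_of_injective _ (subtype_injective _)
      is_maximal' := fun {R} hR hle => by
        have hQR : f.Q ≤ R.map L.subtype := fun v hv => ⟨⟨v, hQL hv⟩, hle hv, rfl⟩
        have h1 : R.map L.subtype = f.Q := by
          refine f.sylowQ _ (hR.map _) ((map_subtype_le _).trans fun l hl => hl.1) (fun r hr => ?_) hQR
          refine mem_normalizer_fintype fun p hp => ?_
          have hr' : r ∈ L := map_subtype_le _ hr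
          set R' := R.map L.subtype ⊓ centralizer ({x} : Set G)
          have hPR : f.P ≤ R' := le_inf (f.P_le_Q.trans hQR) hPx
          have hR'P : R' = f.P := hmaxP R' ((hR.map _).to_le inf_le_left) hPR inf_le_right
          show r * p * r⁻¹ ∈ f.P
          rw [← hR'P]
          refine ⟨(R.map L.subtype).mul_mem ((R.map L.subtype).mul_mem hr (hQR (f.P_le_Q hp))) ((R.map L.subtype).inv_mem hr),
            mem_centralizer_singleton_iff.2 ?_⟩
          -- `r p r⁻¹` commutes with `r x r⁻¹ = [r,x] x`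
          have hb := hr'.2
          have h2 : r * p * r⁻¹ * (br r x * x) = br r x * x * (r * p * r⁻¹) := by
            calc r * p * r⁻¹ * (br r x * x) = r * (p * x) * r⁻¹ := by rw [br]; group
              _ = r * (x * p) * r⁻¹ := by rw [f.P_comm h hp hxP]
              _ = _ := by rw [br]; group
          have h3 : r * p * r⁻¹ ∈ centralizer (s.A : Set G) :=
            mul_mem (mul_mem hr'.1 (h.central (f.P_le hp))) (inv_mem hr'.1)
          rw [← mul_assoc, ← mem_centralizer_iff.1 h3 _ hb, mul_assoc (br r x) (r * p * r⁻¹) x,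
            mul_assoc (br r x) x (r * p * r⁻¹)] at h2
          exact mul_left_cancel h2
        rw [← h1]
        exact (comap_map_eq_self_of_injective L.subtype_injective R).symm }
  have hgC : ∀ c ∈ centralizer (s.A : Set G), g * c * g⁻¹ ∈ centralizer (s.A : Set G) := fun c hc =>
    mem_centralizer_iff.2 fun a ha => by
      have h1 := mem_centralizer_iff.1 hc _ ((mem_normalizer_iff.1 hg (g⁻¹ * a * g)).2 (by
        rw [show g * (g⁻¹ * a * g) * g⁻¹ = a by group]; exact ha))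
      calc a * (g * c * g⁻¹) = g * ((g⁻¹ * a * g) * c) * g⁻¹ := by group
        _ = g * (c * (g⁻¹ * a * g)) * g⁻¹ := by rw [h1]
        _ = _ := by group
  have hWL : W.map (MulAut.conj g).toMonoidHom ≤ L := by
    rintro _ ⟨v, hv, rfl⟩
    refine ⟨hgC v (h.central hv.1.1), ?_⟩
    show br (g * v * g⁻¹) x ∈ s.A
    rw [← hgu, br_conj, h.br_comm hv.2]
    exact (mem_normalizer_iff.1 hg _).1 hv.2
  obtain ⟨T', hT'⟩ := (((s.S.isPGroup'.to_le (hWQ.trans f.Q_le)).map (MulAut.conj g).toMonoidHom).comap_of_injective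
    L.subtype (subtype_injective _)).exists_le_sylow (p := 2)
  obtain ⟨l, hl⟩ := MulAction.exists_smul_eq ↥L T' Q₀
  set m := (l : G) * g with hm
  have hmW : ∀ v ∈ W, m * v * m⁻¹ ∈ f.Q := fun v hv => by
    have hv' := hWL (mem_map_of_mem _ hv)
    have h1 : l * ⟨_, hv'⟩ * l⁻¹ ∈ (Q₀ : Subgroup _) := by
      rw [← hl, Sylow.coe_subgroup_smul, ← Grp.map_conj_eq_smul]
      exact ⟨⟨_, hv'⟩, hT' (show (⟨_, hv'⟩ : ↥L) ∈ (W.map (MulAut.conj g).toMonoidHom).comap L.subtype from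
        mem_map_of_mem _ hv), rfl⟩
    rw [show m * v * m⁻¹ = (l : G) * (g * v * g⁻¹) * (l : G)⁻¹ by rw [hm]; group]
    exact h1
  set x' := m * u * m⁻¹ with hx'
  have hx'x : x' = br (l : G) x * x := by rw [hx', hm, ← hgu, br]; group
  have hlA : br (l : G) x ∈ s.A := l.2.2
  have hx'P : x' ∈ f.P := hx'x ▸ f.P.mul_mem (f.A_le_P hlA) hxP
  have hmA : m ∈ normalizer (s.A : Set G) := mul_mem (mem_normalizer_fintype fun a ha => by
    rwa [← mem_centralizer_iff.1 l.2.1 a ha, mul_inv_cancel_right]) hg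
  -- the shape of the conjugated elements
  have hshape : ∀ v ∈ W, v ∉ s.A → ∃ t ∈ f.T, ∃ p ∈ f.P, m * v * m⁻¹ = t * p ∧ x' * p ∈ s.A := by
    intro v hv hvA
    obtain ⟨t, ht, p, hp, htp⟩ := f.dec_Q h (hmW v hv)
    refine ⟨t, ht, p, hp, htp.symm, ?_⟩
    have hinv : x' * (t * p) * x'⁻¹ = (t * p)⁻¹ := by
      rw [htp, hx', show m * u * m⁻¹ * (m * v * m⁻¹) * (m * u * m⁻¹)⁻¹ = m * (u * v * u⁻¹) * m⁻¹ by group,
        ((hWI.1 ▸ hv : v ∈ I)).2]
      group
    have hb : br x' (t * p) = br t x' := by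
      rw [h.br_mul_right (f.T_le ht) (by rw [f.br_P h hx'P hp]; exact one_mem _), f.br_P h hx'P hp, mul_one,
        h.br_comm (f.br_TP_mem h ht hx'P)]
    have hkey : br t x' = br t p := by
      rw [← hb, br, hinv, ← f.sq_mul h hD hT ht hp, ← mul_inv_rev]
      exact inv_eq_of_mul_eq_one_right (s.sq (f.sq_Q h hD hT (f.Q.mul_mem (f.T_le_Q ht) (f.P_le_Q hp))))
    by_contra hpx
    refine f.br_TP_ne h ht (fun htA => ?_) (f.P.mul_mem hx'P hp) hpx ?_
    · -- `t ∈ A`: an involution in `W - A`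
      refine hvA (hWsq v hv ?_)
      have h1 : m * v * m⁻¹ * (m * v * m⁻¹) = 1 := by
        rw [← htp, f.sq_mul h hD hT ht hp, br_eq_one_iff, h.commute_A (f.P_le hp) htA]
      rw [show v * v = m⁻¹ * (m * v * m⁻¹ * (m * v * m⁻¹)) * m by group, h1]; group
    · rw [h.br_mul_right (f.P_le hx'P) (f.br_TP_mem h ht hp), hkey]
      exact s.sq (f.br_TP_mem h ht hp)
  -- two independent elements
  obtain ⟨v₁, hv₁, hv₁A, v₂, hv₂, hv₂A, hv₁₂⟩ :
      ∃ v₁ ∈ W, v₁ ∉ s.A ∧ ∃ v₂ ∈ W, v₂ ∉ s.A ∧ v₁ * v₂ ∉ s.A := by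
    have hAW : s.A ≤ W := fun a ha => ⟨f.A_le_Q ha, by rw [h.br_A huS ha]; exact one_mem _⟩
    obtain ⟨v₁, hv₁, hv₁A⟩ : ∃ v₁ ∈ W, v₁ ∉ s.A := by
      by_contra hno
      push Not at hno
      have := card_le_of_le (show W ≤ s.A from hno)
      rw [hWI.2, h.card] at this
      omega
    by_contra hno
    push Not at hno
    have hidx : (s.A.subgroupOf W).index = 2 := by
      rw [Subgroup.index_eq_two_iff]
      refine ⟨⟨v₁, hv₁⟩, fun b => ?_⟩
      rw [mem_subgroupOf, mem_subgroupOf]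
      by_cases hb : (b : G) ∈ s.A
      · refine Or.inr ⟨hb, fun e => hv₁A ?_⟩
        have := s.A.mul_mem (s.A.inv_mem hb) e
        rwa [show ((b * ⟨v₁, hv₁⟩ : ↥W) : G) = (b : G) * v₁ from rfl, inv_mul_cancel_left] at this
      · refine Or.inl ⟨?_, hb⟩
        show (b : G) * v₁ ∈ s.A
        have h1 := hno v₁ hv₁ hv₁A b b.2 hb
        rw [show (b : G) * v₁ = (b : G) * (v₁ * b) * (b : G)⁻¹ by group, h.commute_inv b.2.1.1 h1]
        exact h1
    have h1 := (s.A.subgroupOf W).card_mul_index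
    rw [hidx, Nat.card_congr (subgroupOfEquivOfLe hAW).toEquiv, h.card, hWI.2] at h1
    omega
  obtain ⟨t₁, ht₁, p₁, hp₁, e₁, hx₁⟩ := hshape v₁ hv₁ hv₁A
  obtain ⟨t₂, ht₂, p₂, hp₂, e₂, hx₂⟩ := hshape v₂ hv₂ hv₂A
  have hp12 : p₁ * p₂ ∈ s.A := by
    have h1 := mul_mem hx₁ hx₂
    rw [f.P_comm h hx'P hp₁, show p₁ * x' * (x' * p₂) = p₁ * (x' * x') * p₂ by group, f.P_sq h hx'P,
      mul_one] at h1
    exact h1
  have hprodT : m * (v₁ * v₂) * m⁻¹ ∈ f.T := by
    rw [show m * (v₁ * v₂) * m⁻¹ = m * v₁ * m⁻¹ * (m * v₂ * m⁻¹) by group, e₁, e₂,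
      show t₁ * p₁ * (t₂ * p₂) = t₁ * t₂ * ((t₂⁻¹ * p₁ * t₂ * p₁⁻¹) * (p₁ * p₂)) by group]
    refine f.T.mul_mem (f.T.mul_mem ht₁ ht₂) (f.A_le_T (mul_mem ?_ hp12))
    have := f.br_TP_mem h (f.T.inv_mem ht₂) hp₁
    rwa [br, inv_inv] at this
  refine hv₁₂ (hWsq _ (mul_mem hv₁ hv₂) ?_)
  have h1 := hT _ hprodT
  rw [show v₁ * v₂ * (v₁ * v₂) = m⁻¹ * (m * (v₁ * v₂) * m⁻¹ * (m * (v₁ * v₂) * m⁻¹)) * m by group, h1]
  group

end Frame

end Cfsg.Agent.Fus.Gold
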