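import Cfsg.Agent.Lib.Fus.Goldschmidt.Basic
import Cfsg.Agent.Lib.Invol.StrongClosed.OneClass
import Cfsg.Agent.Lib.Grp.ComponentBalance
import Cfsg.Agent.Lib.Grp.Subnormal

/-!
# A component of `X = C(a)/O(C(a))` and the image of `A`, first facts

`A` fixes every component `K`; an element of `A` whose fusion is trivial modulo `C(K)` centralises `K`;
`A = C_A(K) (A ∩ K)` as soon as a Sylow subgroup of `K` centralises `A` modulo `C(K)`.
-/

set_option autoImplicit false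
set_option linter.unusedSectionVars false
set_option linter.style.haveILetI false

namespace Cfsg.Agent.Fus.Gold

open Subgroup Cfsg.Agent.Grp Cfsg.Agent.Invol.StrongClosed.OneClass
open scoped commutatorElement

universe u

section Generic

variable {H : Type u} [Group H] [Finite H]

/-- A simple nonabelian group has no isolated involution. -/
theorem isolated_false (hs : IsSimpleGroup H) (hnc : ¬ IsMulCommutative H) (P : Sylow 2 H) {u : H}
    (hu : orderOf u = 2) (huP : u ∈ P) (hiso : ∀ g : H, g * u * g⁻¹ ∈ P → g * u * g⁻¹ = u) : False := by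
  obtain ⟨N, hN, hodd, hc⟩ := S0215.result P u hu huP hiso
  haveI := hs
  have hNb : N = ⊥ := hN.eq_bot_or_eq_top.resolve_right fun e => by
    rw [e, Subgroup.card_top] at hodd
    exact (Nat.not_even_iff_odd.2 hodd) (even_iff_two_dvd.2 (hu ▸ orderOf_dvd_natCard u))
  have hz : u ∈ center H := mem_center_iff.2 fun g => by
    have h1 := hc g
    rw [hNb, mem_bot, mul_inv_eq_one, mul_inv_eq_iff_eq_mul] at h1
    exact h1.symm
  rw [Transfer.CentralFour.center_eq_bot hnc, mem_bot] at hz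
  rw [hz, orderOf_one] at hu
  exact absurd hu (by omega)

/-- A strongly closed abelian subgroup: fusion of its elements inside its normalizer. -/
theorem exists_normalizer_conj (P : Sylow 2 H) {V : Subgroup H} (hV : IsMulCommutative V)
    (hsc : Cfsg.IsStronglyClosed V (P : Subgroup H)) {x g : H} (hx : x ∈ V) (hg : g * x * g⁻¹ ∈ V) :
    ∃ n ∈ normalizer (V : Set H), n * x * n⁻¹ = g * x * g⁻¹ := by
  haveI : Fact (Nat.Prime 2) := ⟨Nat.prime_two⟩
  obtain ⟨T, hAT, hctl⟩ := S2791.result P V hV hsc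
  obtain ⟨-, hstep⟩ := hctl ({x} : Set H) (Set.singleton_subset_iff.2 (hAT hx))
  obtain ⟨m, hm, hmeq⟩ := hstep g (by
    rintro _ ⟨y, hy, rfl⟩
    rw [Set.mem_singleton_iff.1 hy]
    exact hAT hg)
  exact ⟨m, hm, (hmeq x rfl).symm⟩

/-- A fixed point of an odd group of automorphisms in a coset of an invariant subgroup. -/
theorem exists_fixed_shift {M L L0 : Subgroup H} (hcomm : ∀ a ∈ L, ∀ b ∈ L, a * b = b * a)
    (hsq : ∀ a ∈ L, a * a = 1) (hMN : M ≤ normalizer (L : Set H)) (hL0 : L0 ≤ L)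
    (hodd : Odd ((centralizer (L : Set H)).relIndex M)) {x : H} (hx : x ∈ L)
    (hM : ∀ m ∈ M, m * x * m⁻¹ * x⁻¹ ∈ L0) :
    ∃ e ∈ L0, ∀ m ∈ M, m * (x * e) * m⁻¹ = x * e := by
  classical
  letI : CommGroup ↥L := { (inferInstance : Group ↥L) with
    mul_comm := fun a b => Subtype.ext (hcomm a a.2 b b.2) }
  set C := (centralizer (L : Set H)).subgroupOf M
  haveI : Fintype (↥M ⧸ C) := Fintype.ofFinite _
  have hxinv : x⁻¹ = x := inv_eq_of_mul_eq_one_right (hsq x hx)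
  have hconj : ∀ m : ↥M, (m : H) * x * (m : H)⁻¹ ∈ L := fun m => mem_conj_normalizer (hMN m.2) hx
  let f : ↥M ⧸ C → ↥L := fun q => ⟨_, hconj q.out⟩
  set y : ↥L := ∏ q, f q
  have hy0 : y * ⟨x, hx⟩ ∈ L0.subgroupOf L := by
    have h1 : ∏ q, (f q * ⟨x, hx⟩) = y * ⟨x, hx⟩ := by
      rw [Finset.prod_mul_distrib, Finset.prod_const, Finset.card_univ, ← Nat.card_eq_fintype_card]
      congr 1
      obtain ⟨k, hk⟩ : Odd (Nat.card (↥M ⧸ C)) := hodd
      have h2 : (⟨x, hx⟩ : ↥L) ^ 2 = 1 := Subtype.ext (by simpa [pow_two] using hsq x hx)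
      rw [hk, pow_succ, pow_mul, h2, one_pow, one_mul]
    rw [← h1]
    refine (L0.subgroupOf L).prod_mem fun q _ => mem_subgroupOf.2 ?_
    have := hM q.out q.out.2
    rwa [hxinv] at this
  refine ⟨((⟨x, hx⟩ * y : ↥L) : H), mul_comm y ⟨x, hx⟩ ▸ hy0, fun m hm => ?_⟩
  have hxy : x * ((⟨x, hx⟩ * y : ↥L) : H) = y := by
    rw [Subgroup.coe_mul, ← mul_assoc]
    simp [hsq x hx]
  rw [hxy]
  let c : ↥L →* ↥L :=
    { toFun := fun l => ⟨m * l * m⁻¹, mem_conj_normalizer (hMN hm) l.2⟩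
      map_one' := Subtype.ext (by simp)
      map_mul' := fun a b => Subtype.ext (by simp [mul_assoc]) }
  have hc : c y = y := by
    rw [map_prod]
    refine Fintype.prod_equiv (MulAction.toPerm (⟨m, hm⟩ : ↥M)) _ _ fun q => Subtype.ext ?_
    show m * ((q.out : H) * x * (q.out : H)⁻¹) * m⁻¹ = _
    set q' : ↥M ⧸ C := (⟨m, hm⟩ : ↥M) • q
    have he : (⟨m, hm⟩ * q.out : ↥M)⁻¹ * q'.out ∈ C := by
      rw [← QuotientGroup.eq, QuotientGroup.out_eq']
      show _ = (⟨m, hm⟩ : ↥M) • q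
      conv_rhs => rw [← QuotientGroup.out_eq' q]
      rfl
    have h3 := mem_centralizer_iff.1 (mem_subgroupOf.1 he) x hx
    show _ = (q'.out : H) * x * (q'.out : H)⁻¹
    simp only [Subgroup.coe_mul, InvMemClass.coe_inv, mul_inv_rev] at h3
    calc m * ((q.out : H) * x * (q.out : H)⁻¹) * m⁻¹
        = m * q.out * (x * ((q.out : H)⁻¹ * m⁻¹ * q'.out)) * (q'.out : H)⁻¹ := by group
      _ = m * q.out * ((q.out : H)⁻¹ * m⁻¹ * q'.out * x) * (q'.out : H)⁻¹ := by rw [h3]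
      _ = _ := by group
  exact congrArg Subtype.val hc

end Generic

section Component

variable {X : Type u} [Group X] [Finite X] {Ab : Subgroup X}

theorem LocalHyp.comm (h : LocalHyp X Ab) {a b : X} (ha : a ∈ Ab) (hb : b ∈ Ab) : a * b = b * a :=
  elemAb_comm h.elem a ha b hb

theorem LocalHyp.sq (h : LocalHyp X Ab) {a : X} (ha : a ∈ Ab) : a * a = 1 := by
  rw [← pow_two]; exact h.elem.2 a ha

theorem LocalHyp.inv (h : LocalHyp X Ab) {a : X} (ha : a ∈ Ab) : a⁻¹ = a :=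
  inv_eq_of_mul_eq_one_right (h.sq ha)

theorem LocalHyp.exists_sylow (h : LocalHyp X Ab) : ∃ T : Sylow 2 X, Ab ≤ T :=
  haveI : Fact (Nat.Prime 2) := ⟨Nat.prime_two⟩
  (elemAb_isPGroup h.elem).exists_le_sylow

variable (h : LocalHyp X Ab) {T : Sylow 2 X} (hT : Ab ≤ T)
include h hT

theorem LocalHyp.stronglyClosed : Cfsg.IsStronglyClosed Ab (T : Subgroup X) :=
  ⟨hT, fun x hx g hg => h.closed _ T.isPGroup' hT x hx g hg⟩

theorem LocalHyp.sylow_le_normalizer : (T : Subgroup X) ≤ normalizer (Ab : Set X) :=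
  Invol.sylow_le_normalizer_stronglyClosed (h.stronglyClosed hT)

variable {K : Subgroup X} (hK : Cfsg.IsComponent K)
include hK

theorem center_le_sylow : K ⊓ centralizer (K : Set X) ≤ T := by
  haveI : Fact (Nat.Prime 2) := ⟨Nat.prime_two⟩
  refine (component_centralizer_inf_le_fitting hK).trans ?_
  rw [fitting_eq_pCore (p := 2) h.core]
  exact Grp.pCore_le_sylow T

omit h hT in
theorem center_eq : center ↥K = (K ⊓ centralizer (K : Set X)).subgroupOf K := by
  ext k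
  rw [mem_subgroupOf, mem_inf, mem_center_iff, mem_centralizer_iff]
  exact ⟨fun hk => ⟨k.2, fun y hy => congrArg Subtype.val (hk ⟨y, hy⟩)⟩,
    fun hk y => Subtype.ext (hk.2 y y.2)⟩

omit h hT in
theorem mk_eq_mk {a b : ↥K} :
    (a : ↥K ⧸ center ↥K) = b ↔ (a : X)⁻¹ * b ∈ centralizer (K : Set X) := by
  rw [QuotientGroup.eq, center_eq hK, mem_subgroupOf, mem_inf]
  exact ⟨fun hk => hk.2, fun hk => ⟨K.mul_mem (K.inv_mem a.2) b.2, hk⟩⟩

omit h hT in
theorem not_comm_quotient : ¬ IsMulCommutative (↥K ⧸ center ↥K) := by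
  intro hc
  haveI := hK.2.2
  haveI : Nontrivial (↥K ⧸ center ↥K) := hK.2.2.toNontrivial
  have hp : Group.IsPerfect (↥K ⧸ center ↥K) := by
    haveI := hK.2.1
    exact Group.IsPerfect.ofSurjective (f := QuotientGroup.mk' (center ↥K)) (QuotientGroup.mk'_surjective _)
  exact Group.IsPerfect.not_isSolvable _ (Group.isSolvable_of_comm fun a b => hc.1.1 a b)

omit hT in
theorem two_dvd_quotient : 2 ∣ Nat.card (↥K ⧸ center ↥K) := by
  haveI : Fact (Nat.Prime 2) := ⟨Nat.prime_two⟩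
  exact dvd_quotient_center hK.2.1.commutator_eq_top (component_dvd h.core hK)

omit h hT in
/-- The Sylow subgroup of the component cut out by `T`. -/
theorem exists_sylow_component : ∃ P : Sylow 2 ↥K, (P : Subgroup ↥K) = (T : Subgroup X).subgroupOf K := by
  haveI : Fact (Nat.Prime 2) := ⟨Nat.prime_two⟩
  have hp : IsPGroup 2 ((T : Subgroup X).subgroupOf K) := T.isPGroup'.comap_of_injective _ (subtype_injective _)
  exact ⟨hp.toSylow (not_dvd_relIndex_sylow T hK.1), rfl⟩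

/-- The Sylow subgroup of `K/Z(K)` cut out by `T`. -/
theorem exists_sylow_quotient : ∃ P : Sylow 2 (↥K ⧸ center ↥K),
    ∀ k : ↥K, ((k : ↥K ⧸ center ↥K) ∈ (P : Subgroup (↥K ⧸ center ↥K)) ↔ (k : X) ∈ (T : Subgroup X)) := by
  haveI : Fact (Nat.Prime 2) := ⟨Nat.prime_two⟩
  obtain ⟨P, hP⟩ := exists_sylow_component (T := T) hK
  refine ⟨P.mapSurjective (QuotientGroup.mk'_surjective (center ↥K)), fun k => ?_⟩
  rw [Sylow.coe_mapSurjective, hP]
  refine ⟨?_, fun hk => ⟨k, hk, rfl⟩⟩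
  rintro ⟨t, ht, e⟩
  have h1 := (mk_eq_mk hK).1 e
  have h2 : (t : X)⁻¹ * k ∈ (T : Subgroup X) :=
    center_le_sylow h hT hK ⟨K.mul_mem (K.inv_mem t.2) k.2, h1⟩
  simpa using (T : Subgroup X).mul_mem (mem_subgroupOf.1 ht) h2

/-- `Ab` fixes every component. -/
theorem normalizes : Ab ≤ normalizer (K : Set X) := by
  haveI : Fact (Nat.Prime 2) := ⟨Nat.prime_two⟩
  intro x hx
  by_contra hxK
  have hK' := IsComponent.conj hK x
  have hne : K ≠ K.map (MulAut.conj x).toMonoidHom := fun e => hxK (conj_eq_iff.1 e.symm)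
  have hcomm : ∀ k ∈ K, ∀ l ∈ K, k * (x * l * x⁻¹) = (x * l * x⁻¹) * k := fun k hk l hl =>
    (mem_centralizer_iff.1 (IsComponent.commute hK hK' hne hk) _ ⟨l, hl, rfl⟩).symm
  haveI := hK.2.2
  obtain ⟨P, hP⟩ := exists_sylow_quotient h hT hK
  obtain ⟨⟨u, huP⟩, hu⟩ := exists_prime_orderOf_dvd_card' (G := ↥(P : Subgroup (↥K ⧸ center ↥K))) 2
    (P.dvd_card_of_dvd_card (two_dvd_quotient h hK))
  rw [← Subgroup.orderOf_coe] at hu
  obtain ⟨⟨t, htK⟩, rfl⟩ := QuotientGroup.mk_surjective u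
  change orderOf (QuotientGroup.mk ⟨t, htK⟩ : ↥K ⧸ center ↥K) = 2 at hu
  have htT : t ∈ (T : Subgroup X) := (hP ⟨t, htK⟩).1 huP
  refine isolated_false hK.2.2 (not_comm_quotient hK) P hu huP fun g hg => ?_
  obtain ⟨⟨g, hgK⟩, rfl⟩ := QuotientGroup.mk_surjective g
  have hgt : g * t * g⁻¹ ∈ (T : Subgroup X) :=
    (hP ((⟨g, hgK⟩ : ↥K) * (⟨t, htK⟩ : ↥K) * (⟨g, hgK⟩ : ↥K)⁻¹)).1
      (by rw [QuotientGroup.mk_mul, QuotientGroup.mk_mul, QuotientGroup.mk_inv]; exact hg)
  set t' := x * t⁻¹ * x⁻¹ with ht'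
  have hw : t * t' ∈ Ab := by
    rw [ht', show t * (x * t⁻¹ * x⁻¹) = t * x * t⁻¹ * x⁻¹ by group]
    exact Ab.mul_mem (mem_conj_normalizer (h.sylow_le_normalizer hT htT) hx) (Ab.inv_mem hx)
  have ht'T : t' ∈ (T : Subgroup X) := mul_mem (mul_mem (hT hx) (inv_mem htT)) (inv_mem (hT hx))
  have hgt' : g * t' * g⁻¹ = t' := by
    rw [hcomm g hgK t⁻¹ (inv_mem htK), mul_inv_cancel_right]
  have e : g * (t * t') * g⁻¹ = g * t * g⁻¹ * t' := by
    calc g * (t * t') * g⁻¹ = g * t * g⁻¹ * (g * t' * g⁻¹) := by group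
      _ = _ := by rw [hgt']
  have hq : g * (t * t') * g⁻¹ ∈ Ab := h.closed _ T.isPGroup' hT _ hw g (e ▸ mul_mem hgt ht'T)
  set q := g * t * g⁻¹ * t⁻¹ with hqdef
  have hqA : q ∈ Ab := by
    have : q = g * (t * t') * g⁻¹ * (t * t')⁻¹ := by rw [e, hqdef]; group
    rw [this]
    exact Ab.mul_mem hq (Ab.inv_mem hw)
  have hqK : q ∈ K := mul_mem (mul_mem (mul_mem hgK htK) (inv_mem hgK)) (inv_mem htK)
  have hqC : q ∈ centralizer (K : Set X) := mem_centralizer_iff.2 fun k hk => by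
    have := hcomm k hk q hqK
    rwa [show x * q * x⁻¹ = q by rw [h.comm hx hqA, mul_inv_cancel_right]] at this
  refine ((mk_eq_mk hK (a := ⟨t, htK⟩) (b := ⟨g, hgK⟩ * ⟨t, htK⟩ * ⟨g, hgK⟩⁻¹)).2 ?_).symm
  show t⁻¹ * (g * t * g⁻¹) ∈ centralizer (K : Set X)
  rw [show t⁻¹ * (g * t * g⁻¹) = t⁻¹ * q * t by rw [hqdef]; group]
  have e2 : t⁻¹ * q * t = q := by
    rw [mul_assoc, ← (mem_centralizer_iff.1 hqC t htK), inv_mul_cancel_left]
  rwa [e2]

/-- An element of `Ab` fixed modulo `C(K)` by the normalizer of `Ab ∩ K⟨x⟩` centralises `K`. -/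
theorem centralizes_of_fixed {x : X} (hx : x ∈ Ab)
    (hfix : ∀ k ∈ K, k ∈ normalizer ((Ab ⊓ (K ⊔ zpowers x) : Subgroup X) : Set X) →
      k * x * k⁻¹ * x⁻¹ ∈ centralizer (K : Set X)) : x ∈ centralizer (K : Set X) := by
  haveI : Fact (Nat.Prime 2) := ⟨Nat.prime_two⟩
  have hxN := normalizes h hT hK hx
  set H := K ⊔ zpowers x with hHdef
  have hKH : K ≤ H := le_sup_left
  have hxH : x ∈ H := mem_sup_right (mem_zpowers x)
  have hHN : H ≤ normalizer (K : Set X) := sup_le Subgroup.le_normalizer (zpowers_le.2 hxN)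
  have hzx : ∀ z ∈ zpowers x, z = 1 ∨ z = x := fun z hz => by
    obtain ⟨i, rfl⟩ := mem_zpowers_iff.1 hz
    rcases Int.even_or_odd i with ⟨j, rfl⟩ | ⟨j, rfl⟩
    · left; rw [zpow_add, ← (Commute.refl x).mul_zpow, h.sq hx, one_zpow]
    · right; rw [zpow_add, zpow_mul, zpow_ofNat, pow_two, h.sq hx, one_zpow, one_mul, zpow_one]
  have hHmem : ∀ n ∈ H, ∃ k ∈ K, n = k ∨ n = k * x := by
    intro n hn
    have hn' : n ∈ ((K ⊔ zpowers x : Subgroup X) : Set X) := hn
    rw [coe_mul_of_right_le_normalizer_left _ _ (zpowers_le.2 hxN)] at hn'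
    obtain ⟨k, hk, z, hz, rfl⟩ := hn'
    refine ⟨k, hk, ?_⟩
    rcases hzx z hz with rfl | rfl
    · exact Or.inl (mul_one k)
    · exact Or.inr rfl
  -- the Sylow subgroup of `H`
  have hPp : IsPGroup 2 ((T : Subgroup X).subgroupOf H) := T.isPGroup'.comap_of_injective _ (subtype_injective _)
  have hidx : ¬ 2 ∣ (T : Subgroup X).relIndex H := by
    have hsup : ((T : Subgroup X) ⊓ H) ⊔ K = H := le_antisymm (sup_le inf_le_right hKH)
      (sup_le le_sup_right (zpowers_le.2 (mem_sup_left ⟨hT hx, hxH⟩)))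
    have h1 := card_sup_mul_card_inf (H := (T : Subgroup X) ⊓ H) (N := K) (inf_le_right.trans hHN)
    rw [hsup, inf_assoc, inf_eq_right.2 hKH] at h1
    have h2 := card_mul_relIndex (inf_le_right : (T : Subgroup X) ⊓ H ≤ H)
    have h3 := card_mul_relIndex (inf_le_right : (T : Subgroup X) ⊓ K ≤ K)
    rw [inf_relIndex_right] at h2 h3
    rw [← h2, ← h3] at h1
    have h4 : (T : Subgroup X).relIndex H = (T : Subgroup X).relIndex K := by
      refine Nat.eq_of_mul_eq_mul_left (Nat.mul_pos (Nat.card_pos (α := ↥((T : Subgroup X) ⊓ H)))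
        (Nat.card_pos (α := ↥((T : Subgroup X) ⊓ K)))) ?_
      linarith [h1]
    exact h4 ▸ not_dvd_relIndex_sylow T hK.1
  set P : Sylow 2 ↥H := hPp.toSylow hidx
  have hPmem : ∀ n : ↥H, n ∈ P ↔ (n : X) ∈ (T : Subgroup X) := fun n => Iff.rfl
  -- the centraliser of `K` in `H`
  set C := (centralizer (K : Set X)).subgroupOf H with hCdef
  haveI hCn : C.Normal := ⟨fun c hc n => mem_subgroupOf.2 (mem_centralizer_iff.2 fun k hk => by
    have hk' : (n : X)⁻¹ * k * n ∈ K := mem_conj_normalizer' (hHN n.2) hk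
    have := mem_centralizer_iff.1 (mem_subgroupOf.1 hc) _ hk'
    show k * ((n : X) * c * (n : X)⁻¹) = (n : X) * c * (n : X)⁻¹ * k
    calc k * ((n : X) * c * (n : X)⁻¹) = (n : X) * (((n : X)⁻¹ * k * n) * c) * (n : X)⁻¹ := by group
      _ = (n : X) * (c * ((n : X)⁻¹ * k * n)) * (n : X)⁻¹ := by rw [this]
      _ = _ := by group)⟩
  have hCT : (centralizer (K : Set X)) ⊓ H ≤ T := by
    rintro c ⟨hc, hcH⟩
    obtain ⟨k, hk, rfl | rfl⟩ := hHmem c hcH
    · exact center_le_sylow h hT hK ⟨hk, hc⟩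
    · -- `k * x` centralises `K`, so `k²` is central and `k` is a 2-element
      by_contra hnot
      have hkC : ∀ y ∈ K, k * x * y = y * (k * x) := fun y hy => (mem_centralizer_iff.1 hc y hy).symm
      have hc2 : (k * x) * (k * x) ∈ K ⊓ centralizer (K : Set X) := by
        refine ⟨?_, (centralizer (K : Set X)).mul_mem hc hc⟩
        rw [show k * x * (k * x) = k * (x * k * x⁻¹) * (x * x) by group, h.sq hx, mul_one]
        exact K.mul_mem hk (mem_conj_normalizer hxN hk)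
      have hp : IsPGroup 2 (zpowers (k * x)) := by
        obtain ⟨j, hj⟩ := T.isPGroup' ⟨_, center_le_sylow h hT hK hc2⟩
        have hj' : (k * x) ^ (2 ^ (j + 1)) = 1 := by
          rw [pow_succ', pow_mul, pow_two]
          simpa using congrArg Subtype.val hj
        intro z
        obtain ⟨i, hi⟩ := mem_zpowers_iff.1 z.2
        exact ⟨j + 1, Subtype.ext (by
          show (z : X) ^ (2 ^ (j + 1)) = 1
          rw [← hi, ← zpow_natCast, ← zpow_mul, mul_comm, zpow_mul, zpow_natCast, hj', one_zpow])⟩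
      have hle : (zpowers (k * x)).subgroupOf H ≤ P := by
        refine le_trans ?_ (Grp.pCore_le_sylow P)
        refine Grp.le_pCore ?_ (hp.comap_of_injective _ (subtype_injective _))
        refine ⟨fun z hz n => ?_⟩
        obtain ⟨i, hi⟩ := mem_zpowers_iff.1 (mem_subgroupOf.1 hz)
        have hcomm : (n : X) * (k * x) * (n : X)⁻¹ = k * x := by
          have hKx : ∀ y ∈ K, y * (k * x) * y⁻¹ = k * x := fun y hy => by rw [← hkC y hy, mul_inv_cancel_right]
          obtain ⟨m, hm, hn | hn⟩ := hHmem n n.2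
          · rw [hn]; exact hKx m hm
          · rw [hn]
            calc m * x * (k * x) * (m * x)⁻¹ = m * (x * k) * m⁻¹ := by group
              _ = m * (k⁻¹ * (k * x * k) ) * m⁻¹ := by group
              _ = m * (k⁻¹ * (k * (k * x))) * m⁻¹ := by rw [hkC k hk]
              _ = m * (k * x) * m⁻¹ := by group
              _ = _ := hKx m hm
        refine mem_subgroupOf.2 (mem_zpowers_iff.2 ⟨i, ?_⟩)
        show (k * x) ^ i = (n : X) * z * (n : X)⁻¹
        rw [← hi, ← conj_zpow, hcomm]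
      exact hnot ((hPmem ⟨k * x, hcH⟩).1 (hle (mem_subgroupOf.2 (mem_zpowers _))))
  by_contra hxC
  set π := QuotientGroup.mk' C
  set u := π ⟨x, hxH⟩ with hu
  have hu2 : orderOf u = 2 := by
    refine orderOf_eq_prime ?_ fun e => hxC (mem_subgroupOf.1 ((QuotientGroup.eq_one_iff _).1 e))
    rw [hu, ← map_pow, show (⟨x, hxH⟩ : ↥H) ^ 2 = 1 from Subtype.ext (h.elem.2 x hx), map_one]
  set P' := P.mapSurjective (QuotientGroup.mk'_surjective C)
  have huP : u ∈ P' := by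
    show u ∈ (P' : Subgroup _)
    rw [Sylow.coe_mapSurjective]
    exact ⟨⟨x, hxH⟩, hT hx, rfl⟩
  obtain ⟨N, hN, hodd, hc⟩ := S0215.result P' u hu2 huP (fun g hg => by
    obtain ⟨g, rfl⟩ := QuotientGroup.mk'_surjective C g
    replace hg : π g * u * (π g)⁻¹ ∈ (P' : Subgroup _) := hg
    rw [Sylow.coe_mapSurjective] at hg
    obtain ⟨t, ht, e⟩ := hg
    rw [hu, ← map_inv, ← map_mul, ← map_mul] at e ⊢
    have h1 : (((g * ⟨x, hxH⟩ * g⁻¹ : ↥H)) : X) ∈ (T : Subgroup X) := by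
      have h2 := (QuotientGroup.eq (s := C)).1 e
      have h3 := hCT ⟨mem_subgroupOf.1 h2, (t⁻¹ * (g * ⟨x, hxH⟩ * g⁻¹)).2⟩
      simpa using (T : Subgroup X).mul_mem ((hPmem t).1 ht) h3
    have h2 : (g : X) * x * (g : X)⁻¹ ∈ Ab := h.closed _ T.isPGroup' hT x hx g h1
    set V := Ab.subgroupOf H
    have hV : IsMulCommutative ↥V := ⟨⟨fun a b => Subtype.ext (Subtype.ext
      (h.comm (mem_subgroupOf.1 a.2) (mem_subgroupOf.1 b.2)))⟩⟩
    have hsc : Cfsg.IsStronglyClosed V (P : Subgroup ↥H) :=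
      ⟨fun a ha => (hPmem a).2 (hT (mem_subgroupOf.1 ha)), fun a ha m hm => mem_subgroupOf.2
        (h.closed _ T.isPGroup' hT _ (mem_subgroupOf.1 ha) m ((hPmem _).1 hm))⟩
    obtain ⟨n, hn, hnx⟩ := exists_normalizer_conj P hV hsc (x := ⟨x, hxH⟩) (g := g)
      (mem_subgroupOf.2 hx) (mem_subgroupOf.2 h2)
    have hnx' : (n : X) * x * (n : X)⁻¹ = (g : X) * x * (g : X)⁻¹ := congrArg Subtype.val hnx
    have hnN : (n : X) ∈ normalizer ((Ab ⊓ H : Subgroup X) : Set X) := by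
      refine mem_normalizer_fintype fun a ha => ⟨?_, H.mul_mem (H.mul_mem n.2 ha.2) (H.inv_mem n.2)⟩
      exact mem_subgroupOf.1 (mem_conj_normalizer hn (mem_subgroupOf.2 ha.1 : (⟨a, ha.2⟩ : ↥H) ∈ V))
    have hxN' : x ∈ normalizer ((Ab ⊓ H : Subgroup X) : Set X) :=
      Subgroup.le_normalizer ⟨hx, hxH⟩
    obtain ⟨k, hk, hnk | hnk⟩ := hHmem n n.2
    all_goals
      refine ((QuotientGroup.eq (s := C)).2 (mem_subgroupOf.2 ?_)).symm
      show x⁻¹ * ((g : X) * x * (g : X)⁻¹) ∈ centralizer (K : Set X)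
      have hkx : k * x * k⁻¹ = (g : X) * x * (g : X)⁻¹ := by
        rw [← hnx', hnk]
        try group
      have hkN : k ∈ normalizer ((Ab ⊓ H : Subgroup X) : Set X) := by
        first
          | exact hnk ▸ hnN
          | (have := mul_mem hnN (inv_mem hxN'); rwa [hnk, mul_inv_cancel_right] at this)
      have h4 := hfix k hk hkN
      rw [hkx] at h4
      rwa [h.comm (Ab.inv_mem hx) h2])
  -- the odd normal subgroup meets the image of `K` trivially
  set N' : Subgroup ↥K := N.comap (π.comp (Subgroup.inclusion hKH))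
  have hN'c : N' ≤ center ↥K := by
    haveI := hN
    rcases IsQuasisimple.eq_top_or_le_center hK.2 N' with e | e
    · exfalso
      set f := π.comp (Subgroup.inclusion hKH)
      have hker : f.ker ≤ center ↥K := fun k hk => mem_center_iff.2 fun y => Subtype.ext
        (mem_centralizer_iff.1 (mem_subgroupOf.1 ((QuotientGroup.eq_one_iff _).1 hk)) y y.2)
      have h1 := component_dvd_index h.core hK f.ker hker
      have h2 : f.range ≤ N := by
        rintro _ ⟨k, rfl⟩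
        exact (e ▸ mem_top k : k ∈ N')
      rw [Subgroup.index_ker] at h1
      exact (Nat.not_even_iff_odd.2 hodd) (even_iff_two_dvd.2 (h1.trans (card_dvd_of_le h2)))
    · exact e
  refine hxC ?_
  have hp : ⁅K, K⁆ = K := IsComponent.perfect hK
  refine le_centralizer_iff.1 (le_centralizer_of_perfect (B := zpowers x) hp ?_) (mem_zpowers x)
  rw [commutator_eq_bot_iff_le_centralizer, commutator_le]
  intro k hk z hz
  rcases hzx z hz with rfl | rfl
  · rw [commutatorElement_one_right]; exact one_mem _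
  · have hd : z * k * z⁻¹ * k⁻¹ ∈ K := K.mul_mem (mem_conj_normalizer hxN hk) (K.inv_mem hk)
    have h2 := hc (π ⟨k, hKH hk⟩)
    rw [hu, ← map_inv, ← map_inv, ← map_mul, ← map_mul, ← map_mul] at h2
    have h3 : (⟨_, hd⟩ : ↥K) ∈ center ↥K := hN'c h2
    have h4 : z * k * z⁻¹ * k⁻¹ ∈ centralizer (K : Set X) :=
      mem_centralizer_iff.2 fun y hy => congrArg Subtype.val (mem_center_iff.1 h3 ⟨y, hy⟩)
    have h5 := (centralizer (K : Set X)).inv_mem h4
    rw [commutatorElement_def]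
    simpa [mul_assoc] using h5

/-- `Ab = C_Ab(K) (Ab ∩ K)` when the Sylow subgroup of `K` acts on `Ab` trivially modulo `C(K)`. -/
theorem sup_eq_of_twist (htw : ∀ t ∈ (T : Subgroup X), t ∈ K → ∀ a ∈ Ab,
      t * a * t⁻¹ * a⁻¹ ∈ centralizer (K : Set X)) :
    (Ab ⊓ centralizer (K : Set X)) ⊔ (Ab ⊓ K) = Ab := by
  haveI : Fact (Nat.Prime 2) := ⟨Nat.prime_two⟩
  refine le_antisymm (sup_le inf_le_left inf_le_left) fun x hx => ?_
  have hxN := normalizes h hT hK hx
  set H := K ⊔ zpowers x with hHdef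
  have hKH : K ≤ H := le_sup_left
  have hxH : x ∈ H := mem_sup_right (mem_zpowers x)
  set NK := normalizer (K : Set X)
  set C := (centralizer (K : Set X)).subgroupOf NK
  haveI hCn : C.Normal := ⟨fun c hc n => mem_subgroupOf.2 (mem_centralizer_iff.2 fun k hk => by
    have hk' : (n : X)⁻¹ * k * n ∈ K := mem_conj_normalizer' n.2 hk
    have := mem_centralizer_iff.1 (mem_subgroupOf.1 hc) _ hk'
    show k * ((n : X) * c * (n : X)⁻¹) = (n : X) * c * (n : X)⁻¹ * k
    calc k * ((n : X) * c * (n : X)⁻¹) = (n : X) * (((n : X)⁻¹ * k * n) * c) * (n : X)⁻¹ := by group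
      _ = (n : X) * (c * ((n : X)⁻¹ * k * n)) * (n : X)⁻¹ := by rw [this]
      _ = _ := by group)⟩
  set π := QuotientGroup.mk' C
  have hHN : H ≤ NK := sup_le Subgroup.le_normalizer (zpowers_le.2 hxN)
  set AH := Ab ⊓ H
  set L := (AH.subgroupOf NK).map π
  set L0 := ((Ab ⊓ K).subgroupOf NK).map π
  set M0 := K ⊓ normalizer (AH : Set X)
  set M := (M0.subgroupOf NK).map π
  have hM0 : M0 ≤ NK := inf_le_left.trans Subgroup.le_normalizer
  obtain ⟨_, ⟨⟨e, heN⟩, he, rfl⟩, hefix⟩ := exists_fixed_shift (M := M) (L := L) (L0 := L0) (by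
      rintro _ ⟨a, ha, rfl⟩ _ ⟨b, hb, rfl⟩
      rw [← map_mul, ← map_mul]
      exact congrArg π (Subtype.ext (h.comm (mem_subgroupOf.1 ha).1 (mem_subgroupOf.1 hb).1)))
    (by
      rintro _ ⟨a, ha, rfl⟩
      rw [← map_mul, show a * a = 1 from Subtype.ext (h.sq (mem_subgroupOf.1 ha).1), map_one])
    (by
      refine invariant_iff.1 ?_
      rintro _ ⟨m, hm, rfl⟩ _ ⟨a, ha, rfl⟩
      rw [← map_inv, ← map_mul, ← map_mul]
      exact ⟨_, mem_subgroupOf.2 (mem_conj_normalizer (mem_subgroupOf.1 hm).2 (mem_subgroupOf.1 ha)), rfl⟩)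
    (map_mono fun a ha => mem_subgroupOf.2 ⟨(mem_subgroupOf.1 ha).1, hKH (mem_subgroupOf.1 ha).2⟩)
    (by
      rw [← relIndex_comap]
      have hTM : ((T : Subgroup X) ⊓ K).subgroupOf NK ≤ (centralizer (L : Set (↥NK ⧸ C))).comap π := by
        intro t ht
        obtain ⟨htT, htK⟩ := mem_subgroupOf.1 ht
        refine mem_centralizer_iff.2 ?_
        rintro _ ⟨a, ha, rfl⟩
        refine (commutatorElement_eq_one_iff_mul_comm.1 ?_).symm
        rw [← map_commutatorElement]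
        exact (QuotientGroup.eq_one_iff _).2 (mem_subgroupOf.2 (htw t htT htK a (mem_subgroupOf.1 ha).1))
      have hTM0 : (T : Subgroup X) ⊓ K ≤ M0 := by
        refine le_inf inf_le_right (invariant_iff.1 fun c hc y hy => ⟨?_, H.mul_mem (H.mul_mem (hKH hc.2) hy.2)
          (H.inv_mem (hKH hc.2))⟩)
        exact mem_conj_normalizer (h.sylow_le_normalizer hT hc.1) hy.1
      have h1 := relIndex_dvd_of_le_left (M0.subgroupOf NK) hTM
      rw [relIndex_subgroupOf hM0] at h1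
      have h2 : ((T : Subgroup X) ⊓ K).relIndex M0 ∣ ((T : Subgroup X) ⊓ K).relIndex K :=
        Dvd.intro _ (relIndex_mul_relIndex _ _ _ hTM0 inf_le_left)
      rw [inf_relIndex_right] at h2
      refine Nat.not_even_iff_odd.1 fun he => not_dvd_relIndex_sylow T hK.1 ?_
      exact (even_iff_two_dvd.1 he).trans (h1.trans h2))
    (x := π ⟨x, hHN hxH⟩) ⟨_, mem_subgroupOf.2 ⟨hx, hxH⟩, rfl⟩
    (by
      rintro _ ⟨m, hm, rfl⟩
      obtain ⟨hmK, hmN⟩ := mem_subgroupOf.1 hm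
      rw [← map_inv, ← map_inv, ← map_mul, ← map_mul, ← map_mul]
      refine ⟨_, mem_subgroupOf.2 ⟨?_, ?_⟩, rfl⟩
      · exact Ab.mul_mem (mem_conj_normalizer hmN ⟨hx, hxH⟩).1 (Ab.inv_mem hx)
      · show (m : X) * x * (m : X)⁻¹ * x⁻¹ ∈ K
        rw [show (m : X) * x * (m : X)⁻¹ * x⁻¹ = m * (x * (m : X)⁻¹ * x⁻¹) by group]
        exact K.mul_mem hmK (mem_conj_normalizer hxN (K.inv_mem hmK)))
  have hex : x * e ∈ Ab := Ab.mul_mem hx (mem_subgroupOf.1 he).1
  have hH' : K ⊔ zpowers (x * e) = H := by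
    refine le_antisymm (sup_le hKH (zpowers_le.2 (H.mul_mem hxH (hKH (mem_subgroupOf.1 he).2)))) ?_
    refine sup_le le_sup_left (zpowers_le.2 ?_)
    simpa using mul_mem (mem_sup_right (mem_zpowers (x * e)) : x * e ∈ K ⊔ zpowers (x * e))
      (inv_mem (mem_sup_left (mem_subgroupOf.1 he).2 : e ∈ K ⊔ zpowers (x * e)))
  have hxC : x * e ∈ centralizer (K : Set X) := by
    refine centralizes_of_fixed h hT hK hex fun k hk hkN => ?_
    rw [hH'] at hkN
    have := hefix _ ⟨⟨k, Subgroup.le_normalizer hk⟩, mem_subgroupOf.2 ⟨hk, hkN⟩, rfl⟩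
    rw [← map_inv, ← map_mul, ← map_mul, ← map_mul] at this
    have h2 := mem_subgroupOf.1 ((QuotientGroup.eq_one_iff _).1
      (show π ((⟨k, Subgroup.le_normalizer hk⟩ * (⟨x, hHN hxH⟩ * ⟨e, heN⟩) * ⟨k, Subgroup.le_normalizer hk⟩⁻¹) *
        (⟨x, hHN hxH⟩ * ⟨e, heN⟩)⁻¹) = 1 by rw [map_mul, this, map_inv, mul_inv_cancel]))
    exact h2
  have hxe : x = (x * e) * e := by rw [mul_assoc, h.sq (mem_subgroupOf.1 he).1, mul_one]
  rw [hxe]
  exact mul_mem_sup ⟨hex, hxC⟩ (mem_subgroupOf.1 he)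

end Component

end Cfsg.Agent.Fus.Gold
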