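import Cfsg.Agent.Lib.Fus.Goldschmidt.LocalBase
import Cfsg.Agent.Lib.Fus.Goldschmidt.FourModels
import Cfsg.Agent.Lib.Transfer.Abelian
import Cfsg.Agent.Lib.Fus.ZStarCenter

/-!
# One component of `C(a)/O(C(a))` meeting the image of `A` in a four-group (section 4 of the note on S1169)

The Sylow subgroup of the component is that four-group, and then every element of `T` acts as one of its
elements, or it is the one of `PSU(3, 4)`, and then an element of `T` centralising it has its square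
centralising the component.
-/

set_option autoImplicit false
set_option linter.unusedSectionVars false
set_option linter.style.haveILetI false

namespace Cfsg.Agent.Fus.Gold.Single

open Subgroup Cfsg.Agent.Grp

universe u

variable {X : Type u} [Group X] [Finite X]

/-- A component `K` with `|A ∩ K| = 4`, free of `C(K)`, and a Sylow subgroup normalising it. -/
structure Data (X : Type u) [Group X] [Finite X] (Ab : Subgroup X) (T : Sylow 2 X) (K : Subgroup X) : Prop where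
  loc : LocalHyp X Ab
  le : Ab ≤ T
  comp : Cfsg.IsComponent K
  central : ∀ t ∈ (T : Subgroup X), ∀ x ∈ Ab, t * x = x * t
  norm : (T : Subgroup X) ≤ normalizer (K : Set X)
  four : Nat.card ↥(Ab ⊓ K) = 4
  free : Ab ⊓ K ⊓ centralizer (K : Set X) = ⊥

/-- What is used about a Sylow subgroup `P` of `PSU(3, 4)` with involutions `E`. -/
structure UnitSylow (P E K : Subgroup X) : Prop where
  le : E ≤ P
  card : Nat.card P = 64
  sq : ∀ y ∈ P, y * y ∈ E
  sqrt : ∀ z ∈ E, ∃ y ∈ P, y * y = z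
  trans : ∀ z ∈ E, ∀ z' ∈ E, z ≠ 1 → z' ≠ 1 →
    ∃ n ∈ K, (∀ y ∈ P, n * y * n⁻¹ ∈ P) ∧ n * z * n⁻¹ = z'
  five : ∃ x ∈ K, x ^ 5 = 1 ∧ x ∈ normalizer (P : Set X) ∧ (∀ z ∈ E, x * z * x⁻¹ = z) ∧
    ∀ y ∈ P, y⁻¹ * (x * y * x⁻¹) ∈ E → y ∈ E

theorem mem_sup_comm {G : Type u} [Group G] {A B : Subgroup G} {z : G}
    (hz : z ∈ A ⊔ B) (h : ∀ a ∈ A, ∀ b ∈ B, a * b = b * a) : ∃ a ∈ A, ∃ b ∈ B, a * b = z := by
  have hN : A ≤ normalizer (B : Set G) := fun a ha => mem_normalizer_iff.2 fun b => by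
    constructor
    · intro hb
      rwa [h a ha b hb, mul_inv_cancel_right]
    · intro hb
      have h1 := h _ (A.inv_mem ha) _ hb
      rw [show a⁻¹ * (a * b * a⁻¹) = b * a⁻¹ by group] at h1
      rwa [mul_right_cancel h1]
  have hz' : z ∈ ((A ⊔ B : Subgroup G) : Set G) := hz
  rw [coe_mul_of_left_le_normalizer_right _ _ hN] at hz'
  exact hz'

/-- A subgroup between `E` and `P` stable under the element of order five is one of them. -/
theorem eq_or_eq {P E : Subgroup X} (hEP : E ≤ P) (hP : Nat.card P = 64) (hE : Nat.card E = 4) {x : X}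
    (h5 : x ^ 5 = 1) (hx : ∀ z ∈ E, x * z * x⁻¹ = z) (hfix : ∀ y ∈ P, y⁻¹ * (x * y * x⁻¹) ∈ E → y ∈ E)
    {U : Subgroup X} (hEU : E ≤ U) (hUP : U ≤ P) (hU : ∀ y ∈ U, x * y * x⁻¹ ∈ U) : U = E ∨ U = P := by
  classical
  haveI : Fact (Nat.Prime 5) := ⟨by norm_num⟩
  haveI : Fintype X := Fintype.ofFinite _
  have hxU : x ∈ normalizer (U : Set X) := mem_normalizer_fintype hU
  let f : Equiv.Perm X := (MulAut.conj x).toEquiv
  let σ : Equiv.Perm ↥U := f.subtypePerm fun y => (mem_normalizer_iff.1 hxU y).symm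
  have hσ : σ ^ 5 ^ 1 = 1 := by
    have hi : ∀ (i : ℕ) (y : ↥U), (((σ ^ i) y : ↥U) : X) = x ^ i * (y : X) * (x ^ i)⁻¹ := by
      intro i y
      induction i with
      | zero => simp
      | succ i ih =>
        rw [pow_succ', Equiv.Perm.mul_apply, show ∀ s : ↥U, ((σ s : ↥U) : X) = x * (s : X) * x⁻¹ from fun _ => rfl,
          ih, pow_succ']
        group
    exact Equiv.ext fun y => Subtype.ext (by
      rw [pow_one, hi, h5, one_mul, inv_one, mul_one, Equiv.Perm.one_apply])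
  have hmod := Equiv.Perm.card_compl_support_modEq hσ
  have hsupp : σ.supportᶜ.card = Nat.card E := by
    rw [← Nat.card_eq_finsetCard]
    refine Nat.card_congr ((Equiv.subtypeEquivRight fun y : ↥U => ?_).trans
      (Equiv.subtypeSubtypeEquivSubtype (q := fun y => y ∈ E) fun h => hEU h))
    rw [Finset.mem_compl, Equiv.Perm.notMem_support, Subtype.ext_iff]
    constructor
    · intro h
      refine hfix _ (hUP y.2) ?_
      rw [show x * (y : X) * x⁻¹ = y from h, inv_mul_cancel]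
      exact one_mem _
    · exact fun h => hx _ h
  rw [hsupp, ← Nat.card_eq_fintype_card, hE] at hmod
  obtain ⟨k, hk, hkU⟩ := (Nat.dvd_prime_pow Nat.prime_two).1
    (show Nat.card U ∣ 2 ^ 6 from (card_dvd_of_le hUP).trans (by rw [hP]; norm_num))
  have h2 := card_le_of_le hEU
  rw [hE, hkU] at h2
  rw [hkU] at hmod
  have hk2 : k = 2 ∨ k = 6 := by
    interval_cases k
    all_goals first
      | omega
      | exact absurd hmod (by decide)
  rcases hk2 with rfl | rfl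
  · exact Or.inl (eq_of_le_of_card_ge hEU (by rw [hkU, hE]; norm_num)).symm
  · exact Or.inr (eq_of_le_of_card_ge hUP (by rw [hkU, hP]; norm_num))

/-- A homomorphism on `P` killing `E` and invariant under the element of order five is trivial. -/
theorem equivariant_trivial {P E K : Subgroup X} (hu : UnitSylow P E K) (hE : Nat.card E = 4) (f : ↥P →* X)
    (hfE : ∀ y : ↥P, (y : X) ∈ E → f y = 1) {x : X} (h5 : x ^ 5 = 1) (hxP : x ∈ normalizer (P : Set X))
    (hx : ∀ z ∈ E, x * z * x⁻¹ = z) (hfix : ∀ y ∈ P, y⁻¹ * (x * y * x⁻¹) ∈ E → y ∈ E)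
    (heq : ∀ y : ↥P, f ⟨x * y * x⁻¹, (mem_normalizer_iff.1 hxP y).1 y.2⟩ = f y) : ∀ y : ↥P, f y = 1 := by
  set U := f.ker.map P.subtype with hUdef
  have hUP : U ≤ P := map_subtype_le _
  have hEU : E ≤ U := fun z hz => ⟨⟨z, hu.le hz⟩, hfE _ hz, rfl⟩
  have hU : ∀ y ∈ U, x * y * x⁻¹ ∈ U := by
    rintro _ ⟨y, hy, rfl⟩
    exact ⟨⟨_, (mem_normalizer_iff.1 hxP y).1 y.2⟩, MonoidHom.mem_ker.2 ((heq y).trans (MonoidHom.mem_ker.1 hy)), rfl⟩
  rcases eq_or_eq hu.le hu.card hE h5 hx hfix hEU hUP hU with e | e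
  · exfalso
    have hall : P ≤ E := fun y hy => hfix y hy (e ▸ ⟨(⟨y, hy⟩ : ↥P)⁻¹ * ⟨_, (mem_normalizer_iff.1 hxP y).1 hy⟩,
      MonoidHom.mem_ker.2 (by rw [map_mul, map_inv, heq ⟨y, hy⟩, inv_mul_cancel]), rfl⟩)
    have := card_le_of_le hall
    rw [hu.card, hE] at this
    omega
  · intro y
    obtain ⟨z, hz, hzy⟩ := (e.ge y.2 : (y : X) ∈ U)
    rw [← show z = y from Subtype.ext hzy]
    exact hz

namespace Data

variable {Ab : Subgroup X} {T : Sylow 2 X} {K : Subgroup X} (d : Data X Ab T K)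
include d

theorem sup_eq : (Ab ⊓ centralizer (K : Set X)) ⊔ (Ab ⊓ K) = Ab :=
  sup_eq_of_twist d.loc d.le d.comp fun t ht _ a ha => by
    rw [d.central t ht a ha, mul_inv_cancel_right, mul_inv_cancel]
    exact one_mem _

theorem core_eq_bot : Cfsg.pPrimeCore 2 ↥K = ⊥ := by
  haveI : (Cfsg.pPrimeCore 2 ↥K).Normal := pPrimeCore_isNormal
  have hsub : ((Cfsg.pPrimeCore 2 ↥K).map K.subtype).IsSubnormal :=
    (Subgroup.Normal.isSubnormal inferInstance).trans' d.comp.1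
  have h1 := le_pPrimeCore_of_isSubnormal (p := 2) hsub
    (by rw [card_map_of_injective K.subtype_injective]; exact pPrimeCore_coprime)
  rw [d.loc.core, le_bot_iff] at h1
  exact (map_eq_bot_iff_of_injective _ K.subtype_injective).1 h1

theorem E_le : Ab ⊓ K ≤ (T : Subgroup X) ⊓ K := inf_le_inf_right _ d.le

theorem commute_E {t z : X} (ht : t ∈ (T : Subgroup X)) (hz : z ∈ Ab ⊓ K) : t * z = z * t := d.central t ht z hz.1

/-- The Sylow subgroup of the component modulo its centre. -/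
theorem quotient_facts : ∃ (P : Sylow 2 (↥K ⧸ center ↥K)) (Eh : Subgroup (↥K ⧸ center ↥K)),
    (∀ k : ↥K, ((k : ↥K ⧸ center ↥K) ∈ (P : Subgroup (↥K ⧸ center ↥K)) ↔ (k : X) ∈ (T : Subgroup X))) ∧
    Eh = ((Ab ⊓ K).subgroupOf K).map (QuotientGroup.mk' (center ↥K)) ∧
    Eh ≤ (P : Subgroup (↥K ⧸ center ↥K)) ∧ Nat.card Eh = 4 ∧
    (∀ t ∈ (P : Subgroup (↥K ⧸ center ↥K)), t * t = 1 ↔ t ∈ Eh) ∧
    ((P : Subgroup (↥K ⧸ center ↥K)) = Eh ∨ ∃ H : Subgroup (↥K ⧸ center ↥K), Cfsg.IsStronglyEmbedded H) ∧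
    ∀ a ∈ Eh, ∀ b ∈ Eh, a ≠ 1 → b ≠ 1 → ∃ g : ↥K ⧸ center ↥K, g * a * g⁻¹ = b := by
  obtain ⟨P, hP⟩ := exists_sylow_quotient d.loc d.le d.comp
  set π := QuotientGroup.mk' (center ↥K)
  set Eh := ((Ab ⊓ K).subgroupOf K).map π with hEh
  have hEP : Eh ≤ (P : Subgroup (↥K ⧸ center ↥K)) := by
    rintro _ ⟨k, hk, rfl⟩
    exact (hP k).2 (d.le (mem_subgroupOf.1 hk).1)
  have hker : ∀ k ∈ (Ab ⊓ K).subgroupOf K, π k = 1 → k = 1 := fun k hk h1 => by
    have h2 : (k : X) ∈ centralizer (K : Set X) := by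
      have h3 := (mk_eq_mk d.comp (a := (1 : ↥K)) (b := k)).1 h1.symm
      rwa [OneMemClass.coe_one, inv_one, one_mul] at h3
    exact Subtype.ext (mem_bot.1 (d.free ▸ (⟨mem_subgroupOf.1 hk, h2⟩ : (k : X) ∈ Ab ⊓ K ⊓ centralizer (K : Set X))))
  have h4 : Nat.card Eh = 4 := by
    rw [← d.four, ← Nat.card_congr (subgroupOfEquivOfLe (inf_le_right : Ab ⊓ K ≤ K)).toEquiv]
    refine (Nat.card_congr (Equiv.ofBijective (fun k => (⟨π k.1, mem_map_of_mem π k.2⟩ : ↥Eh))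
      ⟨fun k l e => Subtype.ext ?_, fun z => ?_⟩)).symm
    · have e' : π k.1 = π l.1 := congrArg Subtype.val e
      refine inv_mul_eq_one.1 (hker _ (mul_mem (inv_mem k.2) l.2) ?_)
      rw [map_mul, map_inv, e', inv_mul_cancel]
    · obtain ⟨k, hk, e⟩ := z.2
      exact ⟨⟨k, hk⟩, Subtype.ext e⟩
  have hne : Eh ≠ ⊥ := fun e => by rw [e, card_bot] at h4; omega
  have hel : Cfsg.IsElementaryAbelian 2 Eh := by
    refine ⟨⟨⟨?_⟩⟩, ?_⟩
    · rintro ⟨_, a, ha, rfl⟩ ⟨_, b, hb, rfl⟩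
      refine Subtype.ext ?_
      show π a * π b = π b * π a
      rw [← map_mul, ← map_mul]
      exact congrArg π (Subtype.ext (d.loc.comm (mem_subgroupOf.1 ha).1 (mem_subgroupOf.1 hb).1))
    · rintro _ ⟨a, ha, rfl⟩
      rw [← map_pow, show a ^ 2 = 1 from Subtype.ext (d.loc.elem.2 _ (mem_subgroupOf.1 ha).1), map_one]
  have hsc : Cfsg.IsStronglyClosed Eh (P : Subgroup (↥K ⧸ center ↥K)) := by
    refine ⟨hEP, ?_⟩
    rintro _ ⟨a, ha, rfl⟩ g hg
    obtain ⟨g, rfl⟩ := QuotientGroup.mk'_surjective (center ↥K) g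
    rw [← map_inv, ← map_mul, ← map_mul] at hg ⊢
    exact mem_map_of_mem π (mem_subgroupOf.2 ⟨d.loc.closed _ T.isPGroup' d.le _ (mem_subgroupOf.1 ha).1 g
      ((hP _).1 hg), (g * a * g⁻¹).2⟩)
  obtain ⟨hSE, hinv, -, htr⟩ := d.loc.comp K d.comp P Eh hne hel hsc
  refine ⟨P, Eh, hP, rfl, hEP, h4, fun t ht => ⟨fun h => hinv t ht h, fun h => ?_⟩, hSE,
    fun a ha b hb ha1 hb1 => ?_⟩
  · rw [← pow_two]; exact hel.2 t h
  · obtain ⟨g, -, hg⟩ := htr a ha b hb ha1 hb1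
    exact ⟨g, hg⟩

/-- The Sylow subgroup of `K` is `A ∩ K` or that of `PSU(3, 4)`. -/
theorem four_or_unit : (T : Subgroup X) ⊓ K = Ab ⊓ K ∨ UnitSylow ((T : Subgroup X) ⊓ K) (Ab ⊓ K) K := by
  classical
  haveI : Fact (Nat.Prime 2) := ⟨Nat.prime_two⟩
  obtain ⟨P, Eh, hP, hEh, hEP, h4, hinv, hSE, htr⟩ := d.quotient_facts
  set π := QuotientGroup.mk' (center ↥K) with hπ
  haveI := d.comp.2.2
  obtain ⟨P₀, hP₀⟩ := exists_sylow_component (T := T) d.comp
  by_cases hPE : (P : Subgroup (↥K ⧸ center ↥K)) = Eh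
  · -- an abelian Sylow subgroup: the centre is trivial
    left
    have hdec : ∀ k : ↥K, (k : X) ∈ (T : Subgroup X) → ∃ e ∈ (Ab ⊓ K).subgroupOf K, ∃ z ∈ center ↥K, e * z = k := by
      intro k hk
      have h1 : π k ∈ Eh := hPE ▸ (hP k).2 hk
      rw [hEh] at h1
      obtain ⟨e, he, h2⟩ := h1
      exact ⟨e, he, e⁻¹ * k, QuotientGroup.eq.1 h2, mul_inv_cancel_left e k⟩
    have hcomm : IsMulCommutative ↥(P₀ : Subgroup ↥K) := ⟨⟨fun a b => Subtype.ext (by
      obtain ⟨e, he, z, hz, hez⟩ := hdec a (mem_subgroupOf.1 (hP₀ ▸ a.2))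
      show (a : ↥K) * b = b * a
      have h1 : e * (b : ↥K) = b * e :=
        Subtype.ext (d.commute_E (mem_subgroupOf.1 (hP₀ ▸ b.2)) (mem_subgroupOf.1 he)).symm
      rw [← hez, mul_assoc, ← mem_center_iff.1 hz, ← mul_assoc, h1, mul_assoc])⟩⟩
    have hZ : center ↥K = ⊥ := by
      have hle : center ↥K ≤ (P₀ : Subgroup ↥K) := fun z hz => by
        rw [hP₀, mem_subgroupOf]
        exact center_le_sylow d.loc d.le d.comp ⟨z.2, by
          have := hz; rw [center_eq d.comp, mem_subgroupOf] at this; exact this.2⟩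
      have h := Transfer.hall_inf_commutator_inf_center (P₀ : Subgroup ↥K) hcomm (by
        obtain ⟨m, hm⟩ := IsPGroup.iff_card.1 P₀.isPGroup'
        rw [hm]
        exact ((Nat.Prime.coprime_iff_not_dvd Nat.prime_two).2 P₀.not_dvd_index).pow_left m)
      rwa [d.comp.2.1.commutator_eq_top, inf_top_eq, inf_eq_right.2 hle] at h
    refine le_antisymm (fun y hy => ?_) d.E_le
    obtain ⟨e, he, z, hz, hez⟩ := hdec ⟨y, hy.2⟩ hy.1
    rw [hZ, mem_bot] at hz
    rw [hz, mul_one] at hez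
    have h1 : (e : X) = y := congrArg Subtype.val hez
    exact h1 ▸ mem_subgroupOf.1 he
  · right
    obtain ⟨H, hH⟩ := hSE.resolve_left hPE
    have hnc := not_comm_quotient d.comp
    have hZ : center ↥K = ⊥ := center_eq_bot_of_unitary d.comp.2 d.core_eq_bot P hH Eh hEP hinv h4 hPE
    obtain ⟨hcard, hsq, hsqrt, x, hx5, hxn, hxE, hfix⟩ :=
      (four_or_unitary hnc P hH Eh hEP hinv h4).resolve_left hPE
    have hinj : Function.Injective π := by
      rw [← MonoidHom.ker_eq_bot_iff, hπ, QuotientGroup.ker_mk', hZ]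
    have hmemE : ∀ k : ↥K, π k ∈ Eh → (k : X) ∈ Ab ⊓ K := fun k hk => by
      rw [hEh] at hk
      obtain ⟨e, he, h⟩ := hk
      exact hinj h ▸ mem_subgroupOf.1 he
    have hinE : ∀ z : ↥K, (z : X) ∈ Ab ⊓ K → π z ∈ Eh := fun z hz => hEh ▸ mem_map_of_mem π (mem_subgroupOf.2 hz)
    obtain ⟨x, rfl⟩ := QuotientGroup.mk'_surjective (center ↥K) x
    refine ⟨d.E_le, ?_, fun y hy => ?_, fun z hz => ?_, fun z hz z' hz' hz1 hz1' => ?_,
      x, x.2, ?_, ?_, fun z hz => ?_, fun y hy hye => ?_⟩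
    · rw [← hcard, ← Nat.card_congr (subgroupOfEquivOfLe (inf_le_right : (T : Subgroup X) ⊓ K ≤ K)).toEquiv]
      refine Nat.card_congr (Equiv.ofBijective (fun k => (⟨π k.1, (hP k.1).2 (mem_subgroupOf.1 k.2).1⟩ : ↥(P : Subgroup _)))
        ⟨fun k l e => Subtype.ext (hinj (congrArg Subtype.val e)), fun z => ?_⟩)
      obtain ⟨k, hk⟩ := QuotientGroup.mk'_surjective (center ↥K) z.1
      exact ⟨⟨k, mem_subgroupOf.2 ⟨(hP k).1 (hk ▸ z.2 :), k.2⟩⟩, Subtype.ext hk⟩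
    · exact hmemE (⟨y, hy.2⟩ * ⟨y, hy.2⟩) (by rw [map_mul]; exact hsq _ ((hP ⟨y, hy.2⟩).2 hy.1))
    · obtain ⟨t, ht, htz⟩ := hsqrt _ (hinE ⟨z, hz.2⟩ hz)
      obtain ⟨k, rfl⟩ := QuotientGroup.mk'_surjective (center ↥K) t
      rw [← map_mul] at htz
      exact ⟨k, ⟨(hP k).1 ht, k.2⟩, congrArg Subtype.val (hinj htz)⟩
    · obtain ⟨g, hg⟩ := htr _ (hinE ⟨z, hz.2⟩ hz) _ (hinE ⟨z', hz'.2⟩ hz')
        (fun e => hz1 (congrArg Subtype.val (hinj (e.trans (map_one π).symm))))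
        (fun e => hz1' (congrArg Subtype.val (hinj (e.trans (map_one π).symm))))
      obtain ⟨g, rfl⟩ := QuotientGroup.mk'_surjective (center ↥K) g
      rw [← map_inv, ← map_mul, ← map_mul] at hg
      have hg' := hinj hg
      have hc : ∀ w : ↥K, (w : X) ∈ Ab ⊓ K → ∀ a ∈ (P₀ : Subgroup ↥K), Commute a w := fun w hw a ha =>
        Subtype.ext (d.commute_E (mem_subgroupOf.1 (hP₀ ▸ ha)) hw)
      obtain ⟨n, hn, hnz⟩ := Transfer.exists_normalizer_conj_elem P₀ (x := ⟨z, hz.2⟩) (g := g)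
        (hc _ hz) (by rw [hg']; exact hc _ hz')
      rw [hg'] at hnz
      refine ⟨n, n.2, fun y hy => ⟨?_, K.mul_mem (K.mul_mem n.2 hy.2) (K.inv_mem n.2)⟩, congrArg Subtype.val hnz⟩
      have h1 := (mem_normalizer_iff.1 hn ⟨y, hy.2⟩).1 (hP₀ ▸ mem_subgroupOf.2 hy.1)
      rw [hP₀] at h1
      exact mem_subgroupOf.1 h1
    · have h1 : π (x ^ 5) = 1 := by rw [map_pow, ← hx5, pow_orderOf_eq_one]
      exact congrArg Subtype.val (hinj (h1.trans (map_one π).symm))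
    · refine mem_normalizer_fintype fun y hy => ⟨?_, K.mul_mem (K.mul_mem x.2 hy.2) (K.inv_mem x.2)⟩
      have h1 := (mem_normalizer_iff.1 hxn _).1 ((hP ⟨y, hy.2⟩).2 hy.1)
      exact (hP (x * ⟨y, hy.2⟩ * x⁻¹)).1 (by rw [QuotientGroup.mk_mul, QuotientGroup.mk_mul, QuotientGroup.mk_inv]; exact h1)
    · exact congrArg Subtype.val (hinj (a₁ := x * ⟨z, hz.2⟩ * x⁻¹) (a₂ := ⟨z, hz.2⟩)
        (by rw [map_mul, map_mul, map_inv]; exact hxE _ (hinE ⟨z, hz.2⟩ hz)))
    · refine hmemE ⟨y, hy.2⟩ (hfix _ ((hP ⟨y, hy.2⟩).2 hy.1) ?_)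
      have h1 := hinE (⟨y, hy.2⟩⁻¹ * (x * ⟨y, hy.2⟩ * x⁻¹)) hye
      rwa [map_mul, map_mul, map_mul, map_inv, map_inv] at h1

/-- In the four case each element of `T` acts on `K` as an element of `A ∩ K`. -/
theorem four_decomp (hfour : (T : Subgroup X) ⊓ K = Ab ⊓ K) {t : X} (ht : t ∈ (T : Subgroup X)) :
    ∃ e ∈ Ab ⊓ K, e * t ∈ centralizer (K : Set X) := by
  classical
  haveI : Fact (Nat.Prime 2) := ⟨Nat.prime_two⟩
  set J := K ⊔ zpowers t with hJ
  have hKJ : K ≤ J := le_sup_left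
  have htJ : t ∈ J := mem_sup_right (mem_zpowers t)
  have hJN : J ≤ normalizer (K : Set X) := sup_le Subgroup.le_normalizer (zpowers_le.2 (d.norm ht))
  have hJmem : ∀ j ∈ J, ∃ k ∈ K, ∃ i : ℤ, j = k * t ^ i := by
    intro j hj
    have hj' : j ∈ ((K ⊔ zpowers t : Subgroup X) : Set X) := hj
    rw [coe_mul_of_right_le_normalizer_left _ _ (zpowers_le.2 (d.norm ht))] at hj'
    obtain ⟨k, hk, z, hz, rfl⟩ := hj'
    obtain ⟨i, rfl⟩ := mem_zpowers_iff.1 hz
    exact ⟨k, hk, i, rfl⟩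
  have hp : IsPGroup 2 ((T : Subgroup X).subgroupOf J) := T.isPGroup'.comap_of_injective _ (subtype_injective _)
  have hidx : ¬ 2 ∣ (T : Subgroup X).relIndex J := by
    have hsup : ((T : Subgroup X) ⊓ J) ⊔ K = J := le_antisymm (sup_le inf_le_right hKJ)
      (sup_le le_sup_right (zpowers_le.2 (mem_sup_left ⟨ht, htJ⟩)))
    have h1 := card_sup_mul_card_inf (H := (T : Subgroup X) ⊓ J) (N := K) (inf_le_right.trans hJN)
    rw [hsup, inf_assoc, inf_eq_right.2 hKJ] at h1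
    have h2 := card_mul_relIndex (inf_le_right : (T : Subgroup X) ⊓ J ≤ J)
    have h3 := card_mul_relIndex (inf_le_right : (T : Subgroup X) ⊓ K ≤ K)
    rw [inf_relIndex_right] at h2 h3
    rw [← h2, ← h3] at h1
    have h4 : (T : Subgroup X).relIndex J = (T : Subgroup X).relIndex K := by
      refine Nat.eq_of_mul_eq_mul_left (Nat.mul_pos (Nat.card_pos (α := ↥((T : Subgroup X) ⊓ J)))
        (Nat.card_pos (α := ↥((T : Subgroup X) ⊓ K)))) ?_
      linarith [h1]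
    exact h4 ▸ not_dvd_relIndex_sylow T d.comp.1
  set P : Sylow 2 ↥J := hp.toSylow hidx
  have hPmem : ∀ n : ↥J, n ∈ (P : Subgroup ↥J) ↔ (n : X) ∈ (T : Subgroup X) := fun _ => Iff.rfl
  have hform : ∀ n : ↥J, (n : X) ∈ (T : Subgroup X) → ∃ z ∈ Ab ⊓ K, ∃ i : ℤ, (n : X) = z * t ^ i := by
    intro n hn
    obtain ⟨k, hk, i, e⟩ := hJmem n n.2
    refine ⟨k, hfour ▸ ⟨?_, hk⟩, i, e⟩
    have h5 : (n : X) * (t ^ i)⁻¹ ∈ (T : Subgroup X) := mul_mem hn (inv_mem (zpow_mem ht i))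
    rwa [e, mul_inv_cancel_right] at h5
  have hcomm : IsMulCommutative ↥(P : Subgroup ↥J) := ⟨⟨fun a b => Subtype.ext (Subtype.ext (by
    obtain ⟨z, hz, i, ea⟩ := hform a a.2
    obtain ⟨w, hw, j, eb⟩ := hform b b.2
    show (a : X) * b = b * a
    have c1 : Commute z w := d.loc.comm hz.1 hw.1
    have c2 : ∀ (m : ℤ) (v : X), v ∈ Ab ⊓ K → Commute v (t ^ m) := fun m v hv =>
      (show Commute v t from (d.commute_E ht hv).symm).zpow_right m
    have h : Commute (z * t ^ i) (w * t ^ j) := (c1.mul_right (c2 j z hz)).mul_left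
      (((c2 i w hw).symm).mul_right ((Commute.refl t).zpow_zpow i j))
    rw [ea, eb]; exact h))⟩⟩
  -- `t` is an element of `K` times an isolated element
  obtain ⟨-, hdec⟩ := Transfer.abelian_sylow_decomp P hcomm
  have hres : Cfsg.pResidual 2 ↥J ≤ K.subgroupOf J := by
    haveI : (K.subgroupOf J).Normal := (normal_subgroupOf_iff_le_normalizer hKJ).2 hJN
    rw [Cfsg.pResidual, closure_le]
    intro g hg
    obtain ⟨k, hk, i, e⟩ := hJmem g g.2
    obtain ⟨m, hm⟩ := T.isPGroup' ⟨t, ht⟩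
    have hm' : t ^ 2 ^ m = 1 := congrArg Subtype.val hm
    have hgq : (QuotientGroup.mk g : ↥J ⧸ K.subgroupOf J) = (QuotientGroup.mk (⟨t, htJ⟩ : ↥J)) ^ i := by
      rw [← QuotientGroup.mk_zpow, show g = ⟨k, hKJ hk⟩ * (⟨t, htJ⟩ : ↥J) ^ i from Subtype.ext (by simpa using e),
        QuotientGroup.mk_mul, (QuotientGroup.eq_one_iff _).2 (mem_subgroupOf.2 hk), one_mul]
    have h2 : (QuotientGroup.mk g : ↥J ⧸ K.subgroupOf J) ^ 2 ^ m = 1 := by
      rw [hgq, ← zpow_natCast, ← zpow_mul, mul_comm, zpow_mul, zpow_natCast, ← QuotientGroup.mk_pow,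
        show (⟨t, htJ⟩ : ↥J) ^ 2 ^ m = 1 from Subtype.ext hm', QuotientGroup.mk_one, one_zpow]
    refine (QuotientGroup.eq_one_iff g).1 (orderOf_eq_one_iff.1 ?_)
    exact Nat.eq_one_of_dvd_coprimes (Nat.Coprime.pow_right m hg)
      (orderOf_map_dvd (QuotientGroup.mk' (K.subgroupOf J)) g) (orderOf_dvd_of_pow_eq_one h2)
  have htP : (⟨t, htJ⟩ : ↥J) ∈ (P : Subgroup ↥J) := ht
  obtain ⟨r, hr, c, hc, hrc⟩ := mem_sup_comm (hdec htP) fun a ha b hb => congrArg Subtype.val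
    (hcomm.is_comm.comm ⟨a, ha.1⟩ ⟨b, hb.1⟩)
  have hrE : (r : X) ∈ Ab ⊓ K := hfour ▸ ⟨hr.1, mem_subgroupOf.1 (hres hr.2)⟩
  have hiso : IsoElt P c := by
    refine ⟨hc.1, fun g hg => ?_⟩
    obtain ⟨n, hn, e⟩ := Transfer.exists_normalizer_conj_of_abelian P hcomm hc.1 hg
    rw [← e, mul_inv_eq_iff_eq_mul]
    exact mem_centralizer_iff.1 hc.2 n hn
  refine ⟨r, hrE, ?_⟩
  have hrt : (r : X) * t = c := by
    rw [← show ((r * c : ↥J) : X) = t from congrArg Subtype.val hrc, Subgroup.coe_mul, ← mul_assoc,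
      d.loc.sq hrE.1, one_mul]
  rw [hrt]
  refine mem_centralizer_iff.2 fun k hk => ?_
  have h1 := IsoElt.commutator_mem _ ↥J rfl P c hiso ⟨k, hKJ hk⟩
  set w := c * (⟨k, hKJ hk⟩ : ↥J) * c⁻¹ * (⟨k, hKJ hk⟩ : ↥J)⁻¹
  have hwK : w ∈ K.subgroupOf J := mem_subgroupOf.2 (K.mul_mem
    ((mem_normalizer_iff.1 (hJN c.2) k).1 hk) (K.inv_mem hk))
  have hw1 : w = 1 := by
    haveI : (Cfsg.pPrimeCore 2 ↥J).Normal := pPrimeCore_isNormal
    let f : ↥K →* ↥J := Subgroup.inclusion hKJ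
    have h2 : (Cfsg.pPrimeCore 2 ↥J).comap f ≤ Cfsg.pPrimeCore 2 ↥K :=
      le_pPrimeCore inferInstance (Nat.Coprime.coprime_dvd_left
        (card_comap_dvd_of_injective _ f (Subgroup.inclusion_injective hKJ)) pPrimeCore_coprime)
    have h3 := h2 (show (⟨(w : X), mem_subgroupOf.1 hwK⟩ : ↥K) ∈ (Cfsg.pPrimeCore 2 ↥J).comap f from h1)
    rw [d.core_eq_bot, mem_bot] at h3
    exact Subtype.ext (congrArg (fun v : ↥K => (v : X)) h3 :)
  have h4 : (c : X) * k * (c : X)⁻¹ * k⁻¹ = 1 := congrArg Subtype.val hw1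
  rw [mul_inv_eq_one, mul_inv_eq_iff_eq_mul] at h4
  exact h4.symm

/-- In the unitary case the square of an element centralising the Sylow subgroup centralises `K`. -/
theorem sq_centralizes (hu : UnitSylow ((T : Subgroup X) ⊓ K) (Ab ⊓ K) K) {s : X} (hs : s ∈ (T : Subgroup X))
    (hc : ∀ y ∈ (T : Subgroup X) ⊓ K, s * y = y * s) (hsq : s * s ∈ Ab) :
    s * s ∈ centralizer (K : Set X) := by
  classical
  haveI : Fact (Nat.Prime 2) := ⟨Nat.prime_two⟩
  set P := (T : Subgroup X) ⊓ K with hPdef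
  obtain ⟨x, hxK, hx5, hxn, hxE, hfix⟩ := hu.five
  obtain ⟨b, hb, e, he, hbe⟩ := mem_sup_comm (d.sup_eq.ge hsq) fun u hu v hv =>
    d.loc.comm hu.1 hv.1
  by_cases he1 : e = 1
  · rw [← hbe, he1, mul_one]; exact hb.2
  exfalso
  obtain ⟨e', he', he'1, hne⟩ : ∃ e' ∈ Ab ⊓ K, e' ≠ 1 ∧ e' ≠ e := by
    by_contra hno
    push Not at hno
    have hle : ((Ab ⊓ K : Subgroup X) : Set X) ⊆ {1, e} := fun z hz => by
      by_cases hz1 : z = 1
      · exact Or.inl hz1
      · exact Or.inr (hno z hz hz1)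
    have h1 := Set.ncard_le_ncard hle (Set.toFinite _)
    rw [← Nat.card_coe_set_eq] at h1
    have h2 : ({1, e} : Set X).ncard ≤ 2 := (Set.ncard_insert_le _ _).trans (by rw [Set.ncard_singleton])
    have h3 : Nat.card ↥(Ab ⊓ K) ≤ 2 := h1.trans h2
    rw [d.four] at h3
    omega
  obtain ⟨n, hn, hnP, hnz⟩ := hu.trans e he e' he' he1 he'1
  set c := n * s * n⁻¹ * s⁻¹ with hcdef
  have hsN := mem_normalizer_iff.1 (d.norm hs)
  have hcK : c ∈ K := by
    rw [hcdef, show n * s * n⁻¹ * s⁻¹ = n * (s * n⁻¹ * s⁻¹) by group]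
    exact K.mul_mem hn ((hsN _).1 (K.inv_mem hn))
  have hnN : n ∈ normalizer (P : Set X) := mem_normalizer_fintype hnP
  have hccent : ∀ y ∈ P, Commute c y := by
    intro y hy
    have hy' : n⁻¹ * y * n ∈ P := mem_conj_normalizer' hnN hy
    have h1 : Commute (n * s * n⁻¹) y := by
      show n * s * n⁻¹ * y = y * (n * s * n⁻¹)
      calc n * s * n⁻¹ * y = n * (s * (n⁻¹ * y * n)) * n⁻¹ := by group
        _ = n * ((n⁻¹ * y * n) * s) * n⁻¹ := by rw [hc _ hy']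
        _ = _ := by group
    exact h1.mul_left (show Commute s y from hc y hy).inv_left
  set f := e' * e with hf
  have hfE : f ∈ Ab ⊓ K := mul_mem he' he
  have hf1 : f ≠ 1 := fun h => hne (by rw [eq_inv_of_mul_eq_one_left h, d.loc.inv he.1])
  have hsf : s * f * s⁻¹ = f := by rw [d.commute_E hs hfE, mul_inv_cancel_right]
  have hcf : c * (s * c * s⁻¹) = f := by
    have hbn : n * b * n⁻¹ = b := by rw [mem_centralizer_iff.1 hb.2 n hn, mul_inv_cancel_right]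
    have h2 : n * (s * s) * n⁻¹ = c * (s * c * s⁻¹) * (s * s) := by rw [hcdef]; group
    have h3 : n * (s * s) * n⁻¹ = b * e' := by
      rw [← hbe, show n * (b * e) * n⁻¹ = (n * b * n⁻¹) * (n * e * n⁻¹) by group, hbn, hnz]
    rw [h3, ← hbe] at h2
    have h4 : c * (s * c * s⁻¹) = b * e' * (b * e)⁻¹ := eq_mul_inv_iff_mul_eq.2 h2.symm
    rw [h4, hf, mul_inv_rev, d.loc.inv he.1, d.loc.inv hb.1, d.loc.comm hb.1 he'.1, mul_assoc, ← mul_assoc b,
      d.loc.comm hb.1 he.1, mul_assoc, d.loc.sq hb.1, mul_one]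
  -- an odd multiple of `c` lies in the centre of the Sylow subgroup
  set k := ordCompl[2] (orderOf c) with hk
  have hco : orderOf c = ordProj[2] (orderOf c) * k := (Nat.ordProj_mul_ordCompl_eq_self _ _).symm
  have hckpow : (c ^ k) ^ ordProj[2] (orderOf c) = 1 := by rw [← pow_mul, mul_comm, ← hco, pow_orderOf_eq_one]
  obtain ⟨P₀, hP₀⟩ := exists_sylow_component (T := T) d.comp
  have hckP : c ^ k ∈ P := by
    refine ⟨?_, K.pow_mem hcK _⟩
    have hp : IsPGroup 2 ↥(zpowers (⟨c ^ k, K.pow_mem hcK _⟩ : ↥K)) := by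
      refine IsPGroup.of_card (n := (orderOf (⟨c ^ k, K.pow_mem hcK _⟩ : ↥K)).factorization 2) ?_
      rw [Nat.card_zpowers]
      obtain ⟨j, -, hj⟩ := (Nat.dvd_prime_pow Nat.prime_two).1 (show orderOf (⟨c ^ k, K.pow_mem hcK _⟩ : ↥K) ∣
        2 ^ (orderOf c).factorization 2 by rw [Subgroup.orderOf_mk]; exact orderOf_dvd_of_pow_eq_one hckpow)
      rw [hj, Nat.Prime.factorization_pow Nat.prime_two, Finsupp.single_eq_same]
    have hnorm : zpowers (⟨c ^ k, K.pow_mem hcK _⟩ : ↥K) ≤ normalizer ((P₀ : Subgroup ↥K) : Set ↥K) := by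
      refine zpowers_le.2 (mem_normalizer_fintype fun y hy => ?_)
      have h5 := hy
      rw [SetLike.mem_coe, hP₀, mem_subgroupOf] at h5
      have hy' : (y : X) ∈ P := ⟨h5, y.2⟩
      convert hy using 1
      exact Subtype.ext (by
        show c ^ k * y * (c ^ k)⁻¹ = y
        rw [((hccent y hy').pow_left k).eq, mul_inv_cancel_right])
    have h5 := P₀.3 (hp.to_sup_of_normal_right' P₀.isPGroup' hnorm) le_sup_right
    have h6 : (⟨c ^ k, K.pow_mem hcK _⟩ : ↥K) ∈ (P₀ : Subgroup ↥K) :=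
      h5 ▸ mem_sup_left (mem_zpowers _)
    rw [hP₀, mem_subgroupOf] at h6
    exact h6
  have hckE : c ^ k ∈ Ab ⊓ K := by
    let U : Subgroup X := P ⊓ centralizer (P : Set X)
    have hEU : Ab ⊓ K ≤ U := le_inf d.E_le fun z hz => mem_centralizer_iff.2 fun y hy => d.commute_E hy.1 hz
    have hU : ∀ y ∈ U, x * y * x⁻¹ ∈ U := fun y hy => ⟨(mem_normalizer_iff.1 hxn y).1 hy.1,
      mem_centralizer_iff.2 fun w hw => by
        have := mem_centralizer_iff.1 hy.2 _ (mem_conj_normalizer' hxn hw)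
        calc w * (x * y * x⁻¹) = x * ((x⁻¹ * w * x) * y) * x⁻¹ := by group
          _ = x * (y * (x⁻¹ * w * x)) * x⁻¹ := by rw [this]
          _ = _ := by group⟩
    rcases eq_or_eq d.E_le hu.card d.four hx5 hxE hfix hEU inf_le_left hU with e1 | e1
    · exact e1 ▸ (⟨hckP, mem_centralizer_iff.2 fun y hy => ((hccent y hy).pow_left k).eq.symm⟩ : c ^ k ∈ U)
    · exfalso
      have hab : ∀ y ∈ P, ∀ w ∈ P, Commute y w := fun y hy w hw =>
        (mem_centralizer_iff.1 (e1.symm ▸ hy : y ∈ U).2 w hw).symm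
      let q : ↥P →* X :=
        { toFun := fun y => (y : X) * y
          map_one' := by simp
          map_mul' := fun y w => by
            show (y : X) * w * ((y : X) * w) = y * y * (w * w)
            exact Commute.mul_mul_mul_comm (hab w w.2 y y.2) _ _ }
      have hq := equivariant_trivial hu d.four q (fun y hy => d.loc.sq hy.1) hx5 hxn hxE hfix (fun y => by
        show x * y * x⁻¹ * (x * y * x⁻¹) = (y : X) * y
        rw [show x * (y : X) * x⁻¹ * (x * y * x⁻¹) = x * ((y : X) * y) * x⁻¹ by group]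
        exact hxE _ (hu.sq y y.2))
      obtain ⟨y, hy, hye⟩ := hu.sqrt e he
      exact he1 (hye ▸ hq ⟨y, hy⟩)
  have hkodd : Odd k := by
    rw [← Nat.not_even_iff_odd, even_iff_two_dvd]
    exact Nat.not_dvd_ordCompl Nat.prime_two (orderOf_pos c).ne'
  have hsc : s * c * s⁻¹ = c⁻¹ * f := by rw [← hcf, inv_mul_cancel_left]
  have h5 : (c ^ k) = (c ^ k)⁻¹ * f := by
    have h6 : (s * c * s⁻¹) ^ k = c ^ k := by rw [conj_pow, hc _ hckP, mul_inv_cancel_right]
    rw [hsc, (hccent f (d.E_le hfE)).inv_left.mul_pow, inv_pow] at h6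
    obtain ⟨j, hj⟩ := hkodd
    rw [show f ^ k = f by rw [hj, pow_succ, pow_mul, pow_two, d.loc.sq hfE.1, one_pow, one_mul]] at h6
    exact h6.symm
  refine hf1 ?_
  rw [← eq_inv_mul_iff_mul_eq.1 h5, d.loc.sq hckE.1]

end Data

end Cfsg.Agent.Fus.Gold.Single
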